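import Cfsg.Agent.Mrg.Omega.CaseL.Base

section


/-!
# NO-3S, `q = 2`, `n = 1` (helper881's text #13700): (I), (II), (VI)

`M = W_z/⟨z⟩`, `H = C_G(z)/K_z`.  Submodules of `M` are the subgroups `X` with `IsSub V z X`.
`ll V z = ⟨W_y : y ~ z⟩` (it covers `H⁰`), `cm V z` the preimage of `C_M(H⁰)`.

* `One.lemma_i` (I) : a proper submodule meets `I = ii V` in `⟨z⟩`;
* `One.le_kq` : `O₂(H) = 1`;
* `One.eq_ws_of_comm` (II) : `M = [M, H⁰]`;
* `One.le_cm`, `One.cm_ne` (II) : `M/C_M(H⁰)` is irreducible;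
* `One.faithful` (II) : `M/C_M(H⁰)` is faithful for `H`;
* `One.plane_line`, `One.plane_trans` (VI) : planes.
-/

set_option autoImplicit false
set_option linter.unusedSectionVars false

namespace Cfsg.Agent.Omega.NO3S.TwoOne

open Subgroup Cfsg Cfsg.Agent.ZN Cfsg.Agent.MinSimple.Geo Cfsg.Agent.Omega.CaseL
open Cfsg.Agent.ZN.Block (conj_mem_of_normalizer conj_mem_of_normalizer' le_normalizer_of_forall
  mem_normalizer_of)

universe u

variable {G : Type u} [Group G]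

/-- `X/⟨z⟩` is a submodule of `W_z/⟨z⟩` -/
structure IsSub (V : Subgroup G) (z : G) (X : Subgroup G) : Prop where
  z_mem : z ∈ X
  le : X ≤ ws V z
  norm : centralizer ({z} : Set G) ≤ normalizer (X : Set G)

/-- the points collinear with `z` -/
def nb (V : Subgroup G) (z : G) : Set G := {y | ∃ L ∈ lines V z, y ∈ L ∧ y ≠ 1 ∧ y ≠ z}

/-- `⟨W_y : y ~ z⟩` -/
def ll (V : Subgroup G) (z : G) : Subgroup G := ⨆ y : nb V z, ws V (y : G)

theorem ws_le_ll {V : Subgroup G} {z y : G} (hy : y ∈ nb V z) : ws V y ≤ ll V z :=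
  le_iSup (fun y : nb V z => ws V (y : G)) ⟨y, hy⟩

theorem ll_le {V : Subgroup G} {z : G} {X : Subgroup G} (h : ∀ y ∈ nb V z, ws V y ≤ X) : ll V z ≤ X :=
  iSup_le fun y => h y y.2

theorem conj_mem_nb {V : Subgroup G} {z y c : G} (hc : c ∈ centralizer ({z} : Set G)) (hy : y ∈ nb V z) :
    c * y * c⁻¹ ∈ nb V z := by
  obtain ⟨L, hL, hyL, hy1, hyz⟩ := hy
  have hcz : c * z * c⁻¹ = z := conj_eq_of_comm (mem_centralizer_singleton_iff.mp hc)
  have h1 := mem_lines_cj (g := c) hL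
  rw [hcz] at h1
  refine ⟨_, h1, conj_mem_cj hyL, fun e => hy1 (conj_eq_one_iff.mp e), fun e => hyz ?_⟩
  rw [← hcz] at e
  simpa using e

theorem centralizer_le_normalizer_ll (V : Subgroup G) (z : G) :
    centralizer ({z} : Set G) ≤ normalizer ((ll V z : Subgroup G) : Set G) := by
  have key : ∀ c ∈ centralizer ({z} : Set G), ll V z ≤ cj c⁻¹ (ll V z) := by
    intro c hc
    refine ll_le fun y hy => ?_
    rw [← cj_le_iff, cj_ws]
    exact ws_le_ll (conj_mem_nb hc hy)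
  refine le_normalizer_of_forall fun c hc a ha => ?_
  have h1 := key c hc ha
  rw [mem_cj, inv_inv] at h1
  exact h1

namespace One

variable {T V : Subgroup G} {z : G}

theorem mem_nb (h : One T V z) {y : G} (hy : y ∈ V) (hy1 : y ≠ 1) (hyz : y ≠ z) : y ∈ nb V z :=
  ⟨V, h.ln.V_mem_lines, hy, hy1, hyz⟩

/-- every line on a point gives the same situation -/
theorem of_line (h : One T V z) {L : Subgroup G} {p : G} (hL : L ∈ lines V p) (hp1 : p ≠ 1) :
    ∃ g : G, L = cj g V ∧ ∃ T', One T' L p := by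
  obtain ⟨⟨g, rfl⟩, hp⟩ := hL
  rw [mem_cj] at hp
  have hp1' : g⁻¹ * p * g ≠ 1 := fun e => hp1 (by
    have : p = g * (g⁻¹ * p * g) * g⁻¹ := by group
    rw [this, e]; group)
  obtain ⟨k, hk, -, hk3⟩ := h.point hp hp1'
  have h1 := hk3.conj g
  have e : g * (g⁻¹ * p * g) * g⁻¹ = p := by group
  rw [e] at h1
  exact ⟨g, rfl, _, h1⟩

/-- `[a, w] ∈ I` for `a ∈ W_p`, `w ∈ W_q`, `p, q` distinct points of `V` -/
theorem comm_mem_ii (h : One T V z) {p q : G} (hp : p ∈ V) (hp1 : p ≠ 1) (hq : q ∈ V) (hq1 : q ≠ 1)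
    (hqp : q ≠ p) {a w : G} (ha : a ∈ ws V p) (hw : w ∈ ws V q) : a * w * a⁻¹ * w⁻¹ ∈ ii V := by
  refine h.mem_ii hp hp1 hq hq1 hqp ?_ ?_
  · have e : a * w * a⁻¹ * w⁻¹ = a * (w * a⁻¹ * w⁻¹) := by group
    rw [e]
    exact mul_mem ha (conj_mem_of_normalizer (h.cent_norm hp) (h.ws_le_centralizer_V hq hq1 hw)
      (inv_mem ha))
  · exact mul_mem (conj_mem_of_normalizer (h.cent_norm hq) (h.ws_le_centralizer_V hp hp1 ha) hw)
      (inv_mem hw)

variable {X : Subgroup G}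

/-- a submodule containing `V` is everything -/
theorem eq_ws_of_V_le (h : One T V z) (hX : IsSub V z X) (hV : V ≤ X) : X = ws V z := by
  refine le_antisymm hX.le (ws_le fun L hL => ?_)
  obtain ⟨c, hc, rfl⟩ := h.ln.exists_of_mem_lines hL
  rw [cj_le_iff]
  have : cj c⁻¹ X = X := cj_eq_of_mem_normalizer (inv_mem (hX.norm hc))
  rw [this]; exact hV

theorem inf_V (h : One T V z) (hX : IsSub V z X) (hne : X ≠ ws V z) {v : G} (hv : v ∈ V) (hvX : v ∈ X) :
    v = 1 ∨ v = z := by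
  by_contra hcon
  push Not at hcon
  apply hne
  refine h.eq_ws_of_V_le hX fun x hx => ?_
  rcases h.ln.four h.ln.z_mem hv h.ln.z_ne hcon.1 (Ne.symm hcon.2) hx with e | e | e | e
  · rw [e]; exact one_mem _
  · rw [e]; exact hX.z_mem
  · rw [e]; exact hvX
  · rw [e]; exact mul_mem hX.z_mem hvX

/-- **(I) LEMMA I.** A proper submodule meets `I` in `⟨z⟩`. -/
theorem lemma_i [Finite G] (h : One T V z) (hX : IsSub V z X) (hne : X ≠ ws V z) {u : G} (hu : u ∈ X)
    (hui : u ∈ ii V) : u = 1 ∨ u = z := by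
  by_contra hcon
  push Not at hcon
  have hz := h.ln.z_mem
  have hz1 := h.ln.z_ne
  have huV : u ∉ V := fun e => by
    rcases h.inf_V hX hne e hu with e' | e'
    · exact hcon.1 e'
    · exact hcon.2 e'
  have huzV : z * u ∉ V := fun e => huV (by
    have := mul_mem hz e
    rwa [← mul_assoc, h.ln.zz, one_mul] at this)
  have huzi : z * u ∈ ii V := mul_mem (h.V_le_ii hz) hui
  obtain ⟨y, hy, hy1, hyz⟩ := h.ln.exists_y
  obtain ⟨g, -, hgu, hgz⟩ := h.ftwo hui huV hz hz1 hy hy1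
  obtain ⟨k, -, hku, hkz⟩ := h.ftwo huzi huzV hz hz1 hy hy1
  -- `u` and `z u` are in `X^g = X^k`
  have hgk : g⁻¹ * k ∈ centralizer ({z} : Set G) := by
    rw [mem_centralizer_singleton_iff]
    refine comm_of_conj_eq ?_
    calc g⁻¹ * k * z * (g⁻¹ * k)⁻¹ = g⁻¹ * (k * z * k⁻¹) * g := by group
      _ = g⁻¹ * (g * z * g⁻¹) * g := by rw [hkz, hgz]
      _ = z := by group
  have h1 : g⁻¹ * u * g ∈ X := by
    have e : g⁻¹ * u * g = u := by
      calc g⁻¹ * u * g = g⁻¹ * (u * g) := by group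
        _ = g⁻¹ * (g * u) := by rw [hgu]
        _ = u := by group
    rw [e]; exact hu
  have h2 : g⁻¹ * (z * u) * g ∈ X := by
    have e : g⁻¹ * (z * u) * g = (g⁻¹ * k) * (z * u) * (g⁻¹ * k)⁻¹ := by
      have : k * (z * u) * k⁻¹ = z * u := conj_eq_of_comm hku
      calc g⁻¹ * (z * u) * g = g⁻¹ * (k * (z * u) * k⁻¹) * g := by rw [this]
        _ = (g⁻¹ * k) * (z * u) * (g⁻¹ * k)⁻¹ := by group
    rw [e]
    exact conj_mem_of_normalizer hX.norm hgk (mul_mem hX.z_mem hu)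
  have h3 : g⁻¹ * z * g ∈ X := by
    have e : g⁻¹ * z * g = g⁻¹ * (z * u) * g * (g⁻¹ * u * g)⁻¹ := by group
    rw [e]
    exact mul_mem h2 (inv_mem h1)
  -- `g⁻¹ z g` is a point of `V` different from `z`
  obtain ⟨g', hg'n, hg'u, hg'z⟩ := h.ftwo hui huV hz hz1 hy hy1
  have hgg : g⁻¹ * g' ∈ centralizer ({z} : Set G) := by
    rw [mem_centralizer_singleton_iff]
    refine comm_of_conj_eq ?_
    calc g⁻¹ * g' * z * (g⁻¹ * g')⁻¹ = g⁻¹ * (g' * z * g'⁻¹) * g := by group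
      _ = g⁻¹ * (g * z * g⁻¹) * g := by rw [hg'z, hgz]
      _ = z := by group
  have h4 : g'⁻¹ * z * g' ∈ X := by
    have e : g'⁻¹ * z * g' = (g⁻¹ * g')⁻¹ * (g⁻¹ * z * g) * (g⁻¹ * g') := by group
    rw [e]
    exact conj_mem_of_normalizer' hX.norm hgg h3
  have h5 : g'⁻¹ * z * g' ∈ V := (mem_normalizer_iff''.mp hg'n z).mp hz
  rcases h.inf_V hX hne h5 h4 with e | e
  · apply hz1
    calc z = g' * (g'⁻¹ * z * g') * g'⁻¹ := by group
      _ = 1 := by rw [e]; group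
  · apply hyz
    rw [← hg'z]
    calc g' * z * g'⁻¹ = g' * (g'⁻¹ * z * g') * g'⁻¹ := by rw [e]
      _ = z := by group

/-- (I): `[X, W_p] ≤ ⟨z⟩` for a proper submodule `X`. -/
theorem comm_sub [Finite G] (h : One T V z) (hX : IsSub V z X) (hne : X ≠ ws V z) {p : G} (hp : p ∈ V)
    (hp1 : p ≠ 1) (hpz : p ≠ z) {a x : G} (ha : a ∈ ws V p) (hx : x ∈ X) :
    a * x * a⁻¹ * x⁻¹ ∈ zpowers z := by
  have hz := h.ln.z_mem
  have hz1 := h.ln.z_ne
  have haC : a ∈ centralizer ({z} : Set G) := h.cent_le_centralizer hz (h.ws_le_centralizer_V hp hp1 ha)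
  rw [mem_zpowers_iff_of_mul_self h.ln.zz]
  exact h.lemma_i hX hne (mul_mem (conj_mem_of_normalizer hX.norm haC hx) (inv_mem hx))
    (h.comm_mem_ii hp hp1 hz hz1 (Ne.symm hpz) ha (hX.le hx))

end One

theorem conj_zpowers {z c y : G} (hc : c ∈ centralizer ({z} : Set G)) (hy : y ∈ zpowers z) :
    c * y * c⁻¹ = y := by
  obtain ⟨n, rfl⟩ := mem_zpowers_iff.mp hy
  have h : Commute c z := mem_centralizer_singleton_iff.mp hc
  rw [(h.zpow_right n).eq, mul_inv_cancel_right]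

/-- the preimage of `C_M(H⁰)` -/
def cm (V : Subgroup G) (z : G) : Subgroup G where
  carrier := {w | w ∈ ws V z ∧ w ∈ centralizer ({z} : Set G) ∧
    ∀ y ∈ nb V z, ∀ a ∈ ws V y, a * w * a⁻¹ * w⁻¹ ∈ zpowers z}
  mul_mem' := by
    rintro v w ⟨hv, hvz, hv1⟩ ⟨hw, hwz, hw1⟩
    refine ⟨mul_mem hv hw, mul_mem hvz hwz, fun y hy a ha => ?_⟩
    have e : a * (v * w) * a⁻¹ * (v * w)⁻¹ = (a * v * a⁻¹ * v⁻¹) * (v * (a * w * a⁻¹ * w⁻¹) * v⁻¹) := by
      group
    rw [e, conj_zpowers hvz (hw1 y hy a ha)]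
    exact mul_mem (hv1 y hy a ha) (hw1 y hy a ha)
  one_mem' := ⟨one_mem _, one_mem _, fun y hy a ha => by simp⟩
  inv_mem' := by
    rintro w ⟨hw, hwz, hw1⟩
    refine ⟨inv_mem hw, inv_mem hwz, fun y hy a ha => ?_⟩
    have e : a * w⁻¹ * a⁻¹ * w⁻¹⁻¹ = w⁻¹ * (a * w * a⁻¹ * w⁻¹)⁻¹ * w⁻¹⁻¹ := by group
    rw [e, conj_zpowers (inv_mem hwz) (inv_mem (hw1 y hy a ha))]
    exact inv_mem (hw1 y hy a ha)

theorem cm_le (V : Subgroup G) (z : G) : cm V z ≤ ws V z := fun _ h => h.1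

namespace One

variable {T V : Subgroup G} {z : G}

theorem ws_le_cent [Finite G] (h : One T V z) : ws V z ≤ centralizer ({z} : Set G) := h.ln.ws_le_centralizer

/-- `W_y ≤ C(z)` for `y ~ z` -/
theorem nb_le_cent (h : One T V z) {y : G} (hy : y ∈ nb V z) : ws V y ≤ centralizer ({z} : Set G) := by
  obtain ⟨L, hL, hyL, hy1, hyz⟩ := hy
  obtain ⟨c, hc, rfl⟩ := h.ln.exists_of_mem_lines hL
  have hy' : c⁻¹ * y * c ∈ V := mem_of_cj hyL
  have hy1' : c⁻¹ * y * c ≠ 1 := fun e => hy1 (by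
    have : y = c * (c⁻¹ * y * c) * c⁻¹ := by group
    rw [this, e]; group)
  intro a ha
  have h1 : c⁻¹ * a * c ∈ ws V (c⁻¹ * y * c) := by
    have := conj_mem_ws c⁻¹ ha
    rwa [inv_inv] at this
  have h2 := h.cent_le_centralizer h.ln.z_mem (h.ws_le_centralizer_V hy' hy1' h1)
  have e : a = c * (c⁻¹ * a * c) * c⁻¹ := by group
  rw [e]
  exact mul_mem (mul_mem hc h2) (inv_mem hc)

theorem ll_le_cent (h : One T V z) : ll V z ≤ centralizer ({z} : Set G) := ll_le fun _ hy => h.nb_le_cent hy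

/-- for `y ~ z` the pair `(z, y)` is conjugate under `C(z)` to a pair on `V` -/
theorem nb_cases (h : One T V z) {y : G} (hy : y ∈ nb V z) :
    ∃ c ∈ centralizer ({z} : Set G), ∃ y' ∈ V, y' ≠ 1 ∧ y' ≠ z ∧ y = c * y' * c⁻¹ := by
  obtain ⟨L, hL, hyL, hy1, hyz⟩ := hy
  obtain ⟨c, hc, rfl⟩ := h.ln.exists_of_mem_lines hL
  refine ⟨c, hc, c⁻¹ * y * c, mem_of_cj hyL, fun e => hy1 ?_, fun e => hyz ?_, by group⟩
  · have : y = c * (c⁻¹ * y * c) * c⁻¹ := by group
    rw [this, e]; group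
  · have : y = c * (c⁻¹ * y * c) * c⁻¹ := by group
    rw [this, e]
    exact conj_eq_of_comm (mem_centralizer_singleton_iff.mp hc)

/-- (I): `[X, W_y] ≤ ⟨z⟩` for all `y ~ z`, for a proper submodule `X`: `X ≤ cm V z`. -/
theorem le_cm [Finite G] (h : One T V z) {X : Subgroup G} (hX : IsSub V z X) (hne : X ≠ ws V z) :
    X ≤ cm V z := by
  intro x hx
  refine ⟨hX.le hx, h.ws_le_cent (hX.le hx), fun y hy a ha => ?_⟩
  obtain ⟨c, hc, y', hy', hy1', hyz', rfl⟩ := h.nb_cases hy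
  have h1 : c⁻¹ * a * c ∈ ws V y' := by
    have := conj_mem_ws c⁻¹ ha
    have e : c⁻¹ * (c * y' * c⁻¹) * c⁻¹⁻¹ = y' := by group
    rwa [e, inv_inv] at this
  have h2 := h.comm_sub hX hne hy' hy1' hyz' h1 (conj_mem_of_normalizer' hX.norm hc hx)
  have e : a * x * a⁻¹ * x⁻¹ =
      c * (c⁻¹ * a * c * (c⁻¹ * x * c) * (c⁻¹ * a * c)⁻¹ * (c⁻¹ * x * c)⁻¹) * c⁻¹ := by group
  rw [e, conj_zpowers hc h2]
  exact h2

theorem mem_cm [Finite G] (h : One T V z) {w a : G} (hw : w ∈ cm V z) (ha : a ∈ ll V z) :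
    a * w * a⁻¹ * w⁻¹ ∈ zpowers z := by
  let A : Subgroup G :=
    { carrier := {a | a ∈ centralizer ({z} : Set G) ∧ a * w * a⁻¹ * w⁻¹ ∈ zpowers z}
      mul_mem' := by
        rintro a b ⟨ha, ha1⟩ ⟨hb, hb1⟩
        refine ⟨mul_mem ha hb, ?_⟩
        have e : a * b * w * (a * b)⁻¹ * w⁻¹ = a * (b * w * b⁻¹ * w⁻¹) * a⁻¹ * (a * w * a⁻¹ * w⁻¹) := by
          group
        rw [e, conj_zpowers ha hb1]
        exact mul_mem hb1 ha1
      one_mem' := ⟨one_mem _, by simp⟩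
      inv_mem' := by
        rintro a ⟨ha, ha1⟩
        refine ⟨inv_mem ha, ?_⟩
        have e : a⁻¹ * w * a⁻¹⁻¹ * w⁻¹ = a⁻¹ * (a * w * a⁻¹ * w⁻¹)⁻¹ * a⁻¹⁻¹ := by group
        rw [e, conj_zpowers (inv_mem ha) (inv_mem ha1)]
        exact inv_mem ha1 }
  exact (ll_le (X := A) (fun y hy a ha => ⟨h.nb_le_cent hy ha, hw.2.2 y hy a ha⟩) ha).2

theorem isSub_cm [Finite G] (h : One T V z) : IsSub V z (cm V z) where
  z_mem := by
    have hz := h.ln.V_le_ws h.ln.z_mem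
    refine ⟨hz, h.ws_le_cent hz, fun y hy a ha => ?_⟩
    rw [conj_zpowers (h.nb_le_cent hy ha) (mem_zpowers z), mul_inv_cancel]
    exact one_mem _
  le := cm_le V z
  norm := by
    refine le_normalizer_of_forall fun c hc w hw => ?_
    have hcz : c * z * c⁻¹ = z := conj_eq_of_comm (mem_centralizer_singleton_iff.mp hc)
    refine ⟨?_, mul_mem (mul_mem hc hw.2.1) (inv_mem hc), fun y hy a ha => ?_⟩
    · have := conj_mem_ws c hw.1
      rwa [hcz] at this
    · have hy' : c⁻¹ * y * c ∈ nb V z := by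
        have := conj_mem_nb (inv_mem hc) hy
        rwa [inv_inv] at this
      have ha' : c⁻¹ * a * c ∈ ws V (c⁻¹ * y * c) := by
        have := conj_mem_ws c⁻¹ ha
        rwa [inv_inv] at this
      have h1 := hw.2.2 _ hy' _ ha'
      have e : a * (c * w * c⁻¹) * a⁻¹ * (c * w * c⁻¹)⁻¹ =
          c * (c⁻¹ * a * c * w * (c⁻¹ * a * c)⁻¹ * w⁻¹) * c⁻¹ := by group
      rw [e, conj_zpowers hc h1]
      exact h1

/-- `[W_p, W_q] ≠ 1` for all points `p ≠ q` of `V` -/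
theorem exists_nc (h : One T V z) {p q : G} (hp : p ∈ V) (hp1 : p ≠ 1) (hq : q ∈ V) (hq1 : q ≠ 1)
    (hqp : q ≠ p) : ∃ a ∈ ws V p, ∃ b ∈ ws V q, a * b ≠ b * a := by
  obtain ⟨g, -, -, hg⟩ := h.point hp hp1
  obtain ⟨r, hr, hr1, hrp, a, ha, b, hb, hab⟩ := hg.nc
  rcases h.ln.four hp hr hp1 hr1 (Ne.symm hrp) hq with e | e | e | e
  · exact absurd e hq1
  · exact absurd e hqp
  · subst e; exact ⟨a, ha, b, hb, hab⟩
  · obtain ⟨k, hk, hk1⟩ := h.exists_mover hp hp1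
    have e1 := h.move hp hp1 hr hr1 hrp hk hk1
    rw [← e] at e1
    have ha' := conj_mem_ws k ha
    have hb' := conj_mem_ws k hb
    rw [conj_eq_of_comm (h.kq_p hk)] at ha'
    rw [e1] at hb'
    refine ⟨_, ha', _, hb', fun e' => hab ?_⟩
    calc a * b = k⁻¹ * ((k * a * k⁻¹) * (k * b * k⁻¹)) * k := by group
      _ = k⁻¹ * ((k * b * k⁻¹) * (k * a * k⁻¹)) * k := by rw [e']
      _ = b * a := by group

/-- `[W_y, W_z]` is not contained in `⟨z⟩` -/
theorem not_comm_z (h : One T V z) {y : G} (hy : y ∈ V) (hy1 : y ≠ 1) (hyz : y ≠ z)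
    (hcon : ∀ a ∈ ws V y, ∀ w ∈ ws V z, a * w * a⁻¹ * w⁻¹ ∈ zpowers z) : False := by
  have hz := h.ln.z_mem
  have hz1 := h.ln.z_ne
  -- a mover of `K_{zy}` swaps `z` and `y`
  have hr : z * y ∈ V := mul_mem hz hy
  have hr1 : z * y ≠ 1 := h.mul_ne_one hy (Ne.symm hyz)
  have hrz : z ≠ z * y := fun e => hy1 (by simpa using e.symm)
  have hry : y ≠ z * y := fun e => hz1 (by simpa using e.symm)
  obtain ⟨k, hk, hk1⟩ := h.exists_mover hr hr1
  have e1 : k * z * k⁻¹ = y := by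
    rw [h.move hr hr1 hz hz1 hrz hk hk1, h.ln.comm hz hy, mul_assoc, h.ln.zz, mul_one]
  have e2 : k * y * k⁻¹ = z := by
    rw [h.move hr hr1 hy hy1 hry hk hk1, mul_assoc, h.ln.sq y hy, mul_one]
  obtain ⟨a, ha, b, hb, hab⟩ := h.exists_nc hz hz1 hy hy1 hyz
  have h1 := hcon b hb a ha
  have h2 : a * b * a⁻¹ * b⁻¹ ∈ zpowers z := by
    have := inv_mem h1
    have e : (b * a * b⁻¹ * a⁻¹)⁻¹ = a * b * a⁻¹ * b⁻¹ := by group
    rwa [e] at this
  have ha' : k⁻¹ * a * k ∈ ws V y := by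
    have := conj_mem_ws k⁻¹ ha
    have e : k⁻¹ * z * k⁻¹⁻¹ = y := by rw [← e2]; group
    rwa [e, inv_inv] at this
  have hb' : k⁻¹ * b * k ∈ ws V z := by
    have := conj_mem_ws k⁻¹ hb
    have e : k⁻¹ * y * k⁻¹⁻¹ = z := by rw [← e1]; group
    rwa [e, inv_inv] at this
  have h3 := hcon _ ha' _ hb'
  have h4 : a * b * a⁻¹ * b⁻¹ ∈ zpowers y := by
    obtain ⟨n, hn⟩ := mem_zpowers_iff.mp h3
    refine mem_zpowers_iff.mpr ⟨n, ?_⟩
    rw [← e1, conj_zpow, hn]
    group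
  apply hab
  rcases (mem_zpowers_iff_of_mul_self h.ln.zz).mp h2 with e | e
  · calc a * b = (a * b * a⁻¹ * b⁻¹) * (b * a) := by group
      _ = b * a := by rw [e, one_mul]
  · rcases (mem_zpowers_iff_of_mul_self (h.ln.sq y hy)).mp h4 with e' | e'
    · exact absurd (e.symm.trans e') hz1
    · exact absurd (e'.symm.trans e) hyz

theorem cm_ne [Finite G] (h : One T V z) : cm V z ≠ ws V z := by
  intro e
  obtain ⟨y, hy, hy1, hyz⟩ := h.ln.exists_y
  refine h.not_comm_z hy hy1 hyz fun a ha w hw => ?_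
  rw [← e] at hw
  exact hw.2.2 y (h.mem_nb hy hy1 hyz) a ha

/-- (II) `M = [M, H⁰]`, already `M = ⟨[M, A]^H⟩`. -/
theorem eq_ws_of_comm [Finite G] (h : One T V z) {X : Subgroup G} (hX : IsSub V z X) {y : G} (hy : y ∈ V)
    (hy1 : y ≠ 1) (hyz : y ≠ z)
    (hc : ∀ a ∈ ws V y, ∀ w ∈ ws V z, a * w * a⁻¹ * w⁻¹ ∈ X) : X = ws V z := by
  by_contra hne
  refine h.not_comm_z hy hy1 hyz fun a ha w hw => ?_
  rw [mem_zpowers_iff_of_mul_self h.ln.zz]
  exact h.lemma_i hX hne (hc a ha w hw)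
    (h.comm_mem_ii hy hy1 h.ln.z_mem h.ln.z_ne (Ne.symm hyz) ha hw)

/-- (II) `M/C_M(H⁰)` is irreducible. -/
theorem irr [Finite G] (h : One T V z) {X : Subgroup G} (hX : IsSub V z X) (hcX : cm V z ≤ X) :
    X = cm V z ∨ X = ws V z := by
  by_cases hne : X = ws V z
  · exact Or.inr hne
  · exact Or.inl (le_antisymm (h.le_cm hX hne) hcX)

end One

end Cfsg.Agent.Omega.NO3S.TwoOne

end

section


/-!
# NO-3S, `q = 2`, `n = 1` (helper881's text #13700): (II), faithfulness; (VI) planes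

* `One.le_kq` : `O₂(H) = 1`;
* `One.faithful` (II) : `M/C_M(H⁰)` is faithful for `H = C_G(z)/K_z`;
* `One.plane_line`, `One.plane_act` (VI) : planes.
-/

set_option autoImplicit false
set_option linter.unusedSectionVars false

namespace Cfsg.Agent.Omega.NO3S.TwoOne

open Subgroup Cfsg Cfsg.Agent.ZN Cfsg.Agent.MinSimple.Geo Cfsg.Agent.Omega.CaseL
open Cfsg.Agent.ZN.Block (conj_mem_of_normalizer conj_mem_of_normalizer' le_normalizer_of_forall
  mem_normalizer_of)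

universe u

variable {G : Type u} [Group G]

/-- `T` Sylow in `C`, `N` normal in `C`: `T ∩ N` is Sylow in `N`. -/
theorem not_dvd_relIndex_of_normal [Finite G] {C T N : Subgroup G} (hTC : T ≤ C) (hT : IsPGroup 2 T)
    (hs : ¬ 2 ∣ T.relIndex C) (hNC : N ≤ C) (hn : C ≤ normalizer (N : Set G)) : ¬ 2 ∣ T.relIndex N := by
  have hfact : Fact (Nat.Prime 2) := ⟨Nat.prime_two⟩
  obtain ⟨P⟩ : Nonempty (Sylow 2 N) := inferInstance
  have hA : IsPGroup 2 ((P : Subgroup N).map N.subtype) := P.2.map _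
  have hAN : (P : Subgroup N).map N.subtype ≤ N := map_subtype_le _
  obtain ⟨c, hc, hcT⟩ := exists_cj_le_of_sylow hTC hT hs (hAN.trans hNC) hA
  have h1 : (cj c ((P : Subgroup N).map N.subtype)).relIndex N = (P : Subgroup N).index := by
    have e : cj c N = N := cj_eq_of_mem_normalizer (hn hc)
    have h2 := relIndex_cj c ((P : Subgroup N).map N.subtype) N
    rw [e] at h2
    rw [h2]
    unfold relIndex
    congr 1
    ext x
    simp [mem_subgroupOf]
  intro hd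
  apply P.not_dvd_index
  rw [← h1]
  exact hd.trans (relIndex_dvd_of_le_left N hcT)

namespace One

variable {T V : Subgroup G} {z : G}

/-- `C_G(z)` normal subgroups which are 2-groups modulo `K_z` are in `K_z`. -/
theorem le_kq [Finite G] (h : One T V z) {R : Subgroup G} (hR : R ≤ centralizer ({z} : Set G))
    (hn : centralizer ({z} : Set G) ≤ normalizer (R : Set G)) (h2 : ∀ r ∈ R, ∃ n : ℕ, r ^ 2 ^ n ∈ kq V z) :
    R ≤ kq V z := by
  have hfact : Fact (Nat.Prime 2) := ⟨Nat.prime_two⟩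
  have hz := h.ln.z_mem
  have hz1 := h.ln.z_ne
  -- `N(V) ∩ C(z)` covers `R`
  have hodd := not_dvd_relIndex_of_normal h.ln.T_le h.ln.two h.ln.T_syl hR hn
  have hT : T ⊓ R ≤ normalizer (V : Set G) ⊓ R := inf_le_inf_right _ h.ln.T_norm
  have hodd' : ¬ 2 ∣ (normalizer (V : Set G) ⊓ R).relIndex R := fun hd =>
    hodd (by
      rw [← inf_relIndex_right T R]
      exact hd.trans (relIndex_dvd_of_le_left R hT))
  have hK : kq V z ⊓ R ≤ normalizer (V : Set G) ⊓ R := inf_le_inf_right _ (h.kq_le_normalizer hz hz1)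
  have hnorm : ((kq V z).subgroupOf R).Normal :=
    normal_subgroupOf_of_le_normalizer (hR.trans (centralizer_le_normalizer_kq V z))
  have h3 : IsPGroup 2 (R ⧸ (kq V z).subgroupOf R) := by
    intro x
    obtain ⟨r, rfl⟩ := QuotientGroup.mk_surjective x
    obtain ⟨n, hn'⟩ := h2 r r.2
    refine ⟨n, ?_⟩
    rw [← QuotientGroup.mk_pow, QuotientGroup.eq_one_iff]
    exact mem_subgroupOf.mpr hn'
  obtain ⟨m, hm⟩ := IsPGroup.iff_card.mp h3
  have h4 : (kq V z).relIndex R = 2 ^ m := hm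
  have h5 : (normalizer (V : Set G) ⊓ R).relIndex R ∣ 2 ^ m := by
    rw [← h4, ← inf_relIndex_right (kq V z) R]
    exact relIndex_dvd_of_le_left R hK
  have h6 : R ≤ normalizer (V : Set G) := by
    obtain ⟨k, -, hk⟩ := (Nat.dvd_prime_pow Nat.prime_two).mp h5
    have h7 : (normalizer (V : Set G) ⊓ R).relIndex R = 1 := by
      rcases Nat.eq_zero_or_pos k with e | e
      · rw [hk, e, pow_zero]
      · exact absurd (hk ▸ dvd_pow_self 2 (by omega)) hodd'
    exact (relIndex_eq_one.mp h7).trans inf_le_left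
  have h8 : ∀ r ∈ R, ∀ w ∈ ws V z, r * w * r⁻¹ * w⁻¹ ∈ zpowers z := by
    intro r hr
    let A : Subgroup G :=
      { carrier := {w | ∀ r ∈ R, r * w * r⁻¹ * w⁻¹ ∈ zpowers z ∧ w * z = z * w}
        mul_mem' := by
          intro a b ha hb r hr
          have haz := (ha r hr).2
          have hbz := (hb r hr).2
          refine ⟨?_, mul_comm_of haz hbz⟩
          have e : r * (a * b) * r⁻¹ * (a * b)⁻¹ =
              (r * a * r⁻¹ * a⁻¹) * (a * (r * b * r⁻¹ * b⁻¹) * a⁻¹) := by group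
          rw [e, conj_zpowers (mem_centralizer_singleton_iff.mpr haz) (hb r hr).1]
          exact mul_mem (ha r hr).1 (hb r hr).1
        one_mem' := fun r hr => ⟨by simp, by simp⟩
        inv_mem' := by
          intro a ha r hr
          have haz := (ha r hr).2
          refine ⟨?_, inv_comm_of haz⟩
          have e : r * a⁻¹ * r⁻¹ * a⁻¹⁻¹ = a⁻¹ * (r * a * r⁻¹ * a⁻¹)⁻¹ * a⁻¹⁻¹ := by group
          rw [e, conj_zpowers (inv_mem (mem_centralizer_singleton_iff.mpr haz)) (inv_mem (ha r hr).1)]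
          exact inv_mem (ha r hr).1 }
    have hA : ws V z ≤ A := by
      refine ws_le fun L hL => ?_
      obtain ⟨c, hc, rfl⟩ := h.ln.exists_of_mem_lines hL
      intro x hx r hr
      have hx' := mem_of_cj hx
      have hr' := conj_mem_of_normalizer' hn hc hr
      refine ⟨?_, mem_centralizer_singleton_iff.mp (h.ws_le_cent (le_ws hL hx))⟩
      have h9 : c⁻¹ * r * c * (c⁻¹ * x * c) * (c⁻¹ * r * c)⁻¹ * (c⁻¹ * x * c)⁻¹ ∈ zpowers z := by
        rcases h.ln.conj_cases hz hx' hz1 (mem_centralizer_singleton_iff.mp (hR hr')) (h6 hr') with e | e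
        · rw [e, mul_inv_cancel]; exact one_mem _
        · rw [e, mul_inv_cancel_right]; exact mem_zpowers z
      have e : r * x * r⁻¹ * x⁻¹ =
          c * (c⁻¹ * r * c * (c⁻¹ * x * c) * (c⁻¹ * r * c)⁻¹ * (c⁻¹ * x * c)⁻¹) * c⁻¹ := by group
      rw [e, conj_zpowers hc h9]
      exact h9
    exact fun w hw => (hA hw r hr).1
  intro r hr
  refine ⟨hR hr, h8 r hr, fun w hw => ?_⟩
  have := h8 r⁻¹ (inv_mem hr) w hw
  rwa [inv_inv] at this

/-- **(II)** `M/C_M(H⁰)` is faithful for `H`. -/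
theorem faithful [Finite G] (h : One T V z) {g : G} (hg : g ∈ centralizer ({z} : Set G))
    (hgw : ∀ w ∈ ws V z, g * w * g⁻¹ * w⁻¹ ∈ cm V z) : g ∈ kq V z := by
  have hz := h.ln.z_mem
  have hcm := h.isSub_cm
  have hzcm : ∀ y ∈ zpowers z, y ∈ cm V z := fun y hy => (zpowers_le.mpr hcm.z_mem) hy
  have hsq := h.sqz
  let N : Subgroup G :=
    { carrier := {g | g ∈ centralizer ({z} : Set G) ∧ ∀ w ∈ ws V z, g * w * g⁻¹ * w⁻¹ ∈ cm V z}
      mul_mem' := by
        rintro a b ⟨ha, ha1⟩ ⟨hb, hb1⟩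
        refine ⟨mul_mem ha hb, fun w hw => ?_⟩
        have e : a * b * w * (a * b)⁻¹ * w⁻¹ = a * (b * w * b⁻¹ * w⁻¹) * a⁻¹ * (a * w * a⁻¹ * w⁻¹) := by
          group
        rw [e]
        exact mul_mem (conj_mem_of_normalizer hcm.norm ha (hb1 w hw)) (ha1 w hw)
      one_mem' := ⟨one_mem _, fun w _ => by simp⟩
      inv_mem' := by
        rintro a ⟨ha, ha1⟩
        refine ⟨inv_mem ha, fun w hw => ?_⟩
        have e : a⁻¹ * w * a⁻¹⁻¹ * w⁻¹ = a⁻¹ * (a * w * a⁻¹ * w⁻¹)⁻¹ * a := by group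
        rw [e]
        exact conj_mem_of_normalizer' hcm.norm ha (inv_mem (ha1 w hw)) }
  have hNn : centralizer ({z} : Set G) ≤ normalizer (N : Set G) := by
    refine le_normalizer_of_forall fun c hc n hn => ⟨mul_mem (mul_mem hc hn.1) (inv_mem hc), fun w hw => ?_⟩
    have hcz : c * z * c⁻¹ = z := conj_eq_of_comm (mem_centralizer_singleton_iff.mp hc)
    have hw' : c⁻¹ * w * c ∈ ws V z := by
      have := conj_mem_ws c⁻¹ hw
      have e : c⁻¹ * z * c⁻¹⁻¹ = z := by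
        calc c⁻¹ * z * c⁻¹⁻¹ = c⁻¹ * (c * z * c⁻¹) * c := by rw [hcz, inv_inv]
          _ = z := by group
      rwa [e, inv_inv] at this
    have h1 := conj_mem_of_normalizer hcm.norm hc (hn.2 _ hw')
    have e : c * (n * (c⁻¹ * w * c) * n⁻¹ * (c⁻¹ * w * c)⁻¹) * c⁻¹ =
        c * n * c⁻¹ * w * (c * n * c⁻¹)⁻¹ * w⁻¹ := by group
    rwa [e] at h1
  have hll := h.ll_le_cent
  -- Step A: `N ∩ ll ≤ K`
  have hA : N ⊓ ll V z ≤ kq V z := by
    have key : ∀ r ∈ N ⊓ ll V z, ∀ w ∈ ws V z, r * r * w * (r * r)⁻¹ * w⁻¹ ∈ zpowers z := by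
      intro r hr w hw
      have hr1 := hr.1
      have hr2 := hr.2
      have h1 := hr1.2 w hw
      have h2 := h.mem_cm h1 hr2
      set c := r * w * r⁻¹ * w⁻¹ with hc
      have hcw : c ∈ ws V z := cm_le V z h1
      have e : r * r * w * (r * r)⁻¹ * w⁻¹ = (r * c * r⁻¹ * c⁻¹) * (c * c) := by
        rw [hc]; group
      rw [e, hsq c hcw, mul_one]
      exact h2
    refine h.le_kq (inf_le_right.trans hll) ?_ fun r hr => ⟨1, ?_⟩
    · refine le_normalizer_of_forall fun c hc n hn => ?_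
      exact ⟨conj_mem_of_normalizer hNn hc hn.1,
        conj_mem_of_normalizer (centralizer_le_normalizer_ll V z) hc hn.2⟩
    · rw [pow_one, pow_two]
      refine ⟨mul_mem (hll hr.2) (hll hr.2), key r hr, fun w hw => ?_⟩
      have := key r⁻¹ (inv_mem hr) w hw
      have e : r⁻¹ * r⁻¹ * w * (r⁻¹ * r⁻¹)⁻¹ * w⁻¹ = (r * r)⁻¹ * w * (r * r) * w⁻¹ := by
        simp only [mul_inv_rev, inv_inv, mul_assoc]
      rwa [e] at this
  -- Step B
  let X : Subgroup G :=
    { carrier := {w | w ∈ ws V z ∧ w ∈ centralizer ({z} : Set G) ∧ ∀ g ∈ N, g * w * g⁻¹ * w⁻¹ ∈ zpowers z}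
      mul_mem' := by
        rintro v w ⟨hv, hvz, hv1⟩ ⟨hw, hwz, hw1⟩
        refine ⟨mul_mem hv hw, mul_mem hvz hwz, fun a ha => ?_⟩
        have e : a * (v * w) * a⁻¹ * (v * w)⁻¹ = (a * v * a⁻¹ * v⁻¹) * (v * (a * w * a⁻¹ * w⁻¹) * v⁻¹) := by
          group
        rw [e, conj_zpowers hvz (hw1 a ha)]
        exact mul_mem (hv1 a ha) (hw1 a ha)
      one_mem' := ⟨one_mem _, one_mem _, fun a ha => by simp⟩
      inv_mem' := by
        rintro w ⟨hw, hwz, hw1⟩
        refine ⟨inv_mem hw, inv_mem hwz, fun a ha => ?_⟩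
        have e : a * w⁻¹ * a⁻¹ * w⁻¹⁻¹ = w⁻¹ * (a * w * a⁻¹ * w⁻¹)⁻¹ * w⁻¹⁻¹ := by group
        rw [e, conj_zpowers (inv_mem hwz) (inv_mem (hw1 a ha))]
        exact inv_mem (hw1 a ha) }
  have hX : IsSub V z X :=
    { z_mem := by
        refine ⟨h.ln.V_le_ws hz, h.ws_le_cent (h.ln.V_le_ws hz), fun a ha => ?_⟩
        rw [conj_zpowers ha.1 (mem_zpowers z), mul_inv_cancel]
        exact one_mem _
      le := fun _ hx => hx.1
      norm := by
        refine le_normalizer_of_forall fun c hc w hw => ?_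
        have hcz : c * z * c⁻¹ = z := conj_eq_of_comm (mem_centralizer_singleton_iff.mp hc)
        refine ⟨?_, mul_mem (mul_mem hc hw.2.1) (inv_mem hc), fun a ha => ?_⟩
        · have := conj_mem_ws c hw.1
          rwa [hcz] at this
        · have h1 := hw.2.2 _ (conj_mem_of_normalizer' hNn hc ha)
          have e : a * (c * w * c⁻¹) * a⁻¹ * (c * w * c⁻¹)⁻¹ =
              c * (c⁻¹ * a * c * w * (c⁻¹ * a * c)⁻¹ * w⁻¹) * c⁻¹ := by group
          rw [e, conj_zpowers hc h1]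
          exact h1 }
  obtain ⟨y, hy, hy1, hyz⟩ := h.ln.exists_y
  have hXw : X = ws V z := by
    refine h.eq_ws_of_comm hX hy hy1 hyz fun a ha w hw => ?_
    have hal : a ∈ ll V z := ws_le_ll (h.mem_nb hy hy1 hyz) ha
    have haz := hll hal
    have haw : a * w * a⁻¹ ∈ ws V z := by
      have := conj_mem_ws a hw
      rwa [conj_eq_of_comm (mem_centralizer_singleton_iff.mp haz)] at this
    have hd : a * w * a⁻¹ * w⁻¹ ∈ ws V z := mul_mem haw (inv_mem hw)
    refine ⟨hd, h.ws_le_cent hd, fun g hg => ?_⟩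
    -- `g w g⁻¹ = c w`, `g a g⁻¹ = κ a`
    have hc := hg.2 w hw
    set c := g * w * g⁻¹ * w⁻¹ with hcdef
    have hcw : c ∈ ws V z := cm_le V z hc
    have hκ : g * a * g⁻¹ * a⁻¹ ∈ kq V z := by
      refine hA ⟨?_, ?_⟩
      · have e : g * a * g⁻¹ * a⁻¹ = g * (a * g⁻¹ * a⁻¹) := by group
        rw [e]
        exact N.mul_mem hg (conj_mem_of_normalizer hNn haz (N.inv_mem hg))
      · exact (ll V z).mul_mem (conj_mem_of_normalizer (centralizer_le_normalizer_ll V z) hg.1 hal)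
          ((ll V z).inv_mem hal)
    set κ := g * a * g⁻¹ * a⁻¹ with hκdef
    have h1 := h.mem_cm hc hal
    have hac : a * c * a⁻¹ ∈ ws V z := by
      have := conj_mem_ws a hcw
      rwa [conj_eq_of_comm (mem_centralizer_singleton_iff.mp haz)] at this
    have hx : (a * c * a⁻¹) * (a * w * a⁻¹) ∈ ws V z := mul_mem hac haw
    have h2 := kq_comm hκ hx
    have hab := h.ab
    -- the commutator is `[κ, x] [a, c]` up to conjugation
    have e : g * (a * w * a⁻¹ * w⁻¹) * g⁻¹ * (a * w * a⁻¹ * w⁻¹)⁻¹ =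
        (κ * ((a * c * a⁻¹) * (a * w * a⁻¹)) * κ⁻¹ * ((a * c * a⁻¹) * (a * w * a⁻¹))⁻¹) *
        ((a * c * a⁻¹) * ((a * w * a⁻¹) * (w⁻¹ * c⁻¹)) * (w * (a * w * a⁻¹)⁻¹)) := by
      have e1 : g * a * g⁻¹ = κ * a := by rw [hκdef]; group
      have e2 : g * w * g⁻¹ = c * w := by rw [hcdef]; group
      have e3 : g * w⁻¹ * g⁻¹ = w⁻¹ * c⁻¹ := by rw [hcdef]; group
      have e4 : g * a⁻¹ * g⁻¹ = a⁻¹ * κ⁻¹ := by rw [hκdef]; group
      calc g * (a * w * a⁻¹ * w⁻¹) * g⁻¹ * (a * w * a⁻¹ * w⁻¹)⁻¹ =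
          (g * a * g⁻¹) * (g * w * g⁻¹) * (g * a⁻¹ * g⁻¹) * (g * w⁻¹ * g⁻¹) * (a * w * a⁻¹ * w⁻¹)⁻¹ := by
            group
        _ = _ := by rw [e1, e2, e3, e4]; group
    have e5 : (a * c * a⁻¹) * ((a * w * a⁻¹) * (w⁻¹ * c⁻¹)) * (w * (a * w * a⁻¹)⁻¹) =
        a * c * a⁻¹ * c⁻¹ := by
      set b := a * w * a⁻¹ with hb
      have f1 := hab _ (inv_mem hw) _ (inv_mem hcw)
      have f2 := hab _ haw _ (inv_mem hcw)
      calc (a * c * a⁻¹) * (b * (w⁻¹ * c⁻¹)) * (w * b⁻¹) =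
          (a * c * a⁻¹) * (b * (c⁻¹ * w⁻¹)) * (w * b⁻¹) := by rw [f1]
        _ = (a * c * a⁻¹) * (b * c⁻¹) * b⁻¹ := by group
        _ = (a * c * a⁻¹) * (c⁻¹ * b) * b⁻¹ := by rw [f2]
        _ = a * c * a⁻¹ * c⁻¹ := by group
    rw [e, e5]
    exact mul_mem h2 h1
  have hgN : g ∈ N := ⟨hg, hgw⟩
  have h8 : ∀ g ∈ N, ∀ w ∈ ws V z, g * w * g⁻¹ * w⁻¹ ∈ zpowers z := by
    intro g hg w hw
    rw [← hXw] at hw
    exact hw.2.2 g hg
  refine ⟨hg, h8 g hgN, fun w hw => ?_⟩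
  have := h8 g⁻¹ (inv_mem hgN) w hw
  rwa [inv_inv] at this

end One

end Cfsg.Agent.Omega.NO3S.TwoOne

end

section


/-!
# NO-3S, `q = 2`, `n = 1` (helper881's text #13700): (VI) planes

* `Pln V U` : `U` is elementary abelian of order 8, any two of its points are on a line;
* `One.exists_plane` : a line `L` on `z`, `L ≤ ii V`, `L ≠ V`, gives a plane `⟨V, L⟩ ≤ ii V`;
* `One.pln_trv` : `K_p` induces on a plane all transvections with centre `p`.
-/

set_option autoImplicit false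
set_option linter.unusedSectionVars false

namespace Cfsg.Agent.Omega.NO3S.TwoOne

open Subgroup Cfsg Cfsg.Agent.ZN Cfsg.Agent.MinSimple.Geo Cfsg.Agent.Omega.CaseL
open Cfsg.Agent.ZN.Block (conj_mem_of_normalizer conj_mem_of_normalizer' le_normalizer_of_forall
  mem_normalizer_of)

universe u

variable {G : Type u} [Group G]

/-- `U` is a plane -/
structure Pln (V U : Subgroup G) : Prop where
  card : Nat.card U = 8
  sq : ∀ u ∈ U, u * u = 1
  line : ∀ p ∈ U, ∀ q ∈ U, p ≠ 1 → q ≠ 1 → p ≠ q → ∃ L ∈ lines V p, q ∈ L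

namespace One

variable {T V : Subgroup G} {z : G}

theorem line_of_line [Finite G] (h : One T V z) {u : G} (hu : u ∈ ii V) (huV : u ∉ V) {p q : G} (hp : p ∈ V)
    (hp1 : p ≠ 1) (hq : q ∈ V) (hq1 : q ≠ 1) (hL : ∃ L ∈ lines V q, u ∈ L) : ∃ L ∈ lines V p, u ∈ L := by
  obtain ⟨L, hL, huL⟩ := hL
  obtain ⟨g, -, hgu, hgq⟩ := h.ftwo hu huV hq hq1 hp hp1
  refine ⟨cj g L, ?_, ?_⟩
  · have := mem_lines_cj (g := g) hL
    rwa [hgq] at this
  · have := conj_mem_cj (g := g) huL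
    rwa [conj_eq_of_comm hgu] at this

/-- (VI): the lines of the plane `⟨V, u⟩` -/
theorem plane_line [Finite G] (h : One T V z) {u : G} (hu : u ∈ ii V) (huV : u ∉ V)
    (hL : ∃ L ∈ lines V z, u ∈ L) {p v : G} (hp : p ∈ V) (hp1 : p ≠ 1) (hv : v ∈ V) :
    ∃ L ∈ lines V p, v * u ∈ L := by
  have hz := h.ln.z_mem
  have hz1 := h.ln.z_ne
  by_cases hv1 : v = 1
  · rw [hv1, one_mul]
    exact h.line_of_line hu huV hp hp1 hz hz1 hL
  · have huV' : v * u ∉ V := fun e => huV (by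
      have := mul_mem (inv_mem hv) e
      rwa [inv_mul_cancel_left] at this)
    refine h.line_of_line (mul_mem (h.V_le_ii hv) hu) huV' hp hp1 hv hv1 ?_
    obtain ⟨L, hL', huL⟩ := h.line_of_line hu huV hv hv1 hz hz1 hL
    exact ⟨L, hL', mul_mem hL'.2 huL⟩

/-- a line `L` on `z`, in `ii V`, `L ≠ V`, spans with `V` a plane -/
theorem exists_plane [Finite G] (h : One T V z) {u : G} (hu : u ∈ ii V) (huV : u ∉ V)
    (hL : ∃ L ∈ lines V z, u ∈ L) : ∃ U : Subgroup G, Pln V U ∧ V ≤ U ∧ u ∈ U ∧ U ≤ ii V := by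
  have hz := h.ln.z_mem
  have hz1 := h.ln.z_ne
  have hsq := h.sqz
  have hab := h.ab
  have hiz : ∀ x ∈ ii V, x ∈ ws V z := fun x hx => ii_le hz hz1 hx
  have huu : u * u = 1 := hsq u (hiz u hu)
  have hvu : ∀ v ∈ V, v * u = u * v := fun v hv => hab v (h.V_le hz hz1 hv) u (hiz u hu)
  let U : Subgroup G :=
    { carrier := {x | x ∈ V ∨ u * x ∈ V}
      mul_mem' := by
        rintro a b (ha | ha) (hb | hb)
        · exact Or.inl (mul_mem ha hb)
        · right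
          have e : u * (a * b) = a * (u * b) := by
            rw [← mul_assoc, ← hvu a ha, mul_assoc]
          rw [e]; exact mul_mem ha hb
        · right
          rw [← mul_assoc]; exact mul_mem ha hb
        · left
          have e : a * b = (u * a) * (u * b) := by
            have h1 := hvu _ ha
            calc a * b = (u * u) * a * b := by rw [huu, one_mul]
              _ = u * (u * a) * b := by group
              _ = (u * a) * u * b := by rw [← h1]
              _ = (u * a) * (u * b) := by group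
          rw [e]; exact mul_mem ha hb
      one_mem' := Or.inl (one_mem _)
      inv_mem' := by
        rintro a (ha | ha)
        · exact Or.inl (inv_mem ha)
        · right
          have h1 := hvu _ (inv_mem ha)
          have e : u * a⁻¹ = (u * a)⁻¹ := by
            rw [mul_inv_rev, inv_eq_self huu] at h1 ⊢
            calc u * a⁻¹ = u * (a⁻¹ * u) * u⁻¹ := by group
              _ = a⁻¹ * u * u * u⁻¹ := by rw [← h1]
              _ = a⁻¹ * u := by group
          rw [e]; exact inv_mem ha }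
  have hVU : V ≤ U := fun v hv => Or.inl hv
  have huU : u ∈ U := by
    right; rw [huu]; exact one_mem _
  have hUi : U ≤ ii V := by
    rintro x (hx | hx)
    · exact h.V_le_ii hx
    · have := mul_mem (inv_mem hu) (h.V_le_ii hx)
      rwa [inv_mul_cancel_left] at this
  -- an element outside `V` is `v u`
  have hout : ∀ x ∈ U, x ∉ V → ∃ v ∈ V, x = v * u := by
    rintro x (hx | hx) hxV
    · exact absurd hx hxV
    · refine ⟨u * x, hx, ?_⟩
      have hxz : x ∈ ws V z := by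
        have := mul_mem (inv_mem hu) (h.V_le_ii hx)
        rw [inv_mul_cancel_left] at this
        exact hiz x this
      rw [hab u (hiz u hu) x hxz, mul_assoc, huu, mul_one]
  have hsqU : ∀ x ∈ U, x * x = 1 := fun x hx => hsq x (hiz x (hUi hx))
  have hcard : Nat.card U = 8 := by
    have h1 : V.relIndex U = 2 := by
      refine Subgroup.relIndex_eq_two_iff.mpr ?_
      refine ⟨u, huU, fun b hb => ?_⟩
      by_cases hbV : b ∈ V
      · right
        refine ⟨hbV, fun e => huV ?_⟩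
        have := mul_mem (inv_mem hbV) e
        rwa [inv_mul_cancel_left] at this
      · left
        obtain ⟨v, hv, rfl⟩ := hout b hb hbV
        refine ⟨?_, hbV⟩
        rw [mul_assoc, huu, mul_one]; exact hv
    have h2 := Block.card_mul_relIndex' hVU
    rw [← h2, h1, h.ln.card_V]
  refine ⟨U, ⟨hcard, hsqU, fun p hp q hq hp1 hq1 hpq => ?_⟩, hVU, huU, hUi⟩
  -- the lines
  have key : ∀ p ∈ V, p ≠ 1 → ∀ q ∈ U, q ∉ V → ∃ L ∈ lines V p, q ∈ L := by
    intro p hp hp1 q hq hqV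
    obtain ⟨v, hv, rfl⟩ := hout q hq hqV
    exact h.plane_line hu huV hL hp hp1 hv
  by_cases hpV : p ∈ V
  · by_cases hqV : q ∈ V
    · exact ⟨V, ⟨⟨1, (cj_one V).symm⟩, hpV⟩, hqV⟩
    · exact key p hpV hp1 q hq hqV
  · by_cases hqV : q ∈ V
    · obtain ⟨L, hL', hpL⟩ := key q hqV hq1 p hp hpV
      exact ⟨L, ⟨hL'.1, hpL⟩, hL'.2⟩
    · -- `p q ∈ V`
      obtain ⟨v, hv, hpv⟩ := hout p hp hpV
      obtain ⟨w, hw, hqw⟩ := hout q hq hqV
      have hpq' : p * q = v * w := by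
        have h1 := hvu w hw
        rw [hpv, hqw]
        calc v * u * (w * u) = v * (u * w) * u := by group
          _ = v * w * (u * u) := by rw [← h1]; group
          _ = v * w := by rw [huu, mul_one]
      have hpqV : p * q ∈ V := by rw [hpq']; exact mul_mem hv hw
      have hpq1 : p * q ≠ 1 := fun e => hpq (by
        rw [mul_eq_one_iff_eq_inv.mp e, inv_eq_self (hsqU q hq)])
      obtain ⟨L, hL', hpL⟩ := key _ hpqV hpq1 p hp hpV
      refine ⟨L, ⟨hL'.1, hpL⟩, ?_⟩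
      have := mul_mem (inv_mem hpL) hL'.2
      rwa [inv_mul_cancel_left] at this

/-- `K_p` induces on a plane all transvections with centre `p`. -/
theorem pln_trv [Finite G] (h : One T V z) {U : Subgroup G} (hU : Pln V U) {p q r : G} (hp : p ∈ U)
    (hp1 : p ≠ 1) (hq : q ∈ U) (hq1 : q ≠ 1) (hqp : q ≠ p) (hr : r ∈ U) (hr1 : r ≠ 1) (hrp : r ≠ p)
    (hrq : r ≠ q) (hrpq : r ≠ p * q) : ∃ k ∈ kq V p, k * q * k⁻¹ = p * q ∧ k * r * k⁻¹ = r := by
  have hpp := hU.sq p hp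
  have hUw : ∀ x ∈ U, x ∈ ws V p := by
    intro x hx
    by_cases hx1 : x = 1
    · rw [hx1]; exact one_mem _
    by_cases hxp : x = p
    · obtain ⟨L, hL, -⟩ := hU.line p hp q hq hp1 hq1 (Ne.symm hqp)
      rw [hxp]; exact le_ws hL hL.2
    · obtain ⟨L, hL, hxL⟩ := hU.line p hp x hx hp1 hx1 (Ne.symm hxp)
      exact le_ws hL hxL
  have cases : ∀ k ∈ kq V p, ∀ x ∈ U, k * x * k⁻¹ = x ∨ k * x * k⁻¹ = p * x := by
    intro k hk x hx
    rcases (mem_zpowers_iff_of_mul_self hpp).mp (kq_comm hk (hUw x hx)) with e | e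
    · left
      calc k * x * k⁻¹ = (k * x * k⁻¹ * x⁻¹) * x := by group
        _ = x := by rw [e, one_mul]
    · right
      calc k * x * k⁻¹ = (k * x * k⁻¹ * x⁻¹) * x := by group
        _ = p * x := by rw [e]
  have hkp : ∀ k ∈ kq V p, k * p * k⁻¹ = p := fun k hk =>
    conj_eq_of_comm (mem_centralizer_singleton_iff.mp (kq_le_centralizer V p hk))
  -- (F1) on the line `⟨p, x⟩`
  have mv : ∀ x ∈ U, x ≠ 1 → x ≠ p → ∃ k ∈ kq V p, k * x * k⁻¹ = p * x := by
    intro x hx hx1 hxp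
    obtain ⟨L, hL, hxL⟩ := hU.line p hp x hx hp1 hx1 (Ne.symm hxp)
    obtain ⟨g, rfl, T', h'⟩ := h.of_line hL hp1
    obtain ⟨k, hk, hk1⟩ := h'.f1
    refine ⟨k, by rwa [kq_cj] at hk, ?_⟩
    exact h'.move hL.2 hp1 hxL hx1 hxp hk hk1
  -- products
  have hmul : ∀ a ∈ kq V p, ∀ b ∈ kq V p, ∀ x, a * b * x * (a * b)⁻¹ = a * (b * x * b⁻¹) * a⁻¹ :=
    fun a _ b _ x => by group
  have hpx : ∀ k ∈ kq V p, ∀ x, k * (p * x) * k⁻¹ = p * (k * x * k⁻¹) := by
    intro k hk x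
    calc k * (p * x) * k⁻¹ = (k * p * k⁻¹) * (k * x * k⁻¹) := by group
      _ = p * (k * x * k⁻¹) := by rw [hkp k hk]
  have hppx : ∀ x, p * (p * x) = x := fun x => by rw [← mul_assoc, hpp, one_mul]
  obtain ⟨a, ha, haq⟩ := mv q hq hq1 hqp
  obtain ⟨b, hb, hbr⟩ := mv r hr hr1 hrp
  rcases cases a ha r hr with har | har
  · exact ⟨a, ha, haq, har⟩
  rcases cases b hb q hq with hbq | hbq
  · -- `a b`
    refine ⟨a * b, mul_mem ha hb, ?_, ?_⟩
    · rw [hmul a ha b hb, hbq, haq]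
    · rw [hmul a ha b hb, hbr, hpx a ha, har, hppx]
  · -- third line
    have hqr : q * r ≠ 1 := fun e => hrq (by
      rw [mul_eq_one_iff_eq_inv.mp e, inv_eq_self (hU.sq r hr)])
    have hqrp : q * r ≠ p := fun e => hrpq (by
      have h1 : r = q⁻¹ * p := by rw [← e]; group
      have h2 := hU.sq _ (mul_mem (inv_mem hq) hp)
      have h3 : q⁻¹ = q := inv_eq_self (hU.sq q hq)
      rw [h3] at h1 h2
      rw [h1]
      have h4 : (q * p)⁻¹ = q * p := inv_eq_self h2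
      rw [← h4, mul_inv_rev, h3, inv_eq_self hpp])
    obtain ⟨c, hc, hcx⟩ := mv (q * r) (mul_mem hq hr) hqr hqrp
    have e : c * (q * r) * c⁻¹ = (c * q * c⁻¹) * (c * r * c⁻¹) := by group
    have hpq : p * q = q * p := by
      have h1 := hU.sq _ (mul_mem hp hq)
      have h2 := inv_eq_self h1
      rw [mul_inv_rev, inv_eq_self hpp, inv_eq_self (hU.sq q hq)] at h2
      exact h2.symm
    rw [e] at hcx
    rcases cases c hc q hq with hcq | hcq <;> rcases cases c hc r hr with hcr | hcr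
    · exfalso
      rw [hcq, hcr] at hcx
      exact hp1 (by simpa using hcx.symm)
    · -- `c` moves `r`, not `q`
      refine ⟨a * c, mul_mem ha hc, ?_, ?_⟩
      · rw [hmul a ha c hc, hcq, haq]
      · rw [hmul a ha c hc, hcr, hpx a ha, har, hppx]
    · exact ⟨c, hc, hcq, hcr⟩
    · exfalso
      rw [hcq, hcr] at hcx
      have e2 : p * q * (p * r) = q * r := by
        calc p * q * (p * r) = (q * p) * (p * r) := by rw [hpq]
          _ = q * (p * p) * r := by group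
          _ = q * r := by rw [hpp, mul_one]
      rw [e2] at hcx
      exact hp1 (by simpa using hcx.symm)

/-- the stabilizer of a plane is transitive on its points -/
theorem pln_trans [Finite G] (h : One T V z) {U : Subgroup G} (hU : Pln V U) {p q : G} (hp : p ∈ U)
    (hp1 : p ≠ 1) (hq : q ∈ U) (hq1 : q ≠ 1) : ∃ g : G, g * p * g⁻¹ = q := by
  by_cases hpq : p = q
  · exact ⟨1, by rw [hpq]; group⟩
  obtain ⟨L, hL, hqL⟩ := hU.line p hp q hq hp1 hq1 hpq
  obtain ⟨g, rfl, T', h'⟩ := h.of_line hL hp1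
  obtain ⟨k, -, hk⟩ := h'.ln.trans q hqL hq1
  exact ⟨k, hk⟩

end One

end Cfsg.Agent.Omega.NO3S.TwoOne

end
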