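import Cfsg.Agent.Mrg.Omega.NO3S.Basic
import Cfsg.Agent.Mrg.Omega.NO3S.TwoOne.Irr


/-!
# NO-3S, `q = 2`: bridge from `Hyp S P` to `CaseL.Ln` and to `One`

* `Hyp.ln_four` : `|V_P| = 4`: `Ln S V z`, `V = zl S P`, `1 ≠ z ∈ Ω₁(Z(S))`;
* `Hyp.ws_four` : `ws V z = WW S P`;
* `Hyp.one_of_crit` : a critical pair at distance 1 and (F1) give `One S V z`.
-/

set_option autoImplicit false

namespace Cfsg.Agent.Omega.NO3S.TwoOne

open Subgroup Cfsg Cfsg.Agent.Omega.MinPar Cfsg.Agent.Omega.Frame Cfsg.Agent.Omega.FrameNOFF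
open Cfsg.Agent.ZN (zl zc o2)
open Cfsg.Agent.Omega.NoFF.Lines
open Cfsg.Agent.MinSimple.VModule
open scoped Pointwise

universe u

variable {G : Type u} [Group G]

theorem conj_smul_eq_cj (g : G) (H : Subgroup G) : MulAut.conj g • H = MinSimple.Geo.cj g H := by
  ext x
  rw [NoFF.Basic.mem_conj, MinSimple.Geo.mem_cj]

variable [Finite G] {S : Sylow 2 G} {P : Subgroup G}

theorem centralizer_singleton_eq_CZ (h : Hyp S P) (hc : Nat.card (zl (S : Subgroup G) P) = 4) {z : G}
    (hz : z ∈ zc (S : Subgroup G)) (hz1 : z ≠ 1) : centralizer ({z} : Set G) = CZ (S : Subgroup G) := by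
  ext g
  rw [mem_centralizer_singleton_iff, mem_CZ_four h.ctx h.star h.nonLoc hc hz hz1]

/-- `|V_P| = 4`: the flag `(z, V_P)`. -/
theorem ln_four (h : Hyp S P) (hc : Nat.card (zl (S : Subgroup G) P) = 4) {z : G}
    (hz : z ∈ zc (S : Subgroup G)) (hz1 : z ≠ 1) : CaseL.Ln (S : Subgroup G) (zl (S : Subgroup G) P) z := by
  have hVz := h.star.isLoc.zl_le S h.ctx.char2
  have hSC : (S : Subgroup G) ≤ centralizer ({z} : Set G) := by
    rw [centralizer_singleton_eq_CZ h hc hz hz1]; exact le_centralizer_zc _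
  have hSN : (S : Subgroup G) ≤ normalizer (zl (S : Subgroup G) P : Set G) :=
    h.star.isLoc.le.trans (le_normalizer_zl _ _)
  exact
    { charTwo := h.ctx.char2
      two := S.isPGroup'
      T_le := hSC
      T_syl := MinSimple.Basic.not_dvd_relIndex S hSC
      V_le := (hVz.trans (zc_le _)).trans (h.star.isLoc.o2_le S)
      T_norm := hSN
      T_syl' := MinSimple.Basic.not_dvd_relIndex S hSN
      card_V := hc
      sq := fun v hv => by
        have := zl_sq_four h.ctx h.star v hv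
        rwa [pow_two] at this
      z_mem := zc_le_zl _ _ hz
      z_ne := hz1
      trans := by
        intro v hv hv1
        obtain ⟨p, hp, hpz⟩ := exists_conj_four h.ctx h.star h.nonLoc hc hz hz1 hv hv1
        exact ⟨p, le_normalizer_zl _ _ hp, hpz⟩
      soc := by
        intro t ht ht2 htc
        by_cases ht1 : t = 1
        · exact Or.inl ht1
        · right
          refine eq_of_zc_four h.ctx h.star h.nonLoc hc hz hz1 (mem_zc.mpr ⟨ht, ?_, ?_⟩) ht1
          · exact fun s hs => htc s hs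
          · rw [pow_two]; exact ht2 }

/-- `|V_P| = 4`: `W_z` -/
theorem ws_four (h : Hyp S P) (hc : Nat.card (zl (S : Subgroup G) P) = 4) {z : G}
    (hz : z ∈ zc (S : Subgroup G)) (hz1 : z ≠ 1) :
    MinSimple.Geo.ws (zl (S : Subgroup G) P) z = WW (S : Subgroup G) P := by
  have hl := ln_four h hc hz hz1
  have hC := centralizer_singleton_eq_CZ h hc hz hz1
  apply le_antisymm
  · refine MinSimple.Geo.ws_le fun L hL => ?_
    obtain ⟨c, hc', rfl⟩ := hl.exists_of_mem_lines hL
    rw [hC] at hc'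
    rw [← conj_smul_eq_cj]
    exact conj_zl_le_WW hc'
  · refine W_le fun Q hQ c hc' => ?_
    rw [Set.mem_singleton_iff.1 hQ]
    rw [← hC] at hc'
    have := MinSimple.Geo.le_ws (hl.cj_mem_lines hc')
    rw [← conj_smul_eq_cj] at this
    exact this

/-- `|V_P| = 4`, critical distance 1, (F1). -/
theorem one_of_crit (h : Hyp S P) (hc : Nat.card (zl (S : Subgroup G) P) = 4) {z : G}
    (hz : z ∈ zc (S : Subgroup G)) (hz1 : z ≠ 1) {y : G} (hy : CritP (S : Subgroup G) P 1 1 y)
    (f1 : ∃ k ∈ MinSimple.Geo.kq (zl (S : Subgroup G) P) z,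
      k ∉ centralizer (zl (S : Subgroup G) P : Set G)) :
    One (S : Subgroup G) (zl (S : Subgroup G) P) z := by
  have hl := ln_four h hc hz hz1
  have hC := centralizer_singleton_eq_CZ h hc hz hz1
  have hw := ws_four h hc hz hz1
  have hab : ∀ a ∈ MinSimple.Geo.ws (zl (S : Subgroup G) P) z,
      ∀ b ∈ MinSimple.Geo.ws (zl (S : Subgroup G) P) z, a * b = b * a := by
    intro a ha b hb
    rw [hw] at ha hb
    exact mem_centralizer_iff.1 (h.W_comm hb) a ha
  refine ⟨hl, hab, ?_, f1⟩
  obtain ⟨u, p, c, Q, hQ, hp, hc', hu, hyu, -, -⟩ := hy.last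
  rw [Set.mem_singleton_iff] at hQ
  subst hQ
  have huC : u ∈ CZ (S : Subgroup G) := by
    cases hu with
    | zero g hg => simpa using hg
  have hne := hy.ne
  -- `z^p` is another point
  have hzV := hl.z_mem
  have hyV : p * z * p⁻¹ ∈ zl (S : Subgroup G) Q :=
    (mem_normalizer_iff.1 (le_normalizer_zl _ _ hp) z).1 hzV
  have key : p ∉ CZ (S : Subgroup G) := by
    intro hpC
    apply hne
    have h1 : y ∈ CZ (S : Subgroup G) := by rw [hyu]; exact mul_mem (mul_mem huC hpC) hc'
    unfold Com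
    rw [W_conj h1, map_one, one_smul]
    exact h.W_comm
  refine ⟨p * z * p⁻¹, hyV, fun e => hz1 (conj_eq_one_iff.1 e), fun e => key ?_, ?_⟩
  · rw [← hC, mem_centralizer_singleton_iff]
    exact CaseL.comm_of_conj_eq e
  · by_contra hcon
    push Not at hcon
    apply hne
    have h2 : y = u * (p * c) := by rw [hyu, mul_assoc]
    have h3 : (1 : G) = u * u⁻¹ := by group
    unfold Com
    rw [h2, ← NoFF.Basic.conj_conj, map_one, one_smul]
    have h4 : WW (S : Subgroup G) Q = MulAut.conj u • WW (S : Subgroup G) Q := (W_conj huC).symm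
    rw [show WW (S : Subgroup G) Q = W (zc (S : Subgroup G)) (CZ (S : Subgroup G)) {Q} from rfl] at h4
    rw [h4]
    conv_rhs => rw [← h4]
    refine NoFF.Basic.conj_le_centralizer ?_
    rw [W_mul hc']
    intro a ha
    rw [mem_centralizer_iff]
    intro b hb
    have ha' : a ∈ MinSimple.Geo.ws (zl (S : Subgroup G) Q) z := by rw [hw]; exact ha
    have hb' : b ∈ MinSimple.Geo.ws (zl (S : Subgroup G) Q) (p * z * p⁻¹) := by
      have hb1 : b ∈ MulAut.conj p • W (zc (S : Subgroup G)) (CZ (S : Subgroup G)) {Q} := hb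
      rw [NoFF.Basic.mem_conj] at hb1
      have hb2 : p⁻¹ * b * p ∈ MinSimple.Geo.ws (zl (S : Subgroup G) Q) z := by rw [hw]; exact hb1
      have := CaseL.conj_mem_ws p hb2
      have e : p * (p⁻¹ * b * p) * p⁻¹ = b := by group
      rwa [e] at this
    exact (hcon a ha' b hb').symm

end Cfsg.Agent.Omega.NO3S.TwoOne
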