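import Cfsg.Agent.Mrg.Omega.Exit.WeakClosed
import Cfsg.Agent.Mrg.Omega.NO3S.TwoOne.Bridge
import Cfsg.Agent.Mrg.Omega.CaseL.Base
import Cfsg.Agent.Mrg.Omega.NO3S.Fit.Char
import Cfsg.Agent.Mrg.Omega.NO3S.Far.Flag


/-!
# NO-3S, `TwoOneFin` (`|V_P| = 4`, critical distance 1) from its parts (assembler: helper391)

`x = z`: a point, `W_z = WW S P`, `K_z = kq V z`, `M = W_z/⟨z⟩`, `H = C_G(z)/K_z`, `A` = image of `W_y` in `H`, `y ∈ V#`.

* `FOneP K` : (F1); owners helper299, 451, 740;
* `FitP K` : `A` does not centralise every nilpotent normal subgroup of `H` ⟹ `FinHyp` (Tits) or known;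
  owners helper311 (#13963), 568, 539, 204, 885, 55;
* `CompP K` : `A` centralises every nilpotent normal subgroup of `H` ⟹ known; owners helper311, 881, 986, 225;
* `twoOneFin : FOneP K → FitP K → CompP K → TwoOneFin K`.
-/

set_option autoImplicit false

namespace Cfsg.Agent.Omega.NO3S.TwoOne

open Subgroup Cfsg Cfsg.Agent.Omega.MinPar Cfsg.Agent.Omega.Frame Cfsg.Agent.Omega.FrameNOFF
open Cfsg.Agent.ZN (zl zc o2)
open Cfsg.Agent.Omega.NoFF.Lines
open Cfsg.Agent.Classification.TitsFin (FinHyp)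
open Cfsg.Agent.Omega.NO3S.Fit

universe u

variable {G : Type u} [Group G]

/-- the full family of centralizers -/
abbrev cg (p : G) : Subgroup G := centralizer ({p} : Set G)

theorem wf_cent_eq {T V : Subgroup G} {z : G} (h : CaseL.Ln T V z) :
    wf V (centralizer ({z} : Set G)) = MinSimple.Geo.ws V z := by
  apply le_antisymm
  · exact wf_le fun c hc => MinSimple.Geo.le_ws (h.cj_mem_lines hc)
  · refine MinSimple.Geo.ws_le fun L hL => ?_
    obtain ⟨c, hc, rfl⟩ := h.exists_of_mem_lines hL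
    exact cj_le_wf hc

/-- the full family of a flag with (F1) -/
theorem One.fam [Finite G] {T V : Subgroup G} {z : G} (h : One T V z) : Fam T V z cg := by
  have hz := h.ln.z_mem
  have hz1 := h.ln.z_ne
  have hw : ∀ p ∈ V, p ≠ 1 → wf V (centralizer ({p} : Set G)) = MinSimple.Geo.ws V p := by
    intro p hp hp1
    obtain ⟨g, -, -, hg⟩ := h.point hp hp1
    exact wf_cent_eq hg.ln
  refine Fam.full h.ln ?_ ?_ ?_
  · rw [hw z hz hz1]; exact h.ab
  · obtain ⟨y, hy, hy1, hyz, a, ha, b, hb, hab⟩ := h.nc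
    refine ⟨y, hy, hy1, hyz, a, ?_, b, ?_, hab⟩
    · rw [hw z hz hz1]; exact ha
    · rw [hw y hy hy1]; exact hb
  · obtain ⟨t, ht, htk, htm⟩ := (Far.Ab.mk h.ln h.ab h.f1).exists_T_kq
    obtain ⟨y, hy, hy1, hyz⟩ := h.ln.exists_y
    refine ⟨t, ht, ⟨htk.1, mem_centralizer_singleton_iff.mp htk.1, fun w hw' => htk.2.1 w ?_⟩, ?_⟩
    · rw [← hw z hz hz1]; exact hw'
    · intro hc
      have h1 := htm y hy hy1 hyz
      have h2 := mem_centralizer_iff.mp hc y hy
      rw [← h2] at h1
      have h3 : z = 1 := by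
        have : z * y = y := by rw [← h1]; group
        simpa using this
      exact hz1 h3

/-! ### The parts -/

variable (K : Cls.{u})

/-- **(F1)**: `K_z` moves the points of `V_P`. Paper: helper299 #12132, #15003; Lean: helper451 (`Omega/FOne/Crit.lean`,
`f1_of_not_cr`), 740, 49. -/
def FOneP : Prop :=
  ∀ (G : Type u) [Group G] [Finite G], K G → ∀ (S : Sylow 2 G) (P : Subgroup G), Hyp S P →
    Nat.card (zl (S : Subgroup G) P) = 4 → ∀ z ∈ zc (S : Subgroup G), z ≠ 1 →
      (∃ k ∈ MinSimple.Geo.kq (zl (S : Subgroup G) P) z, k ∉ centralizer (zl (S : Subgroup G) P : Set G)) ∨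
        IsKnownSimple' G

/-- `A` (the image of `W_y`, `y ∈ V#`, in `H = C_G(z)/K_z`) centralises every nilpotent normal subgroup of `H`, i.e.
the Fitting subgroup. -/
def CenFit {G M H : Type u} [Group G] [AddCommGroup M] [Group H] [DistribMulAction H M] {V : Subgroup G} {z : G}
    (R : MRep V cg z M H) : Prop :=
  ∀ N : Subgroup H, N.Normal → Group.IsNilpotent N → ∀ y ∈ V, y ≠ 1 → y ≠ z →
    R.img (ww V cg y) ≤ centralizer (N : Set H)

/-- **`A` does not centralise `F(H)`**: the final configuration of the Tits group. Paper: helper311 #13963 (+ 151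
#14477); Lean: helper568, 539, 204, 885 (`NO3S/Fit/*`), 55. -/
def FitP : Prop :=
  ∀ (G : Type u) [Group G] [Finite G], K G → ∀ (S : Sylow 2 G) (P : Subgroup G), Hyp S P → ∀ z : G,
    One (S : Subgroup G) (zl (S : Subgroup G) P) z →
    ∀ (M H : Type u) [AddCommGroup M] [Finite M] [Group H] [Finite H] [DistribMulAction H M] [FaithfulSMul H M]
      (R : MRep (zl (S : Subgroup G) P) cg z M H), ¬ CenFit R → (∃ z p : G, FinHyp z p) ∨ IsKnownSimple' G

/-- **`A` centralises `F(H)`**: `A` is faithful on the components of `H`. Paper: helper881 #13700, helper225 #15275,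
helper311 (transvections), helper986. -/
def CompP : Prop :=
  ∀ (G : Type u) [Group G] [Finite G], K G → ∀ (S : Sylow 2 G) (P : Subgroup G), Hyp S P → ∀ z : G,
    One (S : Subgroup G) (zl (S : Subgroup G) P) z →
    ∀ (M H : Type u) [AddCommGroup M] [Finite M] [Group H] [Finite H] [DistribMulAction H M] [FaithfulSMul H M]
      (R : MRep (zl (S : Subgroup G) P) cg z M H), CenFit R → IsKnownSimple' G

variable {K}

/-- **`TwoOneFin` from its three parts.** -/
theorem twoOneFin (h0 : FOneP K) (h1 : FitP K) (h2 : CompP K) : TwoOneFin K := by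
  intro G _ _ hK S P h hc y hy
  obtain ⟨z, hz1⟩ := Subgroup.ne_bot_iff_exists_ne_one.1
    (MinSimple.Basic.zc_ne_bot S.isPGroup' (h.ctx.sylow_ne_bot S))
  have hz1' : (z : G) ≠ 1 := fun e => hz1 (Subtype.ext e)
  rcases h0 G hK S P h hc z z.2 hz1' with hf | hk
  · have ho := one_of_crit h hc z.2 hz1' hy hf
    obtain ⟨M, H, i1, i2, i3, i4, i5, i6, ⟨R⟩⟩ := ho.fam.exists_mrep
    by_cases hcf : CenFit R
    · exact Or.inr (h2 G hK S P h z ho M H R hcf)
    · exact h1 G hK S P h z ho M H R hcf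
  · exact Or.inr hk

end Cfsg.Agent.Omega.NO3S.TwoOne
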