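import Cfsg.Agent.Mrg.Omega.CaseL.Base
import Cfsg.Agent.MinSimple.BTwoD
import Cfsg.Agent.Mrg.Omega.NO3S.TwoOne.Irr
import Mathlib

section


/-!
# NO-3S, `q = 2`, `n = 1` (helper881's text #13700): part (III)

`h : One T V z`; points: all `p ∈ V`, `p ≠ 1`.

* `ee V p` = `E_p = W_p ∩ K_q` (`One.mem_ee` : one `q ≠ p` is enough), `dd V p` = `D_p = C_{W_p}(W_q)` (`One.mem_dd`),
  `w1 V p` = `C_{W_p}(E_q)` (`One.mem_w1`); `V ≤ I ≤ D_p ≤ E_p ≤ w1 V p ≤ W_p`;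
* `One.comm_ii_mem`, `One.comm_mul_left/right`, `One.comm_swap` : `[·, ·] : W_p × W_q → I` is bilinear;
* `One.kq_ee` : `[K_p ∩ C_G(V), W_q] ≤ E_q` for all points `p`, `q`;
* `xl V` = `X_l = ⟨K_p | p ∈ V#⟩`; `One.xl_fix` : `g ∈ X_l`, `p^g = p` implies `[g, W_p] ≤ E_p`; `One.xl_md` : two
  elements of `X_l` which map `p` to the same point `q` induce the same map `W_p / E_p → W_q / E_q`: this identifies
  the modules `W_p / E_p` with one module `N`; `One.xl_cent` : it is `C_G(V)`-equivariant;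
  `Tw V p a q b` : `a ∈ W_p` and `b ∈ W_q` are the same element of `N`;
* `One.beta_left/right`, `One.beta_xl`, `One.beta_tw`, `One.beta_symm` : `[·, ·]` induces one symmetric bilinear map
  `β : N × N → R / V`, the same for all pairs of points, `X_l` is trivial on `I / V` (`One.xl_ii`);
* `One.ee_cases` : `[e, w] ∈ ⟨q⟩` for `e ∈ E_p`, `w ∈ W_q`; `One.ee_comm` : `[E_p, E_q] = 1`;
* `One.w1_comm` (III.a) : `[w1 V p, w1 V q] ≤ V`.
-/

set_option autoImplicit false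
set_option linter.unusedSectionVars false

namespace Cfsg.Agent.Omega.NO3S.TwoOne

open Subgroup Cfsg Cfsg.Agent.ZN Cfsg.Agent.MinSimple.Geo Cfsg.Agent.Omega.CaseL
open Cfsg.Agent.ZN.Block (conj_mem_of_normalizer conj_mem_of_normalizer' le_normalizer_of_forall
  mem_normalizer_of)
open scoped commutatorElement

universe u

variable {G : Type u} [Group G]

/-! ### the subgroups -/

/-- `E_p = W_p ∩ K_q` -/
def ee (V : Subgroup G) (p : G) : Subgroup G where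
  carrier := {w | w ∈ ws V p ∧ ∀ q ∈ V, q ≠ 1 → w ∈ kq V q}
  mul_mem' := fun ha hb => ⟨mul_mem ha.1 hb.1, fun q hq hq1 => mul_mem (ha.2 q hq hq1) (hb.2 q hq hq1)⟩
  one_mem' := ⟨one_mem _, fun _ _ _ => one_mem _⟩
  inv_mem' := fun ha => ⟨inv_mem ha.1, fun q hq hq1 => inv_mem (ha.2 q hq hq1)⟩

/-- `D_p = C_{W_p}(W_q)` -/
def dd (V : Subgroup G) (p : G) : Subgroup G where
  carrier := {w | w ∈ ws V p ∧ ∀ q ∈ V, q ≠ 1 → ∀ b ∈ ws V q, w * b = b * w}
  mul_mem' := fun ha hb => ⟨mul_mem ha.1 hb.1, fun q hq hq1 b hb' =>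
    mul_comm_of (ha.2 q hq hq1 b hb') (hb.2 q hq hq1 b hb')⟩
  one_mem' := ⟨one_mem _, fun _ _ _ b _ => by simp⟩
  inv_mem' := fun ha => ⟨inv_mem ha.1, fun q hq hq1 b hb => inv_comm_of (ha.2 q hq hq1 b hb)⟩

/-- `C_{W_p}(E_q)` -/
def w1 (V : Subgroup G) (p : G) : Subgroup G where
  carrier := {w | w ∈ ws V p ∧ ∀ q ∈ V, q ≠ 1 → ∀ b ∈ ee V q, w * b = b * w}
  mul_mem' := fun ha hb => ⟨mul_mem ha.1 hb.1, fun q hq hq1 b hb' =>
    mul_comm_of (ha.2 q hq hq1 b hb') (hb.2 q hq hq1 b hb')⟩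
  one_mem' := ⟨one_mem _, fun _ _ _ b _ => by simp⟩
  inv_mem' := fun ha => ⟨inv_mem ha.1, fun q hq hq1 b hb => inv_comm_of (ha.2 q hq hq1 b hb)⟩

/-- `X_l = ⟨K_p | p ∈ V#⟩` -/
def xl (V : Subgroup G) : Subgroup G := closure {k | ∃ p ∈ V, p ≠ 1 ∧ k ∈ kq V p}

theorem ee_le_ws (V : Subgroup G) (p : G) : ee V p ≤ ws V p := fun _ h => h.1

theorem dd_le_ws (V : Subgroup G) (p : G) : dd V p ≤ ws V p := fun _ h => h.1

theorem w1_le_ws (V : Subgroup G) (p : G) : w1 V p ≤ ws V p := fun _ h => h.1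

theorem ee_le_kq {V : Subgroup G} {q : G} (p : G) (hq : q ∈ V) (hq1 : q ≠ 1) : ee V p ≤ kq V q :=
  fun _ h => h.2 q hq hq1

theorem kq_le_xl {V : Subgroup G} {p : G} (hp : p ∈ V) (hp1 : p ≠ 1) : kq V p ≤ xl V :=
  fun _ hk => subset_closure ⟨p, hp, hp1, hk⟩

theorem xl_le {V U : Subgroup G} (h : ∀ p ∈ V, p ≠ 1 → kq V p ≤ U) : xl V ≤ U := by
  unfold xl
  rw [closure_le]
  rintro k ⟨p, hp, hp1, hk⟩
  exact h p hp hp1 hk

theorem conj_ne_one {g q : G} (h : q ≠ 1) : g⁻¹ * q * g ≠ 1 := fun e => h (by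
  have : q = g * (g⁻¹ * q * g) * g⁻¹ := by group
  rw [this, e]; group)

theorem conj_mem_ee {V : Subgroup G} {g w p : G} (hg : g ∈ normalizer (V : Set G)) (hw : w ∈ ee V p) :
    g * w * g⁻¹ ∈ ee V (g * p * g⁻¹) := by
  refine ⟨conj_mem_ws g hw.1, fun q hq hq1 => ?_⟩
  have h1 := conj_mem_kq g (hw.2 _ ((mem_normalizer_iff''.mp hg q).mp hq) (conj_ne_one hq1))
  have e : g * (g⁻¹ * q * g) * g⁻¹ = q := by group
  rwa [e] at h1

theorem conj_mem_dd {V : Subgroup G} {g w p : G} (hg : g ∈ normalizer (V : Set G)) (hw : w ∈ dd V p) :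
    g * w * g⁻¹ ∈ dd V (g * p * g⁻¹) := by
  refine ⟨conj_mem_ws g hw.1, fun q hq hq1 b hb => ?_⟩
  have h1 : g⁻¹ * b * g ∈ ws V (g⁻¹ * q * g) := by
    have := conj_mem_ws g⁻¹ hb
    rwa [inv_inv] at this
  have h2 := hw.2 _ ((mem_normalizer_iff''.mp hg q).mp hq) (conj_ne_one hq1) _ h1
  calc g * w * g⁻¹ * b = g * (w * (g⁻¹ * b * g)) * g⁻¹ := by group
    _ = g * ((g⁻¹ * b * g) * w) * g⁻¹ := by rw [h2]
    _ = b * (g * w * g⁻¹) := by group

theorem conj_mem_w1 {V : Subgroup G} {g w p : G} (hg : g ∈ normalizer (V : Set G)) (hw : w ∈ w1 V p) :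
    g * w * g⁻¹ ∈ w1 V (g * p * g⁻¹) := by
  refine ⟨conj_mem_ws g hw.1, fun q hq hq1 b hb => ?_⟩
  have h1 : g⁻¹ * b * g ∈ ee V (g⁻¹ * q * g) := by
    have := conj_mem_ee (inv_mem hg) hb
    rwa [inv_inv] at this
  have h2 := hw.2 _ ((mem_normalizer_iff''.mp hg q).mp hq) (conj_ne_one hq1) _ h1
  calc g * w * g⁻¹ * b = g * (w * (g⁻¹ * b * g)) * g⁻¹ := by group
    _ = g * ((g⁻¹ * b * g) * w) * g⁻¹ := by rw [h2]
    _ = b * (g * w * g⁻¹) := by group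

theorem conj_mem_xl {V : Subgroup G} {g k : G} (hg : g ∈ normalizer (V : Set G)) (hk : k ∈ xl V) :
    g * k * g⁻¹ ∈ xl V := by
  have h1 : xl V ≤ cj g⁻¹ (xl V) := by
    refine xl_le fun p hp hp1 k hk => ?_
    rw [mem_cj, inv_inv]
    exact kq_le_xl ((mem_normalizer_iff.mp hg p).mp hp) (by
      intro e
      exact hp1 (conj_eq_one_iff.mp e)) (conj_mem_kq g hk)
  have := h1 hk
  rwa [mem_cj, inv_inv] at this

theorem normalizer_le_normalizer_xl (V : Subgroup G) :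
    normalizer (V : Set G) ≤ normalizer ((xl V : Subgroup G) : Set G) :=
  le_normalizer_of_forall fun _ hg _ hk => conj_mem_xl hg hk

namespace One

variable {T V : Subgroup G} {z : G} {p q r : G}

theorem mem_kq (h : One T V z) (hq : q ∈ V) {g : G} (hg : g * q = q * g)
    (hw : ∀ w ∈ ws V q, g * w * g⁻¹ = w ∨ g * w * g⁻¹ = q * w) : g ∈ kq V q := by
  refine ⟨mem_centralizer_singleton_iff.mpr hg, fun w hw' => ?_, fun w hw' => ?_⟩
  · rcases hw w hw' with e | e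
    · rw [e, mul_inv_cancel]; exact one_mem _
    · rw [e, mul_inv_cancel_right]; exact mem_zpowers _
  · rcases hw w hw' with e | e
    · have : g⁻¹ * w * g = w := by
        calc g⁻¹ * w * g = g⁻¹ * (g * w * g⁻¹) * g := by rw [e]
          _ = w := by group
      rw [this, mul_inv_cancel]; exact one_mem _
    · have h1 : g⁻¹ * q = q * g⁻¹ := inv_comm_of hg
      have : g⁻¹ * w * g = q * w := by
        have h2 : w = q * (g⁻¹ * w * g) := by
          calc w = g⁻¹ * (g * w * g⁻¹) * g := by group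
            _ = (g⁻¹ * q) * w * g := by rw [e]; group
            _ = q * (g⁻¹ * w * g) := by rw [h1]; group
        calc g⁻¹ * w * g = (q * q) * (g⁻¹ * w * g) := by rw [h.ln.sq q hq, one_mul]
          _ = q * (q * (g⁻¹ * w * g)) := by group
          _ = q * w := by rw [← h2]
      rw [this, mul_inv_cancel_right]; exact mem_zpowers _

theorem ws_le_kq (h : One T V z) (hp : p ∈ V) (hp1 : p ≠ 1) : ws V p ≤ kq V p := by
  intro w hw
  refine h.mem_kq hp (h.comm hp hp1 w hw p (h.V_le hp hp1 hp)) fun w' hw' => Or.inl ?_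
  exact conj_eq_of_comm (h.comm hp hp1 w hw w' hw')

theorem V_le_kq (h : One T V z) (hp : p ∈ V) (hp1 : p ≠ 1) : V ≤ kq V p :=
  (h.V_le hp hp1).trans (h.ws_le_kq hp hp1)

theorem ii_le_dd (h : One T V z) (hp : p ∈ V) (hp1 : p ≠ 1) : ii V ≤ dd V p := fun u hu =>
  ⟨hu p hp hp1, fun q hq hq1 b hb => h.comm hq hq1 u (hu q hq hq1) b hb⟩

theorem dd_le_ee (h : One T V z) (p : G) : dd V p ≤ ee V p := fun _ hw =>
  ⟨hw.1, fun q hq hq1 => h.mem_kq hq (hw.2 q hq hq1 q (h.V_le hq hq1 hq)) fun w' hw' =>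
    Or.inl (conj_eq_of_comm (hw.2 q hq hq1 w' hw'))⟩

theorem dd_le_w1 (_ : One T V z) (p : G) : dd V p ≤ w1 V p := fun _ hw =>
  ⟨hw.1, fun q hq hq1 b hb => hw.2 q hq hq1 b hb.1⟩

theorem V_le_dd (h : One T V z) (hp : p ∈ V) (hp1 : p ≠ 1) : V ≤ dd V p :=
  h.V_le_ii.trans (h.ii_le_dd hp hp1)

theorem V_le_ee (h : One T V z) (hp : p ∈ V) (hp1 : p ≠ 1) : V ≤ ee V p :=
  (h.V_le_dd hp hp1).trans (h.dd_le_ee p)

theorem ii_le_ee (h : One T V z) (hp : p ∈ V) (hp1 : p ≠ 1) : ii V ≤ ee V p :=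
  (h.ii_le_dd hp hp1).trans (h.dd_le_ee p)

/-- the third point -/
theorem third (h : One T V z) (hp : p ∈ V) (hp1 : p ≠ 1) (hq : q ∈ V) (hq1 : q ≠ 1) (hqp : q ≠ p)
    (hr : r ∈ V) (hr1 : r ≠ 1) : r = p ∨ r = q ∨ r = p * q := by
  obtain ⟨g, -, -, hg⟩ := h.point hp hp1
  rcases hg.ln.four hp hq hp1 hq1 (Ne.symm hqp) hr with e | e
  · exact absurd e hr1
  · exact e

/-- a mover of `K_p` maps `q` to `p q` and fixes `W_p` modulo `p` -/
theorem exists_move (h : One T V z) (hp : p ∈ V) (hp1 : p ≠ 1) (hq : q ∈ V) (hq1 : q ≠ 1) (hqp : q ≠ p) :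
    ∃ t ∈ kq V p, t ∉ centralizer (V : Set G) ∧ t * q * t⁻¹ = p * q := by
  obtain ⟨t, ht, ht1⟩ := h.exists_mover hp hp1
  exact ⟨t, ht, ht1, h.move hp hp1 hq hq1 hqp ht ht1⟩

/-- `E_p = W_p ∩ K_q` for one `q ≠ p` -/
theorem mem_ee (h : One T V z) (hp : p ∈ V) (hp1 : p ≠ 1) (hq : q ∈ V) (hq1 : q ≠ 1) (hqp : q ≠ p)
    {w : G} (hw : w ∈ ws V p) (hk : w ∈ kq V q) : w ∈ ee V p := by
  refine ⟨hw, fun r hr hr1 => ?_⟩
  rcases h.third hp hp1 hq hq1 hqp hr hr1 with e | e | e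
  · rw [e]; exact h.ws_le_kq hp hp1 hw
  · rw [e]; exact hk
  · obtain ⟨t, ht, -, ht2⟩ := h.exists_move hp hp1 hq hq1 hqp
    have h1 := conj_mem_kq t hk
    rw [ht2, ← e] at h1
    rcases h.kq_cases hp ht hw with e2 | e2
    · rwa [e2] at h1
    · rw [e2] at h1
      have h2 := mul_mem (h.V_le_kq hr hr1 hp) h1
      rwa [← mul_assoc, h.ln.sq p hp, one_mul] at h2

/-- `D_p = C_{W_p}(W_q)` for one `q ≠ p` -/
theorem mem_dd (h : One T V z) (hp : p ∈ V) (hp1 : p ≠ 1) (hq : q ∈ V) (hq1 : q ≠ 1) (hqp : q ≠ p)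
    {w : G} (hw : w ∈ ws V p) (hc : ∀ b ∈ ws V q, w * b = b * w) : w ∈ dd V p := by
  refine ⟨hw, fun r hr hr1 b hb => ?_⟩
  rcases h.third hp hp1 hq hq1 hqp hr hr1 with e | e | e
  · rw [e] at hb; exact h.comm hp hp1 w hw b hb
  · rw [e] at hb; exact hc b hb
  · obtain ⟨t, ht, -, ht2⟩ := h.exists_move hp hp1 hq hq1 hqp
    have h1 : t⁻¹ * b * t ∈ ws V q := by
      have h2 := conj_mem_ws t⁻¹ hb
      rw [inv_inv] at h2
      have e3 : t⁻¹ * r * t = q := by rw [e, ← ht2]; group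
      rwa [e3] at h2
    have h3 : t * w * t⁻¹ * b = b * (t * w * t⁻¹) := by
      calc t * w * t⁻¹ * b = t * (w * (t⁻¹ * b * t)) * t⁻¹ := by group
        _ = t * ((t⁻¹ * b * t) * w) * t⁻¹ := by rw [hc _ h1]
        _ = b * (t * w * t⁻¹) := by group
    rcases h.kq_cases hp ht hw with e2 | e2
    · rwa [e2] at h3
    · rw [e2] at h3
      have hpb : p * b = b * p := h.V_comm hp (h.ws_le_centralizer_V hr hr1 hb)
      calc w * b = p⁻¹ * (p * w * b) := by group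
        _ = p⁻¹ * (b * (p * w)) := by rw [h3]
        _ = p⁻¹ * (b * p) * w := by group
        _ = p⁻¹ * (p * b) * w := by rw [hpb]
        _ = b * w := by group

/-- `[W_p, W_q] ≤ I` -/
theorem comm_ii_mem (h : One T V z) (hp : p ∈ V) (hp1 : p ≠ 1) (hq : q ∈ V) (hq1 : q ≠ 1) {a b : G}
    (ha : a ∈ ws V p) (hb : b ∈ ws V q) : ⁅a, b⁆ ∈ ii V := by
  have h1 : ⁅a, b⁆ ∈ ws V p := by
    have := conj_mem_of_normalizer (h.cent_norm hp) (h.ws_le_centralizer_V hq hq1 hb) (inv_mem ha)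
    have e : ⁅a, b⁆ = a * (b * a⁻¹ * b⁻¹) := by rw [commutatorElement_def]; group
    rw [e]; exact mul_mem ha this
  have h2 : ⁅a, b⁆ ∈ ws V q := by
    have := conj_mem_of_normalizer (h.cent_norm hq) (h.ws_le_centralizer_V hp hp1 ha) hb
    exact mul_mem this (inv_mem hb)
  by_cases hqp : q = p
  · subst hqp
    have : ⁅a, b⁆ = 1 := commutatorElement_eq_one_iff_mul_comm.mpr (h.comm hq hq1 a ha b hb)
    rw [this]; exact one_mem _
  · exact h.mem_ii hp hp1 hq hq1 hqp h1 h2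

theorem comm_mul_left (h : One T V z) (hp : p ∈ V) (hp1 : p ≠ 1) (hq : q ∈ V) (hq1 : q ≠ 1) {a a' b : G}
    (ha : a ∈ ws V p) (ha' : a' ∈ ws V p) (hb : b ∈ ws V q) : ⁅a * a', b⁆ = ⁅a, b⁆ * ⁅a', b⁆ := by
  have h1 := ii_le hp hp1 (h.comm_ii_mem hp hp1 hq hq1 ha' hb)
  have h2 := ii_le hp hp1 (h.comm_ii_mem hp hp1 hq hq1 ha hb)
  calc ⁅a * a', b⁆ = (a * ⁅a', b⁆) * a⁻¹ * ⁅a, b⁆ := by simp only [commutatorElement_def]; group
    _ = (⁅a', b⁆ * a) * a⁻¹ * ⁅a, b⁆ := by rw [h.comm hp hp1 a ha _ h1]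
    _ = ⁅a', b⁆ * ⁅a, b⁆ := by group
    _ = ⁅a, b⁆ * ⁅a', b⁆ := h.comm hp hp1 _ h1 _ h2

theorem comm_mul_right (h : One T V z) (hp : p ∈ V) (hp1 : p ≠ 1) (hq : q ∈ V) (hq1 : q ≠ 1) {a b b' : G}
    (ha : a ∈ ws V p) (hb : b ∈ ws V q) (hb' : b' ∈ ws V q) : ⁅a, b * b'⁆ = ⁅a, b⁆ * ⁅a, b'⁆ := by
  have h1 := ii_le hq hq1 (h.comm_ii_mem hp hp1 hq hq1 ha hb')
  calc ⁅a, b * b'⁆ = ⁅a, b⁆ * (b * ⁅a, b'⁆) * b⁻¹ := by simp only [commutatorElement_def]; group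
    _ = ⁅a, b⁆ * (⁅a, b'⁆ * b) * b⁻¹ := by rw [h.comm hq hq1 b hb _ h1]
    _ = ⁅a, b⁆ * ⁅a, b'⁆ := by group

theorem comm_sq (h : One T V z) (hp : p ∈ V) (hp1 : p ≠ 1) (hq : q ∈ V) (hq1 : q ≠ 1) {a b : G}
    (ha : a ∈ ws V p) (hb : b ∈ ws V q) : ⁅a, b⁆ * ⁅a, b⁆ = 1 :=
  h.sq hp hp1 _ (ii_le hp hp1 (h.comm_ii_mem hp hp1 hq hq1 ha hb))

theorem comm_swap (h : One T V z) (hp : p ∈ V) (hp1 : p ≠ 1) (hq : q ∈ V) (hq1 : q ≠ 1) {a b : G}
    (ha : a ∈ ws V p) (hb : b ∈ ws V q) : ⁅b, a⁆ = ⁅a, b⁆ := by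
  rw [← commutatorElement_inv, inv_eq_self (h.comm_sq hp hp1 hq hq1 ha hb)]

/-- `[e, w] ∈ ⟨q⟩` for `e ∈ E_p`, `w ∈ W_q` -/
theorem ee_cases (h : One T V z) (hq : q ∈ V) (hq1 : q ≠ 1) {e w : G} (he : e ∈ ee V p) (hw : w ∈ ws V q) :
    ⁅e, w⁆ = 1 ∨ ⁅e, w⁆ = q := by
  rcases h.kq_cases hq (he.2 q hq hq1) hw with e1 | e1
  · left; rw [commutatorElement_def, e1, mul_inv_cancel]
  · right; rw [commutatorElement_def, e1, mul_inv_cancel_right]

/-- `[E_p, E_q] = 1` -/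
theorem ee_comm (h : One T V z) (hp : p ∈ V) (hp1 : p ≠ 1) (hq : q ∈ V) (hq1 : q ≠ 1) {e f : G}
    (he : e ∈ ee V p) (hf : f ∈ ee V q) : e * f = f * e := by
  by_cases hqp : q = p
  · subst hqp; exact h.comm hq hq1 e he.1 f hf.1
  rw [← commutatorElement_eq_one_iff_mul_comm]
  rcases h.ee_cases hq hq1 he hf.1 with e1 | e1
  · exact e1
  · rcases h.ee_cases hp hp1 hf he.1 with e2 | e2
    · rw [← commutatorElement_inv, e2, inv_one]
    · rw [h.comm_swap hp hp1 hq hq1 he.1 hf.1, e1] at e2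
      exact absurd e2 hqp

theorem ee_le_w1 (h : One T V z) (hp : p ∈ V) (hp1 : p ≠ 1) : ee V p ≤ w1 V p := fun _ hw =>
  ⟨hw.1, fun _ hq hq1 _ hb => h.ee_comm hp hp1 hq hq1 hw hb⟩

/-- `w1 V p = C_{W_p}(E_q)` for one `q ≠ p` -/
theorem mem_w1 (h : One T V z) (hp : p ∈ V) (hp1 : p ≠ 1) (hq : q ∈ V) (hq1 : q ≠ 1) (hqp : q ≠ p)
    {w : G} (hw : w ∈ ws V p) (hc : ∀ b ∈ ee V q, w * b = b * w) : w ∈ w1 V p := by
  refine ⟨hw, fun r hr hr1 b hb => ?_⟩
  rcases h.third hp hp1 hq hq1 hqp hr hr1 with e | e | e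
  · rw [e] at hb; exact h.comm hp hp1 w hw b hb.1
  · rw [e] at hb; exact hc b hb
  · obtain ⟨t, ht, -, ht2⟩ := h.exists_move hp hp1 hq hq1 hqp
    have h1 : t⁻¹ * b * t ∈ ee V q := by
      have h2 := conj_mem_ee (inv_mem (h.kq_le_normalizer hp hp1 ht)) hb
      rw [inv_inv] at h2
      have e3 : t⁻¹ * r * t = q := by rw [e, ← ht2]; group
      rwa [e3] at h2
    have h3 : t * w * t⁻¹ * b = b * (t * w * t⁻¹) := by
      calc t * w * t⁻¹ * b = t * (w * (t⁻¹ * b * t)) * t⁻¹ := by group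
        _ = t * ((t⁻¹ * b * t) * w) * t⁻¹ := by rw [hc _ h1]
        _ = b * (t * w * t⁻¹) := by group
    rcases h.kq_cases hp ht hw with e2 | e2
    · rwa [e2] at h3
    · rw [e2] at h3
      have hpb : p * b = b * p := h.V_comm hp (h.ws_le_centralizer_V hr hr1 hb.1)
      calc w * b = p⁻¹ * (p * w * b) := by group
        _ = p⁻¹ * (b * (p * w)) := by rw [h3]
        _ = p⁻¹ * (b * p) * w := by group
        _ = p⁻¹ * (p * b) * w := by rw [hpb]
        _ = b * w := by group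

/-! ### congruence modulo `E_p` -/

theorem md_symm {a b : G} (h1 : a * b⁻¹ ∈ ee V p) : b * a⁻¹ ∈ ee V p := by
  have := inv_mem h1
  rwa [mul_inv_rev, inv_inv] at this

theorem md_trans {a b c : G} (h1 : a * b⁻¹ ∈ ee V p) (h2 : b * c⁻¹ ∈ ee V p) : a * c⁻¹ ∈ ee V p := by
  have := mul_mem h1 h2
  rwa [mul_assoc, inv_mul_cancel_left] at this

theorem md_conj {a b g : G} (hg : g ∈ normalizer (V : Set G)) (h1 : a * b⁻¹ ∈ ee V p) :
    (g * a * g⁻¹) * (g * b * g⁻¹)⁻¹ ∈ ee V (g * p * g⁻¹) := by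
  have := conj_mem_ee hg h1
  have e : g * (a * b⁻¹) * g⁻¹ = (g * a * g⁻¹) * (g * b * g⁻¹)⁻¹ := by group
  rwa [e] at this

theorem md_mul (h : One T V z) (hp : p ∈ V) (hp1 : p ≠ 1) {a b a' b' : G} (ha : a ∈ ws V p)
    (h1 : a * b⁻¹ ∈ ee V p) (h2 : a' * b'⁻¹ ∈ ee V p) : (a * a') * (b * b')⁻¹ ∈ ee V p := by
  have h3 := h.comm hp hp1 a ha _ (ee_le_ws V p h2)
  have e : (a * a') * (b * b')⁻¹ = (a' * b'⁻¹) * (a * b⁻¹) := by
    calc (a * a') * (b * b')⁻¹ = (a * (a' * b'⁻¹)) * b⁻¹ := by group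
      _ = ((a' * b'⁻¹) * a) * b⁻¹ := by rw [h3]
      _ = (a' * b'⁻¹) * (a * b⁻¹) := by group
  rw [e]
  exact mul_mem h2 h1

/-! ### (III) -/

/-- `[K_p ∩ C_G(V), W_q] ≤ E_q` -/
theorem kq_ee (h : One T V z) (hp : p ∈ V) (hp1 : p ≠ 1) (hq : q ∈ V) (hq1 : q ≠ 1) {k w : G}
    (hk : k ∈ kq V p) (hkV : k ∈ centralizer (V : Set G)) (hw : w ∈ ws V q) :
    k * w * k⁻¹ * w⁻¹ ∈ ee V q := by
  by_cases hqp : q = p
  · subst hqp
    rcases h.kq_cases hq hk hw with e | e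
    · rw [e, mul_inv_cancel]; exact one_mem _
    · rw [e, mul_inv_cancel_right]; exact h.V_le_ee hq hq1 hq
  · refine h.mem_ee hq hq1 hp hp1 (Ne.symm hqp) ?_ ?_
    · exact mul_mem (conj_mem_of_normalizer (h.cent_norm hq) hkV hw) (inv_mem hw)
    · have h1 : w ∈ centralizer ({p} : Set G) :=
        h.cent_le_centralizer hp (h.ws_le_centralizer_V hq hq1 hw)
      have h2 := conj_mem_of_normalizer (centralizer_le_normalizer_kq V p) h1 (inv_mem hk)
      have e : k * w * k⁻¹ * w⁻¹ = k * (w * k⁻¹ * w⁻¹) := by group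
      rw [e]
      exact mul_mem hk h2

theorem xl_le_normalizer (h : One T V z) : xl V ≤ normalizer (V : Set G) :=
  xl_le fun _ hp hp1 => h.kq_le_normalizer hp hp1

/-- `X_l` is trivial on `I / V` -/
theorem xl_ii (h : One T V z) {g u : G} (hg : g ∈ xl V) (hu : u ∈ ii V) : g * u * g⁻¹ * u⁻¹ ∈ V := by
  have hn := normalizer_le_normalizer_ii V
  refine closure_induction (p := fun g _ => ∀ u ∈ ii V, g * u * g⁻¹ * u⁻¹ ∈ V) ?_ ?_ ?_ ?_ hg u hu
  · rintro k ⟨p, hp, hp1, hk⟩ u hu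
    rcases h.kq_cases hp hk (hu p hp hp1) with e | e
    · rw [e, mul_inv_cancel]; exact one_mem _
    · rw [e, mul_inv_cancel_right]; exact hp
  · intro u _
    simp
  · intro a b ha hb iha ihb u hu
    have hb' := hn (h.xl_le_normalizer hb)
    have e : a * b * u * (a * b)⁻¹ * u⁻¹ =
        (a * (b * u * b⁻¹) * a⁻¹ * (b * u * b⁻¹)⁻¹) * (b * u * b⁻¹ * u⁻¹) := by group
    rw [e]
    exact mul_mem (iha _ ((mem_normalizer_iff.mp hb' u).mp hu)) (ihb u hu)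
  · intro a ha iha u hu
    have ha' := hn (h.xl_le_normalizer ha)
    have h1 := iha _ ((mem_normalizer_iff''.mp ha' u).mp hu)
    have e : a⁻¹ * u * a⁻¹⁻¹ * u⁻¹ = (a * (a⁻¹ * u * a) * a⁻¹ * (a⁻¹ * u * a)⁻¹)⁻¹ := by group
    rw [e]
    exact inv_mem h1

/-- the elements of `⋃ K_r` which map `p` to `q` -/
def tt (V : Subgroup G) (p q : G) : Set G := {t | (∃ r ∈ V, r ≠ 1 ∧ t ∈ kq V r) ∧ t * p * t⁻¹ = q}

theorem exists_tt (h : One T V z) (hp : p ∈ V) (hp1 : p ≠ 1) (hq : q ∈ V) (hq1 : q ≠ 1) :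
    ∃ t, t ∈ tt V p q := by
  by_cases hqp : q = p
  · exact ⟨1, ⟨p, hp, hp1, one_mem _⟩, by rw [hqp]; simp⟩
  · have hr : p * q ∈ V := mul_mem hp hq
    have hr1 : p * q ≠ 1 := h.mul_ne_one hq (Ne.symm hqp)
    have hpr : p ≠ p * q := fun e => hq1 (by simpa using e.symm)
    obtain ⟨t, ht, -, ht2⟩ := h.exists_move hr hr1 hp hp1 hpr
    refine ⟨t, ⟨_, hr, hr1, ht⟩, ?_⟩
    rw [ht2, h.ln.comm hp hq, mul_assoc, h.ln.sq p hp, mul_one]

/-- elements of `tt V p p` are trivial on `W_p / E_p` -/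
theorem tt_self (h : One T V z) (hp : p ∈ V) (hp1 : p ≠ 1) {t w : G} (ht : t ∈ tt V p p) (hw : w ∈ ws V p) :
    t * w * t⁻¹ * w⁻¹ ∈ ee V p := by
  obtain ⟨⟨r, hr, hr1, ht1⟩, ht2⟩ := ht
  by_cases hrp : r = p
  · subst hrp
    rcases h.kq_cases hr ht1 hw with e | e
    · rw [e, mul_inv_cancel]; exact one_mem _
    · rw [e, mul_inv_cancel_right]; exact h.V_le_ee hr hr1 hr
  · refine h.kq_ee hr hr1 hp hp1 ht1 ?_ hw
    exact h.mem_centralizer_of hp hp1 hr hr1 hrp (comm_of_conj_eq ht2) (h.kq_p ht1)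

/-- two elements of `tt V p q` induce the same map `W_p / E_p → W_q / E_q` -/
theorem tt_eq (h : One T V z) (hp : p ∈ V) (hp1 : p ≠ 1) (hq : q ∈ V) (hq1 : q ≠ 1) {t s w : G}
    (ht : t ∈ tt V p q) (hs : s ∈ tt V p q) (hw : w ∈ ws V p) :
    (t * w * t⁻¹) * (s * w * s⁻¹)⁻¹ ∈ ee V q := by
  by_cases hqp : q = p
  · subst hqp
    exact md_trans (b := w) (h.tt_self hq hq1 ht hw) (md_symm (h.tt_self hq hq1 hs hw))
  · -- both lie in `K_{pq}`
    have key : ∀ t ∈ tt V p q, t ∈ kq V (p * q) := by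
      rintro t ⟨⟨r, hr, hr1, ht1⟩, ht2⟩
      rcases h.third hp hp1 hq hq1 hqp hr hr1 with e | e | e
      · exfalso
        rw [e] at ht1
        exact hqp (by rw [← ht2]; exact conj_eq_of_comm (h.kq_p ht1))
      · exfalso
        rw [e] at ht1
        apply hqp
        have h1 := conj_eq_of_comm (h.kq_p ht1)
        have h2 : t * q * t⁻¹ = t * p * t⁻¹ := by rw [h1, ht2]
        simpa using h2
      · rw [e] at ht1; exact ht1
    have hr : p * q ∈ V := mul_mem hp hq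
    have hr1 : p * q ≠ 1 := h.mul_ne_one hq (Ne.symm hqp)
    have hpr : p ≠ p * q := fun e => hq1 (by simpa using e.symm)
    have hts : s⁻¹ * t ∈ tt V p p := by
      refine ⟨⟨p * q, hr, hr1, mul_mem (inv_mem (key s hs)) (key t ht)⟩, ?_⟩
      calc s⁻¹ * t * p * (s⁻¹ * t)⁻¹ = s⁻¹ * (t * p * t⁻¹) * s := by group
        _ = s⁻¹ * (s * p * s⁻¹) * s := by rw [ht.2, hs.2]
        _ = p := by group
    have h1 := h.tt_self hp hp1 hts hw
    have h2 := conj_mem_ee (h.kq_le_normalizer hr hr1 (key s hs)) h1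
    rw [hs.2] at h2
    have e : s * (s⁻¹ * t * w * (s⁻¹ * t)⁻¹ * w⁻¹) * s⁻¹ = (t * w * t⁻¹) * (s * w * s⁻¹)⁻¹ := by group
    rwa [e] at h2

theorem tt_norm (h : One T V z) {t : G} (ht : t ∈ tt V p q) : t ∈ normalizer (V : Set G) := by
  obtain ⟨⟨r, hr, hr1, ht1⟩, -⟩ := ht
  exact h.kq_le_normalizer hr hr1 ht1

theorem tt_kq (h : One T V z) (hp : p ∈ V) (hp1 : p ≠ 1) (hq : q ∈ V) (hq1 : q ≠ 1) (hqp : q ≠ p) {t : G}
    (ht : t ∈ tt V p q) : t ∈ kq V (p * q) := by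
  obtain ⟨⟨r, hr, hr1, ht1⟩, ht2⟩ := ht
  rcases h.third hp hp1 hq hq1 hqp hr hr1 with e | e | e
  · exfalso
    rw [e] at ht1
    exact hqp (by rw [← ht2]; exact conj_eq_of_comm (h.kq_p ht1))
  · exfalso
    rw [e] at ht1
    apply hqp
    have h1 := conj_eq_of_comm (h.kq_p ht1)
    have h2 : t * q * t⁻¹ = t * p * t⁻¹ := by rw [h1, ht2]
    simpa using h2
  · rw [e] at ht1; exact ht1

/-- the cocycle relation -/
theorem tt_mul (h : One T V z) (hp : p ∈ V) (hp1 : p ≠ 1) (hq : q ∈ V) (hq1 : q ≠ 1) (hr : r ∈ V) (hr1 : r ≠ 1)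
    {t t' t'' w : G} (ht : t ∈ tt V p q) (ht' : t' ∈ tt V q r) (ht'' : t'' ∈ tt V p r) (hw : w ∈ ws V p) :
    (t' * (t * w * t⁻¹) * t'⁻¹) * (t'' * w * t''⁻¹)⁻¹ ∈ ee V r := by
  have htn := h.tt_norm ht
  have htn' := h.tt_norm ht'
  have hw' : t * w * t⁻¹ ∈ ws V q := by
    have := conj_mem_ws t hw
    rwa [ht.2] at this
  by_cases hpq : q = p
  · subst hpq
    have h1 := md_conj htn' (h.tt_self hq hq1 ht hw)
    rw [ht'.2] at h1
    exact md_trans h1 (h.tt_eq hq hq1 hr hr1 ht' ht'' hw)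
  by_cases hqr : r = q
  · subst hqr
    exact md_trans (h.tt_self hr hr1 ht' hw') (h.tt_eq hp hp1 hr hr1 ht ht'' hw)
  by_cases hpr : r = p
  · subst hpr
    have h1 := h.tt_kq hr hr1 hq hq1 hpq ht
    have h2 := h.tt_kq hq hq1 hr hr1 hqr ht'
    rw [h.ln.comm hq hr] at h2
    have h3 : t' * t ∈ tt V r r := by
      refine ⟨⟨r * q, mul_mem hr hq, h.mul_ne_one hq (Ne.symm hpq), mul_mem h2 h1⟩, ?_⟩
      calc t' * t * r * (t' * t)⁻¹ = t' * (t * r * t⁻¹) * t'⁻¹ := by group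
        _ = r := by rw [ht.2, ht'.2]
    have h4 := h.tt_eq hr hr1 hr hr1 h3 ht'' hw
    have e : t' * t * w * (t' * t)⁻¹ = t' * (t * w * t⁻¹) * t'⁻¹ := by group
    rwa [e] at h4
  · -- three different points
    have er : r = p * q := by
      rcases h.third hp hp1 hq hq1 hpq hr hr1 with e | e | e
      · exact absurd e hpr
      · exact absurd e hqr
      · exact e
    have epq : q * r = p := by
      rw [er, ← mul_assoc, h.ln.comm hq hp, mul_assoc, h.ln.sq q hq, mul_one]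
    have h1 := h.tt_kq hp hp1 hq hq1 hpq ht
    rw [← er] at h1
    have h2 := h.tt_kq hq hq1 hr hr1 hqr ht'
    rw [epq] at h2
    -- `t'` fixes `p` and maps `r` to `q`
    have h3 : t' * p * t'⁻¹ = p := conj_eq_of_comm (h.kq_p h2)
    have h4 : t' * r * t'⁻¹ = q := by
      have : t' * r * t'⁻¹ = (t' * p * t'⁻¹) * (t' * q * t'⁻¹) := by rw [er]; group
      rw [this, h3, ht'.2, er, ← mul_assoc, h.ln.sq p hp, one_mul]
    have h5 := conj_mem_kq t' h1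
    rw [h4] at h5
    have h6 : t' * t * t'⁻¹ ∈ tt V p r := by
      refine ⟨⟨q, hq, hq1, h5⟩, ?_⟩
      have h7 : t'⁻¹ * p * t' = p := by
        calc t'⁻¹ * p * t' = t'⁻¹ * (t' * p * t'⁻¹) * t' := by rw [h3]
          _ = p := by group
      calc t' * t * t'⁻¹ * p * (t' * t * t'⁻¹)⁻¹ = t' * (t * (t'⁻¹ * p * t') * t⁻¹) * t'⁻¹ := by group
        _ = r := by rw [h7, ht.2, ht'.2]
    have h8 : t' ∈ tt V p p := ⟨⟨p, hp, hp1, h2⟩, h3⟩
    have h9 := md_conj (h.tt_norm h6) (h.tt_self hp hp1 h8 hw)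
    rw [h6.2] at h9
    have h10 := md_trans h9 (h.tt_eq hp hp1 hr hr1 h6 ht'' hw)
    have e : t' * t * t'⁻¹ * (t' * w * t'⁻¹) * (t' * t * t'⁻¹)⁻¹ = t' * (t * w * t⁻¹) * t'⁻¹ := by group
    rwa [e] at h10

/-- an element of `X_l` induces on `W_p / E_p` the same map as an element of `tt`. -/
theorem xl_tt (h : One T V z) {g : G} (hg : g ∈ xl V) : ∀ p ∈ V, p ≠ 1 → ∀ t ∈ tt V p (g * p * g⁻¹),
    ∀ w ∈ ws V p, (g * w * g⁻¹) * (t * w * t⁻¹)⁻¹ ∈ ee V (g * p * g⁻¹) := by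
  have hN := h.xl_le_normalizer
  have hc : ∀ {g p : G}, g ∈ xl V → p ∈ V → p ≠ 1 → g * p * g⁻¹ ∈ V ∧ g * p * g⁻¹ ≠ 1 := by
    intro g p hg hp hp1
    exact ⟨(mem_normalizer_iff.mp (hN hg) p).mp hp, fun e => hp1 (conj_eq_one_iff.mp e)⟩
  refine closure_induction (p := fun g _ => ∀ p ∈ V, p ≠ 1 → ∀ t ∈ tt V p (g * p * g⁻¹),
    ∀ w ∈ ws V p, (g * w * g⁻¹) * (t * w * t⁻¹)⁻¹ ∈ ee V (g * p * g⁻¹)) ?_ ?_ ?_ ?_ hg
  · rintro k ⟨s, hs, hs1, hk⟩ p hp hp1 t ht w hw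
    obtain ⟨h1, h2⟩ := hc (kq_le_xl hs hs1 hk) hp hp1
    exact h.tt_eq hp hp1 h1 h2 ⟨⟨s, hs, hs1, hk⟩, rfl⟩ ht hw
  · intro p hp hp1 t ht w hw
    have e : (1 : G) * p * 1⁻¹ = p := by group
    rw [e] at ht ⊢
    have h1 : (1 : G) ∈ tt V p p := ⟨⟨p, hp, hp1, one_mem _⟩, e⟩
    exact h.tt_eq hp hp1 hp hp1 h1 ht hw
  · intro a b ha hb iha ihb p hp hp1 t ht w hw
    obtain ⟨hq, hq1⟩ := hc hb hp hp1
    obtain ⟨hr, hr1⟩ := hc ha hq hq1
    have e : a * b * p * (a * b)⁻¹ = a * (b * p * b⁻¹) * a⁻¹ := by group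
    rw [e] at ht ⊢
    obtain ⟨s, hs⟩ := h.exists_tt hp hp1 hq hq1
    obtain ⟨s', hs'⟩ := h.exists_tt hq hq1 hr hr1
    have hw' : s * w * s⁻¹ ∈ ws V (b * p * b⁻¹) := by
      have := conj_mem_ws s hw
      rwa [hs.2] at this
    have h1 := md_conj (hN ha) (ihb p hp hp1 s hs w hw)
    have h2 := iha _ hq hq1 s' hs' _ hw'
    have h3 := h.tt_mul hp hp1 hq hq1 hr hr1 hs hs' ht hw
    have e2 : a * b * w * (a * b)⁻¹ = a * (b * w * b⁻¹) * a⁻¹ := by group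
    rw [e2]
    exact md_trans h1 (md_trans h2 h3)
  · intro a ha iha p hp hp1 t ht w hw
    obtain ⟨hq, hq1⟩ := hc (inv_mem ha) hp hp1
    set q := a⁻¹ * p * a⁻¹⁻¹ with hqd
    have e : a * q * a⁻¹ = p := by rw [hqd]; group
    have hs : t⁻¹ ∈ tt V q (a * q * a⁻¹) := by
      rw [e]
      obtain ⟨⟨r, hr, hr1, ht1⟩, ht2⟩ := ht
      refine ⟨⟨r, hr, hr1, inv_mem ht1⟩, ?_⟩
      rw [← ht2]; group
    have hw' : a⁻¹ * w * a⁻¹⁻¹ ∈ ws V q := conj_mem_ws _ hw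
    have h1 := iha q hq hq1 _ hs _ hw'
    rw [e] at h1
    have h2 := md_symm (md_conj (h.tt_norm ht) h1)
    rw [ht.2] at h2
    have e3 : t * (t⁻¹ * (a⁻¹ * w * a⁻¹⁻¹) * t⁻¹⁻¹) * t⁻¹ = a⁻¹ * w * a⁻¹⁻¹ := by group
    have e4 : t * (a * (a⁻¹ * w * a⁻¹⁻¹) * a⁻¹) * t⁻¹ = t * w * t⁻¹ := by group
    rwa [e3, e4] at h2

/-- **(III)** : two elements of `X_l` which map `p` to the same point induce the same map on `W_p / E_p`. -/
theorem xl_md (h : One T V z) (hp : p ∈ V) (hp1 : p ≠ 1) {g g' w : G} (hg : g ∈ xl V) (hg' : g' ∈ xl V)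
    (hgp : g * p * g⁻¹ = q) (hgp' : g' * p * g'⁻¹ = q) (hw : w ∈ ws V p) :
    (g * w * g⁻¹) * (g' * w * g'⁻¹)⁻¹ ∈ ee V q := by
  have hq : q ∈ V := by
    rw [← hgp]; exact (mem_normalizer_iff.mp (h.xl_le_normalizer hg) p).mp hp
  have hq1 : q ≠ 1 := by
    rw [← hgp]; exact fun e => hp1 (conj_eq_one_iff.mp e)
  obtain ⟨t, ht⟩ := h.exists_tt hp hp1 hq hq1
  have h1 := h.xl_tt hg p hp hp1 t (by rw [hgp]; exact ht) w hw
  have h2 := h.xl_tt hg' p hp hp1 t (by rw [hgp']; exact ht) w hw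
  rw [hgp] at h1
  rw [hgp'] at h2
  exact md_trans h1 (md_symm h2)

/-- **(III)** : the stabiliser of `p` in `X_l` is trivial on `W_p / E_p`. -/
theorem xl_fix (h : One T V z) (hp : p ∈ V) (hp1 : p ≠ 1) {g w : G} (hg : g ∈ xl V)
    (hgp : g * p * g⁻¹ = p) (hw : w ∈ ws V p) : g * w * g⁻¹ * w⁻¹ ∈ ee V p := by
  have h1 := h.xl_md hp hp1 hg (one_mem _) hgp (by simp) hw
  have e : (g * w * g⁻¹) * (1 * w * 1⁻¹)⁻¹ = g * w * g⁻¹ * w⁻¹ := by group
  rwa [e] at h1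

/-- `X_l` is 2-transitive on the points -/
theorem xl_trans₂ (h : One T V z) {p' q' : G} (hp : p ∈ V) (hp1 : p ≠ 1) (hq : q ∈ V) (hq1 : q ≠ 1)
    (hqp : q ≠ p) (hp' : p' ∈ V) (hp1' : p' ≠ 1) (hq' : q' ∈ V) (hq1' : q' ≠ 1) (hqp' : q' ≠ p') :
    ∃ g ∈ xl V, g * p * g⁻¹ = p' ∧ g * q * g⁻¹ = q' := by
  obtain ⟨t, ⟨r, hr, hr1, ht⟩, ht2⟩ := h.exists_tt hp hp1 hp' hp1'
  have htx := kq_le_xl hr hr1 ht
  have htn := h.xl_le_normalizer htx
  set s := t * q * t⁻¹ with hs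
  have hsV : s ∈ V := (mem_normalizer_iff.mp htn q).mp hq
  have hs1 : s ≠ 1 := fun e => hq1 (conj_eq_one_iff.mp e)
  have hsp : s ≠ p' := by
    intro e
    apply hqp
    rw [hs, ← ht2] at e
    simpa using e
  rcases h.third hp' hp1' hq' hq1' hqp' hsV hs1 with e | e | e
  · exact absurd e hsp
  · exact ⟨t, htx, ht2, by rw [← hs, e]⟩
  · obtain ⟨m, hm, -, hm2⟩ := h.exists_move hp' hp1' hsV hs1 hsp
    refine ⟨m * t, mul_mem (kq_le_xl hp' hp1' hm) htx, ?_, ?_⟩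
    · calc m * t * p * (m * t)⁻¹ = m * (t * p * t⁻¹) * m⁻¹ := by group
        _ = p' := by rw [ht2]; exact conj_eq_of_comm (h.kq_p hm)
    · calc m * t * q * (m * t)⁻¹ = m * (t * q * t⁻¹) * m⁻¹ := by group
        _ = p' * s := by rw [← hs, hm2]
        _ = q' := by rw [e, ← mul_assoc, h.ln.sq p' hp', one_mul]

theorem xl_trans (h : One T V z) (hp : p ∈ V) (hp1 : p ≠ 1) (hq : q ∈ V) (hq1 : q ≠ 1) :
    ∃ g ∈ xl V, g * p * g⁻¹ = q := by
  obtain ⟨t, ⟨r, hr, hr1, ht⟩, ht2⟩ := h.exists_tt hp hp1 hq hq1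
  exact ⟨t, kq_le_xl hr hr1 ht, ht2⟩

/-- **(III)** : the identification is `C_G(V)`-equivariant. -/
theorem xl_cent (h : One T V z) (hp : p ∈ V) (hp1 : p ≠ 1) {g c w : G} (hg : g ∈ xl V)
    (hgp : g * p * g⁻¹ = q) (hc : c ∈ centralizer (V : Set G)) (hw : w ∈ ws V p) :
    (g * (c * w * c⁻¹) * g⁻¹) * (c * (g * w * g⁻¹) * c⁻¹)⁻¹ ∈ ee V q := by
  have hcn := centralizer_le_normalizer _ hc
  have hq : q ∈ V := by
    rw [← hgp]; exact (mem_normalizer_iff.mp (h.xl_le_normalizer hg) p).mp hp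
  have hg' := conj_mem_xl hcn hg
  have hcp : c * p * c⁻¹ = p := conj_eq_of_comm (h.V_comm hp hc).symm
  have hcp' : c⁻¹ * p * c = p := by
    calc c⁻¹ * p * c = c⁻¹ * (c * p * c⁻¹) * c := by rw [hcp]
      _ = p := by group
  have hcq : c * q * c⁻¹ = q := conj_eq_of_comm (h.V_comm hq hc).symm
  have hw' : c * w * c⁻¹ ∈ ws V p := conj_mem_of_normalizer (h.cent_norm hp) hc hw
  have h1 : (c * g * c⁻¹) * p * (c * g * c⁻¹)⁻¹ = q := by
    calc (c * g * c⁻¹) * p * (c * g * c⁻¹)⁻¹ = c * (g * (c⁻¹ * p * c) * g⁻¹) * c⁻¹ := by group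
      _ = q := by rw [hcp', hgp, hcq]
  have h2 := h.xl_md hp hp1 hg hg' hgp h1 hw'
  have e : (c * g * c⁻¹) * (c * w * c⁻¹) * (c * g * c⁻¹)⁻¹ = c * (g * w * g⁻¹) * c⁻¹ := by group
  rwa [e] at h2

end One

/-- `a ∈ W_p` and `b ∈ W_q` represent the same element of the module `N`. -/
def Tw (V : Subgroup G) (p a q b : G) : Prop := ∃ g ∈ xl V, g * p * g⁻¹ = q ∧ (g * a * g⁻¹) * b⁻¹ ∈ ee V q

namespace One

variable {T V : Subgroup G} {z : G} {p q r : G}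

theorem tw_iff (h : One T V z) (hp : p ∈ V) (hp1 : p ≠ 1) {a b g : G} (ha : a ∈ ws V p) (hg : g ∈ xl V)
    (hgp : g * p * g⁻¹ = q) : Tw V p a q b ↔ (g * a * g⁻¹) * b⁻¹ ∈ ee V q := by
  constructor
  · rintro ⟨g', hg', h1, h2⟩
    exact md_trans (h.xl_md hp hp1 hg hg' hgp h1 ha) h2
  · exact fun h1 => ⟨g, hg, hgp, h1⟩

theorem tw_self (h : One T V z) (hp : p ∈ V) (hp1 : p ≠ 1) {a b : G} (ha : a ∈ ws V p) :
    Tw V p a p b ↔ a * b⁻¹ ∈ ee V p := by
  rw [h.tw_iff hp hp1 ha (one_mem (xl V)) (by simp)]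
  simp

theorem tw_conj (_ : One T V z) {g : G} (hg : g ∈ xl V) (p a : G) : Tw V p a (g * p * g⁻¹) (g * a * g⁻¹) :=
  ⟨g, hg, rfl, by simp⟩

theorem tw_symm (h : One T V z) {a b : G} (h1 : Tw V p a q b) : Tw V q b p a := by
  obtain ⟨g, hg, hgp, h2⟩ := h1
  refine ⟨g⁻¹, inv_mem hg, by rw [← hgp]; group, ?_⟩
  have h3 := md_symm (md_conj (inv_mem (h.xl_le_normalizer hg)) h2)
  have e1 : g⁻¹ * q * g⁻¹⁻¹ = p := by rw [← hgp]; group
  have e2 : g⁻¹ * (g * a * g⁻¹) * g⁻¹⁻¹ = a := by group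
  rwa [e1, e2] at h3

theorem tw_trans (h : One T V z) {a b c : G} (h1 : Tw V p a q b) (h2 : Tw V q b r c) : Tw V p a r c := by
  obtain ⟨g, hg, hgp, h3⟩ := h1
  obtain ⟨g', hg', hgp', h4⟩ := h2
  refine ⟨g' * g, mul_mem hg' hg, ?_, ?_⟩
  · rw [← hgp', ← hgp]; group
  · have h5 := md_conj (h.xl_le_normalizer hg') h3
    rw [hgp'] at h5
    have e : g' * g * a * (g' * g)⁻¹ = g' * (g * a * g⁻¹) * g'⁻¹ := by group
    rw [e]
    exact md_trans h5 h4

theorem tw_exists (h : One T V z) (hp : p ∈ V) (hp1 : p ≠ 1) (hq : q ∈ V) (hq1 : q ≠ 1) {a : G}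
    (ha : a ∈ ws V p) : ∃ b ∈ ws V q, Tw V p a q b := by
  obtain ⟨g, hg, hgp⟩ := h.xl_trans hp hp1 hq hq1
  refine ⟨g * a * g⁻¹, ?_, g, hg, hgp, by simp⟩
  have := conj_mem_ws g ha
  rwa [hgp] at this

theorem tw_mul (h : One T V z) (hp : p ∈ V) (hp1 : p ≠ 1) (hq : q ∈ V) (hq1 : q ≠ 1) {a b a' b' : G}
    (ha : a ∈ ws V p) (ha' : a' ∈ ws V p) (h1 : Tw V p a q b) (h2 : Tw V p a' q b') :
    Tw V p (a * a') q (b * b') := by
  obtain ⟨g, hg, hgp⟩ := h.xl_trans hp hp1 hq hq1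
  rw [h.tw_iff hp hp1 ha hg hgp] at h1
  rw [h.tw_iff hp hp1 ha' hg hgp] at h2
  rw [h.tw_iff hp hp1 (mul_mem ha ha') hg hgp]
  have h3 : g * a * g⁻¹ ∈ ws V q := by
    have := conj_mem_ws g ha
    rwa [hgp] at this
  have h4 := h.md_mul hq hq1 h3 h1 h2
  have e : g * a * g⁻¹ * (g * a' * g⁻¹) = g * (a * a') * g⁻¹ := by group
  rwa [e] at h4

theorem tw_one (h : One T V z) (hp : p ∈ V) (hp1 : p ≠ 1) (hq : q ∈ V) (hq1 : q ≠ 1) {a : G}
    (ha : a ∈ ws V p) : Tw V p a q 1 ↔ a ∈ ee V p := by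
  obtain ⟨g, hg, hgp⟩ := h.xl_trans hp hp1 hq hq1
  rw [h.tw_iff hp hp1 ha hg hgp, inv_one, mul_one]
  constructor
  · intro h1
    have h2 := conj_mem_ee (inv_mem (h.xl_le_normalizer hg)) h1
    have e1 : g⁻¹ * q * g⁻¹⁻¹ = p := by rw [← hgp]; group
    have e2 : g⁻¹ * (g * a * g⁻¹) * g⁻¹⁻¹ = a := by group
    rwa [e1, e2] at h2
  · intro h1
    have := conj_mem_ee (h.xl_le_normalizer hg) h1
    rwa [hgp] at this

/-- `Tw` is invariant under `N_G(V)` -/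
theorem tw_norm (_ : One T V z) {g a b : G} (hg : g ∈ normalizer (V : Set G)) (h1 : Tw V p a q b) :
    Tw V (g * p * g⁻¹) (g * a * g⁻¹) (g * q * g⁻¹) (g * b * g⁻¹) := by
  obtain ⟨c, hc, hcp, h2⟩ := h1
  refine ⟨g * c * g⁻¹, conj_mem_xl hg hc, ?_, ?_⟩
  · rw [← hcp]; group
  · have h3 := md_conj hg h2
    have e : g * c * g⁻¹ * (g * a * g⁻¹) * (g * c * g⁻¹)⁻¹ = g * (c * a * c⁻¹) * g⁻¹ := by group
    rwa [e]

/-- `Tw` is invariant under `C_G(V)` -/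
theorem tw_cent (h : One T V z) (hp : p ∈ V) (hq : q ∈ V) {c a b : G} (hc : c ∈ centralizer (V : Set G))
    (h1 : Tw V p a q b) : Tw V p (c * a * c⁻¹) q (c * b * c⁻¹) := by
  have h2 := h.tw_norm (centralizer_le_normalizer _ hc) h1
  rwa [conj_eq_of_comm (h.V_comm hp hc).symm, conj_eq_of_comm (h.V_comm hq hc).symm] at h2

/-! ### `β` -/

/-- `β` is defined on `W_p / E_p` -/
theorem beta_left (h : One T V z) (hp : p ∈ V) (hp1 : p ≠ 1) (hq : q ∈ V) (hq1 : q ≠ 1) {a a' b : G}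
    (ha : a ∈ ws V p) (ha' : a' ∈ ws V p) (hb : b ∈ ws V q) (h1 : a * a'⁻¹ ∈ ee V p) :
    ⁅a, b⁆ * ⁅a', b⁆⁻¹ ∈ V := by
  have e : ⁅a, b⁆ = ⁅a * a'⁻¹, b⁆ * ⁅a', b⁆ := by
    rw [← h.comm_mul_left hp hp1 hq hq1 (mul_mem ha (inv_mem ha')) ha' hb]
    simp
  rw [e, mul_inv_cancel_right]
  rcases h.ee_cases hq hq1 h1 hb with e1 | e1
  · rw [e1]; exact one_mem _
  · rw [e1]; exact hq

theorem beta_right (h : One T V z) (hp : p ∈ V) (hp1 : p ≠ 1) (hq : q ∈ V) (hq1 : q ≠ 1) {a b b' : G}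
    (ha : a ∈ ws V p) (hb : b ∈ ws V q) (hb' : b' ∈ ws V q) (h1 : b * b'⁻¹ ∈ ee V q) :
    ⁅a, b⁆ * ⁅a, b'⁆⁻¹ ∈ V := by
  rw [← h.comm_swap hp hp1 hq hq1 ha hb, ← h.comm_swap hp hp1 hq hq1 ha hb']
  exact h.beta_left hq hq1 hp hp1 hb hb' ha h1

theorem beta_xl (h : One T V z) (hp : p ∈ V) (hp1 : p ≠ 1) (hq : q ∈ V) (hq1 : q ≠ 1) {g a b : G}
    (hg : g ∈ xl V) (ha : a ∈ ws V p) (hb : b ∈ ws V q) :
    ⁅g * a * g⁻¹, g * b * g⁻¹⁆ * ⁅a, b⁆⁻¹ ∈ V := by
  rw [← conjugate_commutatorElement]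
  exact h.xl_ii hg (h.comm_ii_mem hp hp1 hq hq1 ha hb)

/-- `β` is the same for all pairs of points -/
theorem beta_tw (h : One T V z) {p' q' : G} (hp : p ∈ V) (hp1 : p ≠ 1) (hq : q ∈ V) (hq1 : q ≠ 1)
    (hqp : q ≠ p) (hp' : p' ∈ V) (hp1' : p' ≠ 1) (hq' : q' ∈ V) (hq1' : q' ≠ 1) (hqp' : q' ≠ p')
    {a b a' b' : G} (ha : a ∈ ws V p) (hb : b ∈ ws V q) (ha' : a' ∈ ws V p') (hb' : b' ∈ ws V q')
    (h1 : Tw V p a p' a') (h2 : Tw V q b q' b') : ⁅a, b⁆ * ⁅a', b'⁆⁻¹ ∈ V := by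
  obtain ⟨g, hg, hgp, hgq⟩ := h.xl_trans₂ hp hp1 hq hq1 hqp hp' hp1' hq' hq1' hqp'
  rw [h.tw_iff hp hp1 ha hg hgp] at h1
  rw [h.tw_iff hq hq1 hb hg hgq] at h2
  have h3 : g * a * g⁻¹ ∈ ws V p' := by
    have := conj_mem_ws g ha
    rwa [hgp] at this
  have h4 : g * b * g⁻¹ ∈ ws V q' := by
    have := conj_mem_ws g hb
    rwa [hgq] at this
  have h5 := h.beta_xl hp hp1 hq hq1 hg ha hb
  have h6 := h.beta_left hp' hp1' hq' hq1' h3 ha' h4 h1
  have h7 := h.beta_right hp' hp1' hq' hq1' ha' h4 hb' h2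
  have h8 := mul_mem (inv_mem h5) (mul_mem h6 h7)
  have e : (⁅g * a * g⁻¹, g * b * g⁻¹⁆ * ⁅a, b⁆⁻¹)⁻¹ *
      (⁅g * a * g⁻¹, g * b * g⁻¹⁆ * ⁅a', g * b * g⁻¹⁆⁻¹ * (⁅a', g * b * g⁻¹⁆ * ⁅a', b'⁆⁻¹)) =
      ⁅a, b⁆ * ⁅a', b'⁆⁻¹ := by
    generalize ⁅g * a * g⁻¹, g * b * g⁻¹⁆ = x1
    generalize ⁅a', g * b * g⁻¹⁆ = x2
    generalize ⁅a, b⁆ = x3
    generalize ⁅a', b'⁆ = x4
    group
  rwa [e] at h8

/-- **`β` is symmetric** -/
theorem beta_symm (h : One T V z) (hp : p ∈ V) (hp1 : p ≠ 1) (hq : q ∈ V) (hq1 : q ≠ 1) (hqp : q ≠ p)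
    {a b a' b' : G} (ha : a ∈ ws V p) (hb : b ∈ ws V q) (ha' : a' ∈ ws V q) (hb' : b' ∈ ws V p)
    (h1 : Tw V p a q a') (h2 : Tw V q b p b') : ⁅a, b⁆ * ⁅b', a'⁆⁻¹ ∈ V := by
  have h3 := h.beta_tw hp hp1 hq hq1 hqp hq hq1 hp hp1 (Ne.symm hqp) ha hb ha' hb' h1 h2
  rwa [h.comm_swap hp hp1 hq hq1 hb' ha'] at h3

/-- **(III.a)** : `[C_{W_p}(E_q), C_{W_q}(E_p)] ≤ V`. -/
theorem w1_comm [Finite G] (h : One T V z) (hp : p ∈ V) (hp1 : p ≠ 1) (hq : q ∈ V) (hq1 : q ≠ 1) {a b : G}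
    (ha : a ∈ w1 V p) (hb : b ∈ w1 V q) : ⁅a, b⁆ ∈ V := by
  by_contra hcon
  obtain ⟨k, hk, hkV, hku⟩ := h.fu (h.comm_ii_mem hp hp1 hq hq1 ha.1 hb.1) hcon hp hp1
  have he := h.kq_ee hp hp1 hp hp1 hk hkV ha.1
  have hf := h.kq_ee hp hp1 hq hq1 hk hkV hb.1
  set e := k * a * k⁻¹ * a⁻¹ with hed
  set f := k * b * k⁻¹ * b⁻¹ with hfd
  have e1 : k * a * k⁻¹ = e * a := by rw [hed]; group
  have e2 : k * b * k⁻¹ = f * b := by rw [hfd]; group
  have h1 : ⁅e, b⁆ = 1 := commutatorElement_eq_one_iff_mul_comm.mpr (hb.2 p hp hp1 e he).symm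
  have h2 : ⁅a, f⁆ = 1 := commutatorElement_eq_one_iff_mul_comm.mpr (ha.2 q hq hq1 f hf)
  have h3 : ⁅e, f⁆ = 1 := commutatorElement_eq_one_iff_mul_comm.mpr (h.ee_comm hp hp1 hq hq1 he hf)
  rw [conjugate_commutatorElement, e1, e2,
    h.comm_mul_left hp hp1 hq hq1 he.1 ha.1 (mul_mem hf.1 hb.1),
    h.comm_mul_right hp hp1 hq hq1 he.1 hf.1 hb.1, h.comm_mul_right hp hp1 hq hq1 ha.1 hf.1 hb.1,
    h1, h2, h3, one_mul, one_mul, one_mul] at hku
  exact hp1 (by simpa using hku.symm)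

end One

end Cfsg.Agent.Omega.NO3S.TwoOne

end

section


/-!
# NO-3S, `q = 2`, `n = 1` (helper881's text #13700): parts (III.b), (IV), (V)

`h : One T V z`; `p ≠ q` points.  `|A| = |W_q : E_q| = (ee V q).relIndex (ws V q)`,
`|Φ| = |E_p : D_p| = (dd V p).relIndex (ee V p)`, both do not depend on the point (`One.relIndex_ee_ws`, ...).

* `n0 V p` = `{w ∈ W_p | [w, W_q] ≤ V}` = preimage of `rad β` (`One.mem_n0` : one `q ≠ p` is enough);
  `E_p ≤ n0 V p`;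
* `cb V p b` = `{w ∈ W_p | [w, b] ∈ ⟨p⟩}`, the preimage of `C_M(b)`, `M = W_p / p`;
  `One.cb_le` (III.b) : `|M : C_M(b)| ≤ 2 |A|` for `b ∈ W_q`;
* `One.phi_card` : `|Φ| = |E_p : D_p| = |W_q : w1 V q|`, hence `|Φ| ≤ |A|` (`One.phi_le`);
* (IV) `One.comm_mem_V_of_phi` : `Φ = 0` implies `[W_p, W_q] ≤ V`; `One.exists_ee_comm`, `One.V_le_of_phi` : `Φ ≠ 0`
  implies that some `[e, w] = q`, `e ∈ E_p`, `w ∈ W_q`, and `V ≤ [W_p, W_q]`; `One.exists_lambda` : in both cases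
  some `[a, b]` lies in `V - ⟨p⟩` (`λ ∈ [M, A]`);
* (V) `NT V` : `A` contains no `λ`-transvection; `One.nt_of`;
  under `NT V` : `One.nt_phi` (`Φ ≠ 0`), `One.nt_mem_ee` (`Ē = {m | [m, A] ≤ λ}`), `One.nt_mem_dd` (`D̄ = C_M(A)`),
  `One.relIndex_dd` (`|W_p : D_p| = |Φ| |A|`), `One.nt_sq_le` (`|A| ≤ |Φ|²` if `|R / V| ≤ 2`),
  `One.nt_V_le` (`V ≤ [W_p, W_q]`);
  `k = 1` : `One.nt_phi_two` (`|Φ| = 2`), `One.nt_card_four` (`|M : C_M(A)| = 4`), `One.nt_card_eight` (`|R| = 8`),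
  `One.cent_of_two` (`C_G(V)` centralises `W_q / E_q`).
-/

set_option autoImplicit false
set_option linter.unusedSectionVars false

namespace Cfsg.Agent.Omega.NO3S.TwoOne

open Subgroup Cfsg Cfsg.Agent.ZN Cfsg.Agent.MinSimple.Geo Cfsg.Agent.Omega.CaseL
open Cfsg.Agent.ZN.Block (conj_mem_of_normalizer conj_mem_of_normalizer' le_normalizer_of_forall
  mem_normalizer_of)
open scoped commutatorElement

universe u

variable {G : Type u} [Group G]

theorem sum_units {B : Type*} [Group B] [Fintype B] (t : B → ℤˣ) (ht : ∀ b b', t (b * b') = t b * t b') :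
    ∑ b, ((t b : ℤˣ) : ℤ) = by classical exact if (∀ b, t b = 1) then (Fintype.card B : ℤ) else 0 := by
  classical
  split_ifs with h
  · simp [h]
  · push Not at h
    obtain ⟨c, hc⟩ := h
    have hc' : t c = -1 := (Int.units_eq_one_or (t c)).resolve_left hc
    have h1 : ∑ b, ((t b : ℤˣ) : ℤ) = ∑ b, ((t (c * b) : ℤˣ) : ℤ) :=
      (Fintype.sum_equiv (Equiv.mulLeft c) _ _ (fun b => rfl)).symm
    have h2 : ∑ b, ((t (c * b) : ℤˣ) : ℤ) = - ∑ b, ((t b : ℤˣ) : ℤ) := by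
      rw [← Finset.sum_neg_distrib]
      refine Finset.sum_congr rfl fun b _ => ?_
      rw [ht, hc']
      simp
    omega

/-- double counting for a pairing with values `±1` -/
theorem pairing_units {A B : Type*} [Group A] [Group B] [Finite A] [Finite B] (s : A → B → ℤˣ)
    (hl : ∀ a a' b, s (a * a') b = s a b * s a' b) (hr : ∀ a b b', s a (b * b') = s a b * s a b') :
    Nat.card {a // ∀ b, s a b = 1} * Nat.card B = Nat.card A * Nat.card {b // ∀ a, s a b = 1} := by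
  classical
  have := Fintype.ofFinite A
  have := Fintype.ofFinite B
  have h1 : ∑ a, ∑ b, ((s a b : ℤˣ) : ℤ) = Nat.card {a // ∀ b, s a b = 1} * Nat.card B := by
    have : ∀ a, ∑ b, ((s a b : ℤˣ) : ℤ) = if (∀ b, s a b = 1) then (Fintype.card B : ℤ) else 0 :=
      fun a => by
        rw [sum_units (s a) (hr a)]
    simp only [this]
    rw [Finset.sum_ite, Finset.sum_const_zero, add_zero, Finset.sum_const, nsmul_eq_mul,
      Nat.card_eq_fintype_card, Nat.card_eq_fintype_card, Fintype.card_subtype]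
  have h2 : ∑ b, ∑ a, ((s a b : ℤˣ) : ℤ) = Nat.card {b // ∀ a, s a b = 1} * Nat.card A := by
    have : ∀ b, ∑ a, ((s a b : ℤˣ) : ℤ) = if (∀ a, s a b = 1) then (Fintype.card A : ℤ) else 0 :=
      fun b => by
        rw [sum_units (fun a => s a b) (fun a a' => hl a a' b)]
    simp only [this]
    rw [Finset.sum_ite, Finset.sum_const_zero, add_zero, Finset.sum_const, nsmul_eq_mul,
      Nat.card_eq_fintype_card, Nat.card_eq_fintype_card, Fintype.card_subtype]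
  rw [Finset.sum_comm, h2] at h1
  have h3 : (Nat.card {a // ∀ b, s a b = 1} * Nat.card B : ℤ) =
      Nat.card A * Nat.card {b // ∀ a, s a b = 1} := by rw [← h1, mul_comm]
  exact_mod_cast h3

theorem relIndex_ne_zero' [Finite G] (C D : Subgroup G) : C.relIndex D ≠ 0 :=
  Subgroup.index_ne_zero_of_finite

theorem relIndex_le_two {C D : Subgroup G} (h : ∀ a ∈ D, ∀ b ∈ D, a ∉ C → b ∉ C → a * b ∈ C) :
    C.relIndex D ≤ 2 := by
  by_cases hD : D ≤ C
  · rw [relIndex_eq_one.mpr hD]; norm_num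
  · obtain ⟨a, ha, ha'⟩ := SetLike.not_le_iff_exists.mp hD
    have : C.relIndex D = 2 := by
      rw [relIndex_eq_two_iff_exists_notMem_and]
      refine ⟨a, ha, ha', fun b hb => ?_⟩
      by_cases hbC : b ∈ C
      · exact Or.inr hbC
      · exact Or.inl (h b hb a ha hbC ha')
    rw [this]

theorem relIndex_mul_card [Finite G] {C D : Subgroup G} (h : C ≤ D) :
    C.relIndex D * Nat.card C = Nat.card D := by
  have := relIndex_mul_relIndex (⊥ : Subgroup G) C D bot_le h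
  rw [relIndex_bot_left, relIndex_bot_left] at this
  rw [mul_comm]; exact this

theorem relIndex_le_of_le [Finite G] {C D W : Subgroup G} (h : C ≤ D) : D.relIndex W ≤ C.relIndex W :=
  Nat.le_of_dvd (Nat.pos_of_ne_zero (relIndex_ne_zero' _ _)) (relIndex_dvd_of_le_left W h)

/-! ### the subgroups -/

/-- `{w ∈ W_p | [w, W_q] ≤ V}` -/
def n0 (V : Subgroup G) (p : G) : Subgroup G where
  carrier := {w | w ∈ ws V p ∧ w ∈ centralizer (V : Set G) ∧ ∀ q ∈ V, q ≠ 1 → ∀ b ∈ ws V q, ⁅w, b⁆ ∈ V}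
  mul_mem' := by
    rintro a b ⟨ha, ha1, ha2⟩ ⟨hb, hb1, hb2⟩
    refine ⟨mul_mem ha hb, mul_mem ha1 hb1, fun q hq hq1 c hc => ?_⟩
    have h1 : ⁅b, c⁆ * a = a * ⁅b, c⁆ := mem_centralizer_iff.mp ha1 _ (hb2 q hq hq1 c hc)
    have e : ⁅a * b, c⁆ = ⁅b, c⁆ * ⁅a, c⁆ := by
      calc ⁅a * b, c⁆ = (a * ⁅b, c⁆) * a⁻¹ * ⁅a, c⁆ := by simp only [commutatorElement_def]; group
        _ = ⁅b, c⁆ * ⁅a, c⁆ := by rw [← h1]; group
    rw [e]
    exact mul_mem (hb2 q hq hq1 c hc) (ha2 q hq hq1 c hc)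
  one_mem' := ⟨one_mem _, one_mem _, fun q _ _ b _ => by simp⟩
  inv_mem' := by
    rintro a ⟨ha, ha1, ha2⟩
    refine ⟨inv_mem ha, inv_mem ha1, fun q hq hq1 c hc => ?_⟩
    have h1 : ⁅a, c⁆ * a = a * ⁅a, c⁆ := mem_centralizer_iff.mp ha1 _ (ha2 q hq hq1 c hc)
    have e : ⁅a⁻¹, c⁆ = ⁅a, c⁆⁻¹ := by
      calc ⁅a⁻¹, c⁆ = a⁻¹ * ⁅a, c⁆⁻¹ * a := by simp only [commutatorElement_def]; group
        _ = a⁻¹ * (⁅a, c⁆⁻¹ * a) := by group
        _ = a⁻¹ * (a * ⁅a, c⁆⁻¹) := by rw [← comm_inv_of h1.symm]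
        _ = ⁅a, c⁆⁻¹ := by group
    rw [e]
    exact inv_mem (ha2 q hq hq1 c hc)

/-- `{w ∈ W_p | [w, b] ∈ U}`, `U` centralised by `w` -/
def cu (U : Subgroup G) (V : Subgroup G) (p b : G) : Subgroup G where
  carrier := {w | w ∈ ws V p ∧ w ∈ centralizer (U : Set G) ∧ ⁅w, b⁆ ∈ U}
  mul_mem' := by
    rintro a c ⟨ha, ha1, ha2⟩ ⟨hc, hc1, hc2⟩
    refine ⟨mul_mem ha hc, mul_mem ha1 hc1, ?_⟩
    have h1 : ⁅c, b⁆ * a = a * ⁅c, b⁆ := mem_centralizer_iff.mp ha1 _ hc2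
    have e : ⁅a * c, b⁆ = ⁅c, b⁆ * ⁅a, b⁆ := by
      calc ⁅a * c, b⁆ = (a * ⁅c, b⁆) * a⁻¹ * ⁅a, b⁆ := by simp only [commutatorElement_def]; group
        _ = ⁅c, b⁆ * ⁅a, b⁆ := by rw [← h1]; group
    rw [e]
    exact mul_mem hc2 ha2
  one_mem' := ⟨one_mem _, one_mem _, by simp⟩
  inv_mem' := by
    rintro a ⟨ha, ha1, ha2⟩
    refine ⟨inv_mem ha, inv_mem ha1, ?_⟩
    have h1 : ⁅a, b⁆ * a = a * ⁅a, b⁆ := mem_centralizer_iff.mp ha1 _ ha2
    have e : ⁅a⁻¹, b⁆ = ⁅a, b⁆⁻¹ := by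
      calc ⁅a⁻¹, b⁆ = a⁻¹ * ⁅a, b⁆⁻¹ * a := by simp only [commutatorElement_def]; group
        _ = a⁻¹ * (⁅a, b⁆⁻¹ * a) := by group
        _ = a⁻¹ * (a * ⁅a, b⁆⁻¹) := by rw [← comm_inv_of h1.symm]
        _ = ⁅a, b⁆⁻¹ := by group
    rw [e]
    exact inv_mem ha2

/-- the preimage of `C_M(b)`, `M = W_p / p` -/
abbrev cb (V : Subgroup G) (p b : G) : Subgroup G := cu (zpowers p) V p b

/-- `A` contains no `λ`-transvection -/
def NT (V : Subgroup G) : Prop := ∀ p ∈ V, p ≠ 1 → n0 V p ≤ ee V p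

theorem conj_mem_n0 {V : Subgroup G} {g w p : G} (hg : g ∈ normalizer (V : Set G)) (hw : w ∈ n0 V p) :
    g * w * g⁻¹ ∈ n0 V (g * p * g⁻¹) := by
  refine ⟨conj_mem_ws g hw.1, conj_mem_of_normalizer (normalizer_le_normalizer_centralizer V) hg hw.2.1,
    fun q hq hq1 b hb => ?_⟩
  have h1 : g⁻¹ * b * g ∈ ws V (g⁻¹ * q * g) := by
    have := conj_mem_ws g⁻¹ hb
    rwa [inv_inv] at this
  have h2 := hw.2.2 _ ((mem_normalizer_iff''.mp hg q).mp hq) (conj_ne_one hq1) _ h1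
  have h3 := (mem_normalizer_iff.mp hg _).mp h2
  have e : g * ⁅w, g⁻¹ * b * g⁆ * g⁻¹ = ⁅g * w * g⁻¹, b⁆ := by
    simp only [commutatorElement_def]; group
  rwa [e] at h3

namespace One

variable {T V : Subgroup G} {z : G} {p q r : G}

theorem zpowers_le (h : One T V z) (hp : p ∈ V) {x : G} (hx : x ∈ zpowers p) : x = 1 ∨ x = p :=
  (mem_zpowers_iff_of_mul_self (h.ln.sq p hp)).mp hx

theorem mem_cu (h : One T V z) {U : Subgroup G} (hU : U ≤ ws V p) (hp : p ∈ V) (hp1 : p ≠ 1) {b w : G} :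
    w ∈ cu U V p b ↔ w ∈ ws V p ∧ ⁅w, b⁆ ∈ U := by
  constructor
  · exact fun hw => ⟨hw.1, hw.2.2⟩
  · exact fun hw => ⟨hw.1, mem_centralizer_iff.mpr fun x hx => h.comm hp hp1 x (hU hx) w hw.1, hw.2⟩

theorem mem_cb (h : One T V z) (hp : p ∈ V) (hp1 : p ≠ 1) {b w : G} :
    w ∈ cb V p b ↔ w ∈ ws V p ∧ ⁅w, b⁆ ∈ zpowers p :=
  h.mem_cu (zpowers_le_of_mem (h.V_le hp hp1 hp)) hp hp1

/-- `E_p ≤ n0 V p` -/
theorem ee_le_n0 (h : One T V z) (hp : p ∈ V) (hp1 : p ≠ 1) : ee V p ≤ n0 V p := fun w hw =>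
  ⟨hw.1, h.ws_le_centralizer_V hp hp1 hw.1, fun q hq hq1 b hb => by
    rcases h.ee_cases hq hq1 hw hb with e | e
    · rw [e]; exact one_mem _
    · rw [e]; exact hq⟩

/-- one `q ≠ p` is enough for `n0` -/
theorem mem_n0 (h : One T V z) (hp : p ∈ V) (hp1 : p ≠ 1) (hq : q ∈ V) (hq1 : q ≠ 1) (hqp : q ≠ p)
    {w : G} (hw : w ∈ ws V p) (hc : ∀ b ∈ ws V q, ⁅w, b⁆ ∈ V) : w ∈ n0 V p := by
  refine ⟨hw, h.ws_le_centralizer_V hp hp1 hw, fun r hr hr1 b hb => ?_⟩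
  rcases h.third hp hp1 hq hq1 hqp hr hr1 with e | e | e
  · rw [e] at hb
    rw [commutatorElement_eq_one_iff_mul_comm.mpr (h.comm hp hp1 w hw b hb)]
    exact one_mem _
  · rw [e] at hb; exact hc b hb
  · obtain ⟨t, ht, -, ht2⟩ := h.exists_move hp hp1 hq hq1 hqp
    have htn := h.kq_le_normalizer hp hp1 ht
    have h1 : t⁻¹ * b * t ∈ ws V q := by
      have h2 := conj_mem_ws t⁻¹ hb
      rw [inv_inv] at h2
      have e3 : t⁻¹ * r * t = q := by rw [e, ← ht2]; group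
      rwa [e3] at h2
    have h3 := (mem_normalizer_iff.mp htn _).mp (hc _ h1)
    have e4 : t * ⁅w, t⁻¹ * b * t⁆ * t⁻¹ = ⁅t * w * t⁻¹, b⁆ := by
      simp only [commutatorElement_def]; group
    rw [e4] at h3
    rcases h.kq_cases hp ht hw with e2 | e2
    · rwa [e2] at h3
    · rw [e2, h.comm_mul_left hp hp1 hr hr1 (h.V_le hp hp1 hp) hw hb] at h3
      have h5 : ⁅p, b⁆ = 1 := commutatorElement_eq_one_iff_mul_comm.mpr
        (h.V_comm hp (h.ws_le_centralizer_V hr hr1 hb))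
      rwa [h5, one_mul] at h3

/-! ### indices do not depend on the point -/

theorem relIndex_conj (h : One T V z) (A B : G → Subgroup G) (hA : ∀ g ∈ normalizer (V : Set G), ∀ p, ∀ w ∈ A p,
      g * w * g⁻¹ ∈ A (g * p * g⁻¹)) (hB : ∀ g ∈ normalizer (V : Set G), ∀ p, ∀ w ∈ B p,
      g * w * g⁻¹ ∈ B (g * p * g⁻¹)) (hp : p ∈ V) (hp1 : p ≠ 1) (hq : q ∈ V) (hq1 : q ≠ 1) :
    (A p).relIndex (B p) = (A q).relIndex (B q) := by
  obtain ⟨g, hg, hgp⟩ := h.xl_trans hp hp1 hq hq1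
  have hgn := h.xl_le_normalizer hg
  have key : ∀ A : G → Subgroup G, (∀ g ∈ normalizer (V : Set G), ∀ p, ∀ w ∈ A p,
      g * w * g⁻¹ ∈ A (g * p * g⁻¹)) → cj g (A p) = A q := by
    intro A hA
    apply le_antisymm
    · intro x hx
      rw [mem_cj] at hx
      have := hA g hgn p _ hx
      have e : g * (g⁻¹ * x * g) * g⁻¹ = x := by group
      rwa [e, hgp] at this
    · intro x hx
      rw [mem_cj]
      have := hA g⁻¹ (inv_mem hgn) q x hx
      have e : g⁻¹ * q * g⁻¹⁻¹ = p := by rw [← hgp]; group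
      rwa [e, inv_inv] at this
  rw [← key A hA, ← key B hB, relIndex_cj]

theorem relIndex_ee_ws (h : One T V z) (hp : p ∈ V) (hp1 : p ≠ 1) (hq : q ∈ V) (hq1 : q ≠ 1) :
    (ee V p).relIndex (ws V p) = (ee V q).relIndex (ws V q) :=
  h.relIndex_conj (ee V) (ws V) (fun _ hg _ _ hw => conj_mem_ee hg hw) (fun g _ _ _ hw => conj_mem_ws g hw)
    hp hp1 hq hq1

theorem relIndex_dd_ee (h : One T V z) (hp : p ∈ V) (hp1 : p ≠ 1) (hq : q ∈ V) (hq1 : q ≠ 1) :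
    (dd V p).relIndex (ee V p) = (dd V q).relIndex (ee V q) :=
  h.relIndex_conj (dd V) (ee V) (fun _ hg _ _ hw => conj_mem_dd hg hw) (fun _ hg _ _ hw => conj_mem_ee hg hw)
    hp hp1 hq hq1

theorem relIndex_dd_ws (h : One T V z) (hp : p ∈ V) (hp1 : p ≠ 1) (hq : q ∈ V) (hq1 : q ≠ 1) :
    (dd V p).relIndex (ws V p) = (dd V q).relIndex (ws V q) :=
  h.relIndex_conj (dd V) (ws V) (fun _ hg _ _ hw => conj_mem_dd hg hw) (fun g _ _ _ hw => conj_mem_ws g hw)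
    hp hp1 hq hq1

theorem relIndex_w1_ws (h : One T V z) (hp : p ∈ V) (hp1 : p ≠ 1) (hq : q ∈ V) (hq1 : q ≠ 1) :
    (w1 V p).relIndex (ws V p) = (w1 V q).relIndex (ws V q) :=
  h.relIndex_conj (w1 V) (ws V) (fun _ hg _ _ hw => conj_mem_w1 hg hw) (fun g _ _ _ hw => conj_mem_ws g hw)
    hp hp1 hq hq1

theorem relIndex_ee_w1 (h : One T V z) (hp : p ∈ V) (hp1 : p ≠ 1) (hq : q ∈ V) (hq1 : q ≠ 1) :
    (ee V p).relIndex (w1 V p) = (ee V q).relIndex (w1 V q) :=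
  h.relIndex_conj (ee V) (w1 V) (fun _ hg _ _ hw => conj_mem_ee hg hw) (fun _ hg _ _ hw => conj_mem_w1 hg hw)
    hp hp1 hq hq1

/-! ### (III.b) -/

/-- **(III.b)** : `|M : C_M(b)| ≤ 2 |A|`, `M = W_p / p`, `b ∈ W_q`. -/
theorem cb_le [Finite G] (h : One T V z) (hp : p ∈ V) (hp1 : p ≠ 1) (hq : q ∈ V) (hq1 : q ≠ 1) (hqp : q ≠ p)
    {b : G} (hb : b ∈ ws V q) : (cb V p b).relIndex (ws V p) ≤ 2 * (ee V q).relIndex (ws V q) := by
  have hV := h.V_le hp hp1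
  have h1 : cb V p b ≤ cu V V p b := fun w hw => by
    rw [h.mem_cb hp hp1] at hw
    exact (h.mem_cu hV hp hp1).mpr ⟨hw.1, zpowers_le_of_mem hp hw.2⟩
  have h2 : cu V V p b ≤ ws V p := fun w hw => hw.1
  have h3 : ee V p ≤ cu V V p b := fun w hw => by
    refine (h.mem_cu hV hp hp1).mpr ⟨hw.1, ?_⟩
    rcases h.ee_cases hq hq1 hw hb with e | e
    · rw [e]; exact one_mem _
    · rw [e]; exact hq
  rw [← relIndex_mul_relIndex _ _ _ h1 h2, h.relIndex_ee_ws hq hq1 hp hp1]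
  refine Nat.mul_le_mul (relIndex_le_two fun a ha c hc ha' hc' => ?_) (relIndex_le_of_le h3)
  rw [h.mem_cu hV hp hp1] at ha hc
  rw [h.mem_cb hp hp1] at ha' hc' ⊢
  have ha2 : ⁅a, b⁆ ∉ zpowers p := fun e => ha' ⟨ha.1, e⟩
  have hc2 : ⁅c, b⁆ ∉ zpowers p := fun e => hc' ⟨hc.1, e⟩
  refine ⟨mul_mem ha.1 hc.1, ?_⟩
  rw [h.comm_mul_left hp hp1 hq hq1 ha.1 hc.1 hb]
  have key : ∀ v ∈ V, v ∉ zpowers p → v = q ∨ v = p * q := by
    intro v hv hv'
    rcases h.third hp hp1 hq hq1 hqp hv (fun e => hv' (by rw [e]; exact one_mem _)) with e | e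
    · exact absurd (by rw [e]; exact mem_zpowers p) hv'
    · exact e
  have hqq := h.ln.sq q hq
  have hpq := h.ln.comm hp hq
  rcases key _ ha.2 ha2 with e1 | e1 <;> rcases key _ hc.2 hc2 with e2 | e2
  · rw [e1, e2, hqq]; exact one_mem _
  · rw [e1, e2, ← mul_assoc, ← hpq, mul_assoc, hqq, mul_one]; exact mem_zpowers p
  · rw [e1, e2, mul_assoc, hqq, mul_one]; exact mem_zpowers p
  · rw [e1, e2, h.ln.sq _ (mul_mem hp hq)]; exact one_mem _

/-! ### `Φ` -/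

/-- `|Φ| = |E_p : D_p| = |W_q : C_{W_q}(E_p)|` -/
theorem phi_card [Finite G] (h : One T V z) (hp : p ∈ V) (hp1 : p ≠ 1) (hq : q ∈ V) (hq1 : q ≠ 1) :
    (dd V p).relIndex (ee V p) = (w1 V q).relIndex (ws V q) := by
  -- it is enough to show this for some `q ≠ p`
  obtain ⟨r, hr, hr1, hrp⟩ := h.exists_q hp hp1
  rw [h.relIndex_w1_ws hq hq1 hr hr1]
  have h1 : ee V p ⊓ centralizer (ws V r : Set G) = dd V p := by
    apply le_antisymm
    · intro w hw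
      exact h.mem_dd hp hp1 hr hr1 hrp hw.1.1 fun b hb => (mem_centralizer_iff.mp hw.2 b hb).symm
    · intro w hw
      exact ⟨h.dd_le_ee p hw, mem_centralizer_iff.mpr fun b hb => (hw.2 r hr hr1 b hb).symm⟩
  have h2 : ws V r ⊓ centralizer (ee V p : Set G) = w1 V r := by
    apply le_antisymm
    · intro w hw
      exact h.mem_w1 hr hr1 hp hp1 (Ne.symm hrp) hw.1 fun b hb => (mem_centralizer_iff.mp hw.2 b hb).symm
    · intro w hw
      exact ⟨hw.1, mem_centralizer_iff.mpr fun b hb => (hw.2 p hp hp1 b hb).symm⟩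
  have h3 := MinSimple.BTwoD.pairing (A := ee V p) (B := ws V r) (z := r) (h.ln.sq r hr) hr1
    (fun a ha => h.V_comm hr (h.ws_le_centralizer_V hp hp1 ha.1))
    (fun b hb => h.V_comm hr (h.ws_le_centralizer_V hr hr1 hb))
    (fun a ha b hb => by
      rcases h.kq_cases hr (ha.2 r hr hr1) hb with e | e
      · left; exact comm_of_conj_eq e
      · right
        calc a * b = (a * b * a⁻¹) * a := by group
          _ = r * (b * a) := by rw [e]; group)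
  rw [h1, h2, ← relIndex_mul_card (h.dd_le_ee p), ← relIndex_mul_card (w1_le_ws V r)] at h3
  have h4 : 0 < Nat.card (dd V p) := Nat.card_pos
  have h5 : 0 < Nat.card (w1 V r) := Nat.card_pos
  have h6 : (w1 V r).relIndex (ws V r) * (Nat.card (dd V p) * Nat.card (w1 V r)) =
      (dd V p).relIndex (ee V p) * (Nat.card (dd V p) * Nat.card (w1 V r)) := by
    calc (w1 V r).relIndex (ws V r) * (Nat.card (dd V p) * Nat.card (w1 V r))
        = Nat.card (dd V p) * ((w1 V r).relIndex (ws V r) * Nat.card (w1 V r)) := by ring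
      _ = (dd V p).relIndex (ee V p) * Nat.card (dd V p) * Nat.card (w1 V r) := h3
      _ = (dd V p).relIndex (ee V p) * (Nat.card (dd V p) * Nat.card (w1 V r)) := by ring
  exact (Nat.eq_of_mul_eq_mul_right (Nat.mul_pos h4 h5) h6).symm

/-- `|Φ| ≤ |A|` -/
theorem phi_le [Finite G] (h : One T V z) (hp : p ∈ V) (hp1 : p ≠ 1) (hq : q ∈ V) (hq1 : q ≠ 1) :
    (dd V p).relIndex (ee V p) ≤ (ee V q).relIndex (ws V q) := by
  rw [h.phi_card hp hp1 hq hq1]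
  exact relIndex_le_of_le (h.ee_le_w1 hq hq1)

/-- `|W_p : D_p| = |Φ| |A|` -/
theorem relIndex_dd (h : One T V z) (p : G) :
    (dd V p).relIndex (ws V p) = (dd V p).relIndex (ee V p) * (ee V p).relIndex (ws V p) :=
  (relIndex_mul_relIndex _ _ _ (h.dd_le_ee p) (ee_le_ws V p)).symm

/-- `|A| = |Φ| |Φ^⊥|` -/
theorem relIndex_ee [Finite G] (h : One T V z) (hp : p ∈ V) (hp1 : p ≠ 1) :
    (ee V p).relIndex (ws V p) = (ee V p).relIndex (w1 V p) * (dd V p).relIndex (ee V p) := by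
  rw [h.phi_card hp hp1 hp hp1]
  exact (relIndex_mul_relIndex _ _ _ (h.ee_le_w1 hp hp1) (w1_le_ws V p)).symm

/-! ### (IV) -/

/-- `E_p = D_p` does not depend on `p` -/
theorem ee_eq_dd (h : One T V z) (hp : p ∈ V) (hp1 : p ≠ 1) (hq : q ∈ V) (hq1 : q ≠ 1)
    (hE : ee V p ≤ dd V p) : ee V q ≤ dd V q := by
  have h1 : (dd V p).relIndex (ee V p) = 1 := relIndex_eq_one.mpr hE
  rw [h.relIndex_dd_ee hp hp1 hq hq1] at h1
  exact relIndex_eq_one.mp h1

/-- **(IV)** : `Φ = 0` implies `[W_p, W_q] ≤ V`. -/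
theorem comm_mem_V_of_phi [Finite G] (h : One T V z) (hr : r ∈ V) (hr1 : r ≠ 1) (hE : ee V r ≤ dd V r)
    (hp : p ∈ V) (hp1 : p ≠ 1) (hq : q ∈ V) (hq1 : q ≠ 1) {a b : G} (ha : a ∈ ws V p) (hb : b ∈ ws V q) :
    ⁅a, b⁆ ∈ V := by
  have key : ∀ p ∈ V, p ≠ 1 → ws V p ≤ w1 V p := by
    intro p hp hp1 a ha
    refine ⟨ha, fun q hq hq1 b hb => ?_⟩
    exact ((h.ee_eq_dd hr hr1 hq hq1 hE hb).2 p hp hp1 a ha).symm
  exact h.w1_comm hp hp1 hq hq1 (key p hp hp1 ha) (key q hq hq1 hb)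

/-- **(IV)** : `Φ ≠ 0` implies `[e, w] = q` for some `e ∈ E_p`, `w ∈ W_q`. -/
theorem exists_ee_comm (h : One T V z) (hr : r ∈ V) (hr1 : r ≠ 1) (hE : ¬ ee V r ≤ dd V r)
    (hp : p ∈ V) (hp1 : p ≠ 1) (hq : q ∈ V) (hq1 : q ≠ 1) (hqp : q ≠ p) :
    ∃ e ∈ ee V p, ∃ b ∈ ws V q, ⁅e, b⁆ = q := by
  have h1 : ¬ ee V p ≤ dd V p := fun h2 => hE (h.ee_eq_dd hp hp1 hr hr1 h2)
  obtain ⟨e, he, he'⟩ := SetLike.not_le_iff_exists.mp h1
  by_contra hcon
  push Not at hcon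
  apply he'
  refine h.mem_dd hp hp1 hq hq1 hqp he.1 fun b hb => ?_
  rcases h.ee_cases hq hq1 he hb with e1 | e1
  · exact commutatorElement_eq_one_iff_mul_comm.mp e1
  · exact absurd e1 (hcon e he b hb)

/-- **(IV)** : `Φ ≠ 0` implies `V ≤ [W_p, W_q]`. -/
theorem V_le_of_phi (h : One T V z) (hr : r ∈ V) (hr1 : r ≠ 1) (hE : ¬ ee V r ≤ dd V r)
    (hp : p ∈ V) (hp1 : p ≠ 1) (hq : q ∈ V) (hq1 : q ≠ 1) (hqp : q ≠ p) :
    V ≤ ⁅ws V p, ws V q⁆ := by
  obtain ⟨e, he, b, hb, h1⟩ := h.exists_ee_comm hr hr1 hE hp hp1 hq hq1 hqp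
  obtain ⟨f, hf, a, ha, h2⟩ := h.exists_ee_comm hr hr1 hE hq hq1 hp hp1 (Ne.symm hqp)
  have h3 : q ∈ ⁅ws V p, ws V q⁆ := by
    have := commutator_mem_commutator (H₁ := ws V p) (H₂ := ws V q) he.1 hb
    rwa [h1] at this
  have h4 : p ∈ ⁅ws V p, ws V q⁆ := by
    have := commutator_mem_commutator (H₁ := ws V p) (H₂ := ws V q) ha hf.1
    rwa [← h.comm_swap hp hp1 hq hq1 ha hf.1, h2] at this
  intro v hv
  by_cases hv1 : v = 1
  · rw [hv1]; exact one_mem _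
  rcases h.third hp hp1 hq hq1 hqp hv hv1 with e | e | e
  · rw [e]; exact h4
  · rw [e]; exact h3
  · rw [e]; exact mul_mem h4 h3

/-- `[W_p, W_q] ≠ 1` for all `p ≠ q` -/
theorem exists_not_comm (h : One T V z) (hp : p ∈ V) (hp1 : p ≠ 1) (hq : q ∈ V) (hq1 : q ≠ 1) (hqp : q ≠ p) :
    ∃ a ∈ ws V p, ∃ b ∈ ws V q, ⁅a, b⁆ ≠ 1 := by
  obtain ⟨y, hy, hy1, hyz, a, ha, b, hb, hab⟩ := h.nc
  obtain ⟨g, hg, hg1, hg2⟩ := h.xl_trans₂ h.ln.z_mem h.ln.z_ne hy hy1 hyz hp hp1 hq hq1 hqp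
  refine ⟨g * a * g⁻¹, ?_, g * b * g⁻¹, ?_, ?_⟩
  · rw [← hg1]; exact conj_mem_ws g ha
  · rw [← hg2]; exact conj_mem_ws g hb
  · rw [← conjugate_commutatorElement]
    intro e
    exact hab (commutatorElement_eq_one_iff_mul_comm.mp (conj_eq_one_iff.mp e))

theorem not_ws_le_ee (h : One T V z) (hp : p ∈ V) (hp1 : p ≠ 1) : ¬ ws V p ≤ ee V p := by
  intro hle
  obtain ⟨q, hq, hq1, hqp⟩ := h.exists_q hp hp1
  obtain ⟨a, ha, b, hb, hab⟩ := h.exists_not_comm hp hp1 hq hq1 hqp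
  have h1 : (ee V p).relIndex (ws V p) = 1 := relIndex_eq_one.mpr hle
  rw [h.relIndex_ee_ws hp hp1 hq hq1] at h1
  exact hab (commutatorElement_eq_one_iff_mul_comm.mpr
    (h.ee_comm hp hp1 hq hq1 (hle ha) (relIndex_eq_one.mp h1 hb)))

/-- **(IV)** : in both cases `λ ∈ [M, A]` : some commutator lies in `V - ⟨p⟩`. -/
theorem exists_lambda [Finite G] (h : One T V z) (hp : p ∈ V) (hp1 : p ≠ 1) (hq : q ∈ V) (hq1 : q ≠ 1)
    (hqp : q ≠ p) : ∃ a ∈ ws V p, ∃ b ∈ ws V q, ⁅a, b⁆ ∈ V ∧ ⁅a, b⁆ ∉ zpowers p := by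
  by_cases hE : ee V p ≤ dd V p
  · by_contra hcon
    push Not at hcon
    apply h.not_ws_le_ee hq hq1
    intro b hb
    refine h.mem_ee hq hq1 hp hp1 (Ne.symm hqp) hb ?_
    refine h.mem_kq hp (h.V_comm hp (h.ws_le_centralizer_V hq hq1 hb)).symm fun w hw => ?_
    have h1 := hcon w hw b hb (h.comm_mem_V_of_phi hp hp1 hE hp hp1 hq hq1 hw hb)
    rw [← h.comm_swap hp hp1 hq hq1 hw hb] at h1
    rcases h.zpowers_le hp h1 with e | e
    · left
      exact conj_eq_of_comm (commutatorElement_eq_one_iff_mul_comm.mp e)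
    · right
      rw [commutatorElement_def] at e
      rw [← e]; group
  · obtain ⟨e, he, b, hb, h1⟩ := h.exists_ee_comm hp hp1 hE hp hp1 hq hq1 hqp
    refine ⟨e, he.1, b, hb, by rw [h1]; exact hq, ?_⟩
    rw [h1]
    intro h2
    rcases h.zpowers_le hp h2 with e | e
    · exact hq1 e
    · exact hqp e

/-! ### (V) -/

/-- `NT V` from one pair of points: if `[W_p, b] ≤ V`, `b ∈ W_q`, implies `b ∈ K_p`. -/
theorem nt_of (h : One T V z) (hp : p ∈ V) (hp1 : p ≠ 1) (hq : q ∈ V) (hq1 : q ≠ 1) (hqp : q ≠ p)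
    (hN : ∀ b ∈ ws V q, (∀ a ∈ ws V p, ⁅a, b⁆ ∈ V) → b ∈ kq V p) : NT V := by
  have h1 : n0 V q ≤ ee V q := fun b hb => by
    refine h.mem_ee hq hq1 hp hp1 (Ne.symm hqp) hb.1 (hN b hb.1 fun a ha => ?_)
    rw [← h.comm_swap hp hp1 hq hq1 ha hb.1]
    exact hb.2.2 p hp hp1 a ha
  intro r hr hr1
  have h2 : (ee V q).relIndex (n0 V q) = 1 := relIndex_eq_one.mpr h1
  rw [h.relIndex_conj (ee V) (n0 V) (fun _ hg _ _ hw => conj_mem_ee hg hw)
    (fun _ hg _ _ hw => conj_mem_n0 hg hw) hq hq1 hr hr1] at h2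
  exact relIndex_eq_one.mp h2

/-- `Ē = {m | [m, A] ≤ λ}` -/
theorem nt_mem_ee (h : One T V z) (hN : NT V) (hp : p ∈ V) (hp1 : p ≠ 1) (hq : q ∈ V) (hq1 : q ≠ 1)
    (hqp : q ≠ p) {w : G} : w ∈ ee V p ↔ w ∈ ws V p ∧ ∀ b ∈ ws V q, ⁅w, b⁆ ∈ V := by
  constructor
  · intro hw
    exact ⟨hw.1, (h.ee_le_n0 hp hp1 hw).2.2 q hq hq1⟩
  · rintro ⟨hw, hc⟩
    exact hN p hp hp1 (h.mem_n0 hp hp1 hq hq1 hqp hw hc)

/-- `D̄ = C_M(A)` -/
theorem nt_mem_dd (h : One T V z) (hN : NT V) (hp : p ∈ V) (hp1 : p ≠ 1) (hq : q ∈ V) (hq1 : q ≠ 1)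
    (hqp : q ≠ p) {w : G} : w ∈ dd V p ↔ w ∈ ws V p ∧ ∀ b ∈ ws V q, ⁅w, b⁆ ∈ zpowers p := by
  constructor
  · intro hw
    refine ⟨hw.1, fun b hb => ?_⟩
    rw [commutatorElement_eq_one_iff_mul_comm.mpr (hw.2 q hq hq1 b hb)]
    exact one_mem _
  · rintro ⟨hw, hc⟩
    have h1 : w ∈ ee V p := (h.nt_mem_ee hN hp hp1 hq hq1 hqp).mpr
      ⟨hw, fun b hb => zpowers_le_of_mem hp (hc b hb)⟩
    refine h.mem_dd hp hp1 hq hq1 hqp hw fun b hb => ?_
    rcases h.ee_cases hq hq1 h1 hb with e | e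
    · exact commutatorElement_eq_one_iff_mul_comm.mp e
    · exfalso
      have h2 := hc b hb
      rw [e] at h2
      rcases h.zpowers_le hp h2 with e2 | e2
      · exact hq1 e2
      · exact hqp e2

/-- no `λ`-transvections: `Φ ≠ 0` -/
theorem nt_phi [Finite G] (h : One T V z) (hN : NT V) (hp : p ∈ V) (hp1 : p ≠ 1) : ¬ ee V p ≤ dd V p := by
  intro hE
  apply h.not_ws_le_ee hp hp1
  intro w hw
  obtain ⟨q, hq, hq1, hqp⟩ := h.exists_q hp hp1
  exact (h.nt_mem_ee hN hp hp1 hq hq1 hqp).mpr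
    ⟨hw, fun b hb => h.comm_mem_V_of_phi hp hp1 hE hp hp1 hq hq1 hw hb⟩

/-- no `λ`-transvections: `V ≤ [W_p, W_q]`, so `R = [W_p, W_q]`. -/
theorem nt_V_le [Finite G] (h : One T V z) (hN : NT V) (hp : p ∈ V) (hp1 : p ≠ 1) (hq : q ∈ V) (hq1 : q ≠ 1)
    (hqp : q ≠ p) : V ≤ ⁅ws V p, ws V q⁆ :=
  h.V_le_of_phi hp hp1 (h.nt_phi hN hp hp1) hp hp1 hq hq1 hqp

/-- no `λ`-transvections, `|R / V| ≤ 2` : `|A| ≤ |Φ|²`. -/
theorem nt_sq_le [Finite G] (h : One T V z) (hN : NT V) (hp : p ∈ V) (hp1 : p ≠ 1) (hq : q ∈ V) (hq1 : q ≠ 1)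
    (hqp : q ≠ p) (hR : V.relIndex ⁅ws V p, ws V q⁆ ≤ 2) :
    (ee V p).relIndex (ws V p) ≤ (dd V p).relIndex (ee V p) ^ 2 := by
  classical
  -- two elements of `R - V` have their product in `V`
  have hR2 : ∀ x ∈ ⁅ws V p, ws V q⁆, ∀ y ∈ ⁅ws V p, ws V q⁆, x ∉ V → y ∉ V → x * y ∈ V := by
    intro x hx y hy hxV hyV
    have h1 : V.relIndex ⁅ws V p, ws V q⁆ = 2 := by
      have h2 : V.relIndex ⁅ws V p, ws V q⁆ ≠ 0 := relIndex_ne_zero' _ _
      have h3 : V.relIndex ⁅ws V p, ws V q⁆ ≠ 1 := fun e => hxV (relIndex_eq_one.mp e hx)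
      omega
    have h4 : (V.subgroupOf ⁅ws V p, ws V q⁆).index = 2 := h1
    have h5 := Subgroup.mul_mem_iff_of_index_two h4 (a := ⟨x, hx⟩) (b := ⟨y, hy⟩)
    rw [mem_subgroupOf, mem_subgroupOf, mem_subgroupOf] at h5
    exact h5.mpr ⟨fun e => absurd e hxV, fun e => absurd e hyV⟩
  let s : ws V p → w1 V q → ℤˣ := fun a b => if ⁅(a : G), (b : G)⁆ ∈ V then 1 else -1
  have hsV : ∀ (a : ws V p) (b : w1 V q), s a b = 1 ↔ ⁅(a : G), (b : G)⁆ ∈ V := by
    intro a b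
    by_cases hc : ⁅(a : G), (b : G)⁆ ∈ V
    · simp [s, hc]
    · simp [s, hc]
  have hmul : ∀ x ∈ ⁅ws V p, ws V q⁆, ∀ y ∈ ⁅ws V p, ws V q⁆,
      (if x * y ∈ V then (1 : ℤˣ) else -1) = (if x ∈ V then 1 else -1) * (if y ∈ V then 1 else -1) := by
    intro x hx y hy
    by_cases h1 : x ∈ V <;> by_cases h2 : y ∈ V
    · simp [h1, h2, mul_mem h1 h2]
    · have : x * y ∉ V := fun e => h2 ((mul_mem_cancel_left h1).mp e)
      simp [h1, h2, this]
    · have : x * y ∉ V := fun e => h1 ((mul_mem_cancel_right h2).mp e)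
      simp [h1, h2, this]
    · simp [h1, h2, hR2 x hx y hy h1 h2]
  have hcm : ∀ (a : ws V p) (b : w1 V q), ⁅(a : G), (b : G)⁆ ∈ ⁅ws V p, ws V q⁆ := fun a b =>
    commutator_mem_commutator a.2 b.2.1
  have h1 := pairing_units s
    (fun a a' b => by
      change (if ⁅((a * a' : ws V p) : G), (b : G)⁆ ∈ V then (1 : ℤˣ) else -1) = _
      rw [Subgroup.coe_mul, h.comm_mul_left hp hp1 hq hq1 a.2 a'.2 b.2.1]
      exact hmul _ (hcm a b) _ (hcm a' b))
    (fun a b b' => by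
      change (if ⁅(a : G), ((b * b' : w1 V q) : G)⁆ ∈ V then (1 : ℤˣ) else -1) = _
      rw [Subgroup.coe_mul, h.comm_mul_right hp hp1 hq hq1 a.2 b.2.1 b'.2.1]
      exact hmul _ (hcm a b) _ (hcm a b'))
  -- the left kernel contains `w1 V p`, the right kernel is `E_q`
  have h2 : Nat.card (w1 V p) ≤ Nat.card {a : ws V p // ∀ b, s a b = 1} := by
    refine Nat.card_le_card_of_injective (fun a : w1 V p => ⟨⟨a.1, a.2.1⟩, fun b => ?_⟩) ?_
    · rw [hsV]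
      exact h.w1_comm hp hp1 hq hq1 a.2 b.2
    · intro a b hab
      have := congrArg (fun x => ((x : {a : ws V p // ∀ b, s a b = 1}).1 : G)) hab
      exact Subtype.ext this
  have h3 : Nat.card {b : w1 V q // ∀ a, s a b = 1} ≤ Nat.card (ee V q) := by
    refine Nat.card_le_card_of_injective (fun b => ⟨(b.1 : G), ?_⟩) ?_
    · refine (h.nt_mem_ee hN hq hq1 hp hp1 (Ne.symm hqp)).mpr ⟨b.1.2.1, fun a ha => ?_⟩
      rw [h.comm_swap hp hp1 hq hq1 ha b.1.2.1]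
      exact (hsV ⟨a, ha⟩ b.1).mp (b.2 ⟨a, ha⟩)
    · intro a b hab
      have := congrArg (fun x : ee V q => (x : G)) hab
      exact Subtype.ext (Subtype.ext this)
  -- `|w1 V p| |w1 V q| ≤ |W_p| |E_q|`
  have h4 : Nat.card (w1 V p) * Nat.card (w1 V q) ≤ Nat.card (ws V p) * Nat.card (ee V q) :=
    (Nat.mul_le_mul_right _ h2).trans (h1.le.trans (Nat.mul_le_mul_left _ h3))
  have h5 := relIndex_mul_card (h.ee_le_w1 hq hq1)
  have h6 := relIndex_mul_card (w1_le_ws V p)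
  rw [← h5, ← h6] at h4
  have h7 : (ee V q).relIndex (w1 V q) ≤ (w1 V p).relIndex (ws V p) := by
    have h8 : (ee V q).relIndex (w1 V q) * (Nat.card (w1 V p) * Nat.card (ee V q)) ≤
        (w1 V p).relIndex (ws V p) * (Nat.card (w1 V p) * Nat.card (ee V q)) := by
      calc (ee V q).relIndex (w1 V q) * (Nat.card (w1 V p) * Nat.card (ee V q))
          = Nat.card (w1 V p) * ((ee V q).relIndex (w1 V q) * Nat.card (ee V q)) := by ring
        _ ≤ (w1 V p).relIndex (ws V p) * Nat.card (w1 V p) * Nat.card (ee V q) := h4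
        _ = (w1 V p).relIndex (ws V p) * (Nat.card (w1 V p) * Nat.card (ee V q)) := by ring
    exact Nat.le_of_mul_le_mul_right h8 (Nat.mul_pos Nat.card_pos Nat.card_pos)
  rw [h.relIndex_ee hp hp1, h.relIndex_ee_w1 hp hp1 hq hq1, pow_two]
  refine Nat.mul_le_mul_right _ ?_
  rwa [h.phi_card hp hp1 hp hp1]

/-! ### `k = 1` -/

/-- `|A| = 2` : `C_G(V)` centralises `W_q / E_q`. -/
theorem cent_of_two (h : One T V z) (hq : q ∈ V) (h2 : (ee V q).relIndex (ws V q) = 2) {c b : G}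
    (hc : c ∈ centralizer (V : Set G)) (hb : b ∈ ws V q) : c * b * c⁻¹ * b⁻¹ ∈ ee V q := by
  have hcn := centralizer_le_normalizer _ hc
  have hcq : c * q * c⁻¹ = q := conj_eq_of_comm (h.V_comm hq hc).symm
  have hcb : c * b * c⁻¹ ∈ ws V q := conj_mem_of_normalizer (h.cent_norm hq) hc hb
  have h3 : ((ee V q).subgroupOf (ws V q)).index = 2 := h2
  have h5 := Subgroup.mul_mem_iff_of_index_two h3 (a := ⟨c * b * c⁻¹, hcb⟩) (b := ⟨b⁻¹, inv_mem hb⟩)
  rw [mem_subgroupOf, mem_subgroupOf, mem_subgroupOf] at h5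
  refine h5.mpr ?_
  change c * b * c⁻¹ ∈ ee V q ↔ b⁻¹ ∈ ee V q
  rw [inv_mem_iff]
  constructor
  · intro h6
    have h7 := conj_mem_ee (inv_mem hcn) h6
    have e1 : c⁻¹ * q * c⁻¹⁻¹ = q := by
      calc c⁻¹ * q * c⁻¹⁻¹ = c⁻¹ * (c * q * c⁻¹) * c⁻¹⁻¹ := by rw [hcq]
        _ = q := by group
    have e2 : c⁻¹ * (c * b * c⁻¹) * c⁻¹⁻¹ = b := by group
    rwa [e1, e2] at h7
  · intro h6
    have h7 := conj_mem_ee hcn h6
    rwa [hcq] at h7

/-- `|A| = 2`, no `λ`-transvections : `|Φ| = 2`. -/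
theorem nt_phi_two [Finite G] (h : One T V z) (hN : NT V) (hp : p ∈ V) (hp1 : p ≠ 1)
    (h2 : (ee V p).relIndex (ws V p) = 2) : (dd V p).relIndex (ee V p) = 2 := by
  have h3 := h.phi_le hp hp1 hp hp1
  have h4 : (dd V p).relIndex (ee V p) ≠ 1 := fun e => h.nt_phi hN hp hp1 (relIndex_eq_one.mp e)
  have h5 : (dd V p).relIndex (ee V p) ≠ 0 := relIndex_ne_zero' _ _
  omega

/-- `|A| = 2`, no `λ`-transvections : `|M : C_M(A)| = 4`. -/
theorem nt_card_four [Finite G] (h : One T V z) (hN : NT V) (hp : p ∈ V) (hp1 : p ≠ 1)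
    (h2 : (ee V p).relIndex (ws V p) = 2) : (dd V p).relIndex (ws V p) = 4 := by
  rw [h.relIndex_dd, h.nt_phi_two hN hp hp1 h2, h2]

/-- `|A| = 2`, no `λ`-transvections : `|R| = 8`, `R = [W_p, W_q]`. -/
theorem nt_card_eight [Finite G] (h : One T V z) (hN : NT V) (hp : p ∈ V) (hp1 : p ≠ 1) (hq : q ∈ V)
    (hq1 : q ≠ 1) (hqp : q ≠ p) (h2 : (ee V p).relIndex (ws V p) = 2) :
    Nat.card (⁅ws V p, ws V q⁆ : Subgroup G) = 8 := by
  have hVR := h.nt_V_le hN hp hp1 hq hq1 hqp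
  have h2' : (ee V q).relIndex (ws V q) = 2 := by rw [h.relIndex_ee_ws hq hq1 hp hp1]; exact h2
  have hpi : ((ee V p).subgroupOf (ws V p)).index = 2 := h2
  have hqi : ((ee V q).subgroupOf (ws V q)).index = 2 := h2'
  -- two commutators outside `V` are congruent modulo `V`
  have hcong : ∀ a ∈ ws V p, ∀ b ∈ ws V q, ∀ a' ∈ ws V p, ∀ b' ∈ ws V q, ⁅a, b⁆ ∉ V → ⁅a', b'⁆ ∉ V →
      ⁅a, b⁆ * ⁅a', b'⁆⁻¹ ∈ V := by
    intro a ha b hb a' ha' b' hb' h3 h4
    have hna : ∀ a ∈ ws V p, ∀ b ∈ ws V q, ⁅a, b⁆ ∉ V → a ∉ ee V p ∧ b ∉ ee V q := by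
      intro a ha b hb h3
      constructor
      · intro h5
        exact h3 ((h.nt_mem_ee hN hp hp1 hq hq1 hqp).mp h5 |>.2 b hb)
      · intro h5
        apply h3
        rw [← h.comm_swap hp hp1 hq hq1 ha hb]
        exact (h.nt_mem_ee hN hq hq1 hp hp1 (Ne.symm hqp)).mp h5 |>.2 a ha
    obtain ⟨h5, h6⟩ := hna a ha b hb h3
    obtain ⟨h7, h8⟩ := hna a' ha' b' hb' h4
    have h9 : a * a'⁻¹ ∈ ee V p := by
      have := Subgroup.mul_mem_iff_of_index_two hpi (a := ⟨a, ha⟩) (b := ⟨a'⁻¹, inv_mem ha'⟩)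
      rw [mem_subgroupOf, mem_subgroupOf, mem_subgroupOf] at this
      refine this.mpr ⟨fun e => absurd e h5, fun e => absurd (inv_mem_iff.mp e) h7⟩
    have h10 : b * b'⁻¹ ∈ ee V q := by
      have := Subgroup.mul_mem_iff_of_index_two hqi (a := ⟨b, hb⟩) (b := ⟨b'⁻¹, inv_mem hb'⟩)
      rw [mem_subgroupOf, mem_subgroupOf, mem_subgroupOf] at this
      refine this.mpr ⟨fun e => absurd e h6, fun e => absurd (inv_mem_iff.mp e) h8⟩
    have h11 := h.beta_left hp hp1 hq hq1 ha ha' hb h9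
    have h12 := h.beta_right hp hp1 hq hq1 ha' hb hb' h10
    have := mul_mem h11 h12
    rwa [mul_assoc, inv_mul_cancel_left] at this
  -- some commutator is not in `V`
  obtain ⟨a₀, ha₀, b₀, hb₀, h₀⟩ : ∃ a ∈ ws V p, ∃ b ∈ ws V q, ⁅a, b⁆ ∉ V := by
    by_contra hcon
    push Not at hcon
    exact h.not_ws_le_ee hp hp1 fun w hw => (h.nt_mem_ee hN hp hp1 hq hq1 hqp).mpr ⟨hw, hcon w hw⟩
  set c := ⁅a₀, b₀⁆ with hc
  have hci := h.comm_ii_mem hp hp1 hq hq1 ha₀ hb₀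
  have hcc : c * c = 1 := h.comm_sq hp hp1 hq hq1 ha₀ hb₀
  have hcV : ∀ v ∈ V, v * c = c * v := fun v hv => h.V_comm hv (h.ii_le_centralizer hci)
  -- `R ≤ V ∪ V c`
  let R' : Subgroup G :=
    { carrier := {x | x ∈ V ∨ x * c ∈ V}
      mul_mem' := by
        have hcV' : ∀ x, x * c ∈ V → ∃ v ∈ V, x = v * c := fun x hx =>
          ⟨x * c, hx, by rw [mul_assoc, hcc, mul_one]⟩
        rintro a b (ha | ha) (hb | hb)
        · exact Or.inl (mul_mem ha hb)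
        · exact Or.inr (by rw [mul_assoc]; exact mul_mem ha hb)
        · obtain ⟨v, hv, rfl⟩ := hcV' a ha
          right
          have : v * c * b * c = v * b := by
            calc v * c * b * c = v * (c * b) * c := by group
              _ = v * (b * c) * c := by rw [hcV b hb]
              _ = v * b * (c * c) := by group
              _ = v * b := by rw [hcc, mul_one]
          rw [this]; exact mul_mem hv hb
        · obtain ⟨v, hv, rfl⟩ := hcV' a ha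
          obtain ⟨w, hw, rfl⟩ := hcV' b hb
          left
          have : v * c * (w * c) = v * w := by
            calc v * c * (w * c) = v * (c * w) * c := by group
              _ = v * (w * c) * c := by rw [hcV w hw]
              _ = v * w * (c * c) := by group
              _ = v * w := by rw [hcc, mul_one]
          rw [this]; exact mul_mem hv hw
      one_mem' := Or.inl (one_mem _)
      inv_mem' := by
        rintro a (ha | ha)
        · exact Or.inl (inv_mem ha)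
        · right
          have e : a⁻¹ * c = (a * c)⁻¹ := by
            have h1 := hcV _ ha
            have h2 : a = (a * c) * c := by rw [mul_assoc, hcc, mul_one]
            calc a⁻¹ * c = ((a * c) * c)⁻¹ * c := by rw [← h2]
              _ = (c * (a * c))⁻¹ * c := by rw [h1]
              _ = (a * c)⁻¹ * (c⁻¹ * c) := by group
              _ = (a * c)⁻¹ := by group
          rw [e]; exact inv_mem ha }
  have hle : ⁅ws V p, ws V q⁆ ≤ R' := by
    rw [commutator_le]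
    intro a ha b hb
    by_cases h3 : ⁅a, b⁆ ∈ V
    · exact Or.inl h3
    · right
      have := hcong a ha b hb a₀ ha₀ b₀ hb₀ h3 h₀
      rwa [← hc, inv_eq_self hcc] at this
  have h3 : V.relIndex ⁅ws V p, ws V q⁆ = 2 := by
    rw [relIndex_eq_two_iff_exists_notMem_and]
    refine ⟨c, commutator_mem_commutator ha₀ hb₀, h₀, fun b hb => ?_⟩
    exact (hle hb).symm
  rw [← relIndex_mul_card hVR, h3, h.ln.card_V]

end One

end Cfsg.Agent.Omega.NO3S.TwoOne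

end

section


/-!
# NO-3S, `q = 2`, `n = 1`: `|W_z| = 16` (helper225's text #15275 (A)), first part

`Std T V z` : `One T V z`, `|W_z| = 16`, `E_p ≤ V` (so `|A| = 4`) and nonlocality.

* `Std.left`, `Std.right`, `Std.surj` : `[·, ·] : W_z/V × W_y/V → V/z` is nondegenerate;
* `Std.mem_nb` : every `w ∈ W_z - ⟨z⟩` is a point collinear with `z`;
* `Std.exists_d` : some `d ∈ C_G(V)` is fixed-point-free on `W_z/V`, `[B_z, d] ≤ W_z`, `B_z = C_G(W_z)`;
* `Std.bz_eq` : `B_z = W_z D_l`, `D_l = dl V`;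
* `Std.bz_sq` : `B_z` is elementary abelian.
-/

set_option autoImplicit false
set_option linter.unusedSectionVars false

namespace Cfsg.Agent.Omega.NO3S.TwoOne

open Subgroup Cfsg Cfsg.Agent.ZN Cfsg.Agent.MinSimple.Geo Cfsg.Agent.Omega.CaseL
open Cfsg.Agent.ZN.Block (conj_mem_of_normalizer conj_mem_of_normalizer' le_normalizer_of_forall
  mem_normalizer_of)
open scoped commutatorElement

universe u

variable {G : Type u} [Group G]

/-! ### general lemmas -/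

/-- two elements outside a subgroup of index at most 2 -/
theorem mul_mem_of_card_lt [Finite G] {V C W : Subgroup G} (hVC : V ≤ C) (hCW : C ≤ W)
    (hV : Nat.card V = 4) (hW : Nat.card W = 16) (hne : ¬ C ≤ V) {a b : G} (ha : a ∈ W) (hb : b ∈ W)
    (ha' : a ∉ C) (hb' : b ∉ C) : a * b ∈ C := by
  have h1 : C.relIndex W * Nat.card C = 16 := by rw [relIndex_mul_card hCW, hW]
  have h2 : V.relIndex C * 4 = Nat.card C := by rw [← hV, relIndex_mul_card hVC]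
  have h3 : V.relIndex C ≠ 1 := fun e => hne (relIndex_eq_one.mp e)
  have h4 : V.relIndex C ≠ 0 := relIndex_ne_zero' _ _
  have h5 : C.relIndex W ≠ 0 := relIndex_ne_zero' _ _
  have h6 : C.relIndex W ≠ 1 := fun e => ha' (relIndex_eq_one.mp e ha)
  have h7 : 2 ≤ V.relIndex C := by omega
  have h8 : C.relIndex W = 2 := by
    rw [← h2] at h1
    have : C.relIndex W ≤ 2 := by
      by_contra hcon
      have h9 : 3 ≤ C.relIndex W := by omega
      have := Nat.mul_le_mul h9 (Nat.mul_le_mul_right 4 h7)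
      omega
    omega
  have h9 : (C.subgroupOf W).index = 2 := h8
  have h10 := Subgroup.mul_mem_iff_of_index_two h9 (a := ⟨a, ha⟩) (b := ⟨b, hb⟩)
  rw [mem_subgroupOf, mem_subgroupOf, mem_subgroupOf] at h10
  exact h10.mpr ⟨fun e => absurd e ha', fun e => absurd e hb'⟩

/-- a fixed-point-free map of an abelian section is onto -/
theorem fpf_surj [Finite G] {B D : Subgroup G} {d : G} (hBD : B ≤ normalizer (D : Set G))
    (hab : ∀ a ∈ B, ∀ b ∈ B, a * b * a⁻¹ * b⁻¹ ∈ D) (hdB : d ∈ normalizer (B : Set G))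
    (hdD : d ∈ normalizer (D : Set G)) (hf : ∀ b ∈ B, d * b * d⁻¹ * b⁻¹ ∈ D → b ∈ D) {b : G} (hb : b ∈ B) :
    ∃ b' ∈ B, (d * b' * d⁻¹ * b'⁻¹)⁻¹ * b ∈ D := by
  have hn : (D.subgroupOf B).Normal := normal_subgroupOf_of_le_normalizer hBD
  have hm : ∀ b ∈ B, d * b * d⁻¹ * b⁻¹ ∈ B := fun b hb =>
    mul_mem ((mem_normalizer_iff.mp hdB b).mp hb) (inv_mem hb)
  let φ : B →* B ⧸ D.subgroupOf B := MonoidHom.mk'
    (fun b => QuotientGroup.mk ⟨d * b * d⁻¹ * (b : G)⁻¹, hm b b.2⟩) (by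
      intro a b
      rw [← QuotientGroup.mk_mul, QuotientGroup.eq]
      rw [mem_subgroupOf]
      change (d * (a * b : G) * d⁻¹ * (a * b : G)⁻¹)⁻¹ * ((d * a * d⁻¹ * (a : G)⁻¹) * (d * b * d⁻¹ * (b : G)⁻¹)) ∈ D
      have h1 := hab a a.2 _ (inv_mem (hm b b.2))
      have e : (d * (a * b : G) * d⁻¹ * (a * b : G)⁻¹)⁻¹ *
          ((d * a * d⁻¹ * (a : G)⁻¹) * (d * b * d⁻¹ * (b : G)⁻¹)) =
          a * (d * b * d⁻¹ * (b : G)⁻¹)⁻¹ * (a : G)⁻¹ * (d * b * d⁻¹ * (b : G)⁻¹)⁻¹⁻¹ := by group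
      rw [e]; exact h1)
  have hker : φ.ker = D.subgroupOf B := by
    ext x
    rw [MonoidHom.mem_ker, mem_subgroupOf]
    change (QuotientGroup.mk ⟨d * x * d⁻¹ * (x : G)⁻¹, hm x x.2⟩ : B ⧸ D.subgroupOf B) = 1 ↔ _
    rw [QuotientGroup.eq_one_iff, mem_subgroupOf]
    constructor
    · exact hf x x.2
    · intro hx
      exact mul_mem ((mem_normalizer_iff.mp hdD x).mp hx) (inv_mem hx)
  have hr : φ.range = ⊤ := by
    apply Subgroup.eq_top_of_card_eq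
    rw [← Subgroup.index_ker, hker]
    rfl
  obtain ⟨b', hb'⟩ : (QuotientGroup.mk ⟨b, hb⟩ : B ⧸ D.subgroupOf B) ∈ φ.range := by rw [hr]; trivial
  refine ⟨b', b'.2, ?_⟩
  change (QuotientGroup.mk ⟨d * b' * d⁻¹ * (b' : G)⁻¹, hm b' b'.2⟩ : B ⧸ D.subgroupOf B) =
    QuotientGroup.mk ⟨b, hb⟩ at hb'
  rw [QuotientGroup.eq, mem_subgroupOf] at hb'
  exact hb'

/-- `W = ⟨V, n, m⟩` -/
def Gn (V W : Subgroup G) (n m : G) : Prop := ∀ X : Subgroup G, V ≤ X → n ∈ X → m ∈ X → W ≤ X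

theorem Gn.swap {V W : Subgroup G} {n m : G} (h : Gn V W n m) : Gn V W m n := fun X h1 h2 h3 => h X h1 h3 h2

/-- generators of a group of order 16 over a subgroup of order 4 -/
theorem exists_gn [Finite G] {V W : Subgroup G} (hVW : V ≤ W) (hV : Nat.card V = 4) (hW : Nat.card W = 16)
    (ab : ∀ a ∈ W, ∀ b ∈ W, a * b = b * a) (sq : ∀ a ∈ W, a * a = 1) :
    ∃ n ∈ W, ∃ m ∈ W, n ∉ V ∧ m ∉ V ∧ n * m ∉ V ∧ Gn V W n m := by
  obtain ⟨n, hn, hnV⟩ : ∃ n ∈ W, n ∉ V := by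
    by_contra hcon
    push Not at hcon
    have h1 := Nat.le_of_dvd Nat.card_pos (card_dvd_of_le (show W ≤ V from hcon))
    omega
  have hnn := sq n hn
  have hzn : zpowers n ≤ W := zpowers_le_of_mem hn
  set Y := zpowers n ⊔ V with hY
  have hYW : Y ≤ W := sup_le hzn hVW
  have hcard : Nat.card Y ≤ 8 := by
    have hle : zpowers n ≤ normalizer (V : Set G) := by
      refine le_normalizer_of_forall fun g hg v hv => ?_
      rw [ab g (hzn hg) v (hVW hv), mul_inv_cancel_right]; exact hv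
    have h1 := Block.card_sup_mul_card_inf hle
    have h2 : Nat.card (zpowers n) ≤ 2 := by
      rw [Nat.card_zpowers]
      exact Nat.le_of_dvd (by norm_num) (orderOf_dvd_of_pow_eq_one (by rw [pow_two]; exact hnn))
    rw [hV] at h1
    have h3 : 0 < Nat.card ↥(zpowers n ⊓ V) := Nat.card_pos
    have h4 : Nat.card ↥(zpowers n ⊔ V) * 1 ≤ Nat.card ↥(zpowers n ⊔ V) * Nat.card ↥(zpowers n ⊓ V) :=
      Nat.mul_le_mul_left _ h3
    have h5 : Nat.card (zpowers n) * 4 ≤ 2 * 4 := Nat.mul_le_mul_right _ h2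
    rw [hY]
    omega
  obtain ⟨m, hm, hmY⟩ : ∃ m ∈ W, m ∉ Y := by
    by_contra hcon
    push Not at hcon
    have h1 := Nat.le_of_dvd Nat.card_pos (card_dvd_of_le (show W ≤ Y from hcon))
    omega
  have hVY : V ≤ Y := le_sup_right
  have hnY : n ∈ Y := mem_sup_left (mem_zpowers n)
  refine ⟨n, hn, m, hm, hnV, fun e => hmY (hVY e), fun e => hmY ?_, ?_⟩
  · have : m = n⁻¹ * (n * m) := by group
    rw [this]; exact mul_mem (inv_mem hnY) (hVY e)
  · intro X hVX hnX hmX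
    have hYX : Y ≤ X := sup_le (zpowers_le_of_mem hnX) hVX
    -- `V < Y < X ∩ W`
    have h1 : V.relIndex Y ≠ 1 := fun e => hnV (relIndex_eq_one.mp e hnY)
    have h2 : V.relIndex Y ≠ 0 := relIndex_ne_zero' _ _
    have h3 := relIndex_mul_card hVY
    have hYX' : Y ≤ X ⊓ W := le_inf hYX hYW
    have h4 : Y.relIndex (X ⊓ W) ≠ 1 := fun e => hmY (relIndex_eq_one.mp e ⟨hmX, hm⟩)
    have h5 : Y.relIndex (X ⊓ W) ≠ 0 := relIndex_ne_zero' _ _
    have h6 := relIndex_mul_card hYX'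
    have h7 := relIndex_mul_card (inf_le_right : X ⊓ W ≤ W)
    rw [hV] at h3
    rw [hW] at h7
    have h8 : 8 ≤ Nat.card Y := by
      have : 2 ≤ V.relIndex Y := by omega
      have := Nat.mul_le_mul_right 4 this
      omega
    have h9 : 16 ≤ Nat.card ↥(X ⊓ W) := by
      have : 2 ≤ Y.relIndex (X ⊓ W) := by omega
      have := Nat.mul_le_mul this h8
      omega
    have h10 : (X ⊓ W).relIndex W = 1 := by
      have h11 : (X ⊓ W).relIndex W ≠ 0 := relIndex_ne_zero' _ _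
      by_contra hcon
      have : 2 ≤ (X ⊓ W).relIndex W := by omega
      have := Nat.mul_le_mul this h9
      omega
    exact (relIndex_eq_one.mp h10).trans inf_le_left

/-! ### the situation -/

/-- `|W_z| = 16`, `E_p ≤ V`, nonlocality -/
structure Std (T V : Subgroup G) (z : G) : Prop where
  one : One T V z
  card : Nat.card (ws V z) = 16
  le : ∀ p ∈ V, p ≠ 1 → ee V p ≤ V
  nl : ∀ N : Subgroup G, N ≤ centralizer ({z} : Set G) →
    centralizer ({z} : Set G) ≤ normalizer (N : Set G) →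
    normalizer (V : Set G) ≤ normalizer (N : Set G) → N = ⊥

/-- `B_p = C_G(W_p)` -/
abbrev bz (V : Subgroup G) (p : G) : Subgroup G := centralizer (ws V p : Set G)

/-- `D_l`, the intersection of the `B_p`, `p ∈ V#` -/
def dl (V : Subgroup G) : Subgroup G where
  carrier := {g | ∀ p ∈ V, p ≠ 1 → g ∈ bz V p}
  mul_mem' := fun ha hb p hp hp1 => mul_mem (ha p hp hp1) (hb p hp hp1)
  one_mem' := fun _ _ _ => one_mem _
  inv_mem' := fun ha p hp hp1 => inv_mem (ha p hp hp1)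

theorem mem_bz {V : Subgroup G} {p g : G} : g ∈ bz V p ↔ ∀ w ∈ ws V p, g * w = w * g := by
  rw [mem_centralizer_iff]
  exact ⟨fun h w hw => (h w hw).symm, fun h w hw => (h w hw).symm⟩

theorem conj_mem_bz {V : Subgroup G} {p b : G} (g : G) (hb : b ∈ bz V p) : g * b * g⁻¹ ∈ bz V (g * p * g⁻¹) := by
  rw [mem_bz] at hb ⊢
  intro w hw
  have h1 : g⁻¹ * w * g ∈ ws V p := by
    have := conj_mem_ws g⁻¹ hw
    have e : g⁻¹ * (g * p * g⁻¹) * g⁻¹⁻¹ = p := by group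
    rwa [e, inv_inv] at this
  have h2 := hb _ h1
  calc g * b * g⁻¹ * w = g * (b * (g⁻¹ * w * g)) * g⁻¹ := by group
    _ = g * ((g⁻¹ * w * g) * b) * g⁻¹ := by rw [h2]
    _ = w * (g * b * g⁻¹) := by group

theorem conj_mem_dl {V : Subgroup G} {g b : G} (hg : g ∈ normalizer (V : Set G)) (hb : b ∈ dl V) :
    g * b * g⁻¹ ∈ dl V := by
  intro p hp hp1
  have h1 := conj_mem_bz g (hb _ ((mem_normalizer_iff''.mp hg p).mp hp) (conj_ne_one hp1))
  have e : g * (g⁻¹ * p * g) * g⁻¹ = p := by group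
  rwa [e] at h1

theorem normalizer_le_normalizer_dl (V : Subgroup G) :
    normalizer (V : Set G) ≤ normalizer ((dl V : Subgroup G) : Set G) :=
  le_normalizer_of_forall fun _ hg _ hk => conj_mem_dl hg hk

theorem centralizer_le_normalizer_bz (V : Subgroup G) (z : G) :
    centralizer ({z} : Set G) ≤ normalizer ((bz V z : Subgroup G) : Set G) := by
  refine le_normalizer_of_forall fun c hc b hb => ?_
  have := conj_mem_bz c hb
  rwa [conj_eq_of_comm (mem_centralizer_singleton_iff.mp hc)] at this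

theorem bz_cj (V : Subgroup G) (g x : G) : bz (cj g V) x = bz V x := by
  unfold bz; rw [ws_cj]

namespace Std

variable {T V : Subgroup G} {z p q r : G}

theorem conj (h : Std T V z) (g : G) : Std (cj g T) (cj g V) (g * z * g⁻¹) where
  one := h.one.conj g
  card := by rw [ws_cj, ← cj_ws, card_cj]; exact h.card
  le := by
    intro p hp hp1 w hw
    rw [mem_cj] at hp ⊢
    refine h.le _ hp (conj_ne_one hp1) ⟨?_, fun q hq hq1 => ?_⟩
    · have h1 := hw.1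
      rw [ws_cj] at h1
      have := conj_mem_ws g⁻¹ h1
      rwa [inv_inv] at this
    · have h1 := hw.2 (g * q * g⁻¹) (conj_mem_cj hq) (fun e => hq1 (conj_eq_one_iff.mp e))
      rw [kq_cj] at h1
      have := conj_mem_kq g⁻¹ h1
      have e : g⁻¹ * (g * q * g⁻¹) * g⁻¹⁻¹ = q := by group
      rwa [e, inv_inv] at this
  nl := by
    intro N h1 h2 h3
    have h4 := h.nl (cj g⁻¹ N) ?_ ?_ ?_
    · rw [← cj_cj_inv g N, h4]; exact Subgroup.map_bot _
    · rw [cj_le_iff, inv_inv, cj_centralizer_singleton]; exact h1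
    · rw [← cj_normalizer, ← cj_le_iff, cj_centralizer_singleton]; exact h2
    · rw [← cj_normalizer, ← cj_le_iff, cj_normalizer]; exact h3

theorem z_mem (h : Std T V z) : z ∈ V := h.one.ln.z_mem

theorem z_ne (h : Std T V z) : z ≠ 1 := h.one.ln.z_ne

theorem zz (h : Std T V z) : z * z = 1 := h.one.ln.zz

theorem point (h : Std T V z) (hp : p ∈ V) (hp1 : p ≠ 1) : ∃ T', Std T' V p := by
  obtain ⟨g, hg, rfl⟩ := h.one.ln.trans p hp hp1
  have := h.conj g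
  rw [cj_eq_of_mem_normalizer hg] at this
  exact ⟨_, this⟩

theorem line (h : Std T V z) {L : Subgroup G} (hL : L ∈ lines V z) : ∃ g, L = cj g V ∧ ∃ T', Std T' L z := by
  obtain ⟨c, hc, rfl⟩ := h.one.ln.exists_of_mem_lines hL
  have h1 := h.conj c
  rw [conj_eq_of_comm (mem_centralizer_singleton_iff.mp hc)] at h1
  exact ⟨c, rfl, _, h1⟩

theorem card_ws (h : Std T V z) (hp : p ∈ V) (hp1 : p ≠ 1) : Nat.card (ws V p) = 16 := by
  obtain ⟨T', h'⟩ := h.point hp hp1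
  exact h'.card

theorem ii_le (h : Std T V z) : ii V ≤ V :=
  (h.one.ii_le_ee h.z_mem h.z_ne).trans (h.le _ h.z_mem h.z_ne)

theorem comm_mem (h : Std T V z) (hp : p ∈ V) (hp1 : p ≠ 1) (hq : q ∈ V) (hq1 : q ≠ 1) {a b : G}
    (ha : a ∈ ws V p) (hb : b ∈ ws V q) : ⁅a, b⁆ ∈ V :=
  h.ii_le (h.one.comm_ii_mem hp hp1 hq hq1 ha hb)

theorem inf_le (h : Std T V z) (hp : p ∈ V) (hp1 : p ≠ 1) (hq : q ∈ V) (hq1 : q ≠ 1) (hqp : q ≠ p) {w : G}
    (h1 : w ∈ ws V p) (h2 : w ∈ ws V q) : w ∈ V := h.ii_le (h.one.mem_ii hp hp1 hq hq1 hqp h1 h2)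

/-- `⟨z⟩` in `V` -/
theorem zp (h : Std T V z) (hp : p ∈ V) {x : G} : x ∈ zpowers p ↔ x = 1 ∨ x = p :=
  mem_zpowers_iff_of_mul_self (h.one.ln.sq p hp)

/-- two elements of `V - ⟨p⟩` -/
theorem mul_mem_zp (h : Std T V z) (hp : p ∈ V) (hp1 : p ≠ 1) {v w : G} (hv : v ∈ V) (hw : w ∈ V)
    (hv' : v ∉ zpowers p) (hw' : w ∉ zpowers p) : v * w ∈ zpowers p := by
  rw [h.zp hp] at hv' hw' ⊢
  push Not at hv' hw'
  rcases h.one.third hp hp1 hv hv'.1 hv'.2 hw hw'.1 with e | e | e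
  · exact absurd e hw'.2
  · left; rw [e, h.one.ln.sq v hv]
  · right
    rw [e, h.one.ln.comm hp hv, ← mul_assoc, h.one.ln.sq v hv, one_mul]

/-- the sign of an element of `V` -/
noncomputable def sg (p v : G) : ℤˣ := by classical exact if v ∈ zpowers p then 1 else -1

theorem sg_eq_one {p v : G} : sg p v = 1 ↔ v ∈ zpowers p := by
  classical
  unfold sg
  split_ifs with h <;> simp [h]

theorem sg_mul (h : Std T V z) (hp : p ∈ V) (hp1 : p ≠ 1) {v w : G} (hv : v ∈ V) (hw : w ∈ V) :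
    sg p (v * w) = sg p v * sg p w := by
  classical
  unfold sg
  by_cases h1 : v ∈ zpowers p <;> by_cases h2 : w ∈ zpowers p
  · simp [h1, h2, mul_mem h1 h2]
  · have : v * w ∉ zpowers p := fun e => h2 ((mul_mem_cancel_left h1).mp e)
    simp [h1, h2, this]
  · have : v * w ∉ zpowers p := fun e => h1 ((mul_mem_cancel_right h2).mp e)
    simp [h1, h2, this]
  · simp [h1, h2, h.mul_mem_zp hp hp1 hv hw h1 h2]

/-- `[a, W_z] ≤ ⟨z⟩` for `a ∈ W_y` implies `a ∈ V` -/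
theorem right (h : Std T V z) (hp : p ∈ V) (hp1 : p ≠ 1) (hq : q ∈ V) (hq1 : q ≠ 1) (hqp : q ≠ p) {a : G}
    (ha : a ∈ ws V q) (hc : ∀ w ∈ ws V p, ⁅a, w⁆ ∈ zpowers p) : a ∈ V := by
  refine h.le q hq hq1 (h.one.mem_ee hq hq1 hp hp1 (Ne.symm hqp) ha ?_)
  refine h.one.mem_kq hp (h.one.V_comm hp (h.one.ws_le_centralizer_V hq hq1 ha)).symm fun w hw => ?_
  have h1 := hc w hw
  rw [h.zp hp] at h1
  have e : a * w * a⁻¹ = ⁅a, w⁆ * w := by rw [commutatorElement_def]; group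
  rcases h1 with h1 | h1
  · left; rw [e, h1, one_mul]
  · right; rw [e, h1]

/-- `[w, W_y] ≤ ⟨z⟩` for `w ∈ W_z` implies `w ∈ V` -/
theorem left [Finite G] (h : Std T V z) (hp : p ∈ V) (hp1 : p ≠ 1) (hq : q ∈ V) (hq1 : q ≠ 1) (hqp : q ≠ p)
    {w : G} (hw : w ∈ ws V p) (hc : ∀ a ∈ ws V q, ⁅a, w⁆ ∈ zpowers p) : w ∈ V := by
  have hs := pairing_units (A := ws V p) (B := ws V q) (fun w a => sg p ⁅(a : G), (w : G)⁆)
    (fun w w' a => by
      change sg p ⁅(a : G), ((w : G) * (w' : G))⁆ = _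
      rw [h.one.comm_mul_right hq hq1 hp hp1 a.2 w.2 w'.2]
      exact h.sg_mul hp hp1 (h.comm_mem hq hq1 hp hp1 a.2 w.2) (h.comm_mem hq hq1 hp hp1 a.2 w'.2))
    (fun w a a' => by
      change sg p ⁅((a : G) * (a' : G)), (w : G)⁆ = _
      rw [h.one.comm_mul_left hq hq1 hp hp1 a.2 a'.2 w.2]
      exact h.sg_mul hp hp1 (h.comm_mem hq hq1 hp hp1 a.2 w.2) (h.comm_mem hq hq1 hp hp1 a'.2 w.2))
  rw [h.card_ws hp hp1, h.card_ws hq hq1] at hs
  -- the right kernel is `V`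
  have h1 : Nat.card {b : ws V q // ∀ a : ws V p, sg p ⁅(b : G), (a : G)⁆ = 1} ≤ 4 := by
    rw [← h.one.ln.card_V]
    refine Nat.card_le_card_of_injective (fun b => ⟨(b.1 : G), ?_⟩) ?_
    · exact h.right hp hp1 hq hq1 hqp b.1.2 fun w hw => sg_eq_one.mp (b.2 ⟨w, hw⟩)
    · intro a b hab
      have := congrArg (fun x : V => (x : G)) hab
      exact Subtype.ext (Subtype.ext this)
  -- the left kernel
  have h2 : Nat.card {a : ws V p // ∀ b : ws V q, sg p ⁅(b : G), (a : G)⁆ = 1} ≤ 4 := by omega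
  by_contra hcon
  let L : Subgroup G :=
    { carrier := {w | w ∈ ws V p ∧ ∀ a ∈ ws V q, ⁅a, w⁆ ∈ zpowers p}
      mul_mem' := by
        rintro a b ⟨ha, ha1⟩ ⟨hb, hb1⟩
        refine ⟨mul_mem ha hb, fun c hc => ?_⟩
        rw [h.one.comm_mul_right hq hq1 hp hp1 hc ha hb]
        exact mul_mem (ha1 c hc) (hb1 c hc)
      one_mem' := ⟨one_mem _, fun c _ => by simp⟩
      inv_mem' := by
        rintro a ⟨ha, ha1⟩
        rw [inv_eq_self (h.one.sq hp hp1 a ha)]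
        exact ⟨ha, ha1⟩ }
  have h3 : V ≤ L := fun v hv => ⟨h.one.V_le hp hp1 hv, fun a ha => by
    rw [commutatorElement_eq_one_iff_mul_comm.mpr
      (h.one.V_comm hv (h.one.ws_le_centralizer_V hq hq1 ha)).symm]
    exact one_mem _⟩
  have h4 : Nat.card L ≤ 4 := by
    refine le_trans ?_ h2
    refine Nat.card_le_card_of_injective (fun a : L => ⟨⟨a.1, a.2.1⟩, fun b => ?_⟩) ?_
    · exact sg_eq_one.mpr (a.2.2 b b.2)
    · intro a b hab
      have := congrArg (fun x : {a : ws V p // ∀ b : ws V q, sg p ⁅(b : G), (a : G)⁆ = 1} => (x.1 : G)) hab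
      exact Subtype.ext this
  have h5 : V = L := eq_of_le_of_card_ge h3 (by rw [h.one.ln.card_V]; exact h4)
  exact hcon (by rw [h5]; exact ⟨hw, hc⟩)

/-- for `W_p = ⟨V, n, m⟩` all sign patterns occur -/
theorem surj [Finite G] (h : Std T V z) (hp : p ∈ V) (hp1 : p ≠ 1) (hq : q ∈ V) (hq1 : q ≠ 1) (hqp : q ≠ p)
    {n m : G} (hn : n ∈ ws V p) (hm : m ∈ ws V p) (hg : Gn V (ws V p) n m) (e f : ℤˣ) :
    ∃ a ∈ ws V q, sg p ⁅a, n⁆ = e ∧ sg p ⁅a, m⁆ = f := by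
  let χ : ws V q →* ℤˣ × ℤˣ := MonoidHom.mk' (fun a => (sg p ⁅(a : G), n⁆, sg p ⁅(a : G), m⁆)) (by
    intro a a'
    change (sg p ⁅((a : G) * (a' : G)), n⁆, sg p ⁅((a : G) * (a' : G)), m⁆) =
      (sg p ⁅(a : G), n⁆ * sg p ⁅(a' : G), n⁆, sg p ⁅(a : G), m⁆ * sg p ⁅(a' : G), m⁆)
    rw [h.one.comm_mul_left hq hq1 hp hp1 a.2 a'.2 hn, h.one.comm_mul_left hq hq1 hp hp1 a.2 a'.2 hm,
      h.sg_mul hp hp1 (h.comm_mem hq hq1 hp hp1 a.2 hn) (h.comm_mem hq hq1 hp hp1 a'.2 hn),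
      h.sg_mul hp hp1 (h.comm_mem hq hq1 hp hp1 a.2 hm) (h.comm_mem hq hq1 hp hp1 a'.2 hm)])
  have hker : Nat.card χ.ker ≤ 4 := by
    rw [← h.one.ln.card_V]
    refine Nat.card_le_card_of_injective (fun b => ⟨(b.1 : G), ?_⟩) ?_
    · have hb : χ b.1 = 1 := b.2
      have hb1 : sg p ⁅(b.1 : G), n⁆ = 1 := congrArg Prod.fst hb
      have hb2 : sg p ⁅(b.1 : G), m⁆ = 1 := congrArg Prod.snd hb
      rw [sg_eq_one] at hb1 hb2
      let X : Subgroup G :=
        { carrier := {w | w ∈ ws V p ∧ ⁅(b.1 : G), w⁆ ∈ zpowers p}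
          mul_mem' := by
            rintro a c ⟨ha, ha1⟩ ⟨hc, hc1⟩
            refine ⟨mul_mem ha hc, ?_⟩
            rw [h.one.comm_mul_right hq hq1 hp hp1 b.1.2 ha hc]
            exact mul_mem ha1 hc1
          one_mem' := ⟨one_mem _, by simp⟩
          inv_mem' := by
            rintro a ⟨ha, ha1⟩
            rw [inv_eq_self (h.one.sq hp hp1 a ha)]
            exact ⟨ha, ha1⟩ }
      have hX : ws V p ≤ X := hg X (fun v hv => ⟨h.one.V_le hp hp1 hv, by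
        rw [commutatorElement_eq_one_iff_mul_comm.mpr
          (h.one.V_comm hv (h.one.ws_le_centralizer_V hq hq1 b.1.2)).symm]
        exact one_mem _⟩) ⟨hn, hb1⟩ ⟨hm, hb2⟩
      exact h.right hp hp1 hq hq1 hqp b.1.2 fun w hw => (hX hw).2
    · intro a b hab
      have := congrArg (fun x : V => (x : G)) hab
      exact Subtype.ext (Subtype.ext this)
  have hr : χ.range = ⊤ := by
    apply Subgroup.eq_top_of_le_card
    have h1 := χ.ker.card_mul_index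
    rw [Subgroup.index_ker, h.card_ws hq hq1] at h1
    have h2 : Nat.card (ℤˣ × ℤˣ) = 4 := by
      rw [Nat.card_prod, Nat.card_eq_fintype_card, Fintype.card_units_int]
    rw [h2]
    by_contra hcon
    have h3 : Nat.card χ.range ≤ 3 := by omega
    have h4 := Nat.mul_le_mul hker h3
    omega
  obtain ⟨a, ha⟩ : (e, f) ∈ χ.range := by rw [hr]; trivial
  exact ⟨a, a.2, congrArg Prod.fst ha, congrArg Prod.snd ha⟩

/-! ### points -/

/-- every element of `W_z - ⟨z⟩` is a point collinear with `z` -/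
theorem mem_nb [Finite G] (h : Std T V z) {w : G} (hw : w ∈ ws V z) (hwz : w ∉ zpowers z) : w ∈ nb V z := by
  have hzz := h.zz
  have key : ∀ L ∈ lines V z, ∀ x ∈ L, x ∈ zpowers z ∨ x ∈ nb V z := by
    intro L hL x hx
    by_cases hxz : x ∈ zpowers z
    · exact Or.inl hxz
    · right
      rw [h.zp h.z_mem] at hxz
      push Not at hxz
      exact ⟨L, hL, hx, hxz.1, hxz.2⟩
  let P : Subgroup G :=
    { carrier := {w | w ∈ ws V z ∧ (w ∈ zpowers z ∨ w ∈ nb V z)}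
      mul_mem' := by
        rintro a b ⟨ha, ha1⟩ ⟨hb, hb1⟩
        refine ⟨mul_mem ha hb, ?_⟩
        rcases ha1 with ha1 | ⟨L, hL, haL, ha1, haz⟩
        · rcases hb1 with hb1 | ⟨M, hM, hbM, -, -⟩
          · exact Or.inl (mul_mem ha1 hb1)
          · exact key M hM _ (mul_mem (zpowers_le_of_mem hM.2 ha1) hbM)
        · by_cases hbL : b ∈ L
          · exact key L hL _ (mul_mem haL hbL)
          rcases hb1 with hb1 | ⟨M, hM, hbM, hb1, hbz⟩
          · exact absurd (zpowers_le_of_mem hL.2 hb1) hbL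
          obtain ⟨g, rfl, T', hL'⟩ := h.line hL
          -- some `c ∈ W_a` moves `b` to `ab`
          have hws : ∀ x, ws (cj g V) x = ws V x := ws_cj V g
          obtain ⟨c, hc, hcb⟩ : ∃ c ∈ ws V a, ⁅c, b⁆ ∉ zpowers z := by
            by_contra hcon
            push Not at hcon
            apply hbL
            refine hL'.left hL'.z_mem hL'.z_ne haL ha1 haz (by rw [hws]; exact hb) fun c hc => ?_
            rw [hws] at hc
            exact hcon c hc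
          have hcz : c ∈ centralizer ({z} : Set G) := h.one.nb_le_cent ⟨_, hL, haL, ha1, haz⟩ hc
          have hcM : cj c M ∈ lines V z := by
            have := mem_lines_cj (g := c) hM
            rwa [conj_eq_of_comm (mem_centralizer_singleton_iff.mp hcz)] at this
          have hcL : ⁅c, b⁆ ∈ cj g V := by
            refine hL'.comm_mem haL ha1 hL'.z_mem hL'.z_ne (by rw [hws]; exact hc) (by rw [hws]; exact hb)
          have e1 : c * b * c⁻¹ = ⁅c, b⁆ * b := by rw [commutatorElement_def]; group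
          have h2 : c * b * c⁻¹ ∈ cj c M := conj_mem_cj hbM
          rw [hL'.zp hL'.z_mem] at hcb
          push Not at hcb
          refine key _ hcM _ ?_
          rcases hL'.one.third hL'.z_mem hL'.z_ne haL ha1 haz hcL hcb.1 with e | e | e
          · exact absurd e hcb.2
          · rw [e1, e] at h2; exact h2
          · rw [e1, e] at h2
            have h3 := mul_mem hcM.2 h2
            rwa [← mul_assoc, ← mul_assoc, hzz, one_mul] at h3
      one_mem' := ⟨one_mem _, Or.inl (one_mem _)⟩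
      inv_mem' := by
        rintro a ⟨ha, ha1⟩
        rw [inv_eq_self (h.one.sqz a ha)]
        exact ⟨ha, ha1⟩ }
  have hP : ws V z ≤ P := ws_le fun L hL x hx => ⟨le_ws hL hx, key L hL x hx⟩
  exact (hP hw).2.resolve_left hwz

/-- the line of a point -/
theorem line_of [Finite G] (h : Std T V z) {w : G} (hw : w ∈ ws V z) (hwz : w ∉ zpowers z) :
    ∃ g : G, w ∈ cj g V ∧ w ≠ 1 ∧ w ≠ z ∧ cj g V ∈ lines V z ∧ ∃ T', Std T' (cj g V) z := by
  obtain ⟨L, hL, hwL, hw1, hwz'⟩ := h.mem_nb hw hwz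
  obtain ⟨g, rfl, hT⟩ := h.line hL
  exact ⟨g, hwL, hw1, hwz', hL, hT⟩

/-- `[B_z, W_p] ≤ V`, `p ∈ V` -/
theorem bz_comm (h : Std T V z) (hp : p ∈ V) (hp1 : p ≠ 1) (hpz : p ≠ z) {b a : G} (hb : b ∈ bz V z)
    (ha : a ∈ ws V p) : a * b * a⁻¹ * b⁻¹ ∈ V := by
  have hbV : b ∈ centralizer (V : Set G) := centralizer_le (h.one.V_le h.z_mem h.z_ne) hb
  have haz : a ∈ centralizer ({z} : Set G) :=
    h.one.cent_le_centralizer h.z_mem (h.one.ws_le_centralizer_V hp hp1 ha)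
  have h1 : a * b * a⁻¹ * b⁻¹ ∈ ws V p := by
    have e : a * b * a⁻¹ * b⁻¹ = a * (b * a⁻¹ * b⁻¹) := by group
    rw [e]
    exact mul_mem ha (conj_mem_of_normalizer (h.one.cent_norm hp) hbV (inv_mem ha))
  have h2 : a * b * a⁻¹ * b⁻¹ ∈ bz V z :=
    mul_mem (conj_mem_of_normalizer (centralizer_le_normalizer_bz V z) haz hb) (inv_mem hb)
  exact h.le p hp hp1 (h.one.dd_le_ee p (h.one.mem_dd hp hp1 h.z_mem h.z_ne (Ne.symm hpz) h1
    (mem_bz.mp h2)))

/-- `[B_z, W_w] ≤ W_z` for `w ∈ W_z - ⟨z⟩` -/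
theorem bz_move [Finite G] (h : Std T V z) {w : G} (hw : w ∈ ws V z) (hwz : w ∉ zpowers z) {a b : G}
    (ha : a ∈ ws V w) (hb : b ∈ bz V z) : a * b * a⁻¹ * b⁻¹ ∈ ws V z := by
  obtain ⟨g, hwL, hw1, hwz', hL, T', h'⟩ := h.line_of hw hwz
  exact le_ws hL (h'.bz_comm hwL hw1 hwz' (by rw [bz_cj]; exact hb) (by rw [ws_cj]; exact ha))

/-- an element of `W_n` which moves `m` and fixes `y` -/
theorem exists_mv [Finite G] (h : Std T V z) {y n m : G} (hy : y ∈ V) (hy1 : y ≠ 1) (hyz : y ≠ z)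
    (hn : n ∈ ws V z) (hm : m ∈ ws V z) (hnV : n ∉ V) (hg : Gn V (ws V z) n m) :
    ∃ a ∈ ws V n, a ∈ centralizer ({z} : Set G) ∧ a * n * a⁻¹ = n ∧ a * y * a⁻¹ * y⁻¹ ∈ V ∧
      a ∈ normalizer (V : Set G) ∧ a * m * a⁻¹ * (n * m)⁻¹ ∈ V := by
  have hnz : n ∉ zpowers z := fun e => hnV (zpowers_le_of_mem h.z_mem e)
  obtain ⟨g, hnL, hn1, hnz', hL, T', h'⟩ := h.line_of hn hnz
  have hws : ∀ x, ws (cj g V) x = ws V x := ws_cj V g
  have hgn : Gn (cj g V) (ws (cj g V) z) y m := by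
    intro X h1 h2 h3
    rw [hws]
    refine hg X (fun v hv => ?_) (h1 hnL) h3
    rcases h.one.ln.four h.z_mem hy h.z_ne hy1 (Ne.symm hyz) hv with e | e | e | e
    · rw [e]; exact one_mem _
    · rw [e]; exact h1 h'.z_mem
    · rw [e]; exact h2
    · rw [e]; exact mul_mem (h1 h'.z_mem) h2
  have hyw : y ∈ ws (cj g V) z := by rw [hws]; exact h.one.V_le h.z_mem h.z_ne hy
  obtain ⟨a, ha, h1, h2⟩ := h'.surj h'.z_mem h'.z_ne hnL hn1 hnz' hyw (by rw [hws]; exact hm) hgn 1 (-1)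
  have ha' : a ∈ ws V n := by rw [← hws]; exact ha
  have haz : a ∈ centralizer ({z} : Set G) := h.one.nb_le_cent ⟨_, hL, hnL, hn1, hnz'⟩ ha'
  have hy' : a * y * a⁻¹ * y⁻¹ ∈ zpowers z := sg_eq_one.mp h1
  have hm' : ⁅a, m⁆ ∉ zpowers z := fun e => by
    rw [sg_eq_one.mpr e] at h2
    exact absurd h2 (by decide)
  have hmL : ⁅a, m⁆ ∈ cj g V := h'.comm_mem hnL hn1 h'.z_mem h'.z_ne ha (by rw [hws]; exact hm)
  have hy2 := zpowers_le_of_mem h.z_mem hy'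
  have hayV : a * y * a⁻¹ ∈ V := by
    have := mul_mem hy2 hy
    rwa [inv_mul_cancel_right] at this
  have hazz : a * z * a⁻¹ = z := conj_eq_of_comm (mem_centralizer_singleton_iff.mp haz)
  have haN : a ∈ normalizer (V : Set G) := by
    rw [mem_normalizer_iff_cj]
    refine eq_of_le_of_card_ge ?_ (card_cj a V).ge
    intro v hv
    rw [mem_cj] at hv
    have e0 : v = a * (a⁻¹ * v * a) * a⁻¹ := by group
    rw [e0]
    rcases h.one.ln.four h.z_mem hy h.z_ne hy1 (Ne.symm hyz) hv with e | e | e | e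
    · rw [e]; simp
    · rw [e, hazz]; exact h.z_mem
    · rw [e]; exact hayV
    · rw [e]
      have : a * (z * y) * a⁻¹ = (a * z * a⁻¹) * (a * y * a⁻¹) := by group
      rw [this, hazz]; exact mul_mem h.z_mem hayV
  refine ⟨a, ha', haz, ?_, hy2, haN, ?_⟩
  · exact conj_eq_of_comm (h'.one.comm hnL hn1 a ha n (h'.one.V_le hnL hn1 hnL))
  · have e1 : a * m * a⁻¹ * (n * m)⁻¹ = ⁅a, m⁆ * n⁻¹ := by rw [commutatorElement_def]; group
    rw [e1]
    rw [h'.zp h'.z_mem] at hm'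
    push Not at hm'
    rcases h'.one.third h'.z_mem h'.z_ne hnL hn1 hnz' hmL hm'.1 with e | e | e
    · exact absurd e hm'.2
    · rw [e, mul_inv_cancel]; exact one_mem _
    · rw [e, mul_inv_cancel_right]; exact h.z_mem

/-- some `d ∈ C_G(V)` is fixed-point-free on `W_z/V` and trivial on `B_z/W_z` -/
theorem exists_d [Finite G] (h : Std T V z) : ∃ d ∈ centralizer (V : Set G),
    (∀ w ∈ ws V z, d * w * d⁻¹ * w⁻¹ ∈ V → w ∈ V) ∧ ∀ b ∈ bz V z, d * b * d⁻¹ * b⁻¹ ∈ ws V z := by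
  have hVW := h.one.V_le h.z_mem h.z_ne
  have ab := h.one.comm h.z_mem h.z_ne
  have sq := h.one.sq h.z_mem h.z_ne
  obtain ⟨y, hy, hy1, hyz⟩ := h.one.ln.exists_y
  obtain ⟨n, hn, m, hm, hnV, hmV, hnmV, hg⟩ := exists_gn hVW h.one.ln.card_V h.card ab sq
  obtain ⟨a, ha, haz, han, hay, haN, ham⟩ := h.exists_mv hy hy1 hyz hn hm hnV hg
  obtain ⟨b, hb, hbz, hbm, hby, hbN, hbn⟩ := h.exists_mv hy hy1 hyz hm hn hmV hg.swap
  have hnz : n ∉ zpowers z := fun e => hnV (zpowers_le_of_mem h.z_mem e)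
  have hmz : m ∉ zpowers z := fun e => hmV (zpowers_le_of_mem h.z_mem e)
  have hzc : centralizer ({z} : Set G) ≤ normalizer ((ws V z : Subgroup G) : Set G) :=
    centralizer_le_normalizer_ws V z
  -- congruence modulo `V`
  have hconj : ∀ g ∈ normalizer (V : Set G), ∀ u v, u * v⁻¹ ∈ V → g * u * g⁻¹ * (g * v * g⁻¹)⁻¹ ∈ V := by
    intro g hg u v huv
    have := (mem_normalizer_iff.mp hg _).mp huv
    have e : g * (u * v⁻¹) * g⁻¹ = g * u * g⁻¹ * (g * v * g⁻¹)⁻¹ := by group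
    rwa [e] at this
  have htrans : ∀ u v w, u * v⁻¹ ∈ V → v * w⁻¹ ∈ V → u * w⁻¹ ∈ V := by
    intro u v w h1 h2
    have := mul_mem h1 h2
    have e : u * v⁻¹ * (v * w⁻¹) = u * w⁻¹ := by group
    rwa [e] at this
  set c := a * b with hc
  have hcN : c ∈ normalizer (V : Set G) := mul_mem haN hbN
  have hcC : c ∈ centralizer ({z} : Set G) := mul_mem haz hbz
  have hnm := ab n hn m hm
  have hnn := sq n hn
  have hmm := sq m hm
  -- `c : n → m → n m → n`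
  have hcn : c * n * c⁻¹ * m⁻¹ ∈ V := by
    have h1 := hconj a haN _ _ hbn
    have e1 : a * (b * n * b⁻¹) * a⁻¹ = c * n * c⁻¹ := by rw [hc]; group
    rw [e1] at h1
    refine htrans _ _ _ h1 ?_
    have e2 : a * (m * n) * a⁻¹ * m⁻¹ = (a * m * a⁻¹) * (a * n * a⁻¹) * m⁻¹ := by group
    rw [e2, han]
    have e3 : a * m * a⁻¹ * n * m⁻¹ = a * m * a⁻¹ * (n * m)⁻¹ := by
      rw [mul_inv_rev, inv_eq_self hnn, inv_eq_self hmm, mul_assoc, hnm]
    rw [e3]; exact ham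
  have hcm : c * m * c⁻¹ * (n * m)⁻¹ ∈ V := by
    have e1 : c * m * c⁻¹ = a * (b * m * b⁻¹) * a⁻¹ := by rw [hc]; group
    rw [e1, hbm]; exact ham
  have hcV : ∀ v ∈ V, c * v * c⁻¹ ∈ V := fun v hv => (mem_normalizer_iff.mp hcN v).mp hv
  have hcW : ∀ v ∈ ws V z, c * v * c⁻¹ ∈ ws V z := fun v hv => (mem_normalizer_iff.mp (hzc hcC) v).mp hv
  have hnmW : n * m ∈ ws V z := mul_mem hn hm
  have hmul : ∀ u ∈ ws V z, ∀ u' ∈ ws V z, ∀ v ∈ ws V z, ∀ v' ∈ ws V z, u * v⁻¹ ∈ V → u' * v'⁻¹ ∈ V →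
      u * u' * (v * v')⁻¹ ∈ V := by
    intro u hu u' hu' v hv v' hv' h1 h2
    have e : u * u' * (v * v')⁻¹ = (u * v⁻¹) * (u' * v'⁻¹) := by
      have h3 := ab _ (mul_mem hu' (inv_mem hv')) _ (inv_mem hv)
      calc u * u' * (v * v')⁻¹ = u * ((u' * v'⁻¹) * v⁻¹) := by group
        _ = u * (v⁻¹ * (u' * v'⁻¹)) := by rw [h3]
        _ = (u * v⁻¹) * (u' * v'⁻¹) := by group
    rw [e]; exact mul_mem h1 h2
  have hcnm : c * (n * m) * c⁻¹ * n⁻¹ ∈ V := by
    have h1 := hmul _ (hcW n hn) _ (hcW m hm) _ hm _ hnmW hcn hcm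
    have e1 : c * n * c⁻¹ * (c * m * c⁻¹) = c * (n * m) * c⁻¹ := by group
    have e2 : m * (n * m) = n := by
      calc m * (n * m) = m * (m * n) := by rw [hnm]
        _ = (m * m) * n := by group
        _ = n := by rw [hmm, one_mul]
    rwa [e1, e2] at h1
  have hdd : ∀ u, c * c * u * (c * c)⁻¹ = c * (c * u * c⁻¹) * c⁻¹ := fun u => by group
  have hdn : c * c * n * (c * c)⁻¹ * (n * m)⁻¹ ∈ V := by
    rw [hdd]
    exact htrans _ _ _ (hconj c hcN _ _ hcn) hcm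
  have hdm : c * c * m * (c * c)⁻¹ * n⁻¹ ∈ V := by
    rw [hdd]
    exact htrans _ _ _ (hconj c hcN _ _ hcm) hcnm
  have hdnm : c * c * (n * m) * (c * c)⁻¹ * m⁻¹ ∈ V := by
    rw [hdd]
    exact htrans _ _ _ (hconj c hcN _ _ hcnm) hcn
  have hdC : c * c ∈ centralizer ({z} : Set G) := mul_mem hcC hcC
  have hdW : ∀ v ∈ ws V z, c * c * v * (c * c)⁻¹ ∈ ws V z := fun v hv =>
    (mem_normalizer_iff.mp (hzc hdC) v).mp hv
  -- `c²` centralises `V`
  have hcz : c * z = z * c := mem_centralizer_singleton_iff.mp hcC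
  have hdV : c * c ∈ centralizer (V : Set G) := by
    refine h.one.mem_centralizer_of h.z_mem h.z_ne hy hy1 hyz (mul_comm_of hcz hcz) ?_
    refine comm_of_conj_eq ?_
    have hczz : c * z * c⁻¹ = z := conj_eq_of_comm hcz
    rw [hdd]
    rcases h.one.ln.conj_cases h.z_mem hy h.z_ne hcz hcN with e | e
    · rw [e, e]
    · rw [e]
      have e1 : c * (z * y) * c⁻¹ = (c * z * c⁻¹) * (c * y * c⁻¹) := by group
      rw [e1, hczz, e, ← mul_assoc, h.zz, one_mul]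
  refine ⟨c * c, hdV, ?_, ?_⟩
  · -- fixed-point-free
    let X : Subgroup G :=
      { carrier := {w | w ∈ ws V z ∧ c * c * w * (c * c)⁻¹ * w⁻¹ ∈ V}
        mul_mem' := by
          rintro u v ⟨hu, hu1⟩ ⟨hv, hv1⟩
          refine ⟨mul_mem hu hv, ?_⟩
          have h1 := hmul _ (hdW u hu) _ (hdW v hv) _ hu _ hv hu1 hv1
          have e1 : c * c * u * (c * c)⁻¹ * (c * c * v * (c * c)⁻¹) = c * c * (u * v) * (c * c)⁻¹ := by group
          rwa [e1] at h1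
        one_mem' := ⟨one_mem _, by
          have e : c * c * 1 * (c * c)⁻¹ * 1⁻¹ = 1 := by group
          rw [e]; exact one_mem _⟩
        inv_mem' := by
          rintro a ⟨ha, ha1⟩
          rw [inv_eq_self (sq a ha)]
          exact ⟨ha, ha1⟩ }
    have hXW : X ≤ ws V z := fun w hw => hw.1
    have hVX : V ≤ X := fun v hv => ⟨hVW hv, by
      rw [conj_eq_of_comm (h.one.V_comm hv hdV).symm, mul_inv_cancel]; exact one_mem _⟩
    intro w hw hw1
    by_contra hcon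
    have hne : ¬ X ≤ V := fun hle => hcon (hle ⟨hw, hw1⟩)
    have hnX : n ∉ X := fun hx => by
      have h1 := mul_mem (inv_mem hdn) hx.2
      have e : (c * c * n * (c * c)⁻¹ * (n * m)⁻¹)⁻¹ * (c * c * n * (c * c)⁻¹ * n⁻¹) = n * m * n⁻¹ := by
        group
      rw [e, hnm, mul_inv_cancel_right] at h1
      exact hmV h1
    have hmX : m ∉ X := fun hx => by
      have h1 := mul_mem (inv_mem hdm) hx.2
      have e : (c * c * m * (c * c)⁻¹ * n⁻¹)⁻¹ * (c * c * m * (c * c)⁻¹ * m⁻¹) = n * m⁻¹ := by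
        group
      rw [e, inv_eq_self hmm] at h1
      exact hnmV h1
    have h1 := mul_mem_of_card_lt hVX hXW h.one.ln.card_V h.card hne hn hm hnX hmX
    have h2 := mul_mem (inv_mem hdnm) h1.2
    have e : (c * c * (n * m) * (c * c)⁻¹ * m⁻¹)⁻¹ * (c * c * (n * m) * (c * c)⁻¹ * (n * m)⁻¹) =
        m * (n * m)⁻¹ := by group
    rw [e, mul_inv_rev, inv_eq_self hmm, inv_eq_self hnn, ← mul_assoc, hmm, one_mul] at h2
    exact hnV h2
  · have key : ∀ g g', g ∈ centralizer ({z} : Set G) → (∀ b ∈ bz V z, g * b * g⁻¹ * b⁻¹ ∈ ws V z) →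
        (∀ b ∈ bz V z, g' * b * g'⁻¹ * b⁻¹ ∈ ws V z) → ∀ b ∈ bz V z, g * g' * b * (g * g')⁻¹ * b⁻¹ ∈ ws V z := by
      intro g g' hg h1 h2 b hb
      have e : g * g' * b * (g * g')⁻¹ * b⁻¹ = g * (g' * b * g'⁻¹ * b⁻¹) * g⁻¹ * (g * b * g⁻¹ * b⁻¹) := by group
      rw [e]
      exact mul_mem ((mem_normalizer_iff.mp (hzc hg) _).mp (h2 b hb)) (h1 b hb)
    have hcb := key a b haz (fun x hx => h.bz_move hn hnz ha hx) (fun x hx => h.bz_move hm hmz hb hx)
    exact key c c hcC hcb hcb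

end Std

end Cfsg.Agent.Omega.NO3S.TwoOne

end

section


/-!
# NO-3S, `q = 2`, `n = 1`, no `λ`-transvections: relations between two lines
(helper881 #17145 (3.0)-(3.2), helper225 #17919 (0.1), (0.2))

* `One.comm_move` (3.0); `One.dd_comm_mem` (3.1); `One.dd_split`, `One.dd_le_sup` (3.2);
* `NT.beta` : `|A| = 2`: `[w, w'] ∉ V` for `w ∈ W_p - E_p`, `w' ∈ W_q - E_q`;
* `One.ee_moves` : `|A| = 2`: `r ∈ E_q - D_q` moves `y` iff `y ∉ E_z(L)`;
* `One.sym_pair` (0.1); `One.ii_le_ee_of_plane` (0.2).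
-/

set_option autoImplicit false
set_option linter.unusedSectionVars false

namespace Cfsg.Agent.Omega.NO3S.TwoOne

open Subgroup Cfsg Cfsg.Agent.ZN Cfsg.Agent.MinSimple.Geo Cfsg.Agent.Omega.CaseL
open Cfsg.Agent.ZN.Block (conj_mem_of_normalizer conj_mem_of_normalizer' le_normalizer_of_forall
  mem_normalizer_of)
open scoped commutatorElement

universe u

variable {G : Type u} [Group G]

/-- the members of a line class have the same `ws` -/
theorem ws_of_lines {V L : Subgroup G} {z : G} (hL : L ∈ lines V z) (x : G) : ws L x = ws V x := by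
  obtain ⟨⟨g, rfl⟩, -⟩ := hL
  exact ws_cj V g x

/-- the members of a line class have the same `kq` -/
theorem kq_of_lines {V L : Subgroup G} {z : G} (hL : L ∈ lines V z) (x : G) : kq L x = kq V x := by
  obtain ⟨⟨g, rfl⟩, -⟩ := hL
  exact kq_cj V g x

namespace One

variable {T V : Subgroup G} {z p q r : G}

/-- **(3.0)** -/
theorem comm_move (h : One T V z) {g w : G} (hp : p ∈ V) (hp1 : p ≠ 1) (hpz : p ≠ z)
    (hg : g * p * g⁻¹ = z * p) (hw : w ∈ ws V p) (hc : g * w = w * g) : w ∈ ii V := by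
  have hz := h.ln.z_mem
  have hzp : z * p ∈ V := mul_mem hz hp
  have hzp1 : z * p ≠ 1 := h.mul_ne_one hp (Ne.symm hpz)
  have hzpp : z * p ≠ p := fun e => h.ln.z_ne (mul_eq_right.mp e)
  refine h.mem_ii hp hp1 hzp hzp1 hzpp hw ?_
  have h1 := conj_mem_ws g hw
  rw [hg, conj_eq_of_comm hc] at h1
  exact h1

/-- **(3.1)** -/
theorem dd_comm_mem (h : One T V z) {L : Subgroup G} (hL : L ∈ lines V z) {y y' e g d : G} (hy : y ∈ V)
    (hy1 : y ≠ 1) (hyz : y ≠ z) (hy' : y' ∈ L) (hy1' : y' ≠ 1) (hyz' : y' ≠ z) (he : e ∈ ee L y')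
    (hey : e * y * e⁻¹ = z * y) (hg : ∀ q ∈ V, q ≠ 1 → ∀ d ∈ dd V q, g * d = d * g)
    (hgy : g * y' * g⁻¹ = z * y') (hd : d ∈ dd V y) :
    d * (e * d * e⁻¹) ∈ ii L ∧ d * (e * d * e⁻¹) ∈ dd V z ∧ e * d * e⁻¹ ∈ dd V (z * y) := by
  have hz := h.ln.z_mem
  have hz1 := h.ln.z_ne
  obtain ⟨-, -, T', h'⟩ := h.of_line hL hz1
  have hek : e ∈ kq V z := by
    have := he.2 z h'.ln.z_mem hz1
    rwa [kq_of_lines hL] at this
  have heV : e ∈ normalizer (V : Set G) := h.kq_le_normalizer hz hz1 hek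
  have hzy : z * y ∈ V := mul_mem hz hy
  have hzy1 : z * y ≠ 1 := h.mul_ne_one hy (Ne.symm hyz)
  have hd' : e * d * e⁻¹ ∈ dd V (z * y) := by
    have := conj_mem_dd heV hd
    rwa [hey] at this
  have hdd : d * d = 1 := h.sq hy hy1 _ hd.1
  -- the product is in `W_{y'}`
  have hdz : ∀ w ∈ ws V z, d * w = w * d := hd.2 z hz hz1
  have hLws : L ≤ ws V z := le_ws hL
  have hdc : d * y' = y' * d := hdz y' (hLws hy')
  have hmem : d * (e * d * e⁻¹) ∈ ws L y' := by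
    have h1 := conj_mem_ws (V := L) d he.1
    rw [conj_eq_of_comm hdc] at h1
    have h2 := mul_mem h1 (inv_mem he.1)
    have e1 : d * (e * d * e⁻¹) = d * e * d⁻¹ * e⁻¹ := by
      have : d⁻¹ = d := inv_eq_self hdd
      rw [this]; group
    rw [e1]; exact h2
  have hgc : g * (d * (e * d * e⁻¹)) = d * (e * d * e⁻¹) * g := by
    have h1 := hg y hy hy1 d hd
    have h2 := hg _ hzy hzy1 _ hd'
    exact comm_mul_of h1.symm.symm h2
  have hii : d * (e * d * e⁻¹) ∈ ii L := h'.comm_move hy' hy1' hyz' hgy hmem hgc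
  refine ⟨hii, ⟨?_, ?_⟩, hd'⟩
  · have := ii_le h'.ln.z_mem hz1 hii
    rwa [ws_of_lines hL] at this
  · intro q hq hq1 b hb
    exact mul_comm_of (hd.2 q hq hq1 b hb) (hd'.2 q hq hq1 b hb)

/-- **(3.2)** -/
theorem dd_split [Finite G] (h : One T V z) {L : Subgroup G} (hL : L ∈ lines V z) {y y' e g : G} (hy : y ∈ V)
    (hy1 : y ≠ 1) (hyz : y ≠ z) (hy' : y' ∈ L) (hy1' : y' ≠ 1) (hyz' : y' ≠ z) (he : e ∈ ee L y')
    (hey : e * y * e⁻¹ = z * y) (hg : ∀ q ∈ V, q ≠ 1 → ∀ d ∈ dd V q, g * d = d * g)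
    (hgy : g * y' * g⁻¹ = z * y') {w : G} (hw : w ∈ dd V z) :
    ∃ d ∈ dd V y, w⁻¹ * (d * (e * d * e⁻¹)) ∈ ii V := by
  classical
  have hz := h.ln.z_mem
  have hz1 := h.ln.z_ne
  have hzy : z * y ∈ V := mul_mem hz hy
  have hzy1 : z * y ≠ 1 := h.mul_ne_one hy (Ne.symm hyz)
  have key : ∀ d ∈ dd V y, d * (e * d * e⁻¹) ∈ dd V z ∧ e * d * e⁻¹ ∈ dd V (z * y) := fun d hd =>
    (h.dd_comm_mem hL hy hy1 hyz hy' hy1' hyz' he hey hg hgy hd).2
  -- the homomorphism `d ↦ d (e d e⁻¹)`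
  let f : dd V y →* dd V z :=
    { toFun := fun d => ⟨(d : G) * (e * d * e⁻¹), (key d d.2).1⟩
      map_one' := Subtype.ext (by simp)
      map_mul' := by
        intro a b
        apply Subtype.ext
        have h1 : (e * (a : G) * e⁻¹) * b = b * (e * a * e⁻¹) :=
          (key a a.2).2.2 y hy hy1 b b.2.1
        change (a : G) * b * (e * (a * b) * e⁻¹) = a * (e * a * e⁻¹) * (b * (e * b * e⁻¹))
        calc (a : G) * b * (e * (a * b) * e⁻¹) = a * (b * (e * a * e⁻¹)) * (e * b * e⁻¹) := by group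
          _ = a * ((e * a * e⁻¹) * b) * (e * b * e⁻¹) := by rw [h1]
          _ = a * (e * a * e⁻¹) * (b * (e * b * e⁻¹)) := by group }
  set K : Subgroup (dd V z) := (ii V).subgroupOf (dd V z) with hK
  have hKn : K.Normal := by
    refine ⟨fun n hn g => ?_⟩
    have hc : g * n * g⁻¹ = n := by
      apply Subtype.ext
      have := g.2.2 z hz hz1 n n.2.1
      exact conj_eq_of_comm this
    rw [hc]; exact hn
  have h1 : K.comap f ≤ (ii V).subgroupOf (dd V y) := by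
    intro d hd
    rw [mem_comap, hK, mem_subgroupOf] at hd
    rw [mem_subgroupOf]
    have hd' : (d : G) * (e * d * e⁻¹) ∈ ii V := hd
    -- `e d e⁻¹ ∈ W_y ∩ W_{zy}`
    have h2 : e * (d : G) * e⁻¹ ∈ ws V y := by
      have h3 := mul_mem (inv_mem d.2.1) (ii_le hy hy1 hd')
      have e1 : (d : G)⁻¹ * (d * (e * d * e⁻¹)) = e * d * e⁻¹ := by group
      rwa [e1] at h3
    have hzyy : z * y ≠ y := fun e => hz1 (mul_eq_right.mp e)
    have h3 : e * (d : G) * e⁻¹ ∈ ii V := h.mem_ii hy hy1 hzy hzy1 hzyy h2 (key d d.2).2.1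
    have h4 := mul_mem hd' (inv_mem h3)
    have e2 : (d : G) * (e * d * e⁻¹) * (e * d * e⁻¹)⁻¹ = d := by group
    rwa [e2] at h4
  have h2 : (K.comap f).index = K.relIndex f.range := index_comap _ _
  have h3 : ((ii V).subgroupOf (dd V y)).index ∣ (K.comap f).index := index_dvd_of_le h1
  have h4 : ((ii V).subgroupOf (dd V y)).index = K.index := by
    have := h.relIndex_conj (fun _ => ii V) (dd V)
      (fun g hg p w hw => conj_mem_of_normalizer (normalizer_le_normalizer_ii V) hg hw)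
      (fun g hg p w hw => conj_mem_dd hg hw) hy hy1 hz hz1
    exact this
  have h5 : K.relIndex f.range = K.relIndex (f.range ⊔ K) := (relIndex_sup_right _ _).symm
  have h6 : K.relIndex (f.range ⊔ K) * (f.range ⊔ K).index = K.index := relIndex_mul_index le_sup_right
  have hK0 : K.index ≠ 0 := index_ne_zero_of_finite
  have h7 : (f.range ⊔ K).index = 1 := by
    have h8 : K.index ≤ K.relIndex (f.range ⊔ K) := by
      rw [← h5, ← h2, ← h4]
      refine Nat.le_of_dvd (Nat.pos_of_ne_zero ?_) h3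
      rw [h2, h5]
      intro h9
      rw [h9, zero_mul] at h6
      exact hK0 h6.symm
    have h9 : (f.range ⊔ K).index ≠ 0 := fun h10 => by rw [h10, mul_zero] at h6; exact hK0 h6.symm
    have h10 : 0 < K.index := Nat.pos_of_ne_zero hK0
    by_contra h11
    have h12 : 2 ≤ (f.range ⊔ K).index := by omega
    have := Nat.mul_le_mul h8 h12
    rw [h6] at this
    omega
  have h8 : (⟨w, hw⟩ : dd V z) ∈ f.range ⊔ K := by
    rw [index_eq_one.mp h7]
    exact mem_top _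
  rw [mem_sup_of_normal_right] at h8
  obtain ⟨a, ⟨d, rfl⟩, k, hk, hak⟩ := h8
  refine ⟨d, d.2, ?_⟩
  have h9 : (d : G) * (e * d * e⁻¹) * k = w := congrArg Subtype.val hak
  have hk' : (k : G) ∈ ii V := hk
  have e1 : w⁻¹ * ((d : G) * (e * d * e⁻¹)) = (k : G)⁻¹ := by
    rw [← h9]; group
  rw [e1]
  exact inv_mem hk'

/-- **(3.2)**: `D_z = I (D_z ∩ I_L)` -/
theorem dd_le_sup [Finite G] (h : One T V z) {L : Subgroup G} (hL : L ∈ lines V z) {y y' e g : G} (hy : y ∈ V)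
    (hy1 : y ≠ 1) (hyz : y ≠ z) (hy' : y' ∈ L) (hy1' : y' ≠ 1) (hyz' : y' ≠ z) (he : e ∈ ee L y')
    (hey : e * y * e⁻¹ = z * y) (hg : ∀ q ∈ V, q ≠ 1 → ∀ d ∈ dd V q, g * d = d * g)
    (hgy : g * y' * g⁻¹ = z * y') : dd V z ≤ ii V ⊔ (dd V z ⊓ ii L) := by
  intro w hw
  obtain ⟨d, hd, hi⟩ := h.dd_split hL hy hy1 hyz hy' hy1' hyz' he hey hg hgy hw
  obtain ⟨h1, h2, -⟩ := h.dd_comm_mem hL hy hy1 hyz hy' hy1' hyz' he hey hg hgy hd
  have e1 : w = (d * (e * d * e⁻¹)) * (w⁻¹ * (d * (e * d * e⁻¹)))⁻¹ := by group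
  rw [e1]
  exact mul_mem (mem_sup_right ⟨h2, h1⟩) (mem_sup_left (inv_mem hi))

/-! ### `|A| = 2` -/

/-- two elements outside `E` differ by an element of `E` -/
theorem two_coset (h : One T V z) (h2 : (ee V z).relIndex (ws V z) = 2) (hp : p ∈ V) (hp1 : p ≠ 1) {a b : G}
    (ha : a ∈ ws V p) (hb : b ∈ ws V p) (ha' : a ∉ ee V p) (hb' : b ∉ ee V p) : a * b⁻¹ ∈ ee V p := by
  have h3 : ((ee V p).subgroupOf (ws V p)).index = 2 := by
    have := h.relIndex_ee_ws hp hp1 h.ln.z_mem h.ln.z_ne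
    rw [h2] at this
    exact this
  have h4 := Subgroup.mul_mem_iff_of_index_two h3 (a := ⟨a, ha⟩) (b := ⟨b, hb⟩⁻¹)
  rw [inv_mem_iff, mem_subgroupOf, mem_subgroupOf, mem_subgroupOf] at h4
  exact h4.mpr ⟨fun e => absurd e ha', fun e => absurd e hb'⟩

/-- `[w, w'] ∉ V` -/
theorem nt_beta [Finite G] (h : One T V z) (hN : NT V) (h2 : (ee V z).relIndex (ws V z) = 2) (hp : p ∈ V) (hp1 : p ≠ 1)
    (hq : q ∈ V) (hq1 : q ≠ 1) (hqp : q ≠ p) {a b : G} (ha : a ∈ ws V p) (hb : b ∈ ws V q) (ha' : a ∉ ee V p)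
    (hb' : b ∉ ee V q) : ⁅a, b⁆ ∉ V := by
  intro hab
  apply ha'
  rw [h.nt_mem_ee hN hp hp1 hq hq1 hqp]
  refine ⟨ha, fun c hc => ?_⟩
  by_cases hcE : c ∈ ee V q
  · have h3 := h.ee_cases hp hp1 hcE ha
    rw [h.comm_swap hp hp1 hq hq1 ha hc] at h3
    rcases h3 with h3 | h3
    · rw [h3]; exact one_mem _
    · rw [h3]; exact hp
  · have h3 := h.beta_right hp hp1 hq hq1 ha hc hb (h.two_coset h2 hq hq1 hc hb hcE hb')
    have h4 := mul_mem h3 hab
    rwa [inv_mul_cancel_right] at h4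

/-- `|A| = 2`: the elements of `E_q - D_q` induce on `W_p` the functional with kernel `E_p` -/
theorem ee_comm_iff [Finite G] (h : One T V z) (h2 : (ee V z).relIndex (ws V z) = 2) (hp : p ∈ V)
    (hp1 : p ≠ 1) (hq : q ∈ V) (hq1 : q ≠ 1) (hqp : q ≠ p) {r w : G} (hr : r ∈ ee V q) (hr' : r ∉ dd V q)
    (hw : w ∈ ws V p) : ⁅r, w⁆ = 1 ↔ w ∈ ee V p := by
  constructor
  · intro h3
    by_contra hwE
    apply hr'
    refine h.mem_dd hq hq1 hp hp1 (Ne.symm hqp) hr.1 fun b hb => ?_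
    rw [← commutatorElement_eq_one_iff_mul_comm]
    by_cases hbE : b ∈ ee V p
    · exact commutatorElement_eq_one_iff_mul_comm.mpr (h.ee_comm hq hq1 hp hp1 hr hbE)
    · -- `b = (b w⁻¹) w`
      have h4 := h.two_coset h2 hp hp1 hb hw hbE hwE
      have h5 : r * (b * w⁻¹) = (b * w⁻¹) * r := h.ee_comm hq hq1 hp hp1 hr h4
      have h6 : r * w = w * r := commutatorElement_eq_one_iff_mul_comm.mp h3
      rw [commutatorElement_eq_one_iff_mul_comm]
      have e : b = (b * w⁻¹) * w := by group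
      rw [e]
      exact comm_mul_of h5 h6
  · intro hwE
    exact commutatorElement_eq_one_iff_mul_comm.mpr (h.ee_comm hq hq1 hp hp1 hr hwE)

/-- `|A| = 2`: some element of `E_q` is not in `D_q` -/
theorem exists_ee_not_dd [Finite G] (h : One T V z) (hN : NT V) (hq : q ∈ V) (hq1 : q ≠ 1) :
    ∃ r ∈ ee V q, r ∉ dd V q := by
  have := h.nt_phi hN hq hq1
  rwa [SetLike.not_le_iff_exists] at this

/-- `|A| = 2`: `r ∈ E_q(L) - D_q(L)` moves the point `w ∈ W_z` iff `w ∉ E_z(L)` -/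
theorem ee_moves [Finite G] (h : One T V z) (h2 : (ee V z).relIndex (ws V z) = 2) (hq : q ∈ V)
    (hq1 : q ≠ 1) (hqz : q ≠ z) {r w : G} (hr : r ∈ ee V q) (hr' : r ∉ dd V q) (hw : w ∈ ws V z)
    (hwE : w ∉ ee V z) : r * w * r⁻¹ = z * w := by
  have h3 := (h.ee_comm_iff h2 h.ln.z_mem h.ln.z_ne hq hq1 hqz hr hr' hw).not.mpr hwE
  have h4 := (h.ee_cases h.ln.z_mem h.ln.z_ne hr hw).resolve_left h3
  calc r * w * r⁻¹ = ⁅r, w⁆ * w := by rw [commutatorElement_def]; group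
    _ = z * w := by rw [h4]

end One

/-! ### a second line on `z` -/

theorem NT.of_lines {V L : Subgroup G} {z : G} (hN : NT V) (hL : L ∈ lines V z) : NT L := by
  obtain ⟨⟨g, rfl⟩, -⟩ := hL
  intro p hp hp1 w hw
  have hp' : g⁻¹ * p * g ∈ V := mem_cj.mp hp
  have hp1' : g⁻¹ * p * g ≠ 1 := conj_ne_one hp1
  have hgV : ∀ v ∈ V, g * v * g⁻¹ ∈ cj g V := fun v hv => conj_mem_cj hv
  have hws : ∀ {q b : G}, b ∈ ws V q → g * b * g⁻¹ ∈ ws (cj g V) (g * q * g⁻¹) := fun {q b} hb => by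
    rw [ws_cj]; exact conj_mem_ws g hb
  have hws' : ∀ {q b : G}, b ∈ ws (cj g V) q → g⁻¹ * b * g ∈ ws V (g⁻¹ * q * g) := fun {q b} hb => by
    rw [ws_cj] at hb
    have := conj_mem_ws g⁻¹ hb
    rwa [inv_inv] at this
  have h1 : g⁻¹ * w * g ∈ n0 V (g⁻¹ * p * g) := by
    refine ⟨hws' hw.1, ?_, ?_⟩
    · rw [mem_centralizer_iff]
      intro v hv
      have := mem_centralizer_iff.mp hw.2.1 _ (hgV v hv)
      calc v * (g⁻¹ * w * g) = g⁻¹ * ((g * v * g⁻¹) * w) * g := by group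
        _ = g⁻¹ * (w * (g * v * g⁻¹)) * g := by rw [this]
        _ = g⁻¹ * w * g * v := by group
    · intro q hq hq1 b hb
      have h2 := hw.2.2 _ (hgV q hq) (by
        intro e; exact hq1 (conj_eq_one_iff.mp e)) _ (hws hb)
      have h3 := mem_cj.mp h2
      have e : g⁻¹ * ⁅w, g * b * g⁻¹⁆ * g = ⁅g⁻¹ * w * g, b⁆ := by simp only [commutatorElement_def]; group
      rwa [e] at h3
  have h2 := hN _ hp' hp1' h1
  refine ⟨hw.1, fun q hq hq1 => ?_⟩
  have h3 := h2.2 _ (mem_cj.mp hq) (conj_ne_one hq1)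
  have h4 := conj_mem_kq g h3
  rw [kq_cj]
  have e1 : g * (g⁻¹ * w * g) * g⁻¹ = w := by group
  have e2 : g * (g⁻¹ * q * g) * g⁻¹ = q := by group
  rwa [e1, e2] at h4

namespace One

variable {T V : Subgroup G} {z p q r : G}

theorem two_of_lines (h : One T V z) (h2 : (ee V z).relIndex (ws V z) = 2) {L : Subgroup G} (hL : L ∈ lines V z) :
    (ee L z).relIndex (ws L z) = 2 := by
  obtain ⟨⟨g, hLg⟩, hzL⟩ := hL
  have hz := h.ln.z_mem
  obtain ⟨c, hc, hLc⟩ := h.ln.exists_of_mem_lines ⟨⟨g, hLg⟩, hzL⟩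
  subst hLc
  have hcz : c * z * c⁻¹ = z := conj_eq_of_comm (mem_centralizer_singleton_iff.mp hc)
  have h3 : cj c (ee V z) = ee (cj c V) z := by
    ext w
    rw [mem_cj]
    constructor
    · rintro ⟨h4, h5⟩
      refine ⟨?_, fun q hq hq1 => ?_⟩
      · rw [ws_cj]
        have := conj_mem_ws c h4
        rw [hcz] at this
        have e : c * (c⁻¹ * w * c) * c⁻¹ = w := by group
        rwa [e] at this
      · have h6 := conj_mem_kq c (h5 _ (mem_cj.mp hq) (conj_ne_one hq1))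
        rw [kq_cj]
        have e1 : c * (c⁻¹ * w * c) * c⁻¹ = w := by group
        have e2 : c * (c⁻¹ * q * c) * c⁻¹ = q := by group
        rwa [e1, e2] at h6
    · rintro ⟨h4, h5⟩
      have hcz' : c⁻¹ * z * c⁻¹⁻¹ = z := by
        rw [inv_inv]
        calc c⁻¹ * z * c = c⁻¹ * (c * z * c⁻¹) * c := by rw [hcz]
          _ = z := by group
      refine ⟨?_, fun q hq hq1 => ?_⟩
      · rw [ws_cj] at h4
        have := conj_mem_ws c⁻¹ h4
        rwa [hcz', inv_inv] at this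
      · have h6 := conj_mem_kq c⁻¹ (h5 _ (conj_mem_cj hq) (fun e => hq1 (conj_eq_one_iff.mp e)))
        rw [kq_cj, inv_inv] at h6
        have e2 : c⁻¹ * (c * q * c⁻¹) * c = q := by group
        rwa [e2] at h6
  have h4 : cj c (ws V z) = ws (cj c V) z := by rw [cj_ws, hcz, ws_cj]
  rw [← h3, ← h4, relIndex_cj, h2]

/-- **(0.1)** for a symmetric pair `(V, L)` of lines on `z`: `y ∈ V`, `y' ∈ L`, `y ∉ E_z(L)`, `y' ∉ E_z(V)`. -/
theorem sym_pair [Finite G] (h : One T V z) (hN : NT V) (h2 : (ee V z).relIndex (ws V z) = 2) {L : Subgroup G}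
    (hL : L ∈ lines V z) {y y' r d : G} (hy : y ∈ V) (hy1 : y ≠ 1) (hyz : y ≠ z) (hy' : y' ∈ L)
    (hy1' : y' ≠ 1) (hyz' : y' ≠ z) (hyE : y ∉ ee L z) (hyE' : y' ∉ ee V z) (hr : r ∈ ee L y') (hr' : r ∉ dd L y')
    (hd : d ∈ dd V y) :
    d * (r * d * r⁻¹) ∈ ii L ∧ d * (r * d * r⁻¹) ∈ dd V z ∧ r * d * r⁻¹ ∈ dd V (z * y) := by
  obtain ⟨-, -, T', h'⟩ := h.of_line hL h.ln.z_ne
  obtain ⟨g, hg, hg'⟩ := h.exists_ee_not_dd hN hy hy1
  have hyw : y ∈ ws L z := by rw [ws_of_lines hL]; exact h.V_le h.ln.z_mem h.ln.z_ne hy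
  have hyw' : y' ∈ ws V z := le_ws hL hy'
  refine h.dd_comm_mem hL hy hy1 hyz hy' hy1' hyz' hr
    (h'.ee_moves (h.two_of_lines h2 hL) hy' hy1' hyz' hr hr' hyw hyE) (g := g)
    (fun q hq hq1 d hd => (hd.2 y hy hy1 g hg.1).symm)
    (h.ee_moves h2 hy hy1 hyz hg hg' hyw' hyE') hd

/-- **(0.1)**: every `w ∈ D_z(V)` is `d d^r` modulo `I` for a `d ∈ D_y(V)` -/
theorem sym_pair_surj [Finite G] (h : One T V z) (hN : NT V) (h2 : (ee V z).relIndex (ws V z) = 2) {L : Subgroup G}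
    (hL : L ∈ lines V z) {y y' r w : G} (hy : y ∈ V) (hy1 : y ≠ 1) (hyz : y ≠ z) (hy' : y' ∈ L)
    (hy1' : y' ≠ 1) (hyz' : y' ≠ z) (hyE : y ∉ ee L z) (hyE' : y' ∉ ee V z) (hr : r ∈ ee L y') (hr' : r ∉ dd L y')
    (hw : w ∈ dd V z) : ∃ d ∈ dd V y, w⁻¹ * (d * (r * d * r⁻¹)) ∈ ii V := by
  obtain ⟨-, -, T', h'⟩ := h.of_line hL h.ln.z_ne
  obtain ⟨g, hg, hg'⟩ := h.exists_ee_not_dd hN hy hy1
  have hyw : y ∈ ws L z := by rw [ws_of_lines hL]; exact h.V_le h.ln.z_mem h.ln.z_ne hy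
  have hyw' : y' ∈ ws V z := le_ws hL hy'
  exact h.dd_split hL hy hy1 hyz hy' hy1' hyz' hr
    (h'.ee_moves (h.two_of_lines h2 hL) hy' hy1' hyz' hr hr' hyw hyE) (g := g)
    (fun q hq hq1 d hd => (hd.2 y hy hy1 g hg.1).symm)
    (h.ee_moves h2 hy hy1 hyz hg hg' hyw' hyE') hw

/-- **(0.1)**: `D_z(V) = I_V (D_z(V) ∩ I_L)` for a symmetric pair -/
theorem sym_pair_le [Finite G] (h : One T V z) (hN : NT V) (h2 : (ee V z).relIndex (ws V z) = 2) {L : Subgroup G}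
    (hL : L ∈ lines V z) {y y' : G} (hy : y ∈ V) (hy1 : y ≠ 1) (hyz : y ≠ z) (hy' : y' ∈ L)
    (hy1' : y' ≠ 1) (hyz' : y' ≠ z) (hyE : y ∉ ee L z) (hyE' : y' ∉ ee V z) :
    dd V z ≤ ii V ⊔ (dd V z ⊓ ii L) := by
  obtain ⟨-, -, T', h'⟩ := h.of_line hL h.ln.z_ne
  obtain ⟨r, hr, hr'⟩ := h'.exists_ee_not_dd (hN.of_lines hL) hy' hy1'
  intro w hw
  obtain ⟨d, hd, hi⟩ := h.sym_pair_surj hN h2 hL hy hy1 hyz hy' hy1' hyz' hyE hyE' hr hr' hw
  obtain ⟨h3, h4, -⟩ := h.sym_pair hN h2 hL hy hy1 hyz hy' hy1' hyz' hyE hyE' hr hr' hd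
  have e1 : w = (d * (r * d * r⁻¹)) * (w⁻¹ * (d * (r * d * r⁻¹)))⁻¹ := by group
  rw [e1]
  exact mul_mem (mem_sup_right ⟨h4, h3⟩) (mem_sup_left (inv_mem hi))

/-- **(0.2)**: `V` and the line `L = ⟨z, u⟩` in one plane (`u ∈ ii V`): `W_z ∩ W_u ≤ E_z(V)` -/
theorem ii_le_ee_of_plane [Finite G] (h : One T V z) (hN : NT V) (h2 : (ee V z).relIndex (ws V z) = 2)
    {L : Subgroup G} (hL : L ∈ lines V z) {u : G} (huL : u ∈ L) (hu : u ∈ ii V) (huV : u ∉ V) : ii L ≤ ee V z := by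
  intro w hw
  by_contra hwE
  have hz := h.ln.z_mem
  have hz1 := h.ln.z_ne
  have hu1 : u ≠ 1 := fun e => huV (e ▸ one_mem V)
  obtain ⟨y, hy, hy1, hyz⟩ := h.exists_q hz hz1
  obtain ⟨g, hg, hgu, hgz⟩ := h.ftwo hu huV hz hz1 hy hy1
  obtain ⟨-, -, T', h'⟩ := h.of_line hL hz1
  have hwz : w ∈ ws V z := by
    have := ii_le h'.ln.z_mem hz1 hw
    rwa [ws_of_lines hL] at this
  have hwu : w ∈ ws L u := ii_le huL hu1 hw
  have h3 : g * w * g⁻¹ ∈ ws V y := by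
    have := conj_mem_ws g hwz
    rwa [hgz] at this
  have h4 : g * w * g⁻¹ ∉ ee V y := by
    intro h5
    apply hwE
    have h6 := conj_mem_ee (inv_mem hg) h5
    have e1 : g⁻¹ * (g * w * g⁻¹) * g⁻¹⁻¹ = w := by group
    have e2 : g⁻¹ * y * g⁻¹⁻¹ = z := by rw [← hgz]; group
    rwa [e1, e2] at h6
  have h5 : g * w * g⁻¹ ∈ ws L u := by
    have := conj_mem_ws g hwu
    rwa [conj_eq_of_comm hgu] at this
  have h6 : w * (g * w * g⁻¹) = (g * w * g⁻¹) * w := h'.comm huL hu1 _ hwu _ h5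
  refine h.nt_beta hN h2 hz hz1 hy hy1 hyz hwz h3 hwE h4 ?_
  rw [commutatorElement_eq_one_iff_mul_comm.mpr h6]
  exact one_mem _

end One

end Cfsg.Agent.Omega.NO3S.TwoOne

end

section


/-!
# NO-3S, `q = 2`, `n = 1`, `|A| = 2`, no `λ`-transvections (helper881 #18307): the module part of sections 3 and 4

`S : TSys M H` : `M` an elementary abelian 2-group, `H` acts on `M`; `S.L` the set of line vectors (one orbit of
`H`), `S.a v` the involution of the line vector `v`, `S.I v` the subgroup `Ī_v`; `S.E v m` : `[m, a_v] ∈ ⟨v⟩`.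

* `TSys.order_three` (3.3), `TSys.no_transvection` (3.4) LEMMA T, `TSys.exists_pair` (3.5);
* `TSys.mu_not_E` (4.1), `TSys.I_inf` (4.2), `TSys.D_inf` (4.3), `TSys.mem_I_iff`, `TSys.card` (4.4): `Ī = C_M(a)`,
  `|M| = 16`, `|Ī| = 4`; `TSys.c_mu` : `[μ, a'] = μ' + λ'` for an S-pair.
-/

set_option autoImplicit false

namespace Cfsg.Agent.Omega.NO3S.TwoOne

universe u v

/-- the line vectors, involutions and subgroups `Ī` of #18307, section 3 -/
structure TSys (M : Type u) (H : Type v) [AddCommGroup M] [Group H] [DistribMulAction H M] where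
  /-- line vectors -/
  L : Set M
  /-- the involution of a line vector -/
  a : M → H
  /-- `Ī_v` -/
  I : M → AddSubgroup M
  two : ∀ m : M, m + m = 0
  ne : L.Nonempty
  ne0 : (0 : M) ∉ L
  smul_mem : ∀ (x : H), ∀ v ∈ L, x • v ∈ L
  trans : ∀ v ∈ L, ∀ w ∈ L, ∃ x : H, x • v = w
  a_smul : ∀ (x : H), ∀ v ∈ L, a (x • v) = x * a v * x⁻¹
  I_smul : ∀ (x : H), ∀ v ∈ L, ∀ m ∈ I v, x • m ∈ I (x • v)
  sq : ∀ v ∈ L, a v * a v = 1
  /-- THEOREM P -/
  cent : ∀ v ∈ L, ∀ x : H, x * a v = a v * x → x • v = v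
  fix : ∀ v ∈ L, ∀ m ∈ I v, a v • m = m
  comm : ∀ v ∈ L, ∀ m, a v • m + m ∈ I v
  /-- `v ∈ [M, a_v]` -/
  mem : ∀ v ∈ L, ∃ m, a v • m + m = v
  /-- `a_v` is not a `v`-transvection -/
  nt : ∀ v ∈ L, ∃ m, a v • m + m ≠ 0 ∧ a v • m + m ≠ v
  /-- `|[M, a_v]| = 4` -/
  idx : ∀ v ∈ L, ∀ m n, a v • m + m ≠ 0 → a v • m + m ≠ v → a v • n + n ≠ 0 → a v • n + n ≠ v →
    a v • (m + n) + (m + n) = 0 ∨ a v • (m + n) + (m + n) = v
  /-- LEMMA I -/
  lemI : ∀ X : AddSubgroup M, (∀ (x : H), ∀ m ∈ X, x • m ∈ X) → X ≠ ⊤ → ∀ v ∈ L, ∀ m ∈ X, m ∈ I v → m = 0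
  /-- (II) -/
  faith : ∀ X : AddSubgroup M, (∀ (x : H), ∀ m ∈ X, x • m ∈ X) → X ≠ ⊤ → ∀ x : H, (∀ m, x • m + m ∈ X) → x = 1
  /-- (1.2) -/
  rel : ∀ v ∈ L, ∀ w ∈ L, a v • w + w ≠ 0 → a v • w + w ≠ v → a w • v + v ≠ 0 → a w • v + v ≠ w →
    ∀ d, a v • d = d → ∃ i ∈ I v, ∃ j ∈ I w, a v • j = j ∧ d = i + j
  /-- (3.2), ALPHA -/
  alpha : ∀ v ∈ L, ∀ w ∈ L, a v • w + w ≠ 0 → a v • w + w ≠ v → a w • v + v ≠ 0 → a w • v + v ≠ w →
    ∀ u ∈ I v, u ∈ I w → u ≠ 0 → a v • w + w = u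
  /-- the group argument of (4.1) -/
  grp : ∀ v ∈ L, ∀ w ∈ L, a v • w + w ≠ 0 → a v • w + w ≠ v → a w • v + v ≠ 0 → a w • v + v ≠ w →
    (a w • (a v • w) + a v • w = 0 ∨ a w • (a v • w) + a v • w = w) → ∃ u ∈ I v, u ∈ I w ∧ u ≠ 0

namespace TSys

variable {M : Type u} {H : Type v} [AddCommGroup M] [Group H] [DistribMulAction H M] (S : TSys M H)

/-- `E v m` : `[m, a_v] ∈ ⟨v⟩`, i.e. `m ∈ Ē_v` -/
def E (v m : M) : Prop := S.a v • m + m = 0 ∨ S.a v • m + m = v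

/-- S-pairs -/
structure Pair (v w : M) : Prop where
  hv : v ∈ S.L
  hw : w ∈ S.L
  vw : ¬ S.E v w
  wv : ¬ S.E w v

variable {S}

theorem eq_of (hS : TSys M H) {a b : M} (h : a + b = 0) : a = b := by
  have := hS.two b
  calc a = a + (b + b) := by rw [this, add_zero]
    _ = (a + b) + b := by abel
    _ = b := by rw [h, zero_add]

theorem add_self (hS : TSys M H) (a b : M) : a + (a + b) = b := by
  rw [← add_assoc, hS.two, zero_add]

theorem smul_smul_self (S : TSys M H) {v : M} (hv : v ∈ S.L) (m : M) : S.a v • (S.a v • m) = m := by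
  rw [← mul_smul, S.sq v hv, one_smul]

/-- `E v` is closed under addition -/
theorem E_add (S : TSys M H) {v m n : M} (hm : S.E v m) (hn : S.E v n) : S.E v (m + n) := by
  have e : S.a v • (m + n) + (m + n) = (S.a v • m + m) + (S.a v • n + n) := by
    rw [smul_add]; abel
  unfold E
  rw [e]
  rcases hm with h1 | h1 <;> rcases hn with h2 | h2 <;> rw [h1, h2]
  · left; exact add_zero _
  · right; exact zero_add _
  · right; exact add_zero _
  · left; exact S.two v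

theorem E_add_of_not (S : TSys M H) {v m n : M} (hv : v ∈ S.L) (hm : ¬ S.E v m) (hn : ¬ S.E v n) : S.E v (m + n) :=
  S.idx v hv m n (fun h => hm (Or.inl h)) (fun h => hm (Or.inr h)) (fun h => hn (Or.inl h)) (fun h => hn (Or.inr h))

theorem not_E_add (S : TSys M H) {v m n : M} (hm : ¬ S.E v m) (hn : S.E v n) : ¬ S.E v (m + n) := fun h => hm (by
  have := S.E_add h hn
  have e : m + n + n = m := by rw [add_assoc, S.two, add_zero]
  rwa [e] at this)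

theorem E_smul (S : TSys M H) (x : H) {v m : M} (hv : v ∈ S.L) : S.E (x • v) (x • m) ↔ S.E v m := by
  unfold E
  have e : S.a (x • v) • (x • m) + x • m = x • (S.a v • m + m) := by
    rw [S.a_smul x v hv, smul_add, mul_smul, mul_smul, inv_smul_smul]
  rw [e]
  constructor
  · rintro (h | h)
    · left
      have := congrArg (fun y => x⁻¹ • y) h
      simpa using this
    · right
      have := congrArg (fun y => x⁻¹ • y) h
      simpa using this
  · rintro (h | h)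
    · left; rw [h, smul_zero]
    · right; rw [h]

theorem E_zero (S : TSys M H) (v : M) : S.E v 0 := Or.inl (by rw [smul_zero, add_zero])

/-- `Ī_v ≤ Ē_v` -/
theorem E_of_I (S : TSys M H) {v m : M} (hv : v ∈ S.L) (hm : m ∈ S.I v) : S.E v m :=
  Or.inl (by rw [S.fix v hv m hm, S.two])

theorem v_mem_I (S : TSys M H) {v : M} (hv : v ∈ S.L) : v ∈ S.I v := by
  obtain ⟨m, hm⟩ := S.mem v hv
  have := S.comm v hv m
  rwa [hm] at this

theorem a_v (S : TSys M H) {v : M} (hv : v ∈ S.L) : S.a v • v = v := S.fix v hv v (S.v_mem_I hv)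

theorem v_ne (S : TSys M H) {v : M} (hv : v ∈ S.L) : v ≠ 0 := fun e => S.ne0 (e ▸ hv)

/-- `c v m = [m, a_v]` -/
def c (S : TSys M H) (v m : M) : M := S.a v • m + m

theorem c_add (S : TSys M H) (v m n : M) : S.c v (m + n) = S.c v m + S.c v n := by
  unfold c
  rw [smul_add]; abel

theorem a_eq (S : TSys M H) (v m : M) : S.a v • m = m + S.c v m := by
  unfold c
  rw [add_comm (S.a v • m) m, S.add_self]

theorem c_eq_zero (S : TSys M H) {v m : M} : S.c v m = 0 ↔ S.a v • m = m := by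
  constructor
  · intro h; rw [S.a_eq, h, add_zero]
  · intro h; unfold c; rw [h, S.two]

theorem c_mem (S : TSys M H) {v : M} (hv : v ∈ S.L) (m : M) : S.c v m ∈ S.I v := S.comm v hv m

theorem c_of_I (S : TSys M H) {v m : M} (hv : v ∈ S.L) (hm : m ∈ S.I v) : S.c v m = 0 :=
  S.c_eq_zero.mpr (S.fix v hv m hm)

theorem c_c (S : TSys M H) {v : M} (hv : v ∈ S.L) (m : M) : S.c v (S.c v m) = 0 := S.c_of_I hv (S.c_mem hv m)

theorem c_v (S : TSys M H) {v : M} (hv : v ∈ S.L) : S.c v v = 0 := S.c_of_I hv (S.v_mem_I hv)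

theorem E_iff (S : TSys M H) {v m : M} : S.E v m ↔ S.c v m = 0 ∨ S.c v m = v := Iff.rfl

theorem E_v (S : TSys M H) {v : M} (hv : v ∈ S.L) : S.E v v := Or.inl (S.c_v hv)

theorem E_c (S : TSys M H) {v : M} (hv : v ∈ S.L) (m : M) : S.E v (S.c v m) := Or.inl (S.c_c hv m)

theorem E_a (S : TSys M H) {v : M} (hv : v ∈ S.L) (m : M) : S.E v (S.a v • m) ↔ S.E v m := by
  have := S.E_smul (S.a v) hv (m := m)
  rwa [S.a_v hv] at this

theorem c_smul (S : TSys M H) (x : H) {v : M} (hv : v ∈ S.L) (m : M) : S.c (x • v) (x • m) = x • S.c v m := by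
  unfold c
  rw [S.a_smul x v hv, smul_add, mul_smul, mul_smul, inv_smul_smul]

/-- the range of `c v` -/
theorem c_range (S : TSys M H) {v m : M} (hv : v ∈ S.L) (hm : ¬ S.E v m) (n : M) :
    S.c v n = 0 ∨ S.c v n = v ∨ S.c v n = S.c v m ∨ S.c v n = S.c v m + v := by
  by_cases hn : S.E v n
  · rcases hn with h | h
    · exact Or.inl h
    · exact Or.inr (Or.inl h)
  · right; right
    rcases S.E_add_of_not hv hm hn with h | h
    · left
      have h' : S.c v (m + n) = 0 := h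
      rw [S.c_add] at h'
      exact (S.eq_of h').symm
    · right
      have h' : S.c v (m + n) = v := h
      rw [S.c_add] at h'
      have h2 := S.add_self (S.c v m) (S.c v n)
      rw [h'] at h2
      exact h2.symm

/-- `C_H(a_v) = H_v` -/
theorem cent_iff (S : TSys M H) {v : M} (hv : v ∈ S.L) (x : H) : x * S.a v = S.a v * x ↔ x • v = v := by
  constructor
  · exact S.cent v hv x
  · intro h
    have := S.a_smul x v hv
    rw [h] at this
    calc x * S.a v = (x * S.a v * x⁻¹) * x := by group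
      _ = S.a v * x := by rw [← this]

theorem a_inj (S : TSys M H) {v w : M} (hv : v ∈ S.L) (hw : w ∈ S.L) (h : S.a v = S.a w) : v = w := by
  obtain ⟨x, rfl⟩ := S.trans v hv w hw
  rw [S.a_smul x v hv] at h
  refine (S.cent v hv x ?_).symm
  calc x * S.a v = (x * S.a v * x⁻¹) * x := by group
    _ = S.a v * x := by rw [← h]

/-- (3.1) -/
theorem comm_iff (S : TSys M H) {v w : M} (hw : w ∈ S.L) :
    S.a v * S.a w = S.a w * S.a v ↔ S.c v w = 0 := by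
  rw [S.cent_iff hw, S.c_eq_zero]

theorem c_comm (S : TSys M H) {v w : M} (hv : v ∈ S.L) (hw : w ∈ S.L) : S.c v w = 0 ↔ S.c w v = 0 := by
  rw [← S.comm_iff hw, ← S.comm_iff hv]
  exact eq_comm

/-- (3.2) -/
theorem alpha' (S : TSys M H) {v w u : M} (h : S.Pair v w) (h1 : u ∈ S.I v) (h2 : u ∈ S.I w) (h0 : u ≠ 0) :
    S.c v w = u :=
  S.alpha v h.hv w h.hw (fun e => h.vw (Or.inl e)) (fun e => h.vw (Or.inr e)) (fun e => h.wv (Or.inl e))
    (fun e => h.wv (Or.inr e)) u h1 h2 h0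

theorem Pair.symm {S : TSys M H} {v w : M} (h : S.Pair v w) : S.Pair w v := ⟨h.hw, h.hv, h.wv, h.vw⟩

/-- **(3.3)** -/
theorem order_three (S : TSys M H) {v w : M} (hv : v ∈ S.L) (hw : w ∈ S.L) (hvw : v ≠ w)
    (h3 : S.a v * S.a w * S.a v = S.a w * S.a v * S.a w) : S.c v w = v := by
  have hvi : (S.a v)⁻¹ = S.a v := inv_eq_of_mul_eq_one_right (S.sq v hv)
  have hwi : (S.a w)⁻¹ = S.a w := inv_eq_of_mul_eq_one_right (S.sq w hw)
  -- `a_w v = a_v w`
  have h1 : S.a w • v = S.a v • w := by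
    refine S.a_inj (S.smul_mem _ v hv) (S.smul_mem _ w hw) ?_
    rw [S.a_smul _ v hv, S.a_smul _ w hw, hvi, hwi, h3]
  set σ := v + w + S.a v • w with hσ
  have e1 : S.c v w = v + σ := by
    rw [hσ, add_assoc, S.add_self]; unfold c; abel
  have e2 : S.c w v = w + σ := by
    have : w + σ = v + (w + w) + S.a v • w := by rw [hσ]; abel
    rw [this, S.two, add_zero]; unfold c
    rw [h1]; abel
  by_cases h0 : σ = 0
  · rw [e1, h0, add_zero]
  exfalso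
  have hne : S.c v w ≠ 0 := by
    intro e
    have h4 := (S.comm_iff hw).mpr e
    apply hvw
    refine S.a_inj hv hw ?_
    calc S.a v = S.a v * (S.a w * S.a w) := by rw [S.sq w hw, mul_one]
      _ = S.a w * S.a v * S.a w := by rw [← mul_assoc, h4]
      _ = S.a v * S.a w * S.a v := h3.symm
      _ = S.a w * (S.a v * S.a v) := by rw [h4]; group
      _ = S.a w := by rw [S.sq v hv, mul_one]
  have hne' : S.c w v ≠ 0 := fun e => hne ((S.c_comm hw hv).mp e)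
  have hI1 : σ ∈ S.I v := by
    have := add_mem (S.v_mem_I hv) (S.c_mem hv w)
    rwa [e1, S.add_self] at this
  have hI2 : σ ∈ S.I w := by
    have := add_mem (S.v_mem_I hw) (S.c_mem hw v)
    rwa [e2, S.add_self] at this
  have hp : S.Pair v w := by
    refine ⟨hv, hw, ?_, ?_⟩
    · rintro (e | e)
      · exact hne e
      · apply h0
        have e' : S.c v w = v := e
        rw [e1] at e'
        simpa using e'
    · rintro (e | e)
      · exact hne' e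
      · apply h0
        have e' : S.c w v = w := e
        rw [e2] at e'
        simpa using e'
  have h5 := S.alpha' hp hI1 hI2 h0
  rw [e1] at h5
  exact S.v_ne hv (by simpa using h5)

/-! ### LEMMA T -/

theorem bot_ne_top (S : TSys M H) : (⊥ : AddSubgroup M) ≠ ⊤ := by
  intro e
  obtain ⟨v, hv⟩ := S.ne
  have : v ∈ (⊥ : AddSubgroup M) := by rw [e]; trivial
  exact S.v_ne hv (AddSubgroup.mem_bot.mp this)

theorem eq_one (S : TSys M H) {x : H} (h : ∀ m : M, x • m = m) : x = 1 := by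
  refine S.faith ⊥ (fun y m hm => ?_) S.bot_ne_top x fun m => ?_
  · rw [AddSubgroup.mem_bot] at hm ⊢
    rw [hm, smul_zero]
  · rw [h m, S.two]; exact zero_mem _

theorem eq_of_smul (S : TSys M H) {x y : H} (h : ∀ m : M, x • m = y • m) : x = y := by
  have : y⁻¹ * x = 1 := S.eq_one fun m => by rw [mul_smul, h m, inv_smul_smul]
  exact (inv_mul_eq_one.mp this).symm

/-- `t` is a transvection with centre `e`, or `1` -/
def Tv (t : H) (e : M) : Prop := ∀ m : M, t • m + m = 0 ∨ t • m + m = e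

namespace Tv

variable {t : H} {e : M}

theorem cases (h : Tv t e) (S : TSys M H) (m : M) : t • m = m ∨ t • m = m + e := by
  rcases h m with h | h
  · exact Or.inl (S.eq_of h)
  · right
    calc t • m = t • m + (m + m) := by rw [S.two, add_zero]
      _ = (t • m + m) + m := by abel
      _ = m + e := by rw [h, add_comm]

/-- the centre of a transvection is fixed -/
theorem fix (h : Tv t e) (S : TSys M H) : t • e = e := by
  rcases h.cases S e with h1 | h1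
  · exact h1
  · rw [S.two] at h1
    have : e = 0 := by
      have := congrArg (fun x => t⁻¹ • x) h1
      simpa using this
    rw [this, smul_zero]

theorem sq (h : Tv t e) (S : TSys M H) : t * t = 1 := by
  refine S.eq_one fun m => ?_
  rw [mul_smul]
  rcases h.cases S m with h1 | h1
  · rw [h1, h1]
  · rw [h1, smul_add, h1, h.fix S, add_assoc, S.two, add_zero]

theorem conj (h : Tv t e) (x : H) : Tv (x * t * x⁻¹) (x • e) := by
  intro m
  have e1 : (x * t * x⁻¹) • m + m = x • (t • (x⁻¹ • m) + x⁻¹ • m) := by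
    rw [smul_add, smul_inv_smul, mul_smul, mul_smul]
  rw [e1]
  rcases h (x⁻¹ • m) with h1 | h1
  · left; rw [h1, smul_zero]
  · right; rw [h1]

end Tv

/-- the centre of a transvection lies in `Ē_v` -/
theorem tv_E (S : TSys M H) {t : H} {e : M} (ht : Tv t e) (ht1 : t ≠ 1) {v : M} (hv : v ∈ S.L) : S.E v e := by
  obtain ⟨m, hm⟩ : ∃ m : M, t • m ≠ m := by
    by_contra hcon
    push Not at hcon
    exact ht1 (S.eq_one hcon)
  have hm' : t • m = m + e := (ht.cases S m).resolve_left hm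
  have he0 : e ≠ 0 := fun h => hm (by rw [hm', h, add_zero])
  have htt := ht.sq S
  have hte := ht.fix S
  have hvi : (S.a v)⁻¹ = S.a v := inv_eq_of_mul_eq_one_right (S.sq v hv)
  have hti : t⁻¹ = t := inv_eq_of_mul_eq_one_right htt
  rcases ht.cases S v with h1 | h1
  · -- `t ∈ H_v = C_H(a_v)`
    left
    refine S.c_eq_zero.mpr ?_
    have h2 := (S.cent_iff hv t).mpr h1
    have h3 : t • (S.a v • m) = S.a v • m + S.a v • e := by
      rw [← mul_smul, h2, mul_smul, hm', smul_add]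
    rcases ht.cases S (S.a v • m) with h4 | h4
    · exfalso
      rw [h4] at h3
      have h5 : S.a v • e = 0 := by simpa using h3.symm
      apply he0
      have := congrArg (fun x => (S.a v)⁻¹ • x) h5
      simpa using this
    · rw [h4] at h3
      exact (add_left_cancel h3).symm
  · -- `t v = v + e`
    have hw : v + e ∈ S.L := by rw [← h1]; exact S.smul_mem t v hv
    have haw : S.a (v + e) = t * S.a v * t := by
      rw [← h1, S.a_smul t v hv, hti]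
    set f := S.a v • e with hf
    have hav := S.a_v hv
    -- `f = a e` is fixed by `t` or `t f = f + e`
    rcases ht.cases S f with h2 | h2
    · -- `t` and `t^a` commute
      left
      refine S.c_eq_zero.mpr ?_
      have hta : Tv (S.a v * t * S.a v) f := by
        have := ht.conj (S.a v)
        rwa [hvi] at this
      have h3 : (S.a v * t * S.a v) • e = e := by
        rw [mul_smul, mul_smul, ← hf, h2, hf, S.smul_smul_self hv]
      have h4 : t * (S.a v * t * S.a v) = (S.a v * t * S.a v) * t := by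
        refine S.eq_of_smul fun n => ?_
        rw [mul_smul, mul_smul (S.a v * t * S.a v) t]
        rcases ht.cases S n with h5 | h5 <;> rcases hta.cases S n with h6 | h6 <;> rw [h5, h6]
        · exact h5
        · rw [smul_add, h5, h2]
        · rw [h5, smul_add, h6, h3]
        · rw [smul_add, h5, h2, smul_add, h6, h3]; abel
      -- `a` and `a_(v+e)` commute
      have h5 : S.a v * S.a (v + e) = S.a (v + e) * S.a v := by
        rw [haw]
        have e1 : S.a v * (t * S.a v * t) = (S.a v * t * S.a v) * t := by group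
        have e2 : t * S.a v * t * S.a v = t * (S.a v * t * S.a v) := by group
        rw [e1, e2, h4]
      have h6 := (S.cent_iff hw (S.a v)).mp h5
      rw [smul_add, hav] at h6
      exact add_left_cancel h6
    · -- order 3
      right
      have h3 : t • f = f + e := h2
      have hta : Tv (S.a v * t * S.a v) f := by
        have := ht.conj (S.a v)
        rwa [hvi] at this
      have hee : S.a v • f = e := by rw [hf, S.smul_smul_self hv]
      have h4 : (S.a v * t * S.a v) • e = e + f := by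
        rw [mul_smul, mul_smul, ← hf, h3, smul_add, hee, ← hf]
      -- braid relation of `t` and `s = t^a`
      obtain ⟨s, hs⟩ : ∃ s : H, s = S.a v * t * S.a v := ⟨_, rfl⟩
      rw [← hs] at hta h4
      have hff := hta.fix S
      have hbr : t * s * t = s * t * s := by
        refine S.eq_of_smul fun n => ?_
        simp only [mul_smul]
        rcases ht.cases S n with h5 | h5 <;> rcases hta.cases S n with h6 | h6 <;>
          simp only [h5, h6, smul_add, hte, h3, h4, hff]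
        · have e1 : n + f + (f + (e + f)) = n + (f + f) + (f + e) := by abel
          rw [e1, S.two, add_zero]
        · have e1 : n + e + (e + (f + e)) = n + (e + e) + (e + f) := by abel
          rw [e1, S.two, add_zero]
        · have e1 : n + e + (f + e) + (e + (f + e)) = n + (f + f) + (e + e) + (e + e) := by abel
          have e2 : n + f + (e + f) + (f + (e + f)) = n + (f + f) + (f + f) + (e + e) := by abel
          rw [e1, e2]; simp only [S.two]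
      have h7 := S.order_three hv hw (fun h => he0 (by simpa using h.symm)) (by
        rw [haw]
        have haa := S.sq v hv
        calc S.a v * (t * S.a v * t) * S.a v = (S.a v * t * S.a v) * t * S.a v := by group
          _ = s * t * S.a v := by rw [← hs]
          _ = s * t * S.a v * (t * t) := by rw [htt, mul_one]
          _ = s * t * (S.a v * t * (S.a v * S.a v)) * t := by rw [haa]; group
          _ = s * t * (S.a v * t * S.a v) * S.a v * t := by group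
          _ = (s * t * s) * S.a v * t := by rw [← hs]
          _ = (t * s * t) * S.a v * t := by rw [hbr]
          _ = (t * (S.a v * t * S.a v) * t) * S.a v * t := by rw [← hs]
          _ = t * S.a v * t * S.a v * (t * S.a v * t) := by group)
      rw [S.c_add, S.c_v hv, zero_add] at h7
      exact h7

/-- the submodule spanned by the centres of the transvections -/
theorem no_transvection (S : TSys M H) {t : H} {e : M} (ht : Tv t e) : t = 1 := by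
  by_contra ht1
  let X : AddSubgroup M := AddSubgroup.closure {e | ∃ t : H, t ≠ 1 ∧ Tv t e}
  obtain ⟨v, hv⟩ := S.ne
  have hXE : ∀ m ∈ X, S.E v m := by
    intro m hm
    refine AddSubgroup.closure_induction ?_ (S.E_zero v) (fun a b _ _ => S.E_add) (fun a _ ha => ?_) hm
    · rintro e ⟨t, ht1, ht⟩
      exact S.tv_E ht ht1 hv
    · have : -a = a := by
        rw [neg_eq_iff_add_eq_zero]; exact S.two a
      rwa [this]
  have hX : X ≠ ⊤ := by
    intro h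
    obtain ⟨m, hm1, hm2⟩ := S.nt v hv
    rcases hXE m (by rw [h]; trivial) with h1 | h1
    · exact hm1 h1
    · exact hm2 h1
  refine ht1 (S.faith X ?_ hX t fun m => ?_)
  · intro x m hm
    refine AddSubgroup.closure_induction (p := fun m _ => x • m ∈ X) ?_ ?_ ?_ ?_ hm
    · rintro e ⟨t, ht1, ht⟩
      refine AddSubgroup.subset_closure ⟨x * t * x⁻¹, fun h => ht1 ?_, ht.conj x⟩
      exact conj_eq_one_iff.mp h
    · rw [smul_zero]; exact zero_mem _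
    · intro a b _ _ ha hb
      rw [smul_add]; exact add_mem ha hb
    · intro a _ ha
      rw [smul_neg]; exact neg_mem ha
  · rcases ht m with h | h
    · rw [h]; exact zero_mem _
    · rw [h]; exact AddSubgroup.subset_closure ⟨t, ht1, ht⟩

/-! ### S-pairs -/

theorem span (S : TSys M H) : AddSubgroup.closure S.L = ⊤ := by
  by_contra hne
  obtain ⟨v, hv⟩ := S.ne
  refine S.v_ne hv (S.lemI (AddSubgroup.closure S.L) ?_ hne v hv v (AddSubgroup.subset_closure hv) (S.v_mem_I hv))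
  intro x m hm
  refine AddSubgroup.closure_induction (p := fun m _ => x • m ∈ AddSubgroup.closure S.L) ?_ ?_ ?_ ?_ hm
  · intro w hw
    exact AddSubgroup.subset_closure (S.smul_mem x w hw)
  · rw [smul_zero]; exact zero_mem _
  · intro a b _ _ ha hb
    rw [smul_add]; exact add_mem ha hb
  · intro a _ ha
    rw [smul_neg]; exact neg_mem ha

theorem exists_not_E (S : TSys M H) {v : M} (hv : v ∈ S.L) : ∃ w ∈ S.L, ¬ S.E v w := by
  by_contra hcon
  push Not at hcon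
  obtain ⟨m, hm1, hm2⟩ := S.nt v hv
  have hm : m ∈ AddSubgroup.closure S.L := by rw [S.span]; trivial
  have : S.E v m := by
    refine AddSubgroup.closure_induction (fun w hw => hcon w hw) (S.E_zero v) (fun a b _ _ => S.E_add)
      (fun a _ ha => ?_) hm
    have : -a = a := by
      rw [neg_eq_iff_add_eq_zero]; exact S.two a
    rwa [this]
  rcases this with h1 | h1
  · exact hm1 h1
  · exact hm2 h1

/-- if `[w, a_v] ∉ E_w` then `(w, w^a_v)` is an S-pair -/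
theorem Pair.of_a {S : TSys M H} {v w : M} (hv : v ∈ S.L) (hw : w ∈ S.L) (h : ¬ S.E w (S.c v w)) :
    S.Pair w (S.a v • w) := by
  have h1 : ¬ S.E w (S.a v • w) := by
    rw [S.a_eq, add_comm]
    exact S.not_E_add h (S.E_v hw)
  refine ⟨hw, S.smul_mem _ w hw, h1, ?_⟩
  intro h2
  have h3 := S.E_smul (S.a v) hw (m := S.a v • w)
  rw [S.smul_smul_self hv] at h3
  exact h1 (h3.mp h2)

/-- **(3.5)** -/
theorem exists_pair (S : TSys M H) : ∃ v w, S.Pair v w := by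
  obtain ⟨w, hw⟩ := S.ne
  obtain ⟨v, hv, hwv⟩ := S.exists_not_E hw
  by_cases hvw : S.E v w
  · rcases hvw with h | h
    · exact absurd (Or.inl ((S.c_comm hv hw).mp h)) hwv
    · have h' : S.c v w = v := h
      exact ⟨w, S.a v • w, Pair.of_a hv hw (by rw [h']; exact hwv)⟩
  · exact ⟨v, w, hv, hw, hvw, hwv⟩

/-- **(4.1)** -/
theorem mu_not_E (S : TSys M H) {v w : M} (h : S.Pair v w) : ¬ S.E w (S.c v w) := by
  intro hE
  have hv := h.hv
  have hw := h.hw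
  have hE' : S.E w (S.a v • w) := by
    rw [S.a_eq]; exact S.E_add (S.E_v hw) hE
  obtain ⟨u, hu1, hu2, hu0⟩ := S.grp v hv w hw (fun e => h.vw (Or.inl e)) (fun e => h.vw (Or.inr e))
    (fun e => h.wv (Or.inl e)) (fun e => h.wv (Or.inr e)) hE'
  have h1 := S.alpha' h hu1 hu2 hu0
  have h2 := S.alpha' h.symm hu2 hu1 hu0
  have h3 : S.c v u = 0 := S.c_of_I hv hu1
  have h4 : S.c w u = 0 := S.c_of_I hw hu2
  have h5 : S.c v 0 = 0 := S.c_eq_zero.mpr (smul_zero _)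
  have h6 : S.c w 0 = 0 := S.c_eq_zero.mpr (smul_zero _)
  have h7 : ∀ m, S.c v (S.c w m) = 0 ∨ S.c v (S.c w m) = u := by
    intro m
    rcases S.c_range hw h.wv m with e | e | e | e <;> rw [e]
    · exact Or.inl h5
    · exact Or.inr h1
    · rw [h2]; exact Or.inl h3
    · rw [h2, S.c_add, h3, h1, zero_add]; exact Or.inr rfl
  have h8 : ∀ m, S.c w (S.c v m) = 0 ∨ S.c w (S.c v m) = u := by
    intro m
    rcases S.c_range hv h.vw m with e | e | e | e <;> rw [e]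
    · exact Or.inl h6
    · exact Or.inr h2
    · rw [h1]; exact Or.inl h4
    · rw [h1, S.c_add, h4, h2, zero_add]; exact Or.inr rfl
  have ht : Tv (S.a v * S.a w * (S.a w * S.a v)⁻¹) u := by
    intro n
    set m := (S.a w * S.a v)⁻¹ • n with hm
    have hn : n = (S.a w * S.a v) • m := by rw [hm, smul_inv_smul]
    have e1 : (S.a v * S.a w * (S.a w * S.a v)⁻¹) • n + n = S.c v (S.c w m) + S.c w (S.c v m) := by
      rw [mul_smul, ← hm]
      conv_lhs => rw [hn]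
      rw [mul_smul, mul_smul, S.a_eq w m, S.a_eq v m, smul_add, smul_add, S.a_eq v m, S.a_eq w m,
        S.a_eq v (S.c w m), S.a_eq w (S.c v m)]
      have e2 : m + S.c v m + (S.c w m + S.c v (S.c w m)) + (m + S.c w m + (S.c v m + S.c w (S.c v m))) =
        (m + m) + (S.c v m + S.c v m) + (S.c w m + S.c w m) + (S.c v (S.c w m) + S.c w (S.c v m)) := by abel
      rw [e2]
      simp only [S.two, zero_add]
    rw [e1]
    rcases h7 m with e | e <;> rcases h8 m with e' | e' <;> rw [e, e']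
    · left; exact add_zero _
    · right; exact zero_add _
    · right; exact add_zero _
    · left; exact S.two u
  have h9 := S.no_transvection ht
  have h10 : S.a v * S.a w = S.a w * S.a v := mul_inv_eq_one.mp h9
  exact h.vw (Or.inl ((S.comm_iff hw).mp h10))

/-- **(4.2)** -/
theorem I_inf (S : TSys M H) {v w u : M} (h : S.Pair v w) (h1 : u ∈ S.I v) (h2 : u ∈ S.I w) : u = 0 := by
  by_contra hu
  apply S.mu_not_E h
  rw [S.alpha' h h1 h2 hu]
  exact S.E_of_I h.hw h2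

theorem eq_of_fix (S : TSys M H) {v w u : M} (h : S.Pair v w) (h1 : S.a v • u = u) (h2 : u ∈ S.I w)
    (hu : u ≠ 0) : u = S.c w (S.c v w) := by
  have hp := Pair.of_a h.hv h.hw (S.mu_not_E h)
  have h3 : u ∈ S.I (S.a v • w) := by
    have := S.I_smul (S.a v) w h.hw u h2
    rwa [h1] at this
  have h4 := S.alpha' hp h2 h3 hu
  rw [S.a_eq, S.c_add, S.c_v h.hw, zero_add] at h4
  exact h4.symm

/-- `D = I` at one line vector implies `D = I` at all -/
theorem D_trans (S : TSys M H) {v w : M} (hv : v ∈ S.L) (hw : w ∈ S.L) (h : ∀ d, S.a v • d = d → d ∈ S.I v) {d : M}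
    (hd : S.a w • d = d) : d ∈ S.I w := by
  obtain ⟨x, rfl⟩ := S.trans v hv w hw
  have h1 : S.a v • (x⁻¹ • d) = x⁻¹ • d := by
    rw [S.a_smul x v hv] at hd
    have := congrArg (fun y => x⁻¹ • y) hd
    simp only [mul_smul, inv_smul_smul] at this
    exact this
  have h2 := S.I_smul x v hv _ (h _ h1)
  rwa [smul_inv_smul] at h2

theorem rel' (S : TSys M H) {v w d : M} (h : S.Pair v w) (hd : S.a v • d = d) :
    ∃ i ∈ S.I v, ∃ j ∈ S.I w, S.a v • j = j ∧ d = i + j :=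
  S.rel v h.hv w h.hw (fun e => h.vw (Or.inl e)) (fun e => h.vw (Or.inr e)) (fun e => h.wv (Or.inl e))
    (fun e => h.wv (Or.inr e)) d hd

/-- **(4.3)** -/
theorem D_inf (S : TSys M H) {v w u : M} (h : S.Pair v w) (h1 : S.a v • u = u) (h2 : u ∈ S.I w) : u = 0 := by
  by_contra hu
  -- the other side is not trivial
  obtain ⟨u', hu1, hu2, hu0⟩ : ∃ u', S.a w • u' = u' ∧ u' ∈ S.I v ∧ u' ≠ 0 := by
    by_contra hcon
    push Not at hcon
    have hD : ∀ d, S.a w • d = d → d ∈ S.I w := by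
      intro d hd
      obtain ⟨i, hi, j, hj, hj1, rfl⟩ := S.rel' h.symm hd
      rw [hcon j hj1 hj, add_zero]
      exact hi
    exact hu (S.I_inf h (S.D_trans h.hw h.hv hD h1) h2)
  have e1 := S.eq_of_fix h h1 h2 hu
  have e2 := S.eq_of_fix h.symm hu1 hu2 hu0
  have hm := S.mu_not_E h
  rcases S.c_range h.hw h.wv (S.c v w) with e | e | e | e
  · exact hm (Or.inl e)
  · exact hm (Or.inr e)
  · -- `[μ, a'] = μ'`
    apply hu0
    rw [e2, ← e, ← e1]
    exact S.c_eq_zero.mpr h1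
  · -- `[μ, a'] = μ' + w`
    have e3 : S.c v u = 0 := S.c_eq_zero.mpr h1
    rw [e1, e, S.c_add] at e3
    have e4 := S.eq_of e3
    rw [← e2] at e4
    apply hm
    left
    change S.c w (S.c v w) = 0
    rw [← e4]
    exact S.c_eq_zero.mpr hu1

/-- **(4.4)** : `Ī = C_M(a)` -/
theorem mem_I_iff (S : TSys M H) {v d : M} (hv : v ∈ S.L) : d ∈ S.I v ↔ S.a v • d = d := by
  refine ⟨S.fix v hv d, fun hd => ?_⟩
  obtain ⟨v', w', h⟩ := S.exists_pair
  refine S.D_trans h.hv hv ?_ hd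
  intro d hd
  obtain ⟨i, hi, j, hj, hj1, rfl⟩ := S.rel' h hd
  rw [S.D_inf h hj1 hj, add_zero]
  exact hi

theorem card_I_eq [Finite M] (S : TSys M H) {v w : M} (hv : v ∈ S.L) (hw : w ∈ S.L) :
    Nat.card (S.I v) = Nat.card (S.I w) := by
  have key : ∀ v ∈ S.L, ∀ w ∈ S.L, Nat.card (S.I v) ≤ Nat.card (S.I w) := by
    intro v hv w hw
    obtain ⟨x, rfl⟩ := S.trans v hv w hw
    refine Nat.card_le_card_of_injective (fun m : S.I v => (⟨x • (m : M), S.I_smul x v hv m m.2⟩ : S.I (x • v))) ?_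
    intro m n hmn
    have := congrArg Subtype.val hmn
    exact Subtype.ext (smul_left_cancel x this)
  exact le_antisymm (key v hv w hw) (key w hw v hv)

theorem four_card (S : TSys M H) {v m : M} (hv : v ≠ 0) (h0 : m ≠ 0) (h1 : m ≠ v) :
    ({0, v, m, m + v} : Set M).ncard = 4 := by
  classical
  have e : ({0, v, m, m + v} : Set M) = (({0, v, m, m + v} : Finset M) : Set M) := by simp
  rw [e, Set.ncard_coe_finset]
  have h2 : m + v ≠ 0 := fun h => h1 (S.eq_of h)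
  have h3 : m + v ≠ v := fun h => h0 (by simpa using h)
  have h4 : m + v ≠ m := fun h => hv (by simpa using h)
  rw [Finset.card_insert_of_notMem, Finset.card_insert_of_notMem, Finset.card_insert_of_notMem,
    Finset.card_singleton]
  · simp only [Finset.mem_singleton]; exact h4.symm
  · simp only [Finset.mem_insert, Finset.mem_singleton, not_or]; exact ⟨h1.symm, h3.symm⟩
  · simp only [Finset.mem_insert, Finset.mem_singleton, not_or]; exact ⟨hv.symm, h0.symm, h2.symm⟩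

/-- `c v` as a homomorphism -/
def cHom (S : TSys M H) (v : M) : M →+ M where
  toFun := S.c v
  map_zero' := S.c_eq_zero.mpr (smul_zero _)
  map_add' := S.c_add v

theorem mem_ker (S : TSys M H) {v m : M} (hv : v ∈ S.L) : m ∈ (S.cHom v).ker ↔ m ∈ S.I v := by
  rw [AddMonoidHom.mem_ker, S.mem_I_iff hv]
  exact S.c_eq_zero

theorem range_eq (S : TSys M H) {v m : M} (hv : v ∈ S.L) (hm : ¬ S.E v m) :
    ((S.cHom v).range : Set M) = {0, v, S.c v m, S.c v m + v} := by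
  ext n
  simp only [SetLike.mem_coe, AddMonoidHom.mem_range, Set.mem_insert_iff, Set.mem_singleton_iff]
  constructor
  · rintro ⟨k, rfl⟩
    exact S.c_range hv hm k
  · obtain ⟨k, hk⟩ := S.mem v hv
    rintro (rfl | rfl | rfl | rfl)
    · exact ⟨0, map_zero _⟩
    · exact ⟨k, hk⟩
    · exact ⟨m, rfl⟩
    · refine ⟨m + k, ?_⟩
      rw [map_add]
      change S.c v m + S.c v k = _
      rw [show S.c v k = v from hk]

/-- `|M| = 4 |Ī|` -/
theorem card_M [Finite M] (S : TSys M H) {v w : M} (h : S.Pair v w) : Nat.card M = 4 * Nat.card (S.I v) := by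
  have h1 : (S.cHom v).ker = S.I v := by
    ext m; exact S.mem_ker h.hv
  have h2 : (S.cHom v).ker.index = 4 := by
    rw [AddSubgroup.index_ker]
    change Nat.card (((S.cHom v).range : AddSubgroup M) : Set M) = 4
    rw [Nat.card_coe_set_eq, S.range_eq h.hv h.vw]
    exact S.four_card (S.v_ne h.hv) (fun e => h.vw (Or.inl e)) (fun e => h.vw (Or.inr e))
  have h3 := AddSubgroup.card_mul_index (S.I v)
  rw [← h1, h2] at h3
  rw [← h1]; omega

/-- **(4.4)** -/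
theorem card [Finite M] (S : TSys M H) : Nat.card M = 16 ∧ ∀ v ∈ S.L, Nat.card (S.I v) = 4 := by
  obtain ⟨v, w, h⟩ := S.exists_pair
  have h1 := S.card_M h
  have h2 := S.card_I_eq h.hv h.hw
  -- `|I| ≥ 4`
  have h3 : 4 ≤ Nat.card (S.I v) := by
    have h4 : ((S.cHom v).range : Set M) ⊆ S.I v := by
      rintro _ ⟨m, rfl⟩
      exact S.c_mem h.hv m
    have h5 := Set.ncard_le_ncard h4 (Set.toFinite _)
    rw [S.range_eq h.hv h.vw, S.four_card (m := S.c v w) (S.v_ne h.hv) (fun e => h.vw (Or.inl e))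
      (fun e => h.vw (Or.inr e))] at h5
    rwa [← Nat.card_coe_set_eq] at h5
  -- `|I|² ≤ |M|`
  have h4 : Nat.card (S.I v) * Nat.card (S.I w) ≤ Nat.card M := by
    rw [← Nat.card_prod]
    refine Nat.card_le_card_of_injective (fun x : S.I v × S.I w => (x.1 : M) + x.2) ?_
    rintro ⟨a, b⟩ ⟨a', b'⟩ hab
    have hab' : (a : M) + b = a' + b' := hab
    have e : (a : M) + a' = b + b' := by
      have e1 : (a : M) + b + (a' + b) = a' + b' + (a' + b) := by rw [hab']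
      have e2 : (a : M) + b + (a' + b) = (a + a') + (b + b) := by abel
      have e3 : (a' : M) + b' + (a' + b) = (a' + a') + (b + b') := by abel
      rw [e2, e3, S.two, S.two, add_zero, zero_add] at e1
      exact e1
    have h5 : (a : M) + a' = 0 := S.I_inf h (add_mem a.2 a'.2) (by rw [e]; exact add_mem b.2 b'.2)
    have h6 : (b : M) + b' = 0 := by rw [← e]; exact h5
    exact Prod.ext (Subtype.ext (S.eq_of h5)) (Subtype.ext (S.eq_of h6))
  rw [← h2, h1] at h4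
  have h5 : Nat.card (S.I v) ≤ 4 := by
    by_contra hcon
    have : 0 < Nat.card (S.I v) := by omega
    have := Nat.le_of_mul_le_mul_right h4 this
    omega
  have h6 : Nat.card (S.I v) = 4 := le_antisymm h5 h3
  refine ⟨by rw [h1, h6], fun x hx => ?_⟩
  rw [S.card_I_eq hx h.hv, h6]

/-- the four commutators of an S-pair, `μ = [w, a_v]`, `μ' = [v, a_w]`: `[μ, a_w] = μ' + w` -/
theorem c_mu (S : TSys M H) {v w : M} (h : S.Pair v w) : S.c w (S.c v w) = S.c w v + w := by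
  have hm := S.mu_not_E h
  rcases S.c_range h.hw h.wv (S.c v w) with e | e | e | e
  · exact absurd (Or.inl e) hm
  · exact absurd (Or.inr e) hm
  · exfalso
    have h1 : S.c w (S.c v w + v) = 0 := by rw [S.c_add, e, S.two]
    have h2 : S.c v w + v ∈ S.I w := (S.mem_I_iff h.hw).mpr (S.c_eq_zero.mp h1)
    have h3 := S.I_inf h (add_mem (S.c_mem h.hv w) (S.v_mem_I h.hv)) h2
    exact h.vw (Or.inr (S.eq_of h3))
  · exact e

end TSys

end Cfsg.Agent.Omega.NO3S.TwoOne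

end

section


/-!
# NO-3S, `q = 2`, `n = 1`, `|A| = 2`: a `TSys` from one line vector

`TSys.ofBase` : the system of the conjugates of `(v₀, a₀, I₀)`; `ofBase_a`, `mem_ofBase_I`.
-/

set_option autoImplicit false

namespace Cfsg.Agent.Omega.NO3S.TwoOne

universe u v

variable {M : Type u} {H : Type v} [AddCommGroup M] [Group H] [DistribMulAction H M]

/-- the facts about one line vector `v₀`, its involution `a₀` and `Ī = I₀` -/
structure TBase (v₀ : M) (a₀ : H) (I₀ : AddSubgroup M) : Prop where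
  two : ∀ m : M, m + m = 0
  ne0 : v₀ ≠ 0
  stab : ∀ x : H, x • v₀ = v₀ → x * a₀ = a₀ * x
  stabI : ∀ x : H, x • v₀ = v₀ → ∀ m ∈ I₀, x • m ∈ I₀
  sq : a₀ * a₀ = 1
  cent : ∀ x : H, x * a₀ = a₀ * x → x • v₀ = v₀
  fix : ∀ m ∈ I₀, a₀ • m = m
  comm : ∀ m, a₀ • m + m ∈ I₀
  mem : ∃ m, a₀ • m + m = v₀
  nt : ∃ m, a₀ • m + m ≠ 0 ∧ a₀ • m + m ≠ v₀
  idx : ∀ m n, a₀ • m + m ≠ 0 → a₀ • m + m ≠ v₀ → a₀ • n + n ≠ 0 → a₀ • n + n ≠ v₀ →
    a₀ • (m + n) + (m + n) = 0 ∨ a₀ • (m + n) + (m + n) = v₀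
  lemI : ∀ X : AddSubgroup M, (∀ (x : H), ∀ m ∈ X, x • m ∈ X) → X ≠ ⊤ → ∀ m ∈ X, m ∈ I₀ → m = 0
  faith : ∀ X : AddSubgroup M, (∀ (x : H), ∀ m ∈ X, x • m ∈ X) → X ≠ ⊤ → ∀ x : H, (∀ m, x • m + m ∈ X) → x = 1
  rel : ∀ x : H, a₀ • (x • v₀) + x • v₀ ≠ 0 → a₀ • (x • v₀) + x • v₀ ≠ v₀ →
    (x * a₀ * x⁻¹) • v₀ + v₀ ≠ 0 → (x * a₀ * x⁻¹) • v₀ + v₀ ≠ x • v₀ →
    ∀ d, a₀ • d = d → ∃ i ∈ I₀, ∃ j ∈ I₀, a₀ • (x • j) = x • j ∧ d = i + x • j
  alpha : ∀ x : H, a₀ • (x • v₀) + x • v₀ ≠ 0 → a₀ • (x • v₀) + x • v₀ ≠ v₀ →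
    (x * a₀ * x⁻¹) • v₀ + v₀ ≠ 0 → (x * a₀ * x⁻¹) • v₀ + v₀ ≠ x • v₀ →
    ∀ u ∈ I₀, ∀ j ∈ I₀, x • j = u → u ≠ 0 → a₀ • (x • v₀) + x • v₀ = u
  grp : ∀ x : H, a₀ • (x • v₀) + x • v₀ ≠ 0 → a₀ • (x • v₀) + x • v₀ ≠ v₀ →
    (x * a₀ * x⁻¹) • v₀ + v₀ ≠ 0 → (x * a₀ * x⁻¹) • v₀ + v₀ ≠ x • v₀ →
    ((x * a₀ * x⁻¹) • (a₀ • (x • v₀)) + a₀ • (x • v₀) = 0 ∨
      (x * a₀ * x⁻¹) • (a₀ • (x • v₀)) + a₀ • (x • v₀) = x • v₀) → ∃ j ∈ I₀, x • j ∈ I₀ ∧ j ≠ 0

namespace TBase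

variable {v₀ : M} {a₀ : H} {I₀ : AddSubgroup M}

/-- a representative -/
noncomputable def rep (v₀ : M) (H : Type v) [Group H] [DistribMulAction H M] (v : M) : H := by
  classical
  exact if h : ∃ x : H, x • v₀ = v then h.choose else 1

theorem rep_smul {v : M} (h : ∃ x : H, x • v₀ = v) : rep v₀ H v • v₀ = v := by
  unfold rep
  rw [dif_pos h]
  exact h.choose_spec

/-- the involution -/
noncomputable def af (v₀ : M) (a₀ : H) (v : M) : H := rep v₀ H v * a₀ * (rep v₀ H v)⁻¹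

/-- the subgroup `Ī_v` -/
noncomputable def If (v₀ : M) (H : Type v) [Group H] [DistribMulAction H M] (I₀ : AddSubgroup M) (v : M) :
    AddSubgroup M :=
  I₀.comap (DistribSMul.toAddMonoidHom M ((rep v₀ H v)⁻¹))

theorem mem_If {v m : M} : m ∈ If v₀ H I₀ v ↔ (rep v₀ H v)⁻¹ • m ∈ I₀ := Iff.rfl

variable (B : TBase v₀ a₀ I₀)
include B

theorem af_smul (x : H) : af v₀ a₀ (x • v₀) = x * a₀ * x⁻¹ := by
  have h1 : rep v₀ H (x • v₀) • v₀ = x • v₀ := rep_smul ⟨x, rfl⟩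
  set r := rep v₀ H (x • v₀) with hr
  have h2 : (x⁻¹ * r) • v₀ = v₀ := by rw [mul_smul, h1, inv_smul_smul]
  have h3 := B.stab _ h2
  have e : af v₀ a₀ (x • v₀) = r * a₀ * r⁻¹ := rfl
  rw [e]
  calc r * a₀ * r⁻¹ = x * ((x⁻¹ * r) * a₀) * r⁻¹ := by group
    _ = x * (a₀ * (x⁻¹ * r)) * r⁻¹ := by rw [h3]
    _ = x * a₀ * x⁻¹ := by group

theorem mem_If_smul (x : H) {m : M} : m ∈ If v₀ H I₀ (x • v₀) ↔ x⁻¹ • m ∈ I₀ := by
  have h1 : rep v₀ H (x • v₀) • v₀ = x • v₀ := rep_smul ⟨x, rfl⟩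
  rw [mem_If]
  set r := rep v₀ H (x • v₀) with hr
  have h2 : (x⁻¹ * r) • v₀ = v₀ := by rw [mul_smul, h1, inv_smul_smul]
  have h3 : (r⁻¹ * x) • v₀ = v₀ := by rw [mul_smul, ← h1, inv_smul_smul]
  constructor
  · intro h
    have := B.stabI _ h2 _ h
    rwa [mul_smul, smul_inv_smul] at this
  · intro h
    have := B.stabI _ h3 _ h
    rwa [mul_smul, smul_inv_smul] at this

theorem e1 (x y : H) : af v₀ a₀ (x • v₀) • (y • v₀) + y • v₀ =
    x • (a₀ • ((x⁻¹ * y) • v₀) + (x⁻¹ * y) • v₀) := by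
  rw [B.af_smul]
  simp only [mul_smul, smul_add, smul_inv_smul]

theorem e2 (x y : H) : af v₀ a₀ (y • v₀) • (x • v₀) + x • v₀ =
    x • ((x⁻¹ * y * a₀ * (x⁻¹ * y)⁻¹) • v₀ + v₀) := by
  rw [B.af_smul]
  simp only [mul_smul, smul_add, mul_inv_rev, inv_inv, smul_inv_smul]

theorem hyp {x y : H} (h1 : af v₀ a₀ (x • v₀) • (y • v₀) + y • v₀ ≠ 0)
    (h2 : af v₀ a₀ (x • v₀) • (y • v₀) + y • v₀ ≠ x • v₀)
    (h3 : af v₀ a₀ (y • v₀) • (x • v₀) + x • v₀ ≠ 0)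
    (h4 : af v₀ a₀ (y • v₀) • (x • v₀) + x • v₀ ≠ y • v₀) :
    a₀ • ((x⁻¹ * y) • v₀) + (x⁻¹ * y) • v₀ ≠ 0 ∧ a₀ • ((x⁻¹ * y) • v₀) + (x⁻¹ * y) • v₀ ≠ v₀ ∧
    ((x⁻¹ * y) * a₀ * (x⁻¹ * y)⁻¹) • v₀ + v₀ ≠ 0 ∧
    ((x⁻¹ * y) * a₀ * (x⁻¹ * y)⁻¹) • v₀ + v₀ ≠ (x⁻¹ * y) • v₀ := by
  rw [B.e1] at h1 h2
  rw [B.e2] at h3 h4
  refine ⟨fun h => h1 (by rw [h, smul_zero]), fun h => h2 (by rw [h]), fun h => h3 (by rw [h, smul_zero]),
    fun h => h4 (by rw [h, mul_smul, smul_inv_smul])⟩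

end TBase

/-- the system of the conjugates of `(v₀, a₀, I₀)` -/
noncomputable def TSys.ofBase {v₀ : M} {a₀ : H} {I₀ : AddSubgroup M} (B : TBase v₀ a₀ I₀) : TSys M H where
  L := Set.range fun x : H => x • v₀
  a := TBase.af v₀ a₀
  I := TBase.If v₀ H I₀
  two := B.two
  ne := ⟨v₀, 1, one_smul _ _⟩
  ne0 := by
    rintro ⟨x, hx⟩
    apply B.ne0
    have := congrArg (fun y => x⁻¹ • y) hx
    simpa using this
  smul_mem := by
    rintro x _ ⟨y, rfl⟩
    exact ⟨x * y, mul_smul _ _ _⟩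
  trans := by
    rintro _ ⟨x, rfl⟩ _ ⟨y, rfl⟩
    exact ⟨y * x⁻¹, by simp [mul_smul]⟩
  a_smul := by
    rintro x _ ⟨y, rfl⟩
    change TBase.af v₀ a₀ (x • (y • v₀)) = x * TBase.af v₀ a₀ (y • v₀) * x⁻¹
    rw [← mul_smul, B.af_smul, B.af_smul]
    group
  I_smul := by
    rintro x _ ⟨y, rfl⟩ m hm
    change m ∈ TBase.If v₀ H I₀ (y • v₀) at hm
    change x • m ∈ TBase.If v₀ H I₀ (x • (y • v₀))
    rw [B.mem_If_smul] at hm
    rw [← mul_smul, B.mem_If_smul, mul_inv_rev, mul_smul, inv_smul_smul]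
    exact hm
  sq := by
    rintro _ ⟨x, rfl⟩
    change TBase.af v₀ a₀ (x • v₀) * TBase.af v₀ a₀ (x • v₀) = 1
    rw [B.af_smul]
    calc x * a₀ * x⁻¹ * (x * a₀ * x⁻¹) = x * (a₀ * a₀) * x⁻¹ := by group
      _ = 1 := by rw [B.sq]; group
  cent := by
    rintro _ ⟨x, rfl⟩ y hy
    change y * TBase.af v₀ a₀ (x • v₀) = TBase.af v₀ a₀ (x • v₀) * y at hy
    change y • (x • v₀) = x • v₀
    rw [B.af_smul] at hy
    have h1 := B.cent (x⁻¹ * y * x) (by
      calc x⁻¹ * y * x * a₀ = x⁻¹ * (y * (x * a₀ * x⁻¹)) * x := by group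
        _ = x⁻¹ * (x * a₀ * x⁻¹ * y) * x := by rw [hy]
        _ = a₀ * (x⁻¹ * y * x) := by group)
    have := congrArg (fun m => x • m) h1
    simp only [mul_smul, smul_inv_smul] at this
    exact this
  fix := by
    rintro _ ⟨x, rfl⟩ m hm
    change m ∈ TBase.If v₀ H I₀ (x • v₀) at hm
    change TBase.af v₀ a₀ (x • v₀) • m = m
    rw [B.mem_If_smul] at hm
    rw [B.af_smul, mul_smul, mul_smul, B.fix _ hm, smul_inv_smul]
  comm := by
    rintro _ ⟨x, rfl⟩ m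
    change TBase.af v₀ a₀ (x • v₀) • m + m ∈ TBase.If v₀ H I₀ (x • v₀)
    rw [B.mem_If_smul, B.af_smul, smul_add, mul_smul, mul_smul, inv_smul_smul]
    exact B.comm _
  mem := by
    rintro _ ⟨x, rfl⟩
    obtain ⟨m, hm⟩ := B.mem
    refine ⟨x • m, ?_⟩
    change TBase.af v₀ a₀ (x • v₀) • (x • m) + x • m = x • v₀
    rw [B.af_smul, mul_smul, mul_smul, inv_smul_smul, ← smul_add, hm]
  nt := by
    rintro _ ⟨x, rfl⟩
    obtain ⟨m, hm1, hm2⟩ := B.nt
    refine ⟨x • m, ?_⟩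
    change TBase.af v₀ a₀ (x • v₀) • (x • m) + x • m ≠ 0 ∧ TBase.af v₀ a₀ (x • v₀) • (x • m) + x • m ≠ x • v₀
    rw [B.af_smul, mul_smul, mul_smul, inv_smul_smul, ← smul_add]
    refine ⟨fun h => hm1 ?_, fun h => hm2 (smul_left_cancel x h)⟩
    have := congrArg (fun m => x⁻¹ • m) h
    simpa using this
  idx := by
    rintro _ ⟨x, rfl⟩ m n
    change TBase.af v₀ a₀ (x • v₀) • m + m ≠ 0 → TBase.af v₀ a₀ (x • v₀) • m + m ≠ x • v₀ →
      TBase.af v₀ a₀ (x • v₀) • n + n ≠ 0 → TBase.af v₀ a₀ (x • v₀) • n + n ≠ x • v₀ →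
      TBase.af v₀ a₀ (x • v₀) • (m + n) + (m + n) = 0 ∨ TBase.af v₀ a₀ (x • v₀) • (m + n) + (m + n) = x • v₀
    rw [B.af_smul]
    have key : ∀ m : M, (x * a₀ * x⁻¹) • m + m = x • (a₀ • (x⁻¹ • m) + x⁻¹ • m) := by
      intro m
      rw [smul_add, smul_inv_smul, mul_smul, mul_smul]
    have k0 : ∀ m : M, x • m = 0 ↔ m = 0 := fun m => smul_eq_zero_iff_eq x
    have k1 : ∀ m : M, x • m = x • v₀ ↔ m = v₀ := fun m => smul_left_cancel_iff x
    rw [key, key, key, ne_eq, ne_eq, ne_eq, ne_eq, k0, k0, k0, k1, k1, k1]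
    intro h1 h2 h3 h4
    have := B.idx _ _ h1 h2 h3 h4
    rwa [← smul_add] at this
  lemI := by
    rintro X hX hne _ ⟨x, rfl⟩ m hm hmI
    change m ∈ TBase.If v₀ H I₀ (x • v₀) at hmI
    rw [B.mem_If_smul] at hmI
    have := B.lemI X hX hne _ (hX x⁻¹ m hm) hmI
    exact (smul_eq_zero_iff_eq x⁻¹).mp this
  faith := B.faith
  rel := by
    rintro _ ⟨x, rfl⟩ _ ⟨y, rfl⟩ h1 h2 h3 h4 d hd
    obtain ⟨g1, g2, g3, g4⟩ := B.hyp h1 h2 h3 h4
    change TBase.af v₀ a₀ (x • v₀) • d = d at hd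
    change ∃ i ∈ TBase.If v₀ H I₀ (x • v₀), ∃ j ∈ TBase.If v₀ H I₀ (y • v₀),
      TBase.af v₀ a₀ (x • v₀) • j = j ∧ d = i + j
    rw [B.af_smul] at hd ⊢
    have hd' : a₀ • (x⁻¹ • d) = x⁻¹ • d := by
      have := congrArg (fun m => x⁻¹ • m) hd
      simpa [mul_smul] using this
    obtain ⟨i, hi, j, hj, hj1, hij⟩ := B.rel _ g1 g2 g3 g4 _ hd'
    refine ⟨x • i, ?_, y • j, ?_, ?_, ?_⟩
    · rw [B.mem_If_smul, inv_smul_smul]; exact hi
    · rw [B.mem_If_smul, inv_smul_smul]; exact hj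
    · have := congrArg (fun m => x • m) hj1
      simpa [mul_smul] using this
    · have := congrArg (fun m => x • m) hij
      simpa [mul_smul] using this
  alpha := by
    rintro _ ⟨x, rfl⟩ _ ⟨y, rfl⟩ h1 h2 h3 h4 u hu hu' hu0
    obtain ⟨g1, g2, g3, g4⟩ := B.hyp h1 h2 h3 h4
    change u ∈ TBase.If v₀ H I₀ (x • v₀) at hu
    change u ∈ TBase.If v₀ H I₀ (y • v₀) at hu'
    change TBase.af v₀ a₀ (x • v₀) • (y • v₀) + y • v₀ = u
    rw [B.mem_If_smul] at hu hu'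
    have := B.alpha _ g1 g2 g3 g4 (x⁻¹ • u) hu (y⁻¹ • u) hu' (by rw [mul_smul, smul_inv_smul])
      (fun h => hu0 ((smul_eq_zero_iff_eq x⁻¹).mp h))
    rw [B.e1, this, smul_inv_smul]
  grp := by
    rintro _ ⟨x, rfl⟩ _ ⟨y, rfl⟩ h1 h2 h3 h4 h5
    obtain ⟨g1, g2, g3, g4⟩ := B.hyp h1 h2 h3 h4
    change TBase.af v₀ a₀ (y • v₀) • (TBase.af v₀ a₀ (x • v₀) • (y • v₀)) + TBase.af v₀ a₀ (x • v₀) • (y • v₀) = 0 ∨
      TBase.af v₀ a₀ (y • v₀) • (TBase.af v₀ a₀ (x • v₀) • (y • v₀)) + TBase.af v₀ a₀ (x • v₀) • (y • v₀) =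
        y • v₀ at h5
    change ∃ u ∈ TBase.If v₀ H I₀ (x • v₀), u ∈ TBase.If v₀ H I₀ (y • v₀) ∧ u ≠ 0
    have e : TBase.af v₀ a₀ (y • v₀) • (TBase.af v₀ a₀ (x • v₀) • (y • v₀)) + TBase.af v₀ a₀ (x • v₀) • (y • v₀) =
        x • ((x⁻¹ * y * a₀ * (x⁻¹ * y)⁻¹) • (a₀ • ((x⁻¹ * y) • v₀)) + a₀ • ((x⁻¹ * y) • v₀)) := by
      rw [B.af_smul, B.af_smul]
      simp only [mul_smul, smul_add, mul_inv_rev, inv_inv, smul_inv_smul]
    rw [e] at h5
    obtain ⟨j, hj, hj1, hj0⟩ := B.grp _ g1 g2 g3 g4 (by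
      rcases h5 with h5 | h5
      · left
        exact (smul_eq_zero_iff_eq x).mp h5
      · right
        have := congrArg (fun m => x⁻¹ • m) h5
        simp only [inv_smul_smul] at this
        rw [this, mul_smul])
    refine ⟨y • j, ?_, ?_, fun h => hj0 ((smul_eq_zero_iff_eq y).mp h)⟩
    · rw [B.mem_If_smul, ← mul_smul]; exact hj1
    · rw [B.mem_If_smul, inv_smul_smul]; exact hj

theorem TSys.ofBase_L {v₀ : M} {a₀ : H} {I₀ : AddSubgroup M} (B : TBase v₀ a₀ I₀) :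
    (TSys.ofBase B).L = Set.range fun x : H => x • v₀ := rfl

theorem TSys.ofBase_a {v₀ : M} {a₀ : H} {I₀ : AddSubgroup M} (B : TBase v₀ a₀ I₀) (x : H) :
    (TSys.ofBase B).a (x • v₀) = x * a₀ * x⁻¹ := B.af_smul x

theorem TSys.mem_ofBase_I {v₀ : M} {a₀ : H} {I₀ : AddSubgroup M} (B : TBase v₀ a₀ I₀) (x : H) {m : M} :
    m ∈ (TSys.ofBase B).I (x • v₀) ↔ x⁻¹ • m ∈ I₀ := B.mem_If_smul x

end Cfsg.Agent.Omega.NO3S.TwoOne

end
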