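import Cfsg.Agent.Mrg.Omega.NO3S.TwoOne.Three
import Cfsg.Agent.Mrg.Omega.NO3S.TwoOne.Irr

section


/-!
# NO-3S, `q = 2`, `n = 1`: relations between the `D_x` of two lines (helper881's text #17145, (3.0)-(3.3))

`h : One T V z`, `L` another line on `z`.  `D_p = dd V p`, `E_p = ee V p`, `I = ii V`.

* `One.mem_ii_of_move` (3.0) : `g` moves `p ∈ V` to `z p`: `W_p ∩ C(g) ≤ I`;
* `Spr V L z y q e g` : `y ∈ V`, `q ∈ L`, `e ∈ E_q` (of `L`) moves `y` to `z y`, `g` moves `q` to `z q` and centralises the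
  `D_p`, `p ∈ V#` (e.g. `g ∈ F_l = W_z W_y W_s`); in particular `Spr.of_ee` : a symmetric pair;
* `Spr.mem_ii` (3.1) : `d d^e ∈ I_L` for `d ∈ D_y`; `Spr.mem_dd` : it lies in `D_z`;
* (3.2) `Spr.inj`, `Spr.surj`, `Spr.exists_mul` : `D_z = I (D_z ∩ I_L)`;
  `Spr.triv` : `K_p ∩ C_G(V)` centralises `D_q / I` for all points `p`, `q`;
  `Spr.mul_mem_dd` : `d d^k ∈ D_p` for all points `p ≠ q`, `d ∈ D_q`, movers `k ∈ K_p`;
  `Spr.theta` : `d d^k = d^t` modulo `I` for `d ∈ D_q`, movers `k ∈ K_p`, `t ∈ K_{pq}` : `D_x D_y D_s / I = Δ ⊗ 2`;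
* (3.3) `One.dd_le_ii` : `D_y ≤ W_z D_q D_{zq}` implies `D_y = I`.
-/

set_option autoImplicit false
set_option linter.unusedSectionVars false

namespace Cfsg.Agent.Omega.NO3S.TwoOne

open Subgroup Cfsg Cfsg.Agent.ZN Cfsg.Agent.MinSimple.Geo Cfsg.Agent.Omega.CaseL
open Cfsg.Agent.ZN.Block (conj_mem_of_normalizer conj_mem_of_normalizer' le_normalizer_of_forall
  mem_normalizer_of)

universe u

variable {G : Type u} [Group G]

namespace One

variable {T V : Subgroup G} {z : G} {p q r : G}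

/-- (3.0) -/
theorem mem_ii_of_move (h : One T V z) (hp : p ∈ V) (hp1 : p ≠ 1) (hq : q ∈ V) (hq1 : q ≠ 1) (hqp : q ≠ p)
    {g w : G} (hg : g * p * g⁻¹ = q * p) (hw : w ∈ ws V p) (hc : w * g = g * w) : w ∈ ii V := by
  have h1 := conj_mem_ws g hw
  rw [conj_eq_of_comm hc.symm, hg] at h1
  refine h.mem_ii hp hp1 (mul_mem hq hp) (h.mul_ne_one hp hqp) ?_ hw h1
  intro e
  exact hq1 (by simpa using e)

/-- the elements of all `D_p` commute -/
theorem dd_comm (_ : One T V z) (hq : q ∈ V) (hq1 : q ≠ 1) {a b : G} (ha : a ∈ dd V p)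
    (hb : b ∈ dd V q) : a * b = b * a := ha.2 q hq hq1 b hb.1

theorem dd_sq (h : One T V z) (hp : p ∈ V) (hp1 : p ≠ 1) {a : G} (ha : a ∈ dd V p) : a * a = 1 :=
  h.sq hp hp1 a ha.1

theorem dd_inf (h : One T V z) (hp : p ∈ V) (hp1 : p ≠ 1) (hq : q ∈ V) (hq1 : q ≠ 1) (hqp : q ≠ p) {a : G}
    (ha : a ∈ dd V p) (ha' : a ∈ dd V q) : a ∈ ii V := h.mem_ii hp hp1 hq hq1 hqp ha.1 ha'.1

/-- an element of some `W_p` which centralises all `W_q` -/
theorem mem_dd_iff (_ : One T V z) {a : G} : a ∈ dd V p ↔ a ∈ ws V p ∧ ∀ q ∈ V, q ≠ 1 →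
    ∀ b ∈ ws V q, a * b = b * a := Iff.rfl

theorem kq_line {L : Subgroup G} (hL : L ∈ lines V z) (x : G) : kq L x = kq V x := by
  obtain ⟨⟨g, rfl⟩, -⟩ := hL
  exact kq_cj V g x

theorem ws_line {L : Subgroup G} (hL : L ∈ lines V z) (x : G) : ws L x = ws V x := by
  obtain ⟨⟨g, rfl⟩, -⟩ := hL
  exact ws_cj V g x

end One

/-- (3.1), the hypotheses: `y` is a point of `V`, `q` a point of `L`, `e ∈ E_q` moves `y`, `g` moves `q` and centralises
the `D_p`, `p ∈ V#` -/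
structure Spr (V L : Subgroup G) (z y q e g : G) : Prop where
  line : L ∈ lines V z
  hy : y ∈ V
  hy1 : y ≠ 1
  hyz : y ≠ z
  hq : q ∈ L
  hq1 : q ≠ 1
  hqz : q ≠ z
  he : e ∈ ee L q
  ey : e * y * e⁻¹ = z * y
  hg : ∀ p ∈ V, p ≠ 1 → ∀ c ∈ dd V p, c * g = g * c
  gq : g * q * g⁻¹ = z * q

namespace Spr

/-- a symmetric pair -/
theorem of_ee {V L : Subgroup G} {z y q e g y' : G} (hL : L ∈ lines V z) (hy : y ∈ V)
    (hy1 : y ≠ 1) (hyz : y ≠ z) (hq : q ∈ L) (hq1 : q ≠ 1) (hqz : q ≠ z) (he : e ∈ ee L q)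
    (ey : e * y * e⁻¹ = z * y) (hy' : y' ∈ V) (hy1' : y' ≠ 1) (hg : g ∈ ws V y') (gq : g * q * g⁻¹ = z * q) :
    Spr V L z y q e g :=
  ⟨hL, hy, hy1, hyz, hq, hq1, hqz, he, ey, fun _ _ _ _ hc => hc.2 y' hy' hy1' g hg, gq⟩

variable {T V L : Subgroup G} {z y q e g : G} (S : Spr V L z y q e g) (h : One T V z)
include S h

theorem e_kq : e ∈ kq V z := by
  rw [← One.kq_line S.line]
  exact S.he.2 z S.line.2 h.ln.z_ne

theorem e_norm : e ∈ normalizer (V : Set G) := h.kq_le_normalizer h.ln.z_mem h.ln.z_ne (S.e_kq h)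

theorem e_z : e * z * e⁻¹ = z := conj_eq_of_comm (h.kq_p (S.e_kq h))

theorem e_move : e ∉ centralizer (V : Set G) := fun hc => by
  have h1 : e * y * e⁻¹ = y := conj_eq_of_comm (h.V_comm S.hy hc).symm
  rw [S.ey] at h1
  exact h.ln.z_ne (by simpa using h1)

theorem hs : z * y ∈ V := mul_mem h.ln.z_mem S.hy

theorem hs1 : z * y ≠ 1 := h.mul_ne_one S.hy (Ne.symm S.hyz)

theorem hsz : z * y ≠ z := fun e' => S.hy1 (by simpa using e')

theorem hsy : z * y ≠ y := fun e' => h.ln.z_ne (by simpa using e')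

theorem conj_dd {d : G} (hd : d ∈ dd V y) : e * d * e⁻¹ ∈ dd V (z * y) := by
  have := conj_mem_dd (S.e_norm h) hd
  rwa [S.ey] at this

/-- (3.1) `d d^e ∈ I_L` -/
theorem mem_ii {d : G} (hd : d ∈ dd V y) : d * (e * d * e⁻¹) ∈ ii L := by
  obtain ⟨k, -, T', h'⟩ := h.of_line S.line h.ln.z_ne
  have hdd := h.dd_sq S.hy S.hy1 hd
  have hdi : d⁻¹ = d := inv_eq_self hdd
  have hLz : L ≤ ws V z := le_ws S.line
  have hdL : d ∈ centralizer (L : Set G) := by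
    rw [mem_centralizer_iff]
    intro v hv
    exact (hd.2 z h.ln.z_mem h.ln.z_ne v (hLz hv)).symm
  have heq : e ∈ ws L q := S.he.1
  have h1 : d * (e * d * e⁻¹) ∈ ws L q := by
    have e1 : d * (e * d * e⁻¹) = (d * e * d⁻¹) * e⁻¹ := by rw [hdi]; group
    rw [e1]
    exact mul_mem (conj_mem_of_normalizer (h'.cent_norm S.hq) hdL heq) (inv_mem heq)
  have h2 : d * (e * d * e⁻¹) * g = g * (d * (e * d * e⁻¹)) :=
    mul_comm_of (S.hg y S.hy S.hy1 d hd) (S.hg _ (S.hs h) (S.hs1 h) _ (S.conj_dd h hd))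
  exact h'.mem_ii_of_move S.hq S.hq1 S.line.2 h.ln.z_ne (Ne.symm S.hqz) S.gq h1 h2

/-- `d d^e ∈ D_z` -/
theorem mem_dd {d : G} (hd : d ∈ dd V y) : d * (e * d * e⁻¹) ∈ dd V z := by
  refine ⟨?_, fun r hr hr1 b hb => ?_⟩
  · have h1 := S.mem_ii h hd z S.line.2 h.ln.z_ne
    rwa [One.ws_line S.line] at h1
  · exact mul_comm_of (hd.2 r hr hr1 b hb) ((S.conj_dd h hd).2 r hr hr1 b hb)

/-- `d ↦ d d^e` is a homomorphism -/
theorem mul_conj {d d' : G} (hd : d ∈ dd V y) (hd' : d' ∈ dd V y) :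
    (d * d') * (e * (d * d') * e⁻¹) = d * (e * d * e⁻¹) * (d' * (e * d' * e⁻¹)) := by
  have h1 := h.dd_comm (S.hs h) (S.hs1 h) hd' (S.conj_dd h hd)
  calc (d * d') * (e * (d * d') * e⁻¹) = d * (d' * (e * d * e⁻¹)) * (e * d' * e⁻¹) := by group
    _ = d * ((e * d * e⁻¹) * d') * (e * d' * e⁻¹) := by rw [h1]
    _ = d * (e * d * e⁻¹) * (d' * (e * d' * e⁻¹)) := by group

/-- (3.2) `d ↦ d d^e` is injective modulo `I` -/
theorem inj {d : G} (hd : d ∈ dd V y) (h1 : d * (e * d * e⁻¹) ∈ ii V) : d ∈ ii V := by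
  have h2 := S.conj_dd h hd
  have h3 := h.ii_le_dd (S.hs h) (S.hs1 h) h1
  have h4 : d ∈ dd V (z * y) := by
    have := mul_mem h3 (inv_mem h2)
    rwa [mul_inv_cancel_right] at this
  exact h.dd_inf S.hy S.hy1 (S.hs h) (S.hs1 h) (S.hsy h) hd h4

/-- `d ∈ I` implies `d d^e ∈ ⟨z⟩` -/
theorem ii_mem {d : G} (hd : d ∈ ii V) : d * (e * d * e⁻¹) = 1 ∨ d * (e * d * e⁻¹) = z := by
  have hdd : d * d = 1 := h.sqz d (hd z h.ln.z_mem h.ln.z_ne)
  have hzd : d * z = z * d := h.comm h.ln.z_mem h.ln.z_ne d (hd z h.ln.z_mem h.ln.z_ne) z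
    (h.V_le h.ln.z_mem h.ln.z_ne h.ln.z_mem)
  rcases h.kq_cases h.ln.z_mem (S.e_kq h) (hd z h.ln.z_mem h.ln.z_ne) with e1 | e1
  · left; rw [e1, hdd]
  · right
    rw [e1]
    calc d * (z * d) = (d * z) * d := by group
      _ = z * (d * d) := by rw [hzd]; group
      _ = z := by rw [hdd, mul_one]

/-- (3.2) `d ↦ d d^e` maps `D_y / I` onto `D_z / I` -/
theorem surj [Finite G] {c : G} (hc : c ∈ dd V z) : ∃ d ∈ dd V y, c * (d * (e * d * e⁻¹))⁻¹ ∈ ii V := by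
  classical
  have hz := h.ln.z_mem
  have hz1 := h.ln.z_ne
  -- the homomorphism
  have hIz : ii V ≤ dd V z := h.ii_le_dd hz hz1
  have hIy : ii V ≤ dd V y := h.ii_le_dd S.hy S.hy1
  have hn : ((ii V).subgroupOf (dd V z)).Normal := by
    refine ⟨fun a ha b => ?_⟩
    rw [mem_subgroupOf] at ha ⊢
    change (b : G) * a * (b : G)⁻¹ ∈ ii V
    rw [conj_eq_of_comm (h.dd_comm hz hz1 b.2 a.2)]
    exact ha
  let f : dd V y →* dd V z ⧸ (ii V).subgroupOf (dd V z) :=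
    (QuotientGroup.mk' _).comp
      { toFun := fun d => ⟨(d : G) * (e * d * e⁻¹), S.mem_dd h d.2⟩
        map_one' := Subtype.ext (by simp)
        map_mul' := fun a b => Subtype.ext (S.mul_conj h a.2 b.2) }
  have hker : f.ker = (ii V).subgroupOf (dd V y) := by
    ext d
    rw [MonoidHom.mem_ker, mem_subgroupOf]
    change (QuotientGroup.mk' _ _ = 1) ↔ _
    rw [QuotientGroup.mk'_apply, QuotientGroup.eq_one_iff, mem_subgroupOf]
    constructor
    · intro hd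
      exact S.inj h d.2 hd
    · intro hd
      change (d : G) * (e * d * e⁻¹) ∈ ii V
      rcases S.ii_mem h hd with e1 | e1
      · rw [e1]; exact one_mem _
      · rw [e1]; exact h.V_le_ii hz
  -- cardinalities
  have hcard : Nat.card (dd V y) = Nat.card (dd V z) := by
    obtain ⟨k, hk, hky⟩ := h.ln.trans y S.hy S.hy1
    have hle : ∀ {g p : G}, g ∈ normalizer (V : Set G) → cj g (dd V p) ≤ dd V (g * p * g⁻¹) := by
      intro g p hg x hx
      have := conj_mem_dd hg (mem_cj.mp hx)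
      have e1 : g * (g⁻¹ * x * g) * g⁻¹ = x := by group
      rwa [e1] at this
    have h1 : Nat.card (dd V z) ≤ Nat.card (dd V y) := by
      rw [← card_cj k (dd V z), ← hky]
      exact Nat.card_le_card_of_injective _ (inclusion_injective (hle hk))
    have h2 : Nat.card (dd V y) ≤ Nat.card (dd V z) := by
      rw [← card_cj k⁻¹ (dd V y)]
      have h3 := hle (p := y) (inv_mem hk)
      have e1 : k⁻¹ * y * k⁻¹⁻¹ = z := by rw [← hky]; group
      rw [e1] at h3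
      exact Nat.card_le_card_of_injective _ (inclusion_injective h3)
    omega
  have hrange : f.range = ⊤ := by
    have h1 : Nat.card f.range * Nat.card (ii V) = Nat.card (dd V y) := by
      have h2 : f.ker.index = Nat.card f.range := Subgroup.index_ker f
      rw [← h2, hker]
      have h3 : Nat.card ((ii V).subgroupOf (dd V y)) = Nat.card (ii V) :=
        Nat.card_congr (subgroupOfEquivOfLe hIy).toEquiv
      rw [← h3, mul_comm]
      exact card_mul_index _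
    have h4 : Nat.card (dd V z ⧸ (ii V).subgroupOf (dd V z)) * Nat.card (ii V) = Nat.card (dd V z) := by
      have h3 : Nat.card ((ii V).subgroupOf (dd V z)) = Nat.card (ii V) :=
        Nat.card_congr (subgroupOfEquivOfLe hIz).toEquiv
      rw [← h3, mul_comm]
      exact card_mul_index _
    apply Subgroup.eq_top_of_card_eq
    have hpos : 0 < Nat.card (ii V) := Nat.card_pos
    have h5 : Nat.card f.range * Nat.card (ii V) =
        Nat.card (dd V z ⧸ (ii V).subgroupOf (dd V z)) * Nat.card (ii V) := by rw [h1, h4, hcard]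
    exact Nat.eq_of_mul_eq_mul_right hpos h5
  obtain ⟨d, hd⟩ := MonoidHom.range_eq_top.mp hrange (QuotientGroup.mk' _ ⟨c, hc⟩)
  refine ⟨d, d.2, ?_⟩
  have h6 : (QuotientGroup.mk (⟨(d : G) * (e * d * e⁻¹), S.mem_dd h d.2⟩ : dd V z) :
      dd V z ⧸ (ii V).subgroupOf (dd V z)) = QuotientGroup.mk ⟨c, hc⟩ := hd
  rw [QuotientGroup.eq, mem_subgroupOf] at h6
  have h7 : (d * (e * d * e⁻¹))⁻¹ * c ∈ ii V := h6
  have h8 : c * (d * (e * d * e⁻¹))⁻¹ = (d * (e * d * e⁻¹))⁻¹ * c :=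
    h.dd_comm hz hz1 hc (inv_mem (S.mem_dd h d.2))
  rw [h8]; exact h7

/-- (3.2) `D_z = I (D_z ∩ I_L)` -/
theorem exists_mul [Finite G] {c : G} (hc : c ∈ dd V z) : ∃ i ∈ ii V, ∃ j ∈ ii L, j ∈ dd V z ∧ c = i * j := by
  obtain ⟨d, hd, h1⟩ := S.surj h hc
  exact ⟨_, h1, _, S.mem_ii h hd, S.mem_dd h hd, by group⟩

/-- `K_z ∩ C_G(V)` centralises `D_y / I` -/
theorem triv_aux {k d : G} (hk : k ∈ kq V z) (hkV : k ∈ centralizer (V : Set G)) (hd : d ∈ dd V y) :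
    k * d * k⁻¹ * d⁻¹ ∈ ii V := by
  have hz := h.ln.z_mem
  have hz1 := h.ln.z_ne
  have hkn : k ∈ normalizer (V : Set G) := centralizer_le_normalizer _ hkV
  have hky : k * y * k⁻¹ = y := conj_eq_of_comm (h.V_comm S.hy hkV).symm
  have hks : k * (z * y) * k⁻¹ = z * y := conj_eq_of_comm (h.V_comm (S.hs h) hkV).symm
  have hdk : k * d * k⁻¹ ∈ dd V y := by
    have := conj_mem_dd hkn hd
    rwa [hky] at this
  set f := e * d * e⁻¹ with hf
  have hfs : f ∈ dd V (z * y) := S.conj_dd h hd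
  have hfk : k * f * k⁻¹ ∈ dd V (z * y) := by
    have := conj_mem_dd hkn hfs
    rwa [hks] at this
  -- `c = [k, d]`, `c' = [k, f]`, `c c' ∈ ⟨z⟩`
  have hc : k * d * k⁻¹ * d⁻¹ ∈ dd V y := mul_mem hdk (inv_mem hd)
  have hc' : k * f * k⁻¹ * f⁻¹ ∈ dd V (z * y) := mul_mem hfk (inv_mem hfs)
  have hdf := h.dd_comm (S.hs h) (S.hs1 h) hd hfs
  have h1 : k * (d * f) * k⁻¹ = d * f ∨ k * (d * f) * k⁻¹ = z * (d * f) :=
    h.kq_cases hz hk (S.mem_dd h hd).1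
  have h2 : k * (d * f) * k⁻¹ * (d * f)⁻¹ = (k * d * k⁻¹ * d⁻¹) * (k * f * k⁻¹ * f⁻¹) := by
    have h3 := h.dd_comm (S.hs h) (S.hs1 h) (inv_mem hd) hfk
    calc k * (d * f) * k⁻¹ * (d * f)⁻¹ = (k * d * k⁻¹) * ((k * f * k⁻¹) * (d * f)⁻¹) := by group
      _ = (k * d * k⁻¹) * ((k * f * k⁻¹) * (f * d)⁻¹) := by rw [hdf]
      _ = (k * d * k⁻¹) * ((k * f * k⁻¹) * d⁻¹ * f⁻¹) := by rw [mul_inv_rev]; group
      _ = (k * d * k⁻¹) * ((d⁻¹ * (k * f * k⁻¹)) * f⁻¹) := by rw [h3]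
      _ = (k * d * k⁻¹ * d⁻¹) * (k * f * k⁻¹ * f⁻¹) := by group
  have h4 : (k * d * k⁻¹ * d⁻¹) * (k * f * k⁻¹ * f⁻¹) ∈ V := by
    rw [← h2]
    rcases h1 with e1 | e1
    · rw [e1, mul_inv_cancel]; exact one_mem _
    · rw [e1, mul_inv_cancel_right]; exact hz
  have h5 : k * d * k⁻¹ * d⁻¹ ∈ dd V (z * y) := by
    have := mul_mem (h.V_le_dd (S.hs h) (S.hs1 h) h4) (inv_mem hc')
    rwa [mul_inv_cancel_right] at this
  exact h.dd_inf S.hy S.hy1 (S.hs h) (S.hs1 h) (S.hsy h) hc h5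

/-- (3.2) `K_p ∩ C_G(V)` centralises `D_r / I` for all points `p`, `r` of `V` -/
theorem triv {p r k d : G} (hp : p ∈ V) (hp1 : p ≠ 1) (hr : r ∈ V) (hr1 : r ≠ 1) (hk : k ∈ kq V p)
    (hkV : k ∈ centralizer (V : Set G)) (hd : d ∈ dd V r) : k * d * k⁻¹ * d⁻¹ ∈ ii V := by
  have hz := h.ln.z_mem
  have hz1 := h.ln.z_ne
  by_cases hpr : r = p
  · subst hpr
    rcases h.kq_cases hr hk hd.1 with e1 | e1
    · rw [e1, mul_inv_cancel]; exact one_mem _
    · rw [e1, mul_inv_cancel_right]; exact h.V_le_ii hr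
  -- conjugate `(p, r)` to `(z, y)`
  obtain ⟨g, hg, hgp, hgr⟩ := h.xl_trans₂ hp hp1 hr hr1 hpr hz hz1 S.hy S.hy1 S.hyz
  have hgn := h.xl_le_normalizer hg
  have hk' := conj_mem_kq g hk
  have hd' := conj_mem_dd hgn hd
  rw [hgp] at hk'
  rw [hgr] at hd'
  have hkV' : g * k * g⁻¹ ∈ centralizer (V : Set G) :=
    conj_mem_of_normalizer (normalizer_le_normalizer_centralizer V) hgn hkV
  have h1 := S.triv_aux h hk' hkV' hd'
  have h2 := conj_mem_of_normalizer' (normalizer_le_normalizer_ii V) hgn h1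
  have e1 : g⁻¹ * (g * k * g⁻¹ * (g * d * g⁻¹) * (g * k * g⁻¹)⁻¹ * (g * d * g⁻¹)⁻¹) * g =
      k * d * k⁻¹ * d⁻¹ := by group
  rwa [e1] at h2

/-- `d d^k ∈ D_z` for every mover `k ∈ K_z` -/
theorem mul_mem_aux {k d : G} (hk : k ∈ kq V z) (hk1 : k ∉ centralizer (V : Set G)) (hd : d ∈ dd V y) :
    d * (k * d * k⁻¹) ∈ dd V z := by
  have hz := h.ln.z_mem
  have hz1 := h.ln.z_ne
  -- `k = c e`, `c ∈ K_z ∩ C_G(V)`
  have hc1 : k * e⁻¹ ∈ centralizer (V : Set G) := h.mover_coset hz hz1 (S.e_kq h) (S.e_move h) hk hk1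
  have hc2 : k * e⁻¹ ∈ kq V z := mul_mem hk (inv_mem (S.e_kq h))
  have h1 := S.triv h hz hz1 (S.hs h) (S.hs1 h) hc2 hc1 (S.conj_dd h hd)
  set f := e * d * e⁻¹ with hf
  have e1 : k * d * k⁻¹ = ((k * e⁻¹) * f * (k * e⁻¹)⁻¹ * f⁻¹) * f := by rw [hf]; group
  rw [e1]
  have h2 := h.dd_comm S.hy S.hy1 (h.ii_le_dd hz hz1 h1) hd
  have e2 : d * (((k * e⁻¹) * f * (k * e⁻¹)⁻¹ * f⁻¹) * f) =
      ((k * e⁻¹) * f * (k * e⁻¹)⁻¹ * f⁻¹) * (d * f) := by
    rw [← mul_assoc, ← h2, mul_assoc]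
  rw [e2]
  exact mul_mem (h.ii_le_dd hz hz1 h1) (S.mem_dd h hd)

/-- (3.2) `d d^k ∈ D_p` for all points `p ≠ r` of `V`, `d ∈ D_r`, movers `k ∈ K_p` -/
theorem mul_mem_dd {p r k d : G} (hp : p ∈ V) (hp1 : p ≠ 1) (hr : r ∈ V) (hr1 : r ≠ 1) (hrp : r ≠ p)
    (hk : k ∈ kq V p) (hk1 : k ∉ centralizer (V : Set G)) (hd : d ∈ dd V r) :
    d * (k * d * k⁻¹) ∈ dd V p := by
  have hz := h.ln.z_mem
  have hz1 := h.ln.z_ne
  obtain ⟨g, hg, hgp, hgr⟩ := h.xl_trans₂ hp hp1 hr hr1 hrp hz hz1 S.hy S.hy1 S.hyz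
  have hgn := h.xl_le_normalizer hg
  have hk' := conj_mem_kq g hk
  have hd' := conj_mem_dd hgn hd
  rw [hgp] at hk'
  rw [hgr] at hd'
  have hk1' : g * k * g⁻¹ ∉ centralizer (V : Set G) := fun hc => by
    have := conj_mem_of_normalizer' (normalizer_le_normalizer_centralizer V) hgn hc
    have e1 : g⁻¹ * (g * k * g⁻¹) * g = k := by group
    rw [e1] at this
    exact hk1 this
  have h1 := S.mul_mem_aux h hk' hk1' hd'
  have h2 := conj_mem_dd (inv_mem hgn) h1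
  have e1 : g⁻¹ * (g * d * g⁻¹ * (g * k * g⁻¹ * (g * d * g⁻¹) * (g * k * g⁻¹)⁻¹)) * g⁻¹⁻¹ =
      d * (k * d * k⁻¹) := by group
  have e2 : g⁻¹ * z * g⁻¹⁻¹ = p := by rw [← hgp]; group
  rwa [e1, e2] at h2

/-- (3.2) `d d^k = d^t` modulo `I` for `d ∈ D_r`, movers `k ∈ K_p`, `t ∈ K_{pr}` -/
theorem theta {p r k t d : G} (hp : p ∈ V) (hp1 : p ≠ 1) (hr : r ∈ V) (hr1 : r ≠ 1) (hrp : r ≠ p)
    (hk : k ∈ kq V p) (hk1 : k ∉ centralizer (V : Set G)) (ht : t ∈ kq V (p * r))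
    (ht1 : t ∉ centralizer (V : Set G)) (hd : d ∈ dd V r) :
    d * (k * d * k⁻¹) * (t * d * t⁻¹)⁻¹ ∈ ii V := by
  have hs : p * r ∈ V := mul_mem hp hr
  have hs1 : p * r ≠ 1 := h.mul_ne_one hr (Ne.symm hrp)
  have hrs : r ≠ p * r := fun e' => hp1 (by simpa using e'.symm)
  have hps : p ≠ p * r := fun e' => hr1 (by simpa using e'.symm)
  have hpr := h.ln.comm hp hr
  have hpp := h.ln.sq p hp
  have hrr := h.ln.sq r hr
  have htn := h.kq_le_normalizer hs hs1 ht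
  have hkn := h.kq_le_normalizer hp hp1 hk
  -- `t` swaps `p` and `r`
  have htp : t * p * t⁻¹ = r := by
    rw [h.move hs hs1 hp hp1 hps ht ht1, hpr, mul_assoc, hpp, mul_one]
  have htr : t * r * t⁻¹ = p := by
    rw [h.move hs hs1 hr hr1 hrs ht ht1, mul_assoc, hrr, mul_one]
  have hkr : k * r * k⁻¹ = p * r := h.move hp hp1 hr hr1 hrp hk hk1
  have ha1 : t * d * t⁻¹ ∈ dd V p := by
    have := conj_mem_dd htn hd
    rwa [htr] at this
  have ha2 : k * d * k⁻¹ ∈ dd V (p * r) := by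
    have := conj_mem_dd hkn hd
    rwa [hkr] at this
  set a1 := t * d * t⁻¹ with ha1'
  set a2 := k * d * k⁻¹ with ha2'
  have hC : d * a2 ∈ dd V p := S.mul_mem_dd h hp hp1 hr hr1 hrp hk hk1 hd
  have hCt : t * (d * a2) * t⁻¹ ∈ dd V r := by
    have := conj_mem_dd htn hC
    rwa [htp] at this
  have e1 : t * (d * a2) * t⁻¹ = a1 * (t * a2 * t⁻¹) := by rw [ha1']; group
  -- `a1 a2 ∈ D_r`
  have h1 : a1 * a2 ∈ dd V r := by
    rcases h.kq_cases hs ht ha2.1 with e2 | e2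
    · rw [e1, e2] at hCt; exact hCt
    · rw [e1, e2] at hCt
      have h3 : a1 * (p * r * a2) = (p * r) * (a1 * a2) := by
        have h4 : a1 * (p * r) = (p * r) * a1 :=
          ha1.2 _ hs hs1 _ (h.V_le hs hs1 hs)
        rw [← mul_assoc, h4, mul_assoc]
      rw [h3] at hCt
      have h5 := mul_mem (h.V_le_dd hr hr1 (inv_mem hs)) hCt
      rwa [inv_mul_cancel_left] at h5
  -- `d a2 a1⁻¹ = d (a1 a2)⁻¹` : in `D_p ∩ D_r`
  have h6 : a2 * a2 = 1 := h.dd_sq hs hs1 ha2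
  have h7 : a1 * a2 = a2 * a1 := h.dd_comm hs hs1 ha1 ha2
  have h8 : d * a2 * a1⁻¹ = d * (a1 * a2)⁻¹ := by
    have h9 : (a1 * a2)⁻¹ = a2 * a1⁻¹ := by
      calc (a1 * a2)⁻¹ = a2⁻¹ * a1⁻¹ := _root_.mul_inv_rev a1 a2
        _ = a2 * a1⁻¹ := by rw [inv_eq_self h6]
    rw [h9, mul_assoc]
  refine h.dd_inf hp hp1 hr hr1 hrp (mul_mem hC (inv_mem ha1)) ?_
  rw [h8]
  exact mul_mem hd (inv_mem h1)

end Spr

namespace One

variable {T V L : Subgroup G} {z y q e : G}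

/-- (3.3): if `D_y ≤ W_z D_q D_{zq}` for a line `L ∋ z, q` and some `e ∈ E_q` moves `y`, then `D_y = I`. -/
theorem dd_le_ii (h : One T V z) (hL : L ∈ lines V z) (hy : y ∈ V) (hy1 : y ≠ 1) (hyz : y ≠ z) (hq : q ∈ L)
    (hq1 : q ≠ 1) (he : e ∈ ee L q) (ey : e * y * e⁻¹ = z * y) {d : G} (hd : d ∈ dd V y)
    (hB : ∃ w ∈ ws V z, ∃ a ∈ dd L q, ∃ b ∈ dd L (z * q), d = w * (a * b)) : d ∈ ii V := by
  have hz := h.ln.z_mem
  have hz1 := h.ln.z_ne
  obtain ⟨w, hw, a, ha, b, hb, e1⟩ := hB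
  have hek : e ∈ kq V z := by
    rw [← kq_line hL]
    exact he.2 z hL.2 hz1
  have h1 : a * e = e * a := ha.2 q hq hq1 e he.1
  have h2 : b * e = e * b := hb.2 q hq hq1 e he.1
  have h3 : e * (a * b) * e⁻¹ = a * b := conj_eq_of_comm (comm_mul_of h1.symm h2.symm)
  have hs : z * y ∈ V := mul_mem hz hy
  have hs1 : z * y ≠ 1 := h.mul_ne_one hy (Ne.symm hyz)
  have hsy : z * y ≠ y := fun e' => hz1 (by simpa using e')
  have h4 : e * d * e⁻¹ ∈ dd V (z * y) := by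
    have := conj_mem_dd (h.kq_le_normalizer hz hz1 hek) hd
    rwa [ey] at this
  have h5 : e * d * e⁻¹ = d ∨ e * d * e⁻¹ = z * d := by
    have e2 : e * d * e⁻¹ = (e * w * e⁻¹) * (e * (a * b) * e⁻¹) := by rw [e1]; group
    rcases h.kq_cases hz hek hw with e3 | e3
    · left; rw [e2, e3, h3, e1]
    · right; rw [e2, e3, h3, e1]; group
  have h6 : d ∈ dd V (z * y) := by
    rcases h5 with e3 | e3
    · rwa [e3] at h4
    · rw [e3] at h4
      have := mul_mem (h.V_le_dd hs hs1 (inv_mem hz)) h4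
      rwa [inv_mul_cancel_left] at this
  exact h.dd_inf hy hy1 hs hs1 hsy hd h6

end One

end Cfsg.Agent.Omega.NO3S.TwoOne

end

section


/-!
# NO-3S, `q = 2`, `n = 1`: THEOREM ALPHA (helper881's texts #17145, section 2, and #18307, section 2)

`h : One T V z`, `hN : NT V` (no `λ`-transvections), `S : Spr V L z y q e g`, `u ∈ I_V ∩ I_L`, `u ∉ V`:
* `Spr.alpha` : `V ≤ O₂(C_G(u))`;
* `nu u z = ⟨z^{C_G(u)}⟩`; `One.V_le_nu`, `Spr.nu_le`, `Spr.nu_comm` (2.1): `[N ∩ W_p, N ∩ W_r] ≤ ⟨u⟩`, `N = nu u z`;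
* `m0 V x = C_{W_x}(K_x)`; `One.exists_mover_cent` : movers of `K_p` which centralise `u`.
-/

set_option autoImplicit false
set_option linter.unusedSectionVars false

namespace Cfsg.Agent.Omega.NO3S.TwoOne

open Subgroup Cfsg Cfsg.Agent.ZN Cfsg.Agent.MinSimple.Geo Cfsg.Agent.Omega.CaseL
open Cfsg.Agent.ZN.Block (conj_mem_of_normalizer conj_mem_of_normalizer' le_normalizer_of_forall
  mem_normalizer_of)
open scoped commutatorElement

universe u

variable {G : Type u} [Group G]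

/-! ### a growing normaliser -/

/-- `A` normalised by `B`, `A`, `B` 2-groups, `R₀ < A ⊔ B`: some element of `A ⊔ B` outside `R₀` normalises `R₀` -/
theorem exists_norm_of_lt [Finite G] {A R₀ : Subgroup G} (hA : IsPGroup 2 A) (hle : R₀ ≤ A) (hne : ¬ A ≤ R₀) :
    ∃ x ∈ A, x ∉ R₀ ∧ x ∈ normalizer (R₀ : Set G) := by
  have : Fact (Nat.Prime 2) := ⟨Nat.prime_two⟩
  have hlt : R₀.subgroupOf A < ⊤ := by
    refine lt_of_le_of_ne le_top fun e => hne ?_
    exact subgroupOf_eq_top.mp e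
  have : Group.IsNilpotent A := hA.isNilpotent
  have h1 := Group.normalizerCondition_of_isNilpotent (G := A) _ hlt
  obtain ⟨x, hx, hxT⟩ := SetLike.exists_of_lt h1
  refine ⟨x, x.2, fun hc => hxT (mem_subgroupOf.mpr hc), ?_⟩
  rw [mem_normalizer_iff] at hx ⊢
  intro t
  constructor
  · intro ht
    exact mem_subgroupOf.mp ((hx ⟨t, hle ht⟩).mp (mem_subgroupOf.mpr ht))
  · intro ht
    have h2 : (x : G) * t * (x : G)⁻¹ ∈ A := hle ht
    have h3 : t ∈ A := by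
      have := mul_mem (mul_mem (inv_mem x.2) h2) x.2
      have e : (x : G)⁻¹ * (x * t * (x : G)⁻¹) * x = t := by group
      rwa [e] at this
    exact mem_subgroupOf.mp ((hx ⟨t, h3⟩).mpr (mem_subgroupOf.mpr ht))

theorem mem_sup_norm {H N : Subgroup G} (hn : H ≤ normalizer (N : Set G)) {x : G}
    (hx : x ∈ H ⊔ N) : ∃ a ∈ H, ∃ b ∈ N, x = a * b := by
  have h1 : x ∈ ((H ⊔ N : Subgroup G) : Set G) := hx
  rw [coe_mul_of_left_le_normalizer_right H N hn] at h1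
  obtain ⟨a, ha, b, hb, hab⟩ := h1
  exact ⟨a, ha, b, hb, hab.symm⟩

/-- a form of the three subgroups lemma -/
theorem three_sub {Γ : Type*} [Group Γ] {K A B : Γ} (h1 : Commute (K * A * K⁻¹ * A⁻¹) A)
    (h2 : Commute (K * A * K⁻¹ * A⁻¹) B) (h3 : Commute (K * B * K⁻¹ * B⁻¹) A)
    (h4 : Commute (K * B * K⁻¹ * B⁻¹) B) (h5 : Commute (K⁻¹ * A * K * A⁻¹) B) :
    K * (A * B * A⁻¹ * B⁻¹) * K⁻¹ = A * B * A⁻¹ * B⁻¹ := by
  obtain ⟨a, ha⟩ : ∃ a, a = K * A * K⁻¹ * A⁻¹ := ⟨_, rfl⟩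
  obtain ⟨b, hb⟩ : ∃ b, b = K * B * K⁻¹ * B⁻¹ := ⟨_, rfl⟩
  rw [← ha] at h1 h2
  rw [← hb] at h3 h4
  have h6 : Commute a⁻¹ (b * B) := by
    have e1 : a⁻¹ = K * (K⁻¹ * A * K * A⁻¹) * K⁻¹ := by rw [ha]; group
    have e2 : b * B = K * B * K⁻¹ := by rw [hb]; group
    rw [e1, e2]
    have := h5.eq
    change K * (K⁻¹ * A * K * A⁻¹) * K⁻¹ * (K * B * K⁻¹) = K * B * K⁻¹ * (K * (K⁻¹ * A * K * A⁻¹) * K⁻¹)
    calc K * (K⁻¹ * A * K * A⁻¹) * K⁻¹ * (K * B * K⁻¹) = K * ((K⁻¹ * A * K * A⁻¹) * B) * K⁻¹ := by group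
      _ = K * (B * (K⁻¹ * A * K * A⁻¹)) * K⁻¹ := by rw [this]
      _ = K * B * K⁻¹ * (K * (K⁻¹ * A * K * A⁻¹) * K⁻¹) := by group
  have h7 : Commute a b := by
    have h8 : Commute a⁻¹ b := by
      have := h6.mul_right (h2.inv_left.inv_right)
      rwa [mul_inv_cancel_right] at this
    rw [← inv_inv a]
    exact h8.inv_left
  have e1 : K * (A * B * A⁻¹ * B⁻¹) * K⁻¹ = (a * A) * (b * B) * (a * A)⁻¹ * (b * B)⁻¹ := by
    rw [ha, hb]; group
  have e2 : A * b = b * A := h3.eq.symm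
  have e3 : A⁻¹ * a⁻¹ = a⁻¹ * A⁻¹ := (h1.inv_left.inv_right).eq.symm
  have e4 : (A * B) * a⁻¹ = a⁻¹ * (A * B) := ((h1.mul_right h2).inv_left).eq.symm
  have e5 : a * b * a⁻¹ = b := by rw [h7.eq]; group
  have e6 : b * (A * B * A⁻¹ * B⁻¹) = (A * B * A⁻¹ * B⁻¹) * b :=
    (((h3.mul_right h4).mul_right h3.inv_right).mul_right h4.inv_right).eq
  rw [e1]
  calc (a * A) * (b * B) * (a * A)⁻¹ * (b * B)⁻¹ = a * (A * b) * B * (A⁻¹ * a⁻¹) * (B⁻¹ * b⁻¹) := by group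
    _ = a * (b * A) * B * (a⁻¹ * A⁻¹) * (B⁻¹ * b⁻¹) := by rw [e2, e3]
    _ = a * b * ((A * B) * a⁻¹) * A⁻¹ * B⁻¹ * b⁻¹ := by group
    _ = a * b * (a⁻¹ * (A * B)) * A⁻¹ * B⁻¹ * b⁻¹ := by rw [e4]
    _ = (a * b * a⁻¹) * (A * B * A⁻¹ * B⁻¹) * b⁻¹ := by group
    _ = (A * B * A⁻¹ * B⁻¹) * b * b⁻¹ := by rw [e5, e6]
    _ = A * B * A⁻¹ * B⁻¹ := by group

/-! ### `C_{W_x}(K_x)` -/

/-- `C_{W_x}(K_x)` -/
def m0 (V : Subgroup G) (x : G) : Subgroup G where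
  carrier := {w | w ∈ ws V x ∧ ∀ k ∈ kq V x, k * w = w * k}
  mul_mem' := fun ha hb => ⟨mul_mem ha.1 hb.1, fun k hk => comm_mul_of (ha.2 k hk) (hb.2 k hk)⟩
  one_mem' := ⟨one_mem _, fun k _ => by simp⟩
  inv_mem' := fun ha => ⟨inv_mem ha.1, fun k hk => comm_inv_of (ha.2 k hk)⟩

theorem conj_mem_m0 {V : Subgroup G} {x w : G} (g : G) (hw : w ∈ m0 V x) : g * w * g⁻¹ ∈ m0 V (g * x * g⁻¹) := by
  refine ⟨conj_mem_ws g hw.1, fun k hk => ?_⟩
  have h1 : g⁻¹ * k * g ∈ kq V x := by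
    have := conj_mem_kq g⁻¹ hk
    have e : g⁻¹ * (g * x * g⁻¹) * g⁻¹⁻¹ = x := by group
    rwa [e, inv_inv] at this
  have h2 := hw.2 _ h1
  calc k * (g * w * g⁻¹) = g * ((g⁻¹ * k * g) * w) * g⁻¹ := by group
    _ = g * (w * (g⁻¹ * k * g)) * g⁻¹ := by rw [h2]
    _ = g * w * g⁻¹ * k := by group

/-- `⟨z^{C_G(u)}⟩` -/
def nu (u z : G) : Subgroup G := closure {a | ∃ c ∈ centralizer ({u} : Set G), a = c * z * c⁻¹}

theorem conj_mem_nu {u z c a : G} (hc : c ∈ centralizer ({u} : Set G)) (ha : a ∈ nu u z) :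
    c * a * c⁻¹ ∈ nu u z := by
  refine closure_induction (p := fun a _ => c * a * c⁻¹ ∈ nu u z) ?_ ?_ ?_ ?_ ha
  · rintro _ ⟨d, hd, rfl⟩
    exact subset_closure ⟨c * d, mul_mem hc hd, by group⟩
  · simp
  · intro a b _ _ ha hb
    have e : c * (a * b) * c⁻¹ = (c * a * c⁻¹) * (c * b * c⁻¹) := by group
    rw [e]; exact mul_mem ha hb
  · intro a _ ha
    have e : c * a⁻¹ * c⁻¹ = (c * a * c⁻¹)⁻¹ := by group
    rw [e]; exact inv_mem ha

theorem mem_nu_self (u z : G) : z ∈ nu u z := subset_closure ⟨1, one_mem _, by simp⟩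

namespace One

variable {T V L : Subgroup G} {z : G} {p q r u : G}

/-- movers in `C(u)` -/
theorem exists_mover_cent [Finite G] (h : One T V z) (hu : u ∈ ii V) (huV : u ∉ V) (hp : p ∈ V) (hp1 : p ≠ 1) :
    ∃ k ∈ kq V p, k ∉ centralizer (V : Set G) ∧ k * u = u * k := by
  obtain ⟨t, ht, ht1⟩ := h.exists_mover hp hp1
  rcases h.kq_cases hp ht (hu p hp hp1) with e | e
  · exact ⟨t, ht, ht1, comm_of_conj_eq e⟩
  · obtain ⟨k, hk, hkV, hku⟩ := h.fu hu huV hp hp1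
    refine ⟨k * t, mul_mem hk ht, fun hc => ht1 ?_, comm_of_conj_eq ?_⟩
    · have := mul_mem (inv_mem hkV) hc
      rwa [inv_mul_cancel_left] at this
    · have hkp : k * p * k⁻¹ = p := conj_eq_of_comm (h.kq_p hk)
      calc k * t * u * (k * t)⁻¹ = k * (t * u * t⁻¹) * k⁻¹ := by group
        _ = (k * p * k⁻¹) * (k * u * k⁻¹) := by rw [e]; group
        _ = (p * p) * u := by rw [hkp, hku]; group
        _ = u := by rw [h.ln.sq p hp, one_mul]

theorem isSub_m0 [Finite G] (h : One T V z) : IsSub V z (m0 V z) where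
  z_mem := ⟨h.V_le h.ln.z_mem h.ln.z_ne h.ln.z_mem, fun _ hk => h.kq_p hk⟩
  le := fun _ hw => hw.1
  norm := by
    refine le_normalizer_of_forall fun c hc w hw => ?_
    have := conj_mem_m0 c hw
    rwa [conj_eq_of_comm (mem_centralizer_singleton_iff.mp hc)] at this

theorem m0_ne [Finite G] (h : One T V z) : m0 V z ≠ ws V z := by
  intro e
  obtain ⟨k, hk, hk1⟩ := h.f1
  apply hk1
  rw [mem_centralizer_iff]
  intro v hv
  have : v ∈ m0 V z := by rw [e]; exact h.V_le h.ln.z_mem h.ln.z_ne hv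
  exact (this.2 k hk).symm

/-- `C_{W_x}(K_x) ∩ I = ⟨x⟩` -/
theorem m0_ii [Finite G] (h : One T V z) {w : G} (hw : w ∈ m0 V z) (hwi : w ∈ ii V) : w = 1 ∨ w = z :=
  h.lemma_i h.isSub_m0 h.m0_ne hw hwi

/-- `C_{W_x}(K_x) ≤ D_x` -/
theorem m0_le_dd [Finite G] (h : One T V z) (hN : NT V) {w : G} (hw : w ∈ m0 V z) : w ∈ dd V z := by
  obtain ⟨y, hy, hy1, hyz⟩ := h.ln.exists_y
  have hz := h.ln.z_mem
  have hz1 := h.ln.z_ne
  have hwW : w ∈ ws V z := hw.1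
  have h1 : ∀ b ∈ ws V y, ⁅w, b⁆ ∈ zpowers z := by
    intro b hb
    have h2 := h.comm_sub h.isSub_m0 h.m0_ne hy hy1 hyz hb hw
    have e : ⁅w, b⁆ = (b * w * b⁻¹ * w⁻¹)⁻¹ := by rw [commutatorElement_def]; group
    rw [e]; exact inv_mem h2
  exact (h.nt_mem_dd hN hz hz1 hy hy1 hyz).mpr ⟨hwW, h1⟩

/-- the same facts at every point -/
theorem m0_ii' [Finite G] (h : One T V z) (hp : p ∈ V) (hp1 : p ≠ 1) {w : G} (hw : w ∈ m0 V p)
    (hwi : w ∈ ii V) : w = 1 ∨ w = p := by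
  obtain ⟨g, -, -, hg⟩ := h.point hp hp1
  exact hg.m0_ii hw hwi

theorem m0_le_dd' [Finite G] (h : One T V z) (hN : NT V) (hp : p ∈ V) (hp1 : p ≠ 1) {w : G}
    (hw : w ∈ m0 V p) : w ∈ dd V p := by
  obtain ⟨g, -, -, hg⟩ := h.point hp hp1
  exact hg.m0_le_dd hN hw

/-- duality: `C_{W_x}(K_x ∩ C(u)) = C_{W_x}(K_x) ⟨u⟩` -/
theorem mem_m0_or (h : One T V z) (hp : p ∈ V) (hu : u ∈ ws V p) {w : G} (hw : w ∈ ws V p)
    (hc : ∀ k ∈ kq V p, k * u = u * k → k * w = w * k) : w ∈ m0 V p ∨ w * u ∈ m0 V p := by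
  by_contra hcon
  push Not at hcon
  obtain ⟨h1, h2⟩ := hcon
  have h1' : ∃ k ∈ kq V p, k * w ≠ w * k := by
    by_contra hn
    push Not at hn
    exact h1 ⟨hw, hn⟩
  have h2' : ∃ k ∈ kq V p, k * (w * u) ≠ w * u * k := by
    by_contra hn
    push Not at hn
    exact h2 ⟨mul_mem hw hu, hn⟩
  obtain ⟨k, hk, hkw⟩ := h1'
  obtain ⟨m, hm, hmw⟩ := h2'
  have hp1 : p ≠ 1 := by
    rintro rfl
    rcases h.kq_cases hp hk hw with e | e
    · exact hkw (comm_of_conj_eq e)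
    · rw [one_mul] at e; exact hkw (comm_of_conj_eq e)
  have hwp : w * p = p * w := h.comm hp hp1 w hw p (h.V_le hp hp1 hp)
  have ekw : k * w * k⁻¹ = p * w := (h.kq_cases hp hk hw).resolve_left fun e => hkw (comm_of_conj_eq e)
  have eku : k * u * k⁻¹ = p * u :=
    (h.kq_cases hp hk hu).resolve_left fun e => hkw (hc k hk (comm_of_conj_eq e))
  have hmu : m * u * m⁻¹ = p * u := by
    refine (h.kq_cases hp hm hu).resolve_left fun e => hmw ?_
    have h3 := hc m hm (comm_of_conj_eq e)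
    exact comm_mul_of h3 (comm_of_conj_eq e)
  have hmw' : m * w * m⁻¹ = w := by
    refine (h.kq_cases hp hm hw).resolve_right fun e => hmw (comm_of_conj_eq ?_)
    calc m * (w * u) * m⁻¹ = (m * w * m⁻¹) * (m * u * m⁻¹) := by group
      _ = p * w * (p * u) := by rw [e, hmu]
      _ = p * (w * p) * u := by group
      _ = (p * p) * (w * u) := by rw [hwp]; group
      _ = w * u := by rw [h.ln.sq p hp, one_mul]
  -- `k m` centralises `u` but not `w`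
  have h4 : k * m * u = u * (k * m) := by
    refine comm_of_conj_eq ?_
    have hkp : k * p * k⁻¹ = p := conj_eq_of_comm (h.kq_p hk)
    calc k * m * u * (k * m)⁻¹ = k * (m * u * m⁻¹) * k⁻¹ := by group
      _ = (k * p * k⁻¹) * (k * u * k⁻¹) := by rw [hmu]; group
      _ = (p * p) * u := by rw [hkp, eku]; group
      _ = u := by rw [h.ln.sq p hp, one_mul]
  have h5 := hc _ (mul_mem hk hm) h4
  have h6 : k * m * w * (k * m)⁻¹ = p * w := by
    calc k * m * w * (k * m)⁻¹ = k * (m * w * m⁻¹) * k⁻¹ := by group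
      _ = p * w := by rw [hmw', ekw]
  rw [conj_eq_of_comm h5] at h6
  exact hp1 (by simpa using h6.symm)

/-! ### `C_G(u)`, `u ∈ I - V` -/

theorem ws_le_cent_u (h : One T V z) (hu : u ∈ ii V) (hp : p ∈ V) (hp1 : p ≠ 1) :
    ws V p ≤ centralizer ({u} : Set G) := by
  intro w hw
  rw [mem_centralizer_singleton_iff]
  exact h.comm hp hp1 w hw u (hu p hp hp1)

theorem V_le_cent_u (h : One T V z) (hu : u ∈ ii V) : V ≤ centralizer ({u} : Set G) :=
  (h.V_le h.ln.z_mem h.ln.z_ne).trans (h.ws_le_cent_u hu h.ln.z_mem h.ln.z_ne)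

/-- one point of `V` in a `C(u)`-invariant subgroup: `V` is in it -/
theorem V_le_of_mem [Finite G] (h : One T V z) (hu : u ∈ ii V) (huV : u ∉ V) {Q : Subgroup G}
    (hQ : centralizer ({u} : Set G) ≤ normalizer (Q : Set G)) (hp : p ∈ V) (hp1 : p ≠ 1) (hpQ : p ∈ Q) :
    V ≤ Q := by
  intro v hv
  by_cases hv1 : v = 1
  · rw [hv1]; exact one_mem _
  obtain ⟨g, -, hgu, hgv⟩ := h.ftwo hu huV hp hp1 hv hv1
  rw [← hgv]
  exact conj_mem_of_normalizer hQ (mem_centralizer_singleton_iff.mpr hgu) hpQ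

theorem V_le_nu [Finite G] (h : One T V z) (hu : u ∈ ii V) (huV : u ∉ V) : V ≤ nu u z := by
  refine h.V_le_of_mem hu huV (le_normalizer_of_forall fun c hc a ha => conj_mem_nu hc ha) h.ln.z_mem
    h.ln.z_ne (mem_nu_self u z)

/-- `W_p ∩ Q ≤ C_{W_p}(K_p) ⟨u⟩` for a `C(u)`-invariant subgroup `Q` with `V ∩ Q = 1` -/
theorem mem_m0_or_of (h : One T V z) (hu : u ∈ ii V) {Q : Subgroup G}
    (hQ : centralizer ({u} : Set G) ≤ normalizer (Q : Set G)) (hp : p ∈ V) (hp1 : p ≠ 1) (hpQ : p ∉ Q) {w : G}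
    (hw : w ∈ ws V p) (hwQ : w ∈ Q) : w ∈ m0 V p ∨ w * u ∈ m0 V p := by
  refine h.mem_m0_or hp (hu p hp hp1) hw fun k hk hku => ?_
  rcases h.kq_cases hp hk hw with e | e
  · exact comm_of_conj_eq e
  · exfalso
    have h1 := conj_mem_of_normalizer hQ (mem_centralizer_singleton_iff.mpr hku) hwQ
    have h2 := mul_mem h1 (inv_mem hwQ)
    rw [e, mul_inv_cancel_right] at h2
    exact hpQ h2

/-- `I ∩ Q ≤ ⟨p, u⟩` -/
theorem ii_inf_of [Finite G] (h : One T V z) (hu : u ∈ ii V) {Q : Subgroup G}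
    (hQ : centralizer ({u} : Set G) ≤ normalizer (Q : Set G)) (hp : p ∈ V) (hp1 : p ≠ 1) (hpQ : p ∉ Q) {w : G}
    (hw : w ∈ ii V) (hwQ : w ∈ Q) : w = 1 ∨ w = p ∨ w = u ∨ w = p * u := by
  have huu : u * u = 1 := h.sq hp hp1 u (hu p hp hp1)
  rcases h.mem_m0_or_of hu hQ hp hp1 hpQ (hw p hp hp1) hwQ with e | e
  · rcases h.m0_ii' hp hp1 e hw with e1 | e1
    · exact Or.inl e1
    · exact Or.inr (Or.inl e1)
  · rcases h.m0_ii' hp hp1 e (mul_mem hw hu) with e1 | e1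
    · right; right; left
      calc w = w * u * u⁻¹ := by group
        _ = u := by rw [e1, one_mul]; exact inv_eq_self huu
    · right; right; right
      calc w = w * u * u⁻¹ := by group
        _ = p * u := by rw [e1, inv_eq_self huu]

/-- Case (a) of ALPHA: `W_z ∩ Q ≤ ⟨u⟩`, `Q = O₂(C_G(u))`, `V ∩ Q = 1` is impossible. -/
theorem alpha_a [Finite G] (h : One T V z) (hN : NT V) (hu : u ∈ ii V) (huV : u ∉ V)
    (hVQ : ∀ v ∈ V, v ∈ o2 (centralizer ({u} : Set G)) → v = 1)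
    (hWQ : ∀ w ∈ ws V z, w ∈ o2 (centralizer ({u} : Set G)) → w = 1 ∨ w = u) : False := by
  classical
  have hz := h.ln.z_mem
  have hz1 := h.ln.z_ne
  set J := centralizer ({u} : Set G) with hJ
  set Q := o2 J with hQdef
  have hQJ : Q ≤ J := o2_le _
  have hQp : IsPGroup 2 Q := isPGroup_o2 _
  have hQn : J ≤ normalizer (Q : Set G) := le_normalizer_o2 _
  have huu : u * u = 1 := h.sq hz hz1 u (hu z hz hz1)
  have hu1 : u ≠ 1 := fun e => huV (e ▸ one_mem V)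
  have huJ : u ∈ J := by rw [hJ, mem_centralizer_singleton_iff]
  have huc : ∀ a ∈ J, a * u = u * a := fun a ha => mem_centralizer_singleton_iff.mp ha
  -- all points of `V`
  have hWQ' : ∀ p ∈ V, p ≠ 1 → ∀ w ∈ ws V p, w ∈ Q → w = 1 ∨ w = u := by
    intro p hp hp1 w hw hwQ
    obtain ⟨c, -, hcu, hcp⟩ := h.ftwo hu huV hp hp1 hz hz1
    have hcJ : c ∈ J := mem_centralizer_singleton_iff.mpr hcu
    have h1 := conj_mem_ws c hw
    rw [hcp] at h1
    have h2 := conj_mem_of_normalizer hQn hcJ hwQ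
    rcases hWQ _ h1 h2 with e | e
    · exact Or.inl (conj_eq_one_iff.mp e)
    · right
      calc w = c⁻¹ * (c * w * c⁻¹) * c := by group
        _ = c⁻¹ * (u * c) := by rw [e]; group
        _ = c⁻¹ * (c * u) := by rw [hcu]
        _ = u := by group
  -- `Q ∩ N_G(V) ≤ C_G(V)`
  have hQ0 : ∀ a ∈ Q, a ∈ normalizer (V : Set G) → a ∈ centralizer (V : Set G) := by
    intro a haQ haN
    rw [mem_centralizer_iff]
    intro v hv
    have h1 : a * v * a⁻¹ * v⁻¹ ∈ V := mul_mem ((mem_normalizer_iff.mp haN v).mp hv) (inv_mem hv)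
    have h2 : a * v * a⁻¹ * v⁻¹ ∈ Q := by
      have e : a * v * a⁻¹ * v⁻¹ = a * (v * a⁻¹ * v⁻¹) := by group
      rw [e]
      exact mul_mem haQ (conj_mem_of_normalizer hQn (h.V_le_cent_u hu hv) (inv_mem haQ))
    have h3 := hVQ _ h1 h2
    have h4 : a * v * a⁻¹ = v := by
      calc a * v * a⁻¹ = (a * v * a⁻¹ * v⁻¹) * v := by group
        _ = v := by rw [h3, one_mul]
    exact (comm_of_conj_eq h4).symm
  -- `[Q ∩ N_G(V), W_p] ≤ ⟨u⟩`
  have hQ1 : ∀ a ∈ Q, a ∈ normalizer (V : Set G) → ∀ p ∈ V, p ≠ 1 → ∀ w ∈ ws V p,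
      a * w * a⁻¹ * w⁻¹ = 1 ∨ a * w * a⁻¹ * w⁻¹ = u := by
    intro a haQ haN p hp hp1 w hw
    refine hWQ' p hp hp1 _ ?_ ?_
    · exact mul_mem (conj_mem_of_normalizer (h.cent_norm hp) (hQ0 a haQ haN) hw) (inv_mem hw)
    · have e : a * w * a⁻¹ * w⁻¹ = a * (w * a⁻¹ * w⁻¹) := by group
      rw [e]
      exact mul_mem haQ (conj_mem_of_normalizer hQn (h.ws_le_cent_u hu hp hp1 hw) (inv_mem haQ))
  -- `Q` does not normalise `V`
  have hQV : ¬ Q ≤ normalizer (V : Set G) := by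
    intro hle
    apply hz1
    refine hVQ z hz ?_
    refine mem_o2_of_stab h.ln.charTwo huu hu1 (h.V_le_cent_u hu hz) fun q hq => ?_
    have h1 := mem_centralizer_iff.mp (hQ0 q hq (hle hq)) z hz
    have e : z * q * z⁻¹ * q⁻¹ = 1 := by rw [h1]; group
    rw [e]; exact one_mem _
  obtain ⟨y, hy, hy1, hyz⟩ := h.ln.exists_y
  -- `F = W_z W_y`
  set F := ws V z ⊔ ws V y with hF
  have hWCz : ws V z ≤ centralizer (V : Set G) := h.ws_le_centralizer_V hz hz1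
  have hWCy : ws V y ≤ centralizer (V : Set G) := h.ws_le_centralizer_V hy hy1
  have hFC : F ≤ centralizer (V : Set G) := sup_le hWCz hWCy
  have hFJ : F ≤ J := sup_le (h.ws_le_cent_u hu hz hz1) (h.ws_le_cent_u hu hy hy1)
  have h2W : ∀ p ∈ V, p ≠ 1 → IsPGroup 2 (ws V p) := by
    rintro p hp hp1 ⟨a, ha⟩
    refine ⟨1, Subtype.ext ?_⟩
    change a ^ 2 ^ 1 = 1
    rw [pow_one, pow_two]
    exact h.sq hp hp1 a ha
  have hF2 : IsPGroup 2 F := (h2W z hz hz1).to_sup_of_normal_left' (h2W y hy hy1)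
    (hWCy.trans (h.cent_norm hz))
  set R₀ := (Q ⊓ normalizer (V : Set G)) ⊔ F with hR₀
  have hR₀N : R₀ ≤ normalizer (V : Set G) := sup_le inf_le_right (hFC.trans (centralizer_le_normalizer _))
  have hA2 : IsPGroup 2 ↥(Q ⊔ F) := hQp.to_sup_of_normal_left' hF2 (hFJ.trans hQn)
  have hR₀A : R₀ ≤ Q ⊔ F := sup_le (inf_le_left.trans le_sup_left) le_sup_right
  obtain ⟨x, hx, hxR, hxn⟩ := exists_norm_of_lt hA2 hR₀A fun hle => hQV (le_sup_left.trans (hle.trans hR₀N))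
  obtain ⟨f, hf, k, hk, hxe⟩ := mem_sup_norm (hFJ.trans hQn) (show x ∈ F ⊔ Q by rwa [sup_comm])
  have hFR : F ≤ R₀ := le_sup_right
  have hkn : k ∈ normalizer (R₀ : Set G) := by
    have e : k = f⁻¹ * x := by rw [hxe]; group
    rw [e]
    exact mul_mem (inv_mem (le_normalizer (hFR hf))) hxn
  have hkV : k ∉ normalizer (V : Set G) := fun hc => hxR (by
    rw [hxe]
    exact mul_mem (hFR hf) (le_sup_left (a := Q ⊓ normalizer (V : Set G)) ⟨hk, hc⟩))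
  have hkJ := hQJ hk
  have hcomk : ∀ w ∈ F, k * w * k⁻¹ * w⁻¹ ∈ Q ∧ k * w * k⁻¹ * w⁻¹ ∈ normalizer (V : Set G) := by
    intro w hw
    constructor
    · have e : k * w * k⁻¹ * w⁻¹ = k * (w * k⁻¹ * w⁻¹) := by group
      rw [e]
      exact mul_mem hk (conj_mem_of_normalizer hQn (hFJ hw) (inv_mem hk))
    · exact hR₀N (mul_mem ((mem_normalizer_iff.mp hkn w).mp (hFR hw)) (inv_mem (hFR hw)))
  have hcomk' : ∀ w ∈ F, k⁻¹ * w * k * w⁻¹ ∈ Q ∧ k⁻¹ * w * k * w⁻¹ ∈ normalizer (V : Set G) := by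
    intro w hw
    constructor
    · have e : k⁻¹ * w * k * w⁻¹ = k⁻¹ * (w * k * w⁻¹) := by group
      rw [e]
      exact mul_mem (inv_mem hk) (conj_mem_of_normalizer hQn (hFJ hw) hk)
    · exact hR₀N (mul_mem ((mem_normalizer_iff''.mp hkn w).mp (hFR hw)) (inv_mem (hFR hw)))
  -- work in `J / ⟨u⟩`
  have hZn : ((zpowers u).subgroupOf J).Normal := by
    refine ⟨fun a ha b => ?_⟩
    rw [mem_subgroupOf] at ha ⊢
    change (b : G) * a * (b : G)⁻¹ ∈ zpowers u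
    obtain ⟨n, hn⟩ := mem_zpowers_iff.mp ha
    have hb : Commute (b : G) (u ^ n) := (show Commute (b : G) u from huc b b.2).zpow_right n
    rw [← hn, hb.eq, mul_inv_cancel_right]
    exact zpow_mem (mem_zpowers u) n
  let π : J →* J ⧸ (zpowers u).subgroupOf J := QuotientGroup.mk' _
  have hπ : ∀ x : J, π x = 1 ↔ (x : G) ∈ zpowers u := fun x => by
    rw [QuotientGroup.mk'_apply, QuotientGroup.eq_one_iff, mem_subgroupOf]
  have hπc : ∀ a b : J, ((a : G) * b * (a : G)⁻¹ * (b : G)⁻¹ = 1 ∨ (a : G) * b * (a : G)⁻¹ * (b : G)⁻¹ = u) →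
      Commute (π a) (π b) := by
    intro a b hab
    have h1 : π (a * b * a⁻¹ * b⁻¹) = 1 := by
      rw [hπ]
      change (a : G) * b * (a : G)⁻¹ * (b : G)⁻¹ ∈ zpowers u
      rcases hab with e | e
      · rw [e]; exact one_mem _
      · rw [e]; exact mem_zpowers u
    rw [map_mul, map_mul, map_mul, map_inv, map_inv] at h1
    change π a * π b = π b * π a
    calc π a * π b = (π a * π b * (π a)⁻¹ * (π b)⁻¹) * (π b * π a) := by group
      _ = π b * π a := by rw [h1, one_mul]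
  have hcomm : ∀ a ∈ ws V z, ∀ b ∈ ws V y, k * ⁅a, b⁆ * k⁻¹ * ⁅a, b⁆⁻¹ ∈ zpowers u := by
    intro a ha b hb
    have haF : a ∈ F := (le_sup_left : ws V z ≤ F) ha
    have hbF : b ∈ F := (le_sup_right : ws V y ≤ F) hb
    have haJ := hFJ haF
    have hbJ := hFJ hbF
    let K' : J := ⟨k, hkJ⟩
    let A' : J := ⟨a, haJ⟩
    let B' : J := ⟨b, hbJ⟩
    have c1 := hcomk a haF
    have c2 := hcomk b hbF
    have c3 := hcomk' a haF
    have g1 : Commute (π K' * π A' * (π K')⁻¹ * (π A')⁻¹) (π A') := by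
      have := hπc (K' * A' * K'⁻¹ * A'⁻¹) A' (hQ1 _ c1.1 c1.2 z hz hz1 a ha)
      rwa [map_mul, map_mul, map_mul, map_inv, map_inv] at this
    have g2 : Commute (π K' * π A' * (π K')⁻¹ * (π A')⁻¹) (π B') := by
      have := hπc (K' * A' * K'⁻¹ * A'⁻¹) B' (hQ1 _ c1.1 c1.2 y hy hy1 b hb)
      rwa [map_mul, map_mul, map_mul, map_inv, map_inv] at this
    have g3 : Commute (π K' * π B' * (π K')⁻¹ * (π B')⁻¹) (π A') := by
      have := hπc (K' * B' * K'⁻¹ * B'⁻¹) A' (hQ1 _ c2.1 c2.2 z hz hz1 a ha)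
      rwa [map_mul, map_mul, map_mul, map_inv, map_inv] at this
    have g4 : Commute (π K' * π B' * (π K')⁻¹ * (π B')⁻¹) (π B') := by
      have := hπc (K' * B' * K'⁻¹ * B'⁻¹) B' (hQ1 _ c2.1 c2.2 y hy hy1 b hb)
      rwa [map_mul, map_mul, map_mul, map_inv, map_inv] at this
    have g5 : Commute ((π K')⁻¹ * π A' * π K' * (π A')⁻¹) (π B') := by
      have := hπc (K'⁻¹ * A' * K' * A'⁻¹) B' (hQ1 _ c3.1 c3.2 y hy hy1 b hb)
      rwa [map_mul, map_mul, map_mul, map_inv, map_inv] at this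
    have g6 := three_sub g1 g2 g3 g4 g5
    have g7 : π (K' * (A' * B' * A'⁻¹ * B'⁻¹) * K'⁻¹ * (A' * B' * A'⁻¹ * B'⁻¹)⁻¹) = 1 := by
      simp only [map_mul, map_inv]
      rw [g6, mul_inv_cancel]
    have g8 := (hπ _).mp g7
    rw [commutatorElement_def]
    exact g8
  -- `[k, v] ∈ ⟨u⟩` for `v ∈ V`
  have hkv : ∀ v ∈ V, k * v * k⁻¹ = v ∨ k * v * k⁻¹ = u * v := by
    let C : Subgroup G :=
      { carrier := {v | v ∈ J ∧ k * v * k⁻¹ * v⁻¹ ∈ zpowers u}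
        mul_mem' := by
          rintro a b ⟨ha, ha1⟩ ⟨hb, hb1⟩
          refine ⟨mul_mem ha hb, ?_⟩
          have e : k * (a * b) * k⁻¹ * (a * b)⁻¹ = (k * a * k⁻¹ * a⁻¹) * (a * (k * b * k⁻¹ * b⁻¹) * a⁻¹) := by
            group
          rw [e]
          refine mul_mem ha1 ?_
          rw [conj_zpowers (z := u) ha hb1]
          exact hb1
        one_mem' := ⟨one_mem _, by simp⟩
        inv_mem' := by
          rintro a ⟨ha, ha1⟩
          refine ⟨inv_mem ha, ?_⟩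
          have e : k * a⁻¹ * k⁻¹ * a⁻¹⁻¹ = a⁻¹ * (k * a * k⁻¹ * a⁻¹)⁻¹ * a⁻¹⁻¹ := by group
          rw [e, conj_zpowers (z := u) (inv_mem ha) (inv_mem ha1)]
          exact inv_mem ha1 }
    have hle : ⁅ws V z, ws V y⁆ ≤ C := by
      rw [commutator_le]
      intro a ha b hb
      refine ⟨?_, hcomm a ha b hb⟩
      have haJ := h.ws_le_cent_u hu hz hz1 ha
      have hbJ := h.ws_le_cent_u hu hy hy1 hb
      rw [commutatorElement_def]
      exact mul_mem (mul_mem (mul_mem haJ hbJ) (inv_mem haJ)) (inv_mem hbJ)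
    intro v hv
    have h1 := (hle (h.nt_V_le hN hz hz1 hy hy1 hyz hv)).2
    rcases (mem_zpowers_iff_of_mul_self huu).mp h1 with e | e
    · left
      calc k * v * k⁻¹ = (k * v * k⁻¹ * v⁻¹) * v := by group
        _ = v := by rw [e, one_mul]
    · right
      calc k * v * k⁻¹ = (k * v * k⁻¹ * v⁻¹) * v := by group
        _ = u * v := by rw [e]
  -- `v₀` is moved, `p` is fixed
  obtain ⟨v₀, hv₀, hv₀k⟩ : ∃ v ∈ V, k * v * k⁻¹ = u * v := by
    by_contra hcon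
    push Not at hcon
    apply hkV
    refine mem_normalizer_fintype fun v hv => ?_
    rcases hkv v hv with e | e
    · rw [e]; exact hv
    · exact absurd e (hcon v hv)
  have hv₀1 : v₀ ≠ 1 := by
    rintro rfl
    rw [mul_one, mul_one, mul_inv_cancel] at hv₀k
    exact hu1 hv₀k.symm
  have huv₀ : u * v₀ = v₀ * u := (huc v₀ (h.V_le_cent_u hu hv₀)).symm
  obtain ⟨p, hp, hp1, hpk⟩ : ∃ p ∈ V, p ≠ 1 ∧ k * p * k⁻¹ = p := by
    obtain ⟨v₁, hv₁, hv₁1, hv₁0⟩ := h.exists_q hv₀ hv₀1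
    rcases hkv v₁ hv₁ with e | e
    · exact ⟨v₁, hv₁, hv₁1, e⟩
    · refine ⟨v₀ * v₁, mul_mem hv₀ hv₁, h.mul_ne_one hv₁ (Ne.symm hv₁0), ?_⟩
      calc k * (v₀ * v₁) * k⁻¹ = (k * v₀ * k⁻¹) * (k * v₁ * k⁻¹) := by group
        _ = (u * v₀) * (u * v₁) := by rw [hv₀k, e]
        _ = (v₀ * u) * (u * v₁) := by rw [huv₀]
        _ = v₀ * (u * u) * v₁ := by group
        _ = v₀ * v₁ := by rw [huu, mul_one]
  obtain ⟨m, -, hmV, hmu⟩ := h.fu hu huV hv₀ hv₀1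
  have hmp : m * p * m⁻¹ = p := conj_eq_of_comm (h.V_comm hp hmV).symm
  have hLu : u ∈ cj (m⁻¹ * k) V := by
    rw [mem_cj]
    have e : (m⁻¹ * k)⁻¹ * u * (m⁻¹ * k) = k⁻¹ * (m * u * m⁻¹) * k := by group
    rw [e, hmu, ← huv₀, ← hv₀k]
    have e2 : k⁻¹ * (k * v₀ * k⁻¹) * k = v₀ := by group
    rw [e2]; exact hv₀
  have hLp : p ∈ cj (m⁻¹ * k) V := by
    rw [mem_cj]
    have e : (m⁻¹ * k)⁻¹ * p * (m⁻¹ * k) = k⁻¹ * (m * p * m⁻¹) * k := by group
    have e2 : k⁻¹ * p * k = p := by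
      calc k⁻¹ * p * k = k⁻¹ * (k * p * k⁻¹) * k := by rw [hpk]
        _ = p := by group
    rw [e, hmp, e2]; exact hp
  obtain ⟨-, -, T', h'⟩ := h.of_line (L := cj (m⁻¹ * k) V) (p := u) ⟨⟨_, rfl⟩, hLu⟩ hu1
  exact hp1 (hVQ p hp (h'.ln.V_le_o2 hLp))

end One

namespace Spr

variable {T V L : Subgroup G} {z y q e g u : G}

/-- **THEOREM ALPHA.** -/
theorem alpha [Finite G] (S : Spr V L z y q e g) (h : One T V z) (hN : NT V) (hu : u ∈ ii V) (hu' : u ∈ ii L)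
    (huV : u ∉ V) : V ≤ o2 (centralizer ({u} : Set G)) := by
  classical
  have hz := h.ln.z_mem
  have hz1 := h.ln.z_ne
  set J := centralizer ({u} : Set G) with hJ
  set Q := o2 J with hQdef
  have hQn : J ≤ normalizer (Q : Set G) := le_normalizer_o2 _
  have huu : u * u = 1 := h.sq hz hz1 u (hu z hz hz1)
  have hu1 : u ≠ 1 := fun e' => huV (e' ▸ one_mem V)
  by_contra hVQ
  -- no point of `V` is in `Q`
  have hVQ' : ∀ v ∈ V, v ∈ Q → v = 1 := by
    intro v hv hvQ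
    by_contra hv1
    exact hVQ (h.V_le_of_mem hu huV hQn hv hv1 hvQ)
  -- `u ∈ Q`
  have huQ : u ∈ Q := by
    have h1 : IsPGroup 2 (zpowers u) := isPGroup_zpowers huu
    have h2 : zpowers u ≤ J := by
      rw [zpowers_le, hJ, mem_centralizer_singleton_iff]
    refine le_o2 h2 h1 ?_ (mem_zpowers u)
    refine le_normalizer_of_forall fun c hc x hx => ?_
    rw [conj_zpowers (z := u) hc hx]
    exact hx
  by_cases hcase : ∀ w ∈ ws V z, w ∈ Q → w = 1 ∨ w = u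
  · exact h.alpha_a hN hu huV hVQ' hcase
  push Not at hcase
  obtain ⟨w, hw, hwQ, hw1, hwu⟩ := hcase
  have hzQ : z ∉ Q := fun hc => hz1 (hVQ' z hz hc)
  -- `m ∈ C_{W_z}(K_z) ∩ Q`, `m ≠ 1, z`
  obtain ⟨m, hm, hmQ, hm1⟩ : ∃ m ∈ m0 V z, m ∈ Q ∧ m ≠ 1 := by
    rcases h.mem_m0_or_of hu hQn hz hz1 hzQ hw hwQ with e1 | e1
    · exact ⟨w, e1, hwQ, hw1⟩
    · refine ⟨w * u, e1, mul_mem hwQ huQ, fun e2 => hwu ?_⟩
      calc w = w * u * u⁻¹ := by group
        _ = u := by rw [e2, one_mul]; exact inv_eq_self huu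
  have hmz : m ≠ z := fun e' => hzQ (e' ▸ hmQ)
  have hmI : m ∉ ii V := fun hc => by
    rcases h.m0_ii hm hc with e' | e'
    · exact hm1 e'
    · exact hmz e'
  have hs := S.hs h
  have hs1 := S.hs1 h
  have hsy := S.hsy h
  have hsz := S.hsz h
  have hzy := h.ln.comm hz S.hy
  have hyy := h.ln.sq y S.hy
  have hzz := h.ln.zz
  -- movers in `C(u)`
  obtain ⟨t, ht, ht1, htu⟩ := h.exists_mover_cent hu huV hs hs1
  obtain ⟨k, hk, hk1, hku⟩ := h.exists_mover_cent hu huV hz hz1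
  have htJ : t ∈ J := mem_centralizer_singleton_iff.mpr htu
  have hkJ : k ∈ J := mem_centralizer_singleton_iff.mpr hku
  have htn := h.kq_le_normalizer hs hs1 ht
  have hkn := h.kq_le_normalizer hz hz1 hk
  have htz : t * z * t⁻¹ = y := by
    rw [h.move hs hs1 hz hz1 (Ne.symm hsz) ht ht1, hzy, mul_assoc, hzz, mul_one]
  have hty : t * y * t⁻¹ = z := by
    rw [h.move hs hs1 S.hy S.hy1 (Ne.symm hsy) ht ht1, mul_assoc, hyy, mul_one]
  have hky : k * y * k⁻¹ = z * y := h.move hz hz1 S.hy S.hy1 S.hyz hk hk1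
  -- `a = m^t`, `b = a^k`
  set a := t * m * t⁻¹ with ha
  have hay : a ∈ m0 V y := by
    have := conj_mem_m0 t hm
    rwa [htz] at this
  have haQ : a ∈ Q := conj_mem_of_normalizer hQn htJ hmQ
  set b := k * a * k⁻¹ with hb
  have hbs : b ∈ m0 V (z * y) := by
    have := conj_mem_m0 k hay
    rwa [hky] at this
  have hbQ : b ∈ Q := conj_mem_of_normalizer hQn hkJ haQ
  have hmD := h.m0_le_dd' hN hz hz1 hm
  have haD := h.m0_le_dd' hN S.hy S.hy1 hay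
  have hbD := h.m0_le_dd' hN hs hs1 hbs
  have hmm : m * m = 1 := h.dd_sq hz hz1 hmD
  have haa : a * a = 1 := h.dd_sq S.hy S.hy1 haD
  have hbb : b * b = 1 := h.dd_sq hs hs1 hbD
  have hab := h.dd_comm hs hs1 haD hbD
  have ham := h.dd_comm hz hz1 haD hmD
  have hbm := h.dd_comm hz hz1 hbD hmD
  -- `r = a b m ∈ I ∩ Q`
  have hr : a * b * m ∈ ii V := by
    have h1 := S.theta h hz hz1 S.hy S.hy1 S.hyz hk hk1 ht ht1 haD
    -- `t a t⁻¹ = m` modulo `I`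
    have h2 : t * a * t⁻¹ * m⁻¹ ∈ ii V := by
      have h3 : t * t ∈ kq V (z * y) := mul_mem ht ht
      have h4 : t * t ∈ centralizer (V : Set G) := by
        refine h.mem_centralizer_of hz hz1 S.hy S.hy1 S.hyz (comm_of_conj_eq ?_) (comm_of_conj_eq ?_)
        · calc t * t * z * (t * t)⁻¹ = t * (t * z * t⁻¹) * t⁻¹ := by group
            _ = z := by rw [htz, hty]
        · calc t * t * y * (t * t)⁻¹ = t * (t * y * t⁻¹) * t⁻¹ := by group
            _ = y := by rw [hty, htz]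
      have h5 := S.triv h hs hs1 hz hz1 h3 h4 hmD
      have e1 : t * t * m * (t * t)⁻¹ * m⁻¹ = t * a * t⁻¹ * m⁻¹ := by rw [ha]; group
      rwa [e1] at h5
    have h6 := mul_mem h1 h2
    have e1 : a * (k * a * k⁻¹) * (t * a * t⁻¹)⁻¹ * (t * a * t⁻¹ * m⁻¹) = a * b * m := by
      rw [← hb]
      calc a * b * (t * a * t⁻¹)⁻¹ * (t * a * t⁻¹ * m⁻¹) = a * b * m⁻¹ := by group
        _ = a * b * m := by rw [inv_eq_self hmm]
    rwa [e1] at h6
  have hrQ : a * b * m ∈ Q := mul_mem (mul_mem haQ hbQ) hmQ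
  have hru : a * b * m = 1 ∨ a * b * m = u := by
    rcases h.ii_inf_of hu hQn hz hz1 hzQ hr hrQ with e1 | e1 | e1 | e1
    · exact Or.inl e1
    · exact absurd (e1 ▸ hrQ) hzQ
    · exact Or.inr e1
    · exfalso
      apply hzQ
      have h1 := mul_mem hrQ (inv_mem huQ)
      rwa [e1, mul_inv_cancel_right] at h1
  -- (1.1)
  have h1 := S.mem_ii h haD
  -- `a^e = b v`, `v ∈ ⟨s⟩`
  have hae : e * a * e⁻¹ ∈ m0 V (z * y) := by
    have := conj_mem_m0 e hay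
    rwa [S.ey] at this
  have h2 : e * a * e⁻¹ * b⁻¹ ∈ ii V := by
    have h3 : e * k⁻¹ ∈ kq V z := mul_mem (S.e_kq h) (inv_mem hk)
    have h4 : e * k⁻¹ ∈ centralizer (V : Set G) :=
      h.mover_coset hz hz1 hk hk1 (S.e_kq h) (S.e_move h)
    have h5 := S.triv h hz hz1 hs hs1 h3 h4 hbD
    have e1 : e * k⁻¹ * b * (e * k⁻¹)⁻¹ * b⁻¹ = e * a * e⁻¹ * b⁻¹ := by rw [hb]; group
    rwa [e1] at h5
  have h3 : e * a * e⁻¹ * b⁻¹ = 1 ∨ e * a * e⁻¹ * b⁻¹ = z * y :=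
    h.m0_ii' hs hs1 (mul_mem hae (inv_mem hbs)) h2
  -- `m v ∈ I_L`
  have hLz : z ∈ L := S.line.2
  obtain ⟨-, -, T', h'⟩ := h.of_line S.line hz1
  have huL : ∀ {x : G}, (x = 1 ∨ x = u) → x ∈ ii L := by
    rintro x (rfl | rfl)
    · exact one_mem _
    · exact hu'
  -- `a b = r m`
  have habm : a * b = (a * b * m) * m := by
    calc a * b = a * b * (m * m) := by rw [hmm, mul_one]
      _ = (a * b * m) * m := by group
  have hm0L : m ∈ m0 L z := by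
    refine ⟨by rw [One.ws_line S.line]; exact hm.1, fun k hk => hm.2 k ?_⟩
    rwa [One.kq_line S.line] at hk
  rcases h3 with e1 | e1
  · -- `a^e = b`
    have e2 : e * a * e⁻¹ = b := by
      calc e * a * e⁻¹ = (e * a * e⁻¹ * b⁻¹) * b := by group
        _ = b := by rw [e1, one_mul]
    rw [e2, habm] at h1
    have h4 : m ∈ ii L := by
      have := mul_mem (inv_mem (huL hru)) h1
      rwa [inv_mul_cancel_left] at this
    rcases h'.m0_ii hm0L h4 with e' | e'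
    · exact hm1 e'
    · exact hmz e'
  · -- `a^e = s b`
    have e2 : e * a * e⁻¹ = (z * y) * b := by
      calc e * a * e⁻¹ = (e * a * e⁻¹ * b⁻¹) * b := by group
        _ = (z * y) * b := by rw [e1]
    have hsa : a * (z * y) = (z * y) * a := haD.2 _ hs hs1 _ (h.V_le hs hs1 hs)
    have e3 : a * (e * a * e⁻¹) = (a * b * m) * (m * (z * y)) := by
      have hms : m * (z * y) = (z * y) * m := hmD.2 _ hs hs1 _ (h.V_le hs hs1 hs)
      rw [e2]
      calc a * ((z * y) * b) = (a * (z * y)) * b := by group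
        _ = (z * y) * (a * b) := by rw [hsa]; group
        _ = (z * y) * ((a * b * m) * m) := by rw [← habm]
        _ = (a * b * m) * (m * (z * y)) := by
          have hsb : b * (z * y) = (z * y) * b := hbD.2 _ hs hs1 _ (h.V_le hs hs1 hs)
          rw [hms]
          calc (z * y) * (a * b * m * m) = ((z * y) * a) * b * m * m := by group
            _ = (a * (z * y)) * b * m * m := by rw [hsa]
            _ = a * ((z * y) * b) * m * m := by group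
            _ = a * (b * (z * y)) * m * m := by rw [hsb]
            _ = a * b * ((z * y) * m) * m := by group
            _ = a * b * (m * (z * y)) * m := by rw [hms]
            _ = a * b * m * ((z * y) * m) := by group
    rw [e3] at h1
    have h4 : m * (z * y) ∈ ii L := by
      have := mul_mem (inv_mem (huL hru)) h1
      rwa [inv_mul_cancel_left] at this
    -- `W_q` centralises `z y`
    have hmL := h'.m0_le_dd (hN.of_lines S.line) hm0L
    have h5 : m * (z * y) * e = e * (m * (z * y)) :=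
      h'.comm S.hq S.hq1 _ (h4 q S.hq S.hq1) e S.he.1
    have h6 : m * e = e * m := hmL.2 q S.hq S.hq1 e S.he.1
    have h7 : (z * y) * e = e * (z * y) := by
      calc (z * y) * e = m⁻¹ * (m * (z * y) * e) := by group
        _ = m⁻¹ * (e * (m * (z * y))) := by rw [h5]
        _ = m⁻¹ * (e * m) * (z * y) := by group
        _ = m⁻¹ * (m * e) * (z * y) := by rw [h6]
        _ = e * (z * y) := by group
    have h8 : e * (z * y) * e⁻¹ = z * y := conj_eq_of_comm h7.symm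
    have h9 : e * (z * y) * e⁻¹ = z * (z * y) := by
      calc e * (z * y) * e⁻¹ = (e * z * e⁻¹) * (e * y * e⁻¹) := by group
        _ = z * (z * y) := by rw [S.e_z h, S.ey]
    rw [h8] at h9
    exact hz1 (by simpa using h9.symm)

/-- (2.1) `N = ⟨z^{C(u)}⟩ ≤ O₂(C_G(u))` -/
theorem nu_le [Finite G] (S : Spr V L z y q e g) (h : One T V z) (hN : NT V) (hu : u ∈ ii V) (hu' : u ∈ ii L)
    (huV : u ∉ V) : nu u z ≤ o2 (centralizer ({u} : Set G)) := by
  have h1 := S.alpha h hN hu hu' huV h.ln.z_mem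
  refine (closure_le _).mpr ?_
  rintro _ ⟨c, hc, rfl⟩
  exact conj_mem_of_normalizer (le_normalizer_o2 _) hc h1

/-- (2.1) `[N ∩ W_p, N ∩ W_r] ≤ ⟨u⟩` -/
theorem nu_comm [Finite G] (S : Spr V L z y q e g) (h : One T V z) (hN : NT V) (hu : u ∈ ii V)
    (hu' : u ∈ ii L) (huV : u ∉ V) {p r a b : G} (hp : p ∈ V) (hp1 : p ≠ 1) (hr : r ∈ V) (hr1 : r ≠ 1)
    (hrp : r ≠ p) (ha : a ∈ nu u z) (ha' : a ∈ ws V p) (hb : b ∈ nu u z) (hb' : b ∈ ws V r) :
    a * b * a⁻¹ * b⁻¹ = 1 ∨ a * b * a⁻¹ * b⁻¹ = u := by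
  have hN2 : IsPGroup 2 (nu u z) := (isPGroup_o2 _).to_le (S.nu_le h hN hu hu' huV)
  set N := nu u z with hNdef
  set N' := ⁅N, N⁆ with hN'
  have hNn : centralizer ({u} : Set G) ≤ normalizer (N : Set G) :=
    le_normalizer_of_forall fun c hc a ha => conj_mem_nu hc ha
  have hN'n : centralizer ({u} : Set G) ≤ normalizer (N' : Set G) := by
    refine le_normalizer_of_forall fun c hc a ha => ?_
    have hle : N' ≤ cj c⁻¹ N' := by
      rw [hN', commutator_le]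
      intro x hx y hy
      rw [mem_cj, inv_inv]
      have e1 : c * ⁅x, y⁆ * c⁻¹ = ⁅c * x * c⁻¹, c * y * c⁻¹⁆ := by
        simp only [commutatorElement_def]; group
      rw [e1]
      exact commutator_mem_commutator (conj_mem_nu hc hx) (conj_mem_nu hc hy)
    have := mem_cj.mp (hle ha)
    rwa [inv_inv] at this
  have hVN := h.V_le_nu hu huV
  -- no point of `V` is in `N'`
  have hpt : ∀ v ∈ V, v ≠ 1 → v ∉ N' := by
    intro v hv hv1 hvN
    have hzN' : z ∈ N' := h.V_le_of_mem hu huV hN'n hv hv1 hvN h.ln.z_mem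
    have hle : N ≤ N' := by
      refine (closure_le _).mpr ?_
      rintro _ ⟨c, hc, rfl⟩
      exact conj_mem_of_normalizer hN'n hc hzN'
    have : Fact (Nat.Prime 2) := ⟨Nat.prime_two⟩
    have hnil : Group.IsNilpotent N := hN2.isNilpotent
    have hsol : Group.IsSolvable N := inferInstance
    have h1 : commutator N = ⊤ := by
      rw [eq_top_iff]
      intro x _
      have h2 : (x : G) ∈ ⁅N, N⁆ := hle x.2
      have h3 : (commutator N).map N.subtype = ⁅N, N⁆ := by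
        rw [_root_.commutator_def, map_commutator, ← MonoidHom.range_eq_map, range_subtype]
      rw [← h3] at h2
      obtain ⟨x', hx', e1⟩ := h2
      have : x' = x := Subtype.ext e1
      rwa [← this]
    have h4 : Subsingleton N := by
      by_contra hns
      rw [not_subsingleton_iff_nontrivial] at hns
      exact (Group.IsSolvable.commutator_lt_top_of_nontrivial N).ne h1
    have h5 : (⟨z, mem_nu_self u z⟩ : N) = 1 := Subsingleton.elim _ _
    exact h.ln.z_ne (congrArg Subtype.val h5)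
  have hc1 : a * b * a⁻¹ * b⁻¹ ∈ N' := by
    have := commutator_mem_commutator ha hb
    rwa [commutatorElement_def] at this
  have hc2 : a * b * a⁻¹ * b⁻¹ ∈ ii V := by
    have := h.comm_ii_mem hp hp1 hr hr1 ha' hb'
    rwa [commutatorElement_def] at this
  have huu : u * u = 1 := h.sq hp hp1 u (hu p hp hp1)
  have hdis : ∀ {p : G}, p ∈ V → p ≠ 1 → a * b * a⁻¹ * b⁻¹ = 1 ∨ a * b * a⁻¹ * b⁻¹ = u ∨
      a * b * a⁻¹ * b⁻¹ = p * u := by
    intro p hp hp1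
    rcases h.ii_inf_of hu hN'n hp hp1 (hpt p hp hp1) hc2 hc1 with e1 | e1 | e1 | e1
    · exact Or.inl e1
    · exact absurd (e1 ▸ hc1) (hpt p hp hp1)
    · exact Or.inr (Or.inl e1)
    · exact Or.inr (Or.inr e1)
  rcases hdis hp hp1 with e1 | e1 | e1
  · exact Or.inl e1
  · exact Or.inr e1
  · rcases hdis hr hr1 with e2 | e2 | e2
    · exact Or.inl e2
    · exact Or.inr e2
    · rw [e1] at e2
      exact absurd (mul_right_cancel e2) (Ne.symm hrp)

end Spr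

end Cfsg.Agent.Omega.NO3S.TwoOne

end

section


/-!
# NO-3S, `q = 2`, `n = 1`: helper409's relation (N6) (text #18223)

`h : One T V z`, `L` another line on `z`, `q` a point of `L`; `D_x > I` : some `d ∈ D_y` (`y` a point of `V`) is not in `I`.
`S : Spr L L₂ z q₁ y₂ e₂ g₂` : the relations (3.2) of `DRel.lean` hold on the line `L`.
* `One.nsix` : `e ∈ E_y` moves `q`, `w ∈ W_q` ⟹ `e` commutes with `w y w⁻¹`;
* `One.nsix_of` : the same with `hF` instead of `S` (some `g ∈ C(D_p, p ∈ L#)`, e.g. `g ∈ F_L`, moves `y`, or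
  `[y, W_q] ≤ ⟨z⟩`);
* `One.nsix_ee` : (N6) `λ_L ∉ Ē_V ⟹ [λ_V, A_L] ≤ Ē_V`, from `hF` and (N1) in the form `hΦ` (for `a, b ∈ W_z - E_z` some
  `e ∈ E_y` moves both).
-/

set_option autoImplicit false
set_option linter.unusedSectionVars false

namespace Cfsg.Agent.Omega.NO3S.TwoOne

open Subgroup Cfsg Cfsg.Agent.ZN Cfsg.Agent.MinSimple.Geo Cfsg.Agent.Omega.CaseL
open Cfsg.Agent.ZN.Block (conj_mem_of_normalizer conj_mem_of_normalizer' le_normalizer_of_forall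
  mem_normalizer_of)

universe u

variable {G : Type u} [Group G]

namespace One

variable {T V L L₂ : Subgroup G} {z y q e w d q₁ y₂ e₂ g₂ : G}

/-- `d d^k ∈ I` for a mover `k ∈ K_z` and `d ∈ D_y` implies `d ∈ I` -/
theorem mem_ii_of_mover (h : One T V z) (hy : y ∈ V) (hy1 : y ≠ 1) (hyz : y ≠ z) {k : G} (hk : k ∈ kq V z)
    (hk1 : k ∉ centralizer (V : Set G)) (hd : d ∈ dd V y) (h1 : d * (k * d * k⁻¹) ∈ ii V) : d ∈ ii V := by
  have hz := h.ln.z_mem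
  have hz1 := h.ln.z_ne
  have hs : z * y ∈ V := mul_mem hz hy
  have hs1 : z * y ≠ 1 := h.mul_ne_one hy (Ne.symm hyz)
  have hsy : z * y ≠ y := fun e' => hz1 (by simpa using e')
  have h2 : k * d * k⁻¹ ∈ dd V (z * y) := by
    have := conj_mem_dd (h.kq_le_normalizer hz hz1 hk) hd
    rwa [h.move hz hz1 hy hy1 hyz hk hk1] at this
  have h3 := h.ii_le_dd hs hs1 h1
  have h4 : d ∈ dd V (z * y) := by
    have := mul_mem h3 (inv_mem h2)
    rwa [mul_inv_cancel_right] at this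
  exact h.dd_inf hy hy1 hs hs1 hsy hd h4

/-- an element of `D_y` centralises `W_z` -/
theorem dd_cent (h : One T V z) (hd : d ∈ dd V y) : d ∈ centralizer ((ws V z : Subgroup G) : Set G) := by
  rw [mem_centralizer_iff]
  intro b hb
  exact (hd.2 z h.ln.z_mem h.ln.z_ne b hb).symm

/-- `[D_y, W_q] ≤ D_q` for a point `q` of another line `L` on `z` -/
theorem comm_mem_dd (h : One T V z) (hL : L ∈ lines V z) (hq : q ∈ L) (hq1 : q ≠ 1) (hqz : q ≠ z)
    (hd : d ∈ dd V y) (hw : w ∈ ws V q) : d * w * d⁻¹ * w⁻¹ ∈ dd L q := by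
  have hz := h.ln.z_mem
  have hz1 := h.ln.z_ne
  obtain ⟨k, -, T', h'⟩ := h.of_line hL hz1
  have hLz : L ≤ ws V z := le_ws hL
  have hdW := h.dd_cent hd
  have hdL : d ∈ centralizer (L : Set G) := centralizer_le hLz hdW
  have hwL : w ∈ ws L q := by rw [ws_line hL]; exact hw
  have hwc : w ∈ centralizer ({z} : Set G) :=
    h'.cent_le_centralizer hL.2 (h'.ws_le_centralizer_V hq hq1 hwL)
  have h1 : d * w * d⁻¹ * w⁻¹ ∈ ws L q :=
    mul_mem (conj_mem_of_normalizer (h'.cent_norm hq) hdL hwL) (inv_mem hwL)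
  have h2 : d * w * d⁻¹ * w⁻¹ ∈ centralizer ((ws V z : Subgroup G) : Set G) := by
    have e1 : d * w * d⁻¹ * w⁻¹ = d * (w * d⁻¹ * w⁻¹) := by group
    rw [e1]
    refine mul_mem hdW (conj_mem_of_normalizer (L := centralizer ({z} : Set G)) ?_ hwc (inv_mem hdW))
    exact (centralizer_le_normalizer_ws V z).trans (normalizer_le_normalizer_centralizer _)
  refine h'.mem_dd hq hq1 hL.2 hz1 (Ne.symm hqz) h1 fun b hb => ?_
  rw [ws_line hL] at hb
  exact (mem_centralizer_iff.mp h2 b hb).symm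

/-- **(N6), one element.** -/
theorem nsix (h : One T V z) (hL : L ∈ lines V z) (hy : y ∈ V) (hy1 : y ≠ 1) (hyz : y ≠ z) (hq : q ∈ L)
    (hq1 : q ≠ 1) (hqz : q ≠ z) (S : Spr L L₂ z q₁ y₂ e₂ g₂) (hd : d ∈ dd V y)
    (hdI : d ∉ ii V) (he : e ∈ ee V y) (eq : e * q * e⁻¹ = z * q) (hw : w ∈ ws V q) :
    e * (w * y * w⁻¹) = w * y * w⁻¹ * e := by
  have hz := h.ln.z_mem
  have hz1 := h.ln.z_ne
  obtain ⟨k, -, T', h'⟩ := h.of_line hL hz1
  have hzL : z ∈ L := hL.2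
  have hLz : L ≤ ws V z := le_ws hL
  have hdW := h.dd_cent hd
  have hwL : w ∈ ws L q := by rw [ws_line hL]; exact hw
  have hwc : w ∈ centralizer ({z} : Set G) :=
    h'.cent_le_centralizer hzL (h'.ws_le_centralizer_V hq hq1 hwL)
  have hek : e ∈ kq V z := he.2 z hz hz1
  have hekL : e ∈ kq L z := by rw [kq_line hL]; exact hek
  have heL : e ∉ centralizer (L : Set G) := fun hc => by
    have h1 : e * q * e⁻¹ = q := conj_eq_of_comm (h'.V_comm hq hc).symm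
    rw [eq] at h1
    exact hz1 (by simpa using h1)
  have hde : d * e = e * d := h.comm hy hy1 d hd.1 e he.1
  -- `D' = [d, w] ∈ D_q`
  set D' := d * w * d⁻¹ * w⁻¹ with hD'
  have hDq : D' ∈ dd L q := h.comm_mem_dd hL hq hq1 hqz hd hw
  have hDD : D' * D' = 1 := h'.dd_sq hq hq1 hDq
  -- `X = [D', e] ∈ D_z^L`
  have hX0 : D' * (e * D' * e⁻¹) ∈ dd L z := S.mul_mem_dd h' hzL hz1 hq hq1 hqz hekL heL hDq
  -- `X` is in `W_y`
  have hXy : D' * (e * D' * e⁻¹) ∈ ws V y := by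
    have hDi : D'⁻¹ = D' := inv_eq_self hDD
    have hDV : D' ∈ centralizer (V : Set G) := by
      rw [mem_centralizer_iff]
      intro v hv
      have h1 := hDq.2 z hzL hz1 v (by rw [ws_line hL]; exact h.V_le hz hz1 hv)
      exact h1.symm
    have e1 : D' * (e * D' * e⁻¹) = (D' * e * D'⁻¹) * e⁻¹ := by rw [hDi]; group
    rw [e1]
    exact mul_mem (conj_mem_of_normalizer (h.cent_norm hy) hDV he.1) (inv_mem he.1)
  have hXz : D' * (e * D' * e⁻¹) ∈ ws V z := by rw [← ws_line hL]; exact hX0.1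
  have hXI : D' * (e * D' * e⁻¹) ∈ ii V := h.mem_ii hy hy1 hz hz1 (Ne.symm hyz) hXy hXz
  -- `g = w⁻¹ e w e⁻¹ ∈ K_z`, `[g, d] = X`
  set g := w⁻¹ * e * w * e⁻¹ with hg
  have hgk : g ∈ kq V z := by
    refine mul_mem ?_ (inv_mem hek)
    exact conj_mem_of_normalizer' (centralizer_le_normalizer_kq V z) hwc hek
  have hdd : d * d = 1 := h.dd_sq hy hy1 hd
  have hdi : d⁻¹ = d := inv_eq_self hdd
  have hgd : d * (g * d * g⁻¹) = D' * (e * D' * e⁻¹) := by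
    have hXw : D' * (e * D' * e⁻¹) * w = w * (D' * (e * D' * e⁻¹)) := hX0.2 q hq hq1 w hwL
    have e1 : e * D' * e⁻¹ = d * ((e * w * e⁻¹) * d⁻¹ * (e * w * e⁻¹)⁻¹) := by
      have e0 : e⁻¹ * d⁻¹ * e = d⁻¹ := by
        have h1 : d⁻¹ * e = e * d⁻¹ := inv_comm_of hde
        rw [mul_assoc, h1]; group
      calc e * D' * e⁻¹ = (e * d) * w * d⁻¹ * w⁻¹ * e⁻¹ := by rw [hD']; group
        _ = (d * e) * w * d⁻¹ * w⁻¹ * e⁻¹ := by rw [hde]
        _ = d * (e * w * d⁻¹ * w⁻¹ * e⁻¹) := by group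
        _ = d * (e * w * (e⁻¹ * d⁻¹ * e) * w⁻¹ * e⁻¹) := by rw [e0]
        _ = d * ((e * w * e⁻¹) * d⁻¹ * (e * w * e⁻¹)⁻¹) := by group
    have hDi : D' = w * d * w⁻¹ * d⁻¹ := by
      calc D' = D'⁻¹ := (inv_eq_self hDD).symm
        _ = w * d * w⁻¹ * d⁻¹ := by rw [hD']; group
    have e2 : D' * (e * D' * e⁻¹) = w * (d * (g * d⁻¹ * g⁻¹)) * w⁻¹ := by
      rw [e1]
      calc D' * (d * ((e * w * e⁻¹) * d⁻¹ * (e * w * e⁻¹)⁻¹))
          = (w * d * w⁻¹ * d⁻¹) * (d * ((e * w * e⁻¹) * d⁻¹ * (e * w * e⁻¹)⁻¹)) := by rw [← hDi]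
        _ = w * (d * (g * d⁻¹ * g⁻¹)) * w⁻¹ := by rw [hg]; group
    calc d * (g * d * g⁻¹) = d * (g * d⁻¹ * g⁻¹) := by rw [hdi]
      _ = w⁻¹ * (D' * (e * D' * e⁻¹)) * w := by rw [e2]; group
      _ = w⁻¹ * (D' * (e * D' * e⁻¹) * w) := by group
      _ = D' * (e * D' * e⁻¹) := by rw [hXw]; group
  have hgV : g ∈ centralizer (V : Set G) := by
    by_contra hc
    exact hdI (h.mem_ii_of_mover hy hy1 hyz hgk hc hd (by rw [hgd]; exact hXI))
  have hey : e * y = y * e := h.comm hy hy1 e he.1 y (h.V_le hy hy1 hy)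
  have hgy : y * g = g * y := mem_centralizer_iff.mp hgV y hy
  have hye : e⁻¹ * y = y * e⁻¹ := inv_comm_of hey
  calc e * (w * y * w⁻¹) = w * (w⁻¹ * e * w * y * e⁻¹) * e * w⁻¹ := by group
    _ = w * (w⁻¹ * e * w * (y * e⁻¹)) * e * w⁻¹ := by group
    _ = w * (w⁻¹ * e * w * (e⁻¹ * y)) * e * w⁻¹ := by rw [hye]
    _ = w * (g * y) * e * w⁻¹ := by rw [hg]; group
    _ = w * (y * g) * e * w⁻¹ := by rw [hgy]
    _ = w * y * w⁻¹ * e := by rw [hg]; group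

/-- (N6), one element; `F_L ∩ K_z` moves `y` or `[y, W_q] ≤ ⟨z⟩` -/
theorem nsix_of (h : One T V z) (hL : L ∈ lines V z) (hy : y ∈ V) (hy1 : y ≠ 1) (hyz : y ≠ z) (hq : q ∈ L)
    (hq1 : q ≠ 1) (hqz : q ≠ z)
    (hF : (∃ g, (∀ p ∈ L, p ≠ 1 → ∀ c ∈ dd L p, c * g = g * c) ∧ g * y * g⁻¹ = z * y) ∨
      ∀ w ∈ ws V q, w * y * w⁻¹ = y ∨ w * y * w⁻¹ = z * y)
    (hd : d ∈ dd V y) (hdI : d ∉ ii V) (he : e ∈ ee V y) (eq : e * q * e⁻¹ = z * q) (hw : w ∈ ws V q) :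
    e * (w * y * w⁻¹) = w * y * w⁻¹ * e := by
  have hz := h.ln.z_mem
  have hz1 := h.ln.z_ne
  have hey : e * y = y * e := h.comm hy hy1 e he.1 y (h.V_le hy hy1 hy)
  rcases hF with ⟨g, hg, gy⟩ | hF
  · obtain ⟨k, hk, -, -⟩ := h.of_line hL hz1
    have hVL : V ∈ lines L z := ⟨⟨k⁻¹, by rw [hk, cj_cj, inv_mul_cancel, cj_one]⟩, hz⟩
    have S : Spr L V z q y e g :=
      ⟨hVL, hq, hq1, hqz, hy, hy1, hyz, he, eq, hg, gy⟩
    exact h.nsix hL hy hy1 hyz hq hq1 hqz S hd hdI he eq hw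
  · rcases hF w hw with e1 | e1
    · rw [e1]; exact hey
    · rw [e1]
      have hez : e * z = z * e := h.comm hy hy1 e he.1 z (h.V_le hy hy1 hz)
      calc e * (z * y) = (e * z) * y := by group
        _ = (z * e) * y := by rw [hez]
        _ = z * (e * y) := by group
        _ = z * (y * e) := by rw [hey]
        _ = z * y * e := by group

/-- **(N6)** `D_x > I`, `λ_L ∉ Ē_V ⟹ [λ_V, A_L] ≤ Ē_V`.  `hΦ` is (N1) : `E_y` induces all functionals of `E_z^⊥` on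
`W_z`. -/
theorem nsix_ee (h : One T V z) (hL : L ∈ lines V z) (hy : y ∈ V) (hy1 : y ≠ 1) (hyz : y ≠ z) (hq : q ∈ L)
    (hq1 : q ≠ 1) (hqz : q ≠ z)
    (hΦ : ∀ a ∈ ws V z, a ∉ ee V z → ∀ b ∈ ws V z, b ∉ ee V z →
      ∃ e ∈ ee V y, e * a ≠ a * e ∧ e * b ≠ b * e)
    (hF : (∃ g, (∀ p ∈ L, p ≠ 1 → ∀ c ∈ dd L p, c * g = g * c) ∧ g * y * g⁻¹ = z * y) ∨
      ∀ w ∈ ws V q, w * y * w⁻¹ = y ∨ w * y * w⁻¹ = z * y)
    (hd : d ∈ dd V y) (hdI : d ∉ ii V) (hqE : q ∉ ee V z) (hw : w ∈ ws V q) :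
    w * y * w⁻¹ * y⁻¹ ∈ ee V z := by
  have hz := h.ln.z_mem
  have hz1 := h.ln.z_ne
  obtain ⟨k, -, T', h'⟩ := h.of_line hL hz1
  have hLz : L ≤ ws V z := le_ws hL
  have hwL : w ∈ ws L q := by rw [ws_line hL]; exact hw
  have hwc : w ∈ centralizer ({z} : Set G) :=
    h'.cent_le_centralizer hL.2 (h'.ws_le_centralizer_V hq hq1 hwL)
  have hyW : y ∈ ws V z := h.V_le hz hz1 hy
  have hbW : w * y * w⁻¹ * y⁻¹ ∈ ws V z :=
    mul_mem (conj_mem_of_normalizer (centralizer_le_normalizer_ws V z) hwc hyW) (inv_mem hyW)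
  by_contra hb
  obtain ⟨e, he, h1, h2⟩ := hΦ q (hLz hq) hqE _ hbW hb
  have eq : e * q * e⁻¹ = z * q := by
    rcases h.kq_cases hz (he.2 z hz hz1) (hLz hq) with e1 | e1
    · exact absurd (comm_of_conj_eq e1) h1
    · exact e1
  have h3 := h.nsix_of hL hy hy1 hyz hq hq1 hqz hF hd hdI he eq hw
  have hey : e * y⁻¹ = y⁻¹ * e := comm_inv_of (h.comm hy hy1 e he.1 y (h.V_le hy hy1 hy))
  exact h2 (comm_mul_of h3 hey)

end One

end Cfsg.Agent.Omega.NO3S.TwoOne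

end
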