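import Cfsg.Agent.Mrg.Omega.NO3S.TwoOne.Main
import Cfsg.Agent.Mrg.Omega.NO3S.TwoOne.Three
import Cfsg.Agent.Mrg.Omega.NO3S.Fit.Final


/-!
# NO-3S, `TwoOneFin`: the case list of `CompP` (assembler: helper391)

`FitP` is proved (helper568, `Fit.fitP`). `CompP K` is cut by `k = rk A` and the `λ`-transvections in `A`:

* `TvOneP K` : `k = 1`, `A = ⟨λ`-transvection`⟩` (helper311 #16747, TV);
* `NtOneP K` : `k = 1`, no `λ`-transvection (helper881 #18307, helper225 #17919, helper311 #17959);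
* `MixP K` : `k ≥ 2`, some `λ`-transvection in `A` ⟹ all of them (helper311 #18168 (2));
* `TvBigP K` : `k ≥ 2`, `A` consists of `λ`-transvections (TV2, helper46's `known_card`);
* `NtBigP K` : `k ≥ 2`, no `λ`-transvection (helper541, 409, 311, 881, 862);
* `compP : TvOneP K → NtOneP K → MixP K → TvBigP K → NtBigP K → CompP K`;
* `twoOneFin' : FOneP K → TvOneP K → NtOneP K → MixP K → TvBigP K → NtBigP K → TwoOneFin K`.
-/

set_option autoImplicit false

namespace Cfsg.Agent.Omega.NO3S.TwoOne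

open Subgroup Cfsg Cfsg.Agent.Omega.MinPar Cfsg.Agent.Omega.Frame Cfsg.Agent.Omega.FrameNOFF
open Cfsg.Agent.ZN (zl zc o2)
open Cfsg.Agent.MinSimple.Geo (ws kq)
open Cfsg.Agent.Classification.TitsFin (FinHyp)
open Cfsg.Agent.Omega.NO3S.Fit
open scoped commutatorElement

universe u

/-- `k = 1`: `|A| = 2` -/
def KOne {G : Type u} [Group G] (V : Subgroup G) : Prop :=
  ∀ p ∈ V, p ≠ 1 → (ee V p).relIndex (ws V p) = 2

/-- `A` consists of `λ`-transvections: `[W_p, W_q] ≤ V` -/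
def AllTv {G : Type u} [Group G] (V : Subgroup G) : Prop :=
  ∀ p ∈ V, p ≠ 1 → ∀ q ∈ V, q ≠ 1 → ∀ a ∈ ws V p, ∀ b ∈ ws V q, ⁅a, b⁆ ∈ V

/-- `A ≠ 1` has order 2 and contains a `λ`-transvection: `[W_p, W_q] ≤ V`. -/
theorem One.allTv_of_kOne {G : Type u} [Group G] [Finite G] {T V : Subgroup G} {z : G} (h : One T V z) (hk : KOne V)
    (hn : ¬ NT V) : AllTv V := by
  have key : ∃ p ∈ V, p ≠ 1 ∧ ws V p ≤ n0 V p := by
    by_contra hc
    apply hn
    intro p hp hp1
    by_contra hle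
    apply hc
    refine ⟨p, hp, hp1, ?_⟩
    have h1 := relIndex_mul_relIndex (ee V p) (n0 V p) (ws V p) (h.ee_le_n0 hp hp1) (fun w hw => hw.1)
    rw [hk p hp hp1] at h1
    have h2 : (ee V p).relIndex (n0 V p) ≠ 1 := fun e => hle (relIndex_eq_one.mp e)
    have h3 : (n0 V p).relIndex (ws V p) ≠ 0 := fun e => by rw [e, mul_zero] at h1; omega
    have h4 : (ee V p).relIndex (n0 V p) ≠ 0 := fun e => by rw [e, zero_mul] at h1; omega
    have h5 : (n0 V p).relIndex (ws V p) = 1 := by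
      have h6 : 2 ≤ (ee V p).relIndex (n0 V p) := by omega
      have h7 : 1 ≤ (n0 V p).relIndex (ws V p) := by omega
      nlinarith
    exact relIndex_eq_one.mp h5
  obtain ⟨p, hp, hp1, hle⟩ := key
  intro r hr hr1 q hq hq1 a ha b hb
  obtain ⟨g, hg, hgp⟩ := h.xl_trans hp hp1 hr hr1
  have hgn := h.xl_le_normalizer hg
  have h1 : g⁻¹ * a * g ∈ ws V p := by
    have := CaseL.conj_mem_ws g⁻¹ ha
    rw [inv_inv] at this
    have e : g⁻¹ * r * g = p := by rw [← hgp]; group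
    rwa [e] at this
  have h2 := conj_mem_n0 hgn (hle h1)
  have e1 : g * (g⁻¹ * a * g) * g⁻¹ = a := by group
  rw [e1] at h2
  exact h2.2.2 q hq hq1 b hb

/-- A case of `CompP`, given by a property `C` of the pair `(G, V_P)`. -/
def CompCase (K : Cls.{u}) (C : ∀ (G : Type u) [Group G], Subgroup G → Prop) : Prop :=
  ∀ (G : Type u) [Group G] [Finite G], K G → ∀ (S : Sylow 2 G) (P : Subgroup G), Hyp S P → ∀ z : G,
    One (S : Subgroup G) (zl (S : Subgroup G) P) z → C G (zl (S : Subgroup G) P) →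
    ∀ (M H : Type u) [AddCommGroup M] [Finite M] [Group H] [Finite H] [DistribMulAction H M] [FaithfulSMul H M]
      (R : MRep (zl (S : Subgroup G) P) cg z M H), CenFit R → IsKnownSimple' G

variable (K : Cls.{u})

/-- `k = 1`, transvections -/
def TvOneP : Prop := CompCase K fun _ _ V => KOne V ∧ AllTv V

/-- `k = 1`, no `λ`-transvection -/
def NtOneP : Prop := CompCase K fun _ _ V => KOne V ∧ NT V

/-- `k ≥ 2`, transvections -/
def TvBigP : Prop := CompCase K fun _ _ V => ¬ KOne V ∧ AllTv V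

/-- `k ≥ 2`, no `λ`-transvection -/
def NtBigP : Prop := CompCase K fun _ _ V => ¬ KOne V ∧ NT V

/-- `k ≥ 2`, the mixed case -/
def MixP : Prop := CompCase K fun _ _ V => ¬ KOne V ∧ ¬ NT V ∧ ¬ AllTv V

variable {K}

/-- **`CompP` from its cases.** -/
theorem compP (h1 : TvOneP K) (h2 : NtOneP K) (h3 : MixP K) (h4 : TvBigP K) (h5 : NtBigP K) : CompP K := by
  intro G _ _ hK S P h z ho M H _ _ _ _ _ _ R hc
  by_cases hk : KOne (zl (S : Subgroup G) P)
  · by_cases hn : NT (zl (S : Subgroup G) P)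
    · exact h2 G hK S P h z ho ⟨hk, hn⟩ M H R hc
    · exact h1 G hK S P h z ho ⟨hk, ho.allTv_of_kOne hk hn⟩ M H R hc
  · by_cases hn : NT (zl (S : Subgroup G) P)
    · exact h5 G hK S P h z ho ⟨hk, hn⟩ M H R hc
    · by_cases ha : AllTv (zl (S : Subgroup G) P)
      · exact h4 G hK S P h z ho ⟨hk, ha⟩ M H R hc
      · exact h3 G hK S P h z ho ⟨hk, hn, ha⟩ M H R hc

/-- **`TwoOneFin` with `FitP` plugged.** -/
theorem twoOneFin' (h0 : FOneP K) (h1 : TvOneP K) (h2 : NtOneP K) (h3 : MixP K) (h4 : TvBigP K) (h5 : NtBigP K) :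
    TwoOneFin K :=
  twoOneFin h0 (Fit.fitP K) (compP h1 h2 h3 h4 h5)

end Cfsg.Agent.Omega.NO3S.TwoOne
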