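import Cfsg.Agent.Mrg.Omega.NO3S.TwoOne.TIa
import Cfsg.Agent.Mrg.Omega.NO3S.TwoOne.PlaneKF
import Cfsg.Agent.Mrg.Omega.CaseL.Base

section


/-!
# NO-3S, `q = 2`, `n = 1`, no `λ`-transvections: the module `M = W_z / ⟨z⟩` at the line vector `v₀ = R.pi y`

`h : One T V z`, `R : MRep V cg z M H`, `y ∈ V`, `y ≠ 1, z`, `v₀ = R.pi y`.

* `a0 R V y` : the image `A` of `W_y` in `H`; `i0 R V` : the image of `ii V` in `M`;
* `al0 R V z y : M → H` : the identification `M / Ē = A` (`One.al0_eq` : `al0 (pi w) = phi b` for `Tw V z w y b`);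
* `One.loc_*` : the facts about `v₀`, `A`, `Ī`, `al0`, `Stab(v₀)`.
-/

set_option autoImplicit false
set_option linter.unusedSectionVars false

namespace Cfsg.Agent.Omega.NO3S.TwoOne

open Subgroup Cfsg Cfsg.Agent.ZN Cfsg.Agent.MinSimple.Geo Cfsg.Agent.Omega.CaseL
open Cfsg.Agent.Omega.NO3S.Fit
open Cfsg.Agent.ZN.Block (conj_mem_of_normalizer conj_mem_of_normalizer' le_normalizer_of_forall
  mem_normalizer_of)
open scoped commutatorElement

universe u

variable {G : Type u} [Group G]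

/-- the image `A` of `W_y` -/
def a0 {M H : Type u} [AddCommGroup M] [Group H] [DistribMulAction H M] {V : Subgroup G} {z : G}
    (R : MRep V cg z M H) (y : G) : Subgroup H := R.img (ws V y)

/-- the image of `ii V` -/
def i0 {M H : Type u} [AddCommGroup M] [Group H] [DistribMulAction H M] {V : Subgroup G} {z : G}
    (R : MRep V cg z M H) : AddSubgroup M := AddSubgroup.closure (R.pi '' (ii V : Set G))

open Classical in
/-- the identification `M / Ē = A` -/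
noncomputable def al0 {M H : Type u} [AddCommGroup M] [Group H] [DistribMulAction H M] {V : Subgroup G} {z : G}
    (R : MRep V cg z M H) (y : G) (m : M) : H :=
  if hm : ∃ b ∈ ws V y, ∃ w ∈ ws V z, R.pi w = m ∧ Tw V z w y b then R.phi hm.choose else 1

namespace One

variable {T V : Subgroup G} {z : G} {M H : Type u} [AddCommGroup M] [Group H] [DistribMulAction H M]
  (h : One T V z) (R : MRep V cg z M H)
include h

theorem rp_mul [Finite G] {a b : G} (ha : a ∈ ws V z) (hb : b ∈ ws V z) : R.pi (a * b) = R.pi a + R.pi b := by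
  have hw := h.ww_cg h.ln.z_mem h.ln.z_ne
  exact R.pi_mul a (by rw [hw]; exact ha) b (by rw [hw]; exact hb)

theorem rp_surj [Finite G] (m : M) : ∃ w ∈ ws V z, R.pi w = m := by
  have hw := h.ww_cg h.ln.z_mem h.ln.z_ne
  obtain ⟨w, hw', e⟩ := R.pi_surj m
  exact ⟨w, by rw [hw] at hw'; exact hw', e⟩

theorem rp_act [Finite G] {c w : G} (hc : c ∈ centralizer ({z} : Set G)) (hw : w ∈ ws V z) :
    R.phi c • R.pi w = R.pi (c * w * c⁻¹) := by
  have hw' := h.ww_cg h.ln.z_mem h.ln.z_ne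
  exact R.act c hc w (by rw [hw']; exact hw)

theorem rp_eq [Finite G] {a b : G} (ha : a ∈ ws V z) (hb : b ∈ ws V z) : R.pi a = R.pi b ↔ a = b ∨ a = z * b := by
  have hw := h.ww_cg h.ln.z_mem h.ln.z_ne
  exact R.pi_eq h.fam (by rw [hw]; exact ha) (by rw [hw]; exact hb)

theorem rp_zero [Finite G] {w : G} (hw : w ∈ ws V z) : R.pi w = 0 ↔ w = 1 ∨ w = z := by
  have hw' := h.ww_cg h.ln.z_mem h.ln.z_ne
  exact R.pi_ker w (by rw [hw']; exact hw)

theorem rp_phi [Finite G] {c d : G} (hc : c ∈ centralizer ({z} : Set G)) (hd : d ∈ centralizer ({z} : Set G)) :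
    R.phi c = R.phi d ↔ c * d⁻¹ ∈ kq V z := by
  rw [R.phi_eq hc hd, h.qq_cg]

include R in
theorem rp_two [Finite G] (m : M) : m + m = 0 := R.two h.fam m

include R in
theorem rp_neg [Finite G] (m : M) : -m = m := neg_eq_of_add_eq_zero_right (h.rp_two R m)

theorem rp_one [Finite G] : R.pi 1 = 0 := R.pi_one h.fam

theorem rp_inv [Finite G] {w : G} (hw : w ∈ ws V z) : R.pi w⁻¹ = R.pi w := by
  rw [inv_eq_self (h.sqz w hw)]

theorem cent_le_cg (c : G) (hc : c ∈ centralizer (V : Set G)) : c ∈ centralizer ({z} : Set G) :=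
  h.cent_le_centralizer h.ln.z_mem hc

/-- `[c, m] = pi [c, w]` -/
theorem rp_comm [Finite G] {c w : G} (hc : c ∈ centralizer ({z} : Set G)) (hw : w ∈ ws V z)
    (hcw : c * w * c⁻¹ ∈ ws V z) : R.phi c • R.pi w + R.pi w = R.pi (c * w * c⁻¹ * w⁻¹) := by
  rw [h.rp_act R hc hw, h.rp_mul R hcw (inv_mem hw), h.rp_inv R hw]

variable {y : G} (hy : y ∈ V) (hy1 : y ≠ 1) (hyz : y ≠ z)
include hy hy1

theorem ws_le_cz : ws V y ≤ centralizer ({z} : Set G) :=
  (h.ws_le_centralizer_V hy hy1).trans (h.cent_le_centralizer h.ln.z_mem)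

theorem mem_a0 {x : H} : x ∈ a0 R y ↔ ∃ b ∈ ws V y, R.phi b = x := R.mem_img (h.ws_le_cz hy hy1)

theorem mem_a0' {b : G} (hb : b ∈ ws V y) : R.phi b ∈ a0 R y := (h.mem_a0 R hy hy1).mpr ⟨b, hb, rfl⟩

omit hy hy1 in
theorem mem_i0 [Finite G] {m : M} : m ∈ i0 R ↔ ∃ u ∈ ii V, R.pi u = m := by
  have hz := h.ln.z_mem
  have hz1 := h.ln.z_ne
  constructor
  · intro hm
    refine AddSubgroup.closure_induction (p := fun m _ => ∃ u ∈ ii V, R.pi u = m) ?_ ?_ ?_ ?_ hm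
    · rintro m ⟨u, hu, rfl⟩
      exact ⟨u, hu, rfl⟩
    · exact ⟨1, one_mem _, h.rp_one R⟩
    · rintro a b - - ⟨u, hu, rfl⟩ ⟨v, hv, rfl⟩
      exact ⟨u * v, mul_mem hu hv, h.rp_mul R (ii_le hz hz1 hu) (ii_le hz hz1 hv)⟩
    · rintro a - ⟨u, hu, rfl⟩
      exact ⟨u, hu, (h.rp_neg R _).symm⟩
  · rintro ⟨u, hu, rfl⟩
    exact AddSubgroup.subset_closure ⟨u, hu, rfl⟩

include hyz

/-- `al0 (pi w) = phi b` if `w` and `b` are the same element of `N` -/
theorem al0_eq [Finite G] {w b : G} (hw : w ∈ ws V z) (hb : b ∈ ws V y) (ht : Tw V z w y b) :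
    al0 R y (R.pi w) = R.phi b := by
  have hz := h.ln.z_mem
  have hz1 := h.ln.z_ne
  have hm : ∃ b ∈ ws V y, ∃ w' ∈ ws V z, R.pi w' = R.pi w ∧ Tw V z w' y b := ⟨b, hb, w, hw, rfl, ht⟩
  unfold al0
  rw [dif_pos hm]
  obtain ⟨hb', w', hw', e, ht'⟩ := hm.choose_spec
  set b' := hm.choose with hb'd
  have h1 : w * w'⁻¹ ∈ ee V z := by
    rcases (h.rp_eq R hw' hw).mp e with e1 | e1
    · rw [e1, mul_inv_cancel]; exact one_mem _
    · rw [e1, mul_inv_rev, mul_inv_cancel_left]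
      exact h.V_le_ee hz hz1 (inv_mem hz)
  have h2 : Tw V z w z w' := (h.tw_self hz hz1 hw).mpr h1
  have h3 : Tw V y b y b' := h.tw_trans (h.tw_symm ht) (h.tw_trans h2 ht')
  have h4 := (h.tw_self hy hy1 hb).mp h3
  have h5 := h4.2 z hz hz1
  exact ((h.rp_phi R (h.ws_le_cz hy hy1 hb) (h.ws_le_cz hy hy1 hb')).mpr h5).symm

theorem exists_al0 [Finite G] (m : M) : ∃ w ∈ ws V z, ∃ b ∈ ws V y, R.pi w = m ∧ Tw V z w y b ∧ al0 R y m = R.phi b := by
  obtain ⟨w, hw, rfl⟩ := h.rp_surj R m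
  obtain ⟨b, hb, ht⟩ := h.tw_exists h.ln.z_mem h.ln.z_ne hy hy1 hw
  exact ⟨w, hw, b, hb, rfl, ht, h.al0_eq R hy hy1 hyz hw hb ht⟩

theorem loc_al_mem [Finite G] (m : M) : al0 R y m ∈ a0 R y := by
  obtain ⟨w, hw, b, hb, -, -, e⟩ := h.exists_al0 R hy hy1 hyz m
  rw [e]; exact h.mem_a0' R hy hy1 hb

theorem loc_al_add [Finite G] (m m' : M) : al0 R y (m + m') = al0 R y m * al0 R y m' := by
  obtain ⟨w, hw, b, hb, rfl, ht, e⟩ := h.exists_al0 R hy hy1 hyz m
  obtain ⟨w', hw', b', hb', rfl, ht', e'⟩ := h.exists_al0 R hy hy1 hyz m'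
  rw [e, e', ← h.rp_mul R hw hw', h.al0_eq R hy hy1 hyz (mul_mem hw hw') (mul_mem hb hb')
    (h.tw_mul h.ln.z_mem h.ln.z_ne hy hy1 hw hw' ht ht'),
    R.phi_mul b (h.ws_le_cz hy hy1 hb) b' (h.ws_le_cz hy hy1 hb')]

theorem loc_al_surj [Finite G] {a : H} (ha : a ∈ a0 R y) : ∃ m, al0 R y m = a := by
  obtain ⟨b, hb, rfl⟩ := (h.mem_a0 R hy hy1).mp ha
  obtain ⟨w, hw, ht⟩ := h.tw_exists hy hy1 h.ln.z_mem h.ln.z_ne hb
  exact ⟨R.pi w, h.al0_eq R hy hy1 hyz hw hb (h.tw_symm ht)⟩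

/-- `al0 (pi w) = 1` iff `w ∈ E_z` -/
theorem al0_one [Finite G] {w : G} (hw : w ∈ ws V z) : al0 R y (R.pi w) = 1 ↔ w ∈ ee V z := by
  have hz := h.ln.z_mem
  have hz1 := h.ln.z_ne
  obtain ⟨b, hb, ht⟩ := h.tw_exists hz hz1 hy hy1 hw
  rw [h.al0_eq R hy hy1 hyz hw hb ht, h.phi_eq_one R (h.ws_le_cz hy hy1 hb)]
  constructor
  · intro hk
    have h1 : b ∈ ee V y := h.mem_ee hy hy1 hz hz1 (Ne.symm hyz) hb hk
    have h2 : Tw V y b z 1 := (h.tw_one hy hy1 hz hz1 hb).mpr h1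
    have h3 := h.tw_trans ht h2
    have := (h.tw_self hz hz1 hw).mp h3
    rwa [inv_one, mul_one] at this
  · intro hE
    have h1 : Tw V z w y 1 := (h.tw_one hz hz1 hy hy1 hw).mpr hE
    have h2 := h.tw_trans (h.tw_symm ht) h1
    have h3 := (h.tw_self hy hy1 hb).mp h2
    rw [inv_one, mul_one] at h3
    exact h3.2 z hz hz1

/-- the conjugates of elements of `A` under the stabiliser of `v₀` -/
theorem loc_A_conj [Finite G] {x a : H} (hx : x • R.pi y = R.pi y) (ha : a ∈ a0 R y) : x * a * x⁻¹ ∈ a0 R y := by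
  obtain ⟨d, hd, rfl⟩ := R.stab h.fam hy hy1 hyz hx
  obtain ⟨b, hb, rfl⟩ := (h.mem_a0 R hy hy1).mp ha
  have hdc := h.cent_le_cg d hd
  have hbc := h.ws_le_cz hy hy1 hb
  have e : R.phi d * R.phi b * (R.phi d)⁻¹ = R.phi (d * b * d⁻¹) := by
    rw [R.phi_mul _ (mul_mem hdc hbc) _ (inv_mem hdc), R.phi_mul d hdc b hbc, R.phi_inv hdc]
  rw [e]
  exact h.mem_a0' R hy hy1 (conj_mem_of_normalizer (h.cent_norm hy) hd hb)

theorem loc_I_conj [Finite G] {x : H} {u : M} (hx : x • R.pi y = R.pi y) (hu : u ∈ i0 R) : x • u ∈ i0 R := by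
  obtain ⟨d, hd, rfl⟩ := R.stab h.fam hy hy1 hyz hx
  obtain ⟨v, hv, rfl⟩ := (h.mem_i0 R).mp hu
  rw [h.rp_act R (h.cent_le_cg d hd) (ii_le h.ln.z_mem h.ln.z_ne hv)]
  exact (h.mem_i0 R).mpr ⟨_, conj_mem_of_normalizer (normalizer_le_normalizer_ii V)
    (centralizer_le_normalizer _ hd) hv, rfl⟩

theorem loc_al_conj [Finite G] {x : H} (hx : x • R.pi y = R.pi y) (m : M) :
    al0 R y (x • m) = x * al0 R y m * x⁻¹ := by
  obtain ⟨d, hd, rfl⟩ := R.stab h.fam hy hy1 hyz hx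
  obtain ⟨w, hw, b, hb, rfl, ht, e⟩ := h.exists_al0 R hy hy1 hyz m
  have hdc := h.cent_le_cg d hd
  have hbc := h.ws_le_cz hy hy1 hb
  have hdw : d * w * d⁻¹ ∈ ws V z := conj_mem_of_normalizer (h.cent_norm h.ln.z_mem) hd hw
  have hdb : d * b * d⁻¹ ∈ ws V y := conj_mem_of_normalizer (h.cent_norm hy) hd hb
  rw [e, h.rp_act R hdc hw, h.al0_eq R hy hy1 hyz hdw hdb (h.tw_cent h.ln.z_mem hy hd ht),
    R.phi_mul _ (mul_mem hdc hbc) _ (inv_mem hdc), R.phi_mul d hdc b hbc, R.phi_inv hdc]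

theorem loc_sq [Finite G] {a : H} (ha : a ∈ a0 R y) : a * a = 1 := by
  obtain ⟨b, hb, rfl⟩ := (h.mem_a0 R hy hy1).mp ha
  have hbc := h.ws_le_cz hy hy1 hb
  rw [← R.phi_mul b hbc b hbc, h.sq hy hy1 b hb, R.phi_one']

theorem loc_comm_A [Finite G] {a b : H} (ha : a ∈ a0 R y) (hb : b ∈ a0 R y) : a * b = b * a := by
  obtain ⟨c, hc, rfl⟩ := (h.mem_a0 R hy hy1).mp ha
  obtain ⟨d, hd, rfl⟩ := (h.mem_a0 R hy hy1).mp hb
  have hcc := h.ws_le_cz hy hy1 hc
  have hdc := h.ws_le_cz hy hy1 hd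
  rw [← R.phi_mul c hcc d hdc, h.comm hy hy1 c hc d hd, R.phi_mul d hdc c hcc]

/-- `|A| = |W_z : E_z|` -/
theorem loc_card [Finite G] : Nat.card (a0 R y) = (ee V z).relIndex (ws V z) := by
  have hz := h.ln.z_mem
  have hz1 := h.ln.z_ne
  rw [h.relIndex_ee_ws hz hz1 hy hy1]
  -- the map `W_y → A`
  have hle := h.ws_le_cz hy hy1
  let f : ws V y →* H := (R.hom).comp (Subgroup.inclusion hle)
  have hr : f.range = a0 R y := by
    ext x
    rw [h.mem_a0 R hy hy1, MonoidHom.mem_range]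
    constructor
    · rintro ⟨b, rfl⟩
      exact ⟨b, b.2, rfl⟩
    · rintro ⟨b, hb, rfl⟩
      exact ⟨⟨b, hb⟩, rfl⟩
  have hk : f.ker = (ee V y).subgroupOf (ws V y) := by
    ext b
    rw [MonoidHom.mem_ker, mem_subgroupOf]
    change R.phi b = 1 ↔ _
    rw [h.phi_eq_one R (hle b.2)]
    exact ⟨fun e => h.mem_ee hy hy1 hz hz1 (Ne.symm hyz) b.2 e, fun e => e.2 z hz hz1⟩
  rw [← hr, ← Subgroup.index_ker f, hk]
  rfl

omit hyz in
theorem loc_self [Finite G] : R.pi y ∈ i0 R := (h.mem_i0 R).mpr ⟨y, h.V_le_ii hy, rfl⟩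

theorem loc_comm [Finite G] {a : H} (ha : a ∈ a0 R y) (m : M) : a • m + m ∈ i0 R := by
  obtain ⟨b, hb, rfl⟩ := (h.mem_a0 R hy hy1).mp ha
  obtain ⟨w, hw, rfl⟩ := h.rp_surj R m
  have hz := h.ln.z_mem
  have hz1 := h.ln.z_ne
  have h1 := h.comm_ii_mem hy hy1 hz hz1 hb hw
  rw [commutatorElement_def] at h1
  have h2 : b * w * b⁻¹ ∈ ws V z :=
    conj_mem_of_normalizer (h.cent_norm hz) (h.ws_le_centralizer_V hy hy1 hb) hw
  rw [h.rp_comm R (h.ws_le_cz hy hy1 hb) hw h2]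
  exact (h.mem_i0 R).mpr ⟨_, h1, rfl⟩

theorem loc_fix [Finite G] {a : H} {u : M} (ha : a ∈ a0 R y) (hu : u ∈ i0 R) : a • u = u := by
  obtain ⟨b, hb, rfl⟩ := (h.mem_a0 R hy hy1).mp ha
  obtain ⟨v, hv, rfl⟩ := (h.mem_i0 R).mp hu
  rw [h.rp_act R (h.ws_le_cz hy hy1 hb) (ii_le h.ln.z_mem h.ln.z_ne hv),
    conj_eq_of_comm (h.comm hy hy1 b hb v (ii_le hy hy1 hv))]

/-- no plane: `λ` is the only line vector in `Ī` -/
theorem loc_LI [Finite G] (hP : NP V z) {x : H} (hx : x • R.pi y ∈ i0 R) : x • R.pi y = R.pi y := by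
  have hz := h.ln.z_mem
  have hz1 := h.ln.z_ne
  obtain ⟨f, hf, rfl⟩ := R.phi_surj x
  obtain ⟨u, hu, e⟩ := (h.mem_i0 R).mp hx
  have hfz : f * z * f⁻¹ = z := conj_eq_of_comm (mem_centralizer_singleton_iff.mp hf)
  have hyW := h.V_le hz hz1 hy
  have hL : cj f V ∈ lines V z := by
    have := mem_lines_cj (g := f) (L := V) (V := V) (x := z) ⟨⟨1, (cj_one V).symm⟩, hz⟩
    rwa [hfz] at this
  have hfy : f * y * f⁻¹ ∈ ws V z := by
    have := conj_mem_ws f hyW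
    rwa [hfz] at this
  have h1 : f * y * f⁻¹ ∈ ii V := by
    rw [h.rp_act R hf hyW] at e
    rcases (h.rp_eq R (ii_le hz hz1 hu) hfy).mp e with e1 | e1
    · rw [← e1]; exact hu
    · have h2 := mul_mem (inv_mem (h.V_le_ii hz)) hu
      rwa [e1, inv_mul_cancel_left] at h2
  have hfy1 : f * y * f⁻¹ ≠ 1 := fun e => hy1 (conj_eq_one_iff.mp e)
  have hfyz : f * y * f⁻¹ ≠ z := fun e => hyz (by
    calc y = f⁻¹ * (f * y * f⁻¹) * f := by group
      _ = f⁻¹ * (f * z * f⁻¹) * f := by rw [e, hfz]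
      _ = z := by group)
  have h2 := hP _ hL (h.line_le_ii hL (conj_mem_cj hy) hfy1 hfyz h1)
  rw [R.smul_v0_iff h.fam hy hy1 hyz hf, mem_normalizer_iff_cj, h2]

/-- `Ē = {m | [m, A] ≤ λ}` -/
theorem loc_al_ker [Finite G] (hN : NT V) (m : M) :
    al0 R y m = 1 ↔ ∀ a ∈ a0 R y, a • m = m ∨ a • m = m + R.pi y := by
  have hz := h.ln.z_mem
  have hz1 := h.ln.z_ne
  obtain ⟨w, hw, rfl⟩ := h.rp_surj R m
  have hyW := h.V_le hz hz1 hy
  rw [h.al0_one R hy hy1 hyz hw, h.nt_mem_ee hN hz hz1 hy hy1 hyz]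
  constructor
  · rintro ⟨-, hc⟩ a ha
    obtain ⟨b, hb, rfl⟩ := (h.mem_a0 R hy hy1).mp ha
    have h1 := hc b hb
    have h2 : ⁅b, w⁆ ∈ V := by rw [h.comm_swap hz hz1 hy hy1 hw hb]; exact h1
    have hbw : b * w * b⁻¹ = ⁅b, w⁆ * w := by rw [commutatorElement_def]; group
    rw [h.rp_act R (h.ws_le_cz hy hy1 hb) hw, hbw, h.rp_mul R (h.V_le hz hz1 h2) hw]
    by_cases h3 : ⁅b, w⁆ = 1
    · left; rw [h3, h.rp_one R, zero_add]
    · rcases h.third hz hz1 hy hy1 hyz h2 h3 with e | e | e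
      · left; rw [e, (h.rp_zero R (h.V_le hz hz1 hz)).mpr (Or.inr rfl), zero_add]
      · right; rw [e, add_comm]
      · right
        rw [e, h.rp_mul R (h.V_le hz hz1 hz) hyW, (h.rp_zero R (h.V_le hz hz1 hz)).mpr (Or.inr rfl), zero_add,
          add_comm]
  · intro hc
    refine ⟨hw, fun b hb => ?_⟩
    have h1 := hc _ (h.mem_a0' R hy hy1 hb)
    have hbw : b * w * b⁻¹ ∈ ws V z :=
      conj_mem_of_normalizer (h.cent_norm hz) (h.ws_le_centralizer_V hy hy1 hb) hw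
    rw [h.rp_act R (h.ws_le_cz hy hy1 hb) hw] at h1
    have hc' : ⁅b, w⁆ = b * w * b⁻¹ * w⁻¹ := rfl
    rw [← h.comm_swap hz hz1 hy hy1 hw hb, hc']
    rcases h1 with e | e
    · rcases (h.rp_eq R hbw hw).mp e with e1 | e1
      · rw [e1, mul_inv_cancel]; exact one_mem _
      · rw [e1, mul_inv_cancel_right]; exact hz
    · rw [← h.rp_mul R hw hyW] at e
      rcases (h.rp_eq R hbw (mul_mem hw hyW)).mp e with e1 | e1
      · rw [e1, h.ab w hw y hyW, mul_inv_cancel_right]; exact hy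
      · rw [e1, h.ab w hw y hyW]
        have e2 : z * (y * w) * w⁻¹ = z * y := by group
        rw [e2]; exact mul_mem hz hy

/-- `β` is symmetric -/
theorem loc_sy [Finite G] (m m' : M) :
    al0 R y m' • m + m + (al0 R y m • m' + m') = 0 ∨ al0 R y m' • m + m + (al0 R y m • m' + m') = R.pi y := by
  have hz := h.ln.z_mem
  have hz1 := h.ln.z_ne
  obtain ⟨w, hw, b, hb, rfl, ht, e⟩ := h.exists_al0 R hy hy1 hyz m
  obtain ⟨w', hw', b', hb', rfl, ht', e'⟩ := h.exists_al0 R hy hy1 hyz m'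
  have hyW := h.V_le hz hz1 hy
  have hn : ∀ {b w : G}, b ∈ ws V y → w ∈ ws V z → b * w * b⁻¹ ∈ ws V z := fun {b w} hb hw =>
    conj_mem_of_normalizer (h.cent_norm hz) (h.ws_le_centralizer_V hy hy1 hb) hw
  rw [e, e', h.rp_comm R (h.ws_le_cz hy hy1 hb') hw (hn hb' hw), h.rp_comm R (h.ws_le_cz hy hy1 hb) hw' (hn hb hw'),
    ← h.rp_mul R (mul_mem (hn hb' hw) (inv_mem hw)) (mul_mem (hn hb hw') (inv_mem hw'))]
  -- `β` symmetric
  have h1 := h.beta_symm hz hz1 hy hy1 hyz hw hb' hb hw' ht (h.tw_symm ht')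
  have h2 : ⁅b', w⁆ * ⁅b, w'⁆ ∈ V := by
    have e1 : ⁅b, w'⁆ = ⁅w', b⁆ := h.comm_swap hz hz1 hy hy1 hw' hb
    have e2 : ⁅b', w⁆ = ⁅w, b'⁆ := h.comm_swap hz hz1 hy hy1 hw hb'
    have e3 : ⁅w', b⁆⁻¹ = ⁅w', b⁆ := inv_eq_self (h.comm_sq hz hz1 hy hy1 hw' hb)
    rw [e3] at h1
    rw [e1, e2]; exact h1
  have e4 : b' * w * b'⁻¹ * w⁻¹ * (b * w' * b⁻¹ * w'⁻¹) = ⁅b', w⁆ * ⁅b, w'⁆ := rfl
  rw [e4]
  by_cases h3 : ⁅b', w⁆ * ⁅b, w'⁆ = 1
  · left; rw [h3, h.rp_one R]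
  · rcases h.third hz hz1 hy hy1 hyz h2 h3 with e | e | e
    · left; rw [e, (h.rp_zero R (h.V_le hz hz1 hz)).mpr (Or.inr rfl)]
    · right; rw [e]
    · right
      rw [e, h.rp_mul R (h.V_le hz hz1 hz) hyW, (h.rp_zero R (h.V_le hz hz1 hz)).mpr (Or.inr rfl), zero_add]

/-- `Φ^⊥ = 0` -/
theorem loc_phi [Finite G] (hN : NT V) {a : H} (ha : a ∈ a0 R y) (ha1 : a ≠ 1) :
    ∃ e : M, al0 R y e = 1 ∧ a • e = e + R.pi y := by
  have hz := h.ln.z_mem
  have hz1 := h.ln.z_ne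
  obtain ⟨b, hb, rfl⟩ := (h.mem_a0 R hy hy1).mp ha
  have hbE : b ∉ ee V y := fun hE => ha1 ((h.phi_eq_one R (h.ws_le_cz hy hy1 hb)).mpr (hE.2 z hz hz1))
  obtain ⟨e, he, heb⟩ := h.nt_move_ee hN hz hz1 hy hy1 hyz hb hbE
  refine ⟨R.pi e, (h.al0_one R hy hy1 hyz he.1).mpr he, ?_⟩
  -- `b e b⁻¹ = y e`
  have hyb : y * b = b * y := h.V_comm hy (h.ws_le_centralizer_V hy hy1 hb)
  have h1 : b * e * b⁻¹ = e * y := by
    have hyy := h.ln.sq y hy
    have h2 : e * b = y * b * e := by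
      calc e * b = (e * b * e⁻¹) * e := by group
        _ = y * b * e := by rw [heb]
    have h3 : b * e = y * (e * b) := by
      rw [h2, ← mul_assoc, ← mul_assoc, hyy, one_mul]
    have hye : y * e = e * y := h.V_comm hy (h.ws_le_centralizer_V hz hz1 he.1)
    calc b * e * b⁻¹ = y * (e * b) * b⁻¹ := by rw [h3]
      _ = y * e := by group
      _ = e * y := hye
  rw [h.rp_act R (h.ws_le_cz hy hy1 hb) he.1, h1, h.rp_mul R he.1 (h.V_le hz hz1 hy)]

/-- (FU): `K̃` induces all functionals of `Ī / λ` and centralises `M / Ē` and `Ē / D̄` -/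
theorem loc_Kt [Finite G] {u : M} (hu : u ∈ i0 R) (hu0 : u ≠ 0) (huy : u ≠ R.pi y) :
    ∃ c : H, c • R.pi y = R.pi y ∧ c • u = u + R.pi y ∧ (∀ a ∈ a0 R y, c * a = a * c) ∧
      (∀ m, al0 R y (c • m) = al0 R y m) ∧
      ∀ e, al0 R y e = 1 → ∀ a ∈ a0 R y, a • (c • e + e) = c • e + e := by
  have hz := h.ln.z_mem
  have hz1 := h.ln.z_ne
  have hyW := h.V_le hz hz1 hy
  obtain ⟨v, hv, rfl⟩ := (h.mem_i0 R).mp hu
  have hvV : v ∉ V := by
    intro hvV
    have hv1 : v ≠ 1 := fun e => hu0 (by rw [e, h.rp_one R])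
    rcases h.third hz hz1 hy hy1 hyz hvV hv1 with e | e | e
    · exact hu0 (by rw [e]; exact (h.rp_zero R (h.V_le hz hz1 hz)).mpr (Or.inr rfl))
    · exact huy (by rw [e])
    · exact huy (by
        rw [e, h.rp_mul R (h.V_le hz hz1 hz) hyW, (h.rp_zero R (h.V_le hz hz1 hz)).mpr (Or.inr rfl), zero_add])
  obtain ⟨k, hk, hkV, hkv⟩ := h.fu hv hvV hy hy1
  have hkc := h.cent_le_cg k hkV
  -- `c` commutes with `A`
  have hcA : ∀ a ∈ a0 R y, R.phi k * a = a * R.phi k := by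
    intro a ha
    obtain ⟨b, hb, rfl⟩ := (h.mem_a0 R hy hy1).mp ha
    have hbc := h.ws_le_cz hy hy1 hb
    rw [← R.phi_mul k hkc b hbc, ← R.phi_mul b hbc k hkc]
    rcases h.kq_cases hy hk hb with e | e
    · rw [comm_of_conj_eq e]
    · have e1 : k * b = y * (b * k) := by
        calc k * b = (k * b * k⁻¹) * k := by group
          _ = y * (b * k) := by rw [e]; group
      have hyc : y ∈ centralizer ({z} : Set G) := h.ws_le_cz hy hy1 (h.V_le hy hy1 hy)
      rw [e1, R.phi_mul y hyc _ (mul_mem hbc hkc), (h.phi_eq_one R hyc).mpr (h.V_le_kq hz hz1 hy), one_mul]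
  have hcy : R.phi k • R.pi y = R.pi y := by
    rw [h.rp_act R hkc hyW, conj_eq_of_comm (h.V_comm hy hkV).symm]
  refine ⟨R.phi k, hcy, ?_, hcA, ?_, ?_⟩
  · rw [h.rp_act R hkc (ii_le hz hz1 hv), hkv, h.rp_mul R hyW (ii_le hz hz1 hv), add_comm]
  · intro m
    rw [h.loc_al_conj R hy hy1 hyz hcy, hcA _ (h.loc_al_mem R hy hy1 hyz m), mul_inv_cancel_right]
  · intro e he a ha
    obtain ⟨w, hw, rfl⟩ := h.rp_surj R e
    have hwE := (h.al0_one R hy hy1 hyz hw).mp he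
    obtain ⟨b, hb, rfl⟩ := (h.mem_a0 R hy hy1).mp ha
    have hbc := h.ws_le_cz hy hy1 hb
    -- `a e = e` or `e + v₀`
    have h1 : R.phi b • R.pi w = R.pi w ∨ R.phi b • R.pi w = R.pi w + R.pi y := by
      have h2 := h.ee_cases hy hy1 hwE hb
      rw [← h.comm_swap hz hz1 hy hy1 hw hb] at h2
      have hbw : b * w * b⁻¹ = ⁅b, w⁆ * w := by rw [commutatorElement_def]; group
      rw [h.rp_act R hbc hw, hbw]
      rcases h2 with e1 | e1
      · left; rw [e1, one_mul]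
      · right; rw [e1, h.rp_mul R hyW hw, add_comm]
    have h3 : R.phi b • (R.phi k • R.pi w) = R.phi k • (R.phi b • R.pi w) := by
      rw [← mul_smul, ← mul_smul, hcA _ ha]
    rw [smul_add, h3]
    rcases h1 with e1 | e1
    · rw [e1]
    · rw [e1, smul_add, hcy]
      have h4 := h.rp_two R (R.pi y)
      calc R.phi k • R.pi w + R.pi y + (R.pi w + R.pi y) = R.phi k • R.pi w + R.pi w + (R.pi y + R.pi y) := by abel
        _ = R.phi k • R.pi w + R.pi w := by rw [h4, add_zero]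

/-- `C_M(A) = D̄` -/
theorem loc_D [Finite G] (hN : NT V) {w : G} (hw : w ∈ ws V z) :
    (∀ a ∈ a0 R y, a • R.pi w = R.pi w) ↔ w ∈ dd V z := by
  have hz := h.ln.z_mem
  have hz1 := h.ln.z_ne
  rw [h.nt_mem_dd hN hz hz1 hy hy1 hyz]
  constructor
  · intro hc
    refine ⟨hw, fun b hb => ?_⟩
    have h1 := hc _ (h.mem_a0' R hy hy1 hb)
    have hbw : b * w * b⁻¹ ∈ ws V z :=
      conj_mem_of_normalizer (h.cent_norm hz) (h.ws_le_centralizer_V hy hy1 hb) hw
    rw [h.rp_act R (h.ws_le_cz hy hy1 hb) hw] at h1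
    have hc' : ⁅b, w⁆ = b * w * b⁻¹ * w⁻¹ := rfl
    rw [← h.comm_swap hz hz1 hy hy1 hw hb, hc']
    rcases (h.rp_eq R hbw hw).mp h1 with e1 | e1
    · rw [e1, mul_inv_cancel]; exact one_mem _
    · rw [e1, mul_inv_cancel_right]; exact mem_zpowers _
  · rintro ⟨-, hc⟩ a ha
    obtain ⟨b, hb, rfl⟩ := (h.mem_a0 R hy hy1).mp ha
    have h1 := hc b hb
    rw [← h.comm_swap hz hz1 hy hy1 hw hb] at h1
    have hbw : b * w * b⁻¹ = ⁅b, w⁆ * w := by rw [commutatorElement_def]; group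
    rw [h.rp_act R (h.ws_le_cz hy hy1 hb) hw, hbw]
    rcases h.zpowers_le hz h1 with e1 | e1
    · rw [e1, one_mul]
    · rw [e1, h.rp_mul R (h.V_le hz hz1 hz) hw, (h.rp_zero R (h.V_le hz hz1 hz)).mpr (Or.inr rfl), zero_add]

/-- **(TI)** at `v₀` -/
theorem loc_TI [Finite G] (hN : NT V) (hP : NP V z) {x a : H} (ha : a ∈ a0 R y) (ha1 : a ≠ 1)
    (hxa : x⁻¹ * a * x ∈ a0 R y) : x • R.pi y = R.pi y := by
  have hz := h.ln.z_mem
  have hz1 := h.ln.z_ne
  obtain ⟨f, hf, rfl⟩ := R.phi_surj x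
  obtain ⟨b, hb, rfl⟩ := (h.mem_a0 R hy hy1).mp ha
  obtain ⟨b', hb', e⟩ := (h.mem_a0 R hy hy1).mp hxa
  have hbc := h.ws_le_cz hy hy1 hb
  have hbc' := h.ws_le_cz hy hy1 hb'
  have hfz : f * z * f⁻¹ = z := conj_eq_of_comm (mem_centralizer_singleton_iff.mp hf)
  have hL : cj f V ∈ lines V z := by
    have := mem_lines_cj (g := f) (L := V) (V := V) (x := z) ⟨⟨1, (cj_one V).symm⟩, hz⟩
    rwa [hfz] at this
  have h1 : cj f V = V := by
    refine h.nt_ti hN hP hL hy hy1 (conj_mem_cj hy) (fun e => hy1 (conj_eq_one_iff.mp e)) (fun e => hyz ?_) hb ?_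
      (conj_mem_ws f hb') ?_
    · calc y = f⁻¹ * (f * y * f⁻¹) * f := by group
        _ = f⁻¹ * (f * z * f⁻¹) * f := by rw [e, hfz]
        _ = z := by group
    · intro hk
      exact ha1 ((h.phi_eq_one R hbc).mpr hk)
    · rw [← h.rp_phi R hbc (mul_mem (mul_mem hf hbc') (inv_mem hf)), R.phi_mul _ (mul_mem hf hbc') _ (inv_mem hf),
        R.phi_mul f hf b' hbc', R.phi_inv hf, e]
      group
  rw [R.smul_v0_iff h.fam hy hy1 hyz hf, mem_normalizer_iff_cj, h1]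

end One

end Cfsg.Agent.Omega.NO3S.TwoOne

end

section


/-!
# NO-3S, `q = 2`, `n = 1`: `C_G(W_x)` is a 2-group (helper881's text #17145, section 1)

For a family `h : Fam T V z cf` (so `x = z`, `G_x = cf z`, `K_x = qq V cf z`, `B_x = kk V cf z = C_G(W_x)`):
* `lx V cf z = ⟨W_p^c : p ∈ V#, c ∈ cf z⟩` (`L_x`, together with `W_x`);
* hypothesis (P) `hP : cf z ≤ lx V cf z ⊔ (N_G(V) ⊓ cf z)`;
* hypothesis (0.1) `he : e ∈ lx V cf z ⊓ qq V cf z`, `e ∉ C_G(V)`, `e * e = 1`;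
* `Fam.kk_comm_lx` (1.1) : `[B_x, L_x] ≤ O₂(B_x)`;
* `Fam.kk_inf_two` (1.2) : `B_p ⊓ B_q` is a 2-group for all points `p ≠ q` of `V`;
* `Fam.kk_two` (1.3) : `B_p` is a 2-group for every point `p` of `V`;
* `Fam.qq_two` : `K_p` is a 2-group;
* `Fam.qq_cent_le` : `[K_p, C_G(V)] ≤ O₂(C_G(V))`.
-/

set_option autoImplicit false
set_option linter.unusedSectionVars false

namespace Cfsg.Agent.Omega.NO3S.Fit

open Subgroup Cfsg Cfsg.Agent.ZN Cfsg.Agent.MinSimple.Geo Cfsg.Agent.Omega.CaseL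
open Cfsg.Agent.ZN.Block (conj_mem_of_normalizer conj_mem_of_normalizer' le_normalizer_of_forall
  mem_normalizer_of)

universe u

variable {G : Type u} [Group G]

/-! ### elements of odd order -/

theorem mem_of_pow_two {N : Subgroup G} {b : G} {k n : ℕ} (hn : Odd n) (h1 : b ^ n = 1)
    (h2 : b ^ 2 ^ k ∈ N) : b ∈ N := by
  have hc : Nat.Coprime (2 ^ k) n := Nat.Coprime.pow_left k (Nat.coprime_two_left.mpr hn)
  have h3 : ((2 ^ k : ℕ) : ℤ) * Nat.gcdA (2 ^ k) n + (n : ℤ) * Nat.gcdB (2 ^ k) n = 1 := by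
    rw [← Nat.gcd_eq_gcd_ab, hc.gcd_eq_one]; rfl
  have h4 : b = (b ^ 2 ^ k) ^ Nat.gcdA (2 ^ k) n * (b ^ n) ^ Nat.gcdB (2 ^ k) n := by
    rw [← zpow_natCast, ← zpow_natCast, ← zpow_mul, ← zpow_mul, ← zpow_add, h3, zpow_one]
  rw [h4, h1, one_zpow, mul_one]
  exact zpow_mem h2 _

/-- an element of odd order of `P N`, `P` a 2-group normalising `N`, lies in `N` -/
theorem mem_of_odd {N P : Subgroup G} (hP : IsPGroup 2 P) (hPN : P ≤ normalizer (N : Set G)) {b p c : G}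
    (hp : p ∈ P) (hc : c ∈ N) (hb : b = p * c) {n : ℕ} (hn : Odd n) (h1 : b ^ n = 1) : b ∈ N := by
  obtain ⟨k, hk⟩ := hP ⟨p, hp⟩
  have hk' : p ^ 2 ^ k = 1 := congrArg Subtype.val hk
  have key : ∀ m : ℕ, b ^ m * (p ^ m)⁻¹ ∈ N := by
    intro m
    induction m with
    | zero => simp
    | succ m ih =>
      have e : b ^ (m + 1) * (p ^ (m + 1))⁻¹ = (b ^ m * (p ^ m)⁻¹) * (p ^ (m + 1) * c * (p ^ (m + 1))⁻¹) := by
        rw [pow_succ b, pow_succ' p m, hb]
        have e1 : p * p ^ m = p ^ m * p := ((Commute.refl p).pow_right m).eq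
        rw [e1]
        group
      rw [e]
      exact mul_mem ih (conj_mem_of_normalizer hPN (pow_mem hp _) hc)
  have h2 := key (2 ^ k)
  rw [hk', inv_one, mul_one] at h2
  exact mem_of_pow_two hn h1 h2

/-- an element which acts on `w` as `1` or as multiplication with the central involution `q` and has odd order
centralises `w` -/
theorem odd_cent {b w q : G} (hbq : b * q = q * b) (hqq : q * q = 1)
    (h : b * w * b⁻¹ = w ∨ b * w * b⁻¹ = q * w) {n : ℕ} (hn : Odd n) (h1 : b ^ n = 1) : b * w = w * b := by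
  rcases h with e | e
  · exact comm_of_conj_eq e
  · have h2 : b ^ 2 * w = w * b ^ 2 := by
      have e1 : b * (q * w) * b⁻¹ = w := by
        calc b * (q * w) * b⁻¹ = (b * q) * w * b⁻¹ := by group
          _ = (q * b) * w * b⁻¹ := by rw [hbq]
          _ = q * (b * w * b⁻¹) := by group
          _ = (q * q) * w := by rw [e]; group
          _ = w := by rw [hqq, one_mul]
      rw [pow_two]
      calc b * b * w = b * (b * w * b⁻¹) * b⁻¹ * (b * b) := by group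
        _ = b * (q * w) * b⁻¹ * (b * b) := by rw [e]
        _ = w * (b * b) := by rw [e1]
    have h3 : b ∈ centralizer ({w} : Set G) := by
      refine mem_of_pow_two (k := 1) hn h1 ?_
      rw [pow_one, mem_centralizer_singleton_iff]
      exact h2
    exact mem_centralizer_singleton_iff.mp h3

/-! ### `L_x` -/

/-- `⟨W_p^c : p ∈ V#, c ∈ cf z⟩` -/
def lx (V : Subgroup G) (cf : G → Subgroup G) (z : G) : Subgroup G :=
  closure {a | ∃ c ∈ cf z, ∃ p ∈ V, p ≠ 1 ∧ c⁻¹ * a * c ∈ ww V cf p}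

theorem ww_le_lx {V : Subgroup G} {cf : G → Subgroup G} {z p : G} (hp : p ∈ V) (hp1 : p ≠ 1) :
    ww V cf p ≤ lx V cf z := fun a ha => subset_closure ⟨1, one_mem _, p, hp, hp1, by simpa using ha⟩

theorem cf_norm_lx (V : Subgroup G) (cf : G → Subgroup G) (z : G) :
    cf z ≤ normalizer ((lx V cf z : Subgroup G) : Set G) := by
  refine le_normalizer_of_forall fun d hd a ha => ?_
  have hle : lx V cf z ≤ cj d⁻¹ (lx V cf z) := by
    refine (closure_le _).mpr ?_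
    rintro a ⟨c, hc, p, hp, hp1, ha⟩
    change a ∈ cj d⁻¹ _
    rw [mem_cj, inv_inv]
    refine subset_closure ⟨d * c, mul_mem hd hc, p, hp, hp1, ?_⟩
    have e : (d * c)⁻¹ * (d * a * d⁻¹) * (d * c) = c⁻¹ * a * c := by group
    rw [e]; exact ha
  have := mem_cj.mp (hle ha)
  rwa [inv_inv] at this

theorem conj_cj {g x : G} : g * (g⁻¹ * x * g) * g⁻¹ = x := by group

/-- the elements which centralise all `W_p` -/
def kall (V : Subgroup G) (cf : G → Subgroup G) : Subgroup G where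
  carrier := {b | ∀ p ∈ V, p ≠ 1 → b ∈ kk V cf p}
  mul_mem' := fun ha hb p hp hp1 => mul_mem (ha p hp hp1) (hb p hp hp1)
  one_mem' := fun _ _ _ => one_mem _
  inv_mem' := fun ha p hp hp1 => inv_mem (ha p hp hp1)

namespace Fam

variable {T V : Subgroup G} {z : G} {cf : G → Subgroup G} {p q : G}

theorem lx_le (h : Fam T V z cf) : lx V cf z ≤ cf z := by
  refine (closure_le _).mpr ?_
  rintro a ⟨c, hc, p, hp, hp1, ha⟩
  have h1 := mul_mem (mul_mem hc (h.ww_le_cf' hp hp1 h.ln.z_mem h.ln.z_ne ha)) (inv_mem hc)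
  have e : c * (c⁻¹ * a * c) * c⁻¹ = a := by group
  rw [e] at h1
  exact h1

/-- `C_G(V)` normalises `B_p` -/
theorem cent_norm_kk (h : Fam T V z cf) (hp : p ∈ V) (hp1 : p ≠ 1) :
    centralizer (V : Set G) ≤ normalizer ((kk V cf p : Subgroup G) : Set G) :=
  (h.cent_le_cf hp hp1).trans h.cf_norm_kk

theorem isPGroup_ww [Finite G] (h : Fam T V z cf) (hp : p ∈ V) (hp1 : p ≠ 1) : IsPGroup 2 (ww V cf p) := by
  rintro ⟨a, ha⟩
  refine ⟨1, Subtype.ext ?_⟩
  change a ^ 2 ^ 1 = 1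
  rw [pow_one, pow_two]
  exact h.sq hp hp1 a ha

/-- `W_p ∩ B_q ≤ O₂(B_q)` -/
theorem ww_inf_kk_le [Finite G] (h : Fam T V z cf) (hp : p ∈ V) (hp1 : p ≠ 1) :
    ww V cf p ⊓ kk V cf q ≤ o2 (kk V cf q) := by
  refine le_o2 inf_le_right ((h.isPGroup_ww hp hp1).to_le inf_le_left) ?_
  refine le_normalizer_of_forall fun b hb w hw => ⟨?_, ?_⟩
  · exact conj_mem_of_normalizer (h.cent_norm hp hp1) (h.kk_le_cent hb) hw.1
  · exact (kk V cf q).mul_mem ((kk V cf q).mul_mem hb hw.2) ((kk V cf q).inv_mem hb)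

/-- (1.1) `[B_x, L_x] ≤ O₂(B_x)` -/
theorem kk_comm_lx [Finite G] (h : Fam T V z cf) {l b : G} (hl : l ∈ lx V cf z) (hb : b ∈ kk V cf z) :
    l * b * l⁻¹ * b⁻¹ ∈ o2 (kk V cf z) := by
  have hz := h.ln.z_mem
  have hz1 := h.ln.z_ne
  have hBn : cf z ≤ normalizer ((kk V cf z : Subgroup G) : Set G) := h.cf_norm_kk
  have hOn : cf z ≤ normalizer ((o2 (kk V cf z) : Subgroup G) : Set G) :=
    hBn.trans (normalizer_le_normalizer_o2 _)
  have hgen : ∀ l ∈ lx V cf z, ∀ b ∈ kk V cf z, l * b * l⁻¹ * b⁻¹ ∈ o2 (kk V cf z) := by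
    intro l hl
    refine closure_induction
      (p := fun l _ => l ∈ cf z ∧ ∀ b ∈ kk V cf z, l * b * l⁻¹ * b⁻¹ ∈ o2 (kk V cf z)) ?_ ?_ ?_ ?_ hl |>.2
    · rintro a ⟨c, hc, p, hp, hp1, ha⟩
      have hac : a ∈ cf z := h.lx_le (subset_closure ⟨c, hc, p, hp, hp1, ha⟩)
      refine ⟨hac, fun b hb => ?_⟩
      set w := c⁻¹ * a * c with hw
      have hb' : c⁻¹ * b * c ∈ kk V cf z := conj_mem_of_normalizer' hBn hc hb
      have hwV := h.ww_le_cent hp hp1 ha
      have h1 : w * (c⁻¹ * b * c) * w⁻¹ * (c⁻¹ * b * c)⁻¹ ∈ ww V cf p ⊓ kk V cf z := by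
        constructor
        · have e : w * (c⁻¹ * b * c) * w⁻¹ * (c⁻¹ * b * c)⁻¹ =
              w * ((c⁻¹ * b * c) * w⁻¹ * (c⁻¹ * b * c)⁻¹) := by group
          rw [e]
          exact mul_mem ha (conj_mem_of_normalizer (h.cent_norm hp hp1) (h.kk_le_cent hb') (inv_mem ha))
        · exact (kk V cf z).mul_mem (conj_mem_of_normalizer (h.cent_norm_kk hz hz1) hwV hb')
            ((kk V cf z).inv_mem hb')
      have h2 := h.ww_inf_kk_le hp hp1 h1
      have h3 := conj_mem_of_normalizer hOn hc h2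
      have e : c * (w * (c⁻¹ * b * c) * w⁻¹ * (c⁻¹ * b * c)⁻¹) * c⁻¹ = a * b * a⁻¹ * b⁻¹ := by
        rw [hw]; group
      rwa [e] at h3
    · exact ⟨one_mem _, fun b _ => by simp⟩
    · rintro a a' - - ⟨ha, iha⟩ ⟨ha', iha'⟩
      refine ⟨mul_mem ha ha', fun b hb => ?_⟩
      have e : a * a' * b * (a * a')⁻¹ * b⁻¹ = a * (a' * b * a'⁻¹ * b⁻¹) * a⁻¹ * (a * b * a⁻¹ * b⁻¹) := by
        group
      rw [e]
      exact mul_mem (conj_mem_of_normalizer hOn ha (iha' b hb)) (iha b hb)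
    · rintro a - ⟨ha, iha⟩
      refine ⟨inv_mem ha, fun b hb => ?_⟩
      have e : a⁻¹ * b * a⁻¹⁻¹ * b⁻¹ = a⁻¹ * (a * b * a⁻¹ * b⁻¹)⁻¹ * a := by group
      rw [e]
      exact conj_mem_of_normalizer' hOn ha (inv_mem (iha b hb))
  exact hgen l hl b hb

theorem mem_kall (h : Fam T V z cf) (hp : p ∈ V) (hp1 : p ≠ 1) (hq : q ∈ V) (hq1 : q ≠ 1) (hqp : q ≠ p)
    {b : G} (h1 : b ∈ kk V cf p) (h2 : b ∈ kk V cf q) (h3 : b ∈ kk V cf (p * q)) : b ∈ kall V cf := by
  intro r hr hr1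
  rcases h.ln.four hp hq hp1 hq1 (Ne.symm hqp) hr with e | e | e | e
  · exact absurd e hr1
  · rw [e]; exact h1
  · rw [e]; exact h2
  · rw [e]; exact h3

theorem kall_le_kk (_ : Fam T V z cf) (hp : p ∈ V) (hp1 : p ≠ 1) : kall V cf ≤ kk V cf p :=
  fun _ hb => hb p hp hp1

theorem norm_kall (h : Fam T V z cf) :
    normalizer (V : Set G) ≤ normalizer ((kall V cf : Subgroup G) : Set G) := by
  refine le_normalizer_of_forall fun g hg b hb p hp hp1 => ?_
  have := h.conj_kk hg (h.conj_pt' hg hp) (conj_ne' hp1) (hb _ (h.conj_pt' hg hp) (conj_ne' hp1))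
  have e : g * (g⁻¹ * p * g) * g⁻¹ = p := by group
  rwa [e] at this

/-- a subgroup normalised by `N_G(V)` and `cf z` which centralises `W_y` is trivial -/
theorem eq_bot_of_norm [Finite G] (h : Fam T V z cf) {D : Subgroup G} {y : G} (hy : y ∈ V) (hy1 : y ≠ 1)
    (hyz : y ≠ z) (hDy : D ≤ kk V cf y) (hN : normalizer (V : Set G) ≤ normalizer (D : Set G))
    (hC : cf z ≤ normalizer (D : Set G)) : D = ⊥ := by
  by_contra hne
  have hz := h.ln.z_mem
  have hz1 := h.ln.z_ne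
  have hDV : D ≤ normalizer (V : Set G) := hDy.trans (h.kk_le_cent.trans (centralizer_le_normalizer _))
  have hzD := h.ln.z_mem_of_normal hDV hN hne
  have hVD : V ≤ D := by
    intro v hv
    by_cases hv1 : v = 1
    · rw [hv1]; exact one_mem _
    obtain ⟨g, hg, rfl⟩ := h.ln.trans v hv hv1
    exact conj_mem_of_normalizer hN hg hzD
  have hWD : ww V cf z ≤ D := by
    refine wf_le fun c hc x hx => ?_
    rw [mem_cj] at hx
    have := conj_mem_of_normalizer hC hc (hVD hx)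
    have e : c * (c⁻¹ * x * c) * c⁻¹ = x := by group
    rwa [e] at this
  obtain ⟨y', hy', hy1', hyz', a, ha, b, hb, hab⟩ := h.nc
  -- `W_z` centralises `W_y`, hence `W_{y'}`
  have hcom : ∀ a ∈ ww V cf z, ∀ b ∈ ww V cf y, a * b = b * a := by
    intro a ha b hb
    exact (mem_centralizer_iff.mp (hDy (hWD ha)) b hb).symm
  rcases h.ln.four hz hy hz1 hy1 (Ne.symm hyz) hy' with e | e | e | e
  · exact hy1' e
  · exact hyz' e
  · rw [e] at hb; exact hab (hcom a ha b hb)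
  · obtain ⟨k, hk, hk1⟩ := h.exists_mover hz hz1
    have e1 := h.move hz hz1 hy hy1 hyz hk hk1
    have hkn := h.qq_le_normalizer hz hk
    rw [e, ← e1] at hb
    have hb' : k⁻¹ * b * k ∈ ww V cf y := by
      have h1 := h.conj_ww (inv_mem hkn) (h.conj_pt hkn hy) (conj_ne hy1) hb
      have e2 : k⁻¹ * (k * y * k⁻¹) * k⁻¹⁻¹ = y := by group
      rwa [e2, inv_inv] at h1
    have ha' : k⁻¹ * a * k ∈ ww V cf z := by
      have := h.conj_ww (inv_mem hkn) hz hz1 ha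
      have e2 : k⁻¹ * z * k⁻¹⁻¹ = z := by
        rw [inv_inv]
        have := h.qq_p hk
        calc k⁻¹ * z * k = k⁻¹ * (z * k) := by group
          _ = k⁻¹ * (k * z) := by rw [this]
          _ = z := by group
      rwa [e2, inv_inv] at this
    have h2 := hcom _ ha' _ hb'
    apply hab
    calc a * b = k * ((k⁻¹ * a * k) * (k⁻¹ * b * k)) * k⁻¹ := by group
      _ = k * ((k⁻¹ * b * k) * (k⁻¹ * a * k)) * k⁻¹ := by rw [h2]
      _ = b * a := by group

/-- (0.1): a mover in `L_x ∩ K_x` exists as soon as `[W_p ∩ K_x, W_x] ≠ 1` -/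
theorem exists_e (h : Fam T V z cf) (hp : p ∈ V) (hp1 : p ≠ 1) {e₀ w : G} (he₀ : e₀ ∈ ww V cf p)
    (he₁ : e₀ ∈ qq V cf z) (hw : w ∈ ww V cf z) (hne : e₀ * w ≠ w * e₀) :
    ∃ e ∈ lx V cf z, e ∈ qq V cf z ∧ e ∉ centralizer (V : Set G) ∧ e * e = 1 := by
  by_contra hcon
  push Not at hcon
  have hz := h.ln.z_mem
  have hz1 := h.ln.z_ne
  apply hne
  have hle : ww V cf z ≤ centralizer ({e₀} : Set G) := by
    refine wf_le fun c hc x hx => ?_
    rw [mem_cj] at hx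
    have h1 : c⁻¹ * e₀ * c ∈ lx V cf z := by
      refine subset_closure ⟨c⁻¹, inv_mem hc, p, hp, hp1, ?_⟩
      have e2 : c⁻¹⁻¹ * (c⁻¹ * e₀ * c) * c⁻¹ = e₀ := by group
      rw [e2]; exact he₀
    have h2 : c⁻¹ * e₀ * c ∈ qq V cf z := conj_mem_of_normalizer' (h.cf_norm_qq hz hz1) hc he₁
    have h3 : c⁻¹ * e₀ * c * (c⁻¹ * e₀ * c) = 1 := by
      calc c⁻¹ * e₀ * c * (c⁻¹ * e₀ * c) = c⁻¹ * (e₀ * e₀) * c := by group
        _ = 1 := by rw [h.sq hp hp1 e₀ he₀]; group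
    have h4 : c⁻¹ * e₀ * c ∈ centralizer (V : Set G) := by
      by_contra hn
      exact hcon _ h1 h2 hn h3
    have h5 := mem_centralizer_iff.mp h4 _ hx
    rw [mem_centralizer_singleton_iff]
    calc x * e₀ = c * ((c⁻¹ * x * c) * (c⁻¹ * e₀ * c)) * c⁻¹ := by group
      _ = c * ((c⁻¹ * e₀ * c) * (c⁻¹ * x * c)) * c⁻¹ := by rw [h5]
      _ = e₀ * x := by group
  exact (mem_centralizer_singleton_iff.mp (hle hw)).symm

/-- (0.1), (P) : the data for section 1 -/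
structure HypB (V : Subgroup G) (z : G) (cf : G → Subgroup G) (e : G) : Prop where
  prod : cf z ≤ lx V cf z ⊔ (normalizer (V : Set G) ⊓ cf z)
  lx : e ∈ lx V cf z
  qq : e ∈ qq V cf z
  move : e ∉ centralizer (V : Set G)
  sq : e * e = 1

section B

variable [Finite G] (h : Fam T V z cf) {e : G} (H : HypB V z cf e)
include h H

/-- an element of odd order of `B_z ∩ B_y` is in `B_{zy}` -/
theorem odd_kk {y b : G} (hy : y ∈ V) (hy1 : y ≠ 1) (hyz : y ≠ z) (hb : b ∈ kk V cf z) (hb' : b ∈ kk V cf y)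
    {n : ℕ} (hn : Odd n) (h1 : b ^ n = 1) : b ∈ kk V cf (z * y) := by
  have hz := h.ln.z_mem
  have hz1 := h.ln.z_ne
  have hs : z * y ∈ V := mul_mem hz hy
  have hs1 : z * y ≠ 1 := h.mul_ne_one hy (Ne.symm hyz)
  have hen := h.qq_le_normalizer hz H.qq
  have e1 := h.move hz hz1 hy hy1 hyz H.qq H.move
  have e0 : e * z * e⁻¹ = z := conj_eq_of_comm (h.qq_p H.qq)
  have hc1 := h.conj_kk hen hz hz1 hb
  rw [e0] at hc1
  have hc2 := h.conj_kk hen hy hy1 hb'
  rw [e1] at hc2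
  have h2 := h.kk_comm_lx H.lx hb
  refine mem_of_odd (P := o2 (kk V cf z)) (isPGroup_o2 _) ?_ (inv_mem h2) hc2 ?_ hn h1
  · exact ((o2_le _).trans h.kk_le_cent).trans (h.cent_norm_kk hs hs1)
  · group

/-- (1.2) an element of odd order of `B_z ∩ B_y` is trivial -/
theorem kk_inf_aux {y b : G} (hy : y ∈ V) (hy1 : y ≠ 1) (hyz : y ≠ z) (hb : b ∈ kk V cf z)
    (hb' : b ∈ kk V cf y) {n : ℕ} (hn : Odd n) (h1 : b ^ n = 1) : b = 1 := by
  have hz := h.ln.z_mem
  have hz1 := h.ln.z_ne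
  have hball : b ∈ kall V cf :=
    h.mem_kall hz hz1 hy hy1 hyz hb hb' (h.odd_kk H hy hy1 hyz hb hb' hn h1)
  let D : Subgroup G := closure {b | b ∈ kall V cf ∧ ∃ n : ℕ, Odd n ∧ b ^ n = 1}
  have hgen : ∀ (N : Subgroup G), (∀ g ∈ N, ∀ b ∈ kall V cf, ∀ n : ℕ, Odd n → b ^ n = 1 →
      g * b * g⁻¹ ∈ kall V cf) → N ≤ normalizer (D : Set G) := by
    intro N hN
    refine le_normalizer_of_forall fun g hg d hd => ?_
    refine closure_induction (p := fun d _ => g * d * g⁻¹ ∈ D) ?_ ?_ ?_ ?_ hd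
    · rintro b ⟨hb, n, hn, h1⟩
      refine subset_closure ⟨hN g hg b hb n hn h1, n, hn, ?_⟩
      rw [conj_pow, h1]; group
    · simp
    · intro a b _ _ ha hb
      have e : g * (a * b) * g⁻¹ = (g * a * g⁻¹) * (g * b * g⁻¹) := by group
      rw [e]; exact mul_mem ha hb
    · intro a _ ha
      have e : g * a⁻¹ * g⁻¹ = (g * a * g⁻¹)⁻¹ := by group
      rw [e]; exact inv_mem ha
  have hDall : D ≤ kall V cf := (closure_le _).mpr fun _ hb => hb.1
  have hND : normalizer (V : Set G) ≤ normalizer (D : Set G) :=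
    hgen _ fun g hg b hb _ _ _ => conj_mem_of_normalizer h.norm_kall hg hb
  have hLD : lx V cf z ≤ normalizer (D : Set G) := by
    refine hgen _ fun l hl b hb n hn h1 => ?_
    have h2 := h.kk_comm_lx hl (hb z hz hz1)
    refine mem_of_odd (P := o2 (kk V cf z)) (isPGroup_o2 _) ?_ h2 hb (n := n) ?_ hn ?_
    · exact (((o2_le _).trans h.kk_le_cent).trans (centralizer_le_normalizer _)).trans h.norm_kall
    · group
    · rw [conj_pow, h1]; group
  have hCD : cf z ≤ normalizer (D : Set G) :=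
    H.prod.trans (sup_le hLD (inf_le_left.trans hND))
  have hD : D = ⊥ := h.eq_bot_of_norm hy hy1 hyz (hDall.trans (h.kall_le_kk hy hy1)) hND hCD
  have hbD : b ∈ D := subset_closure ⟨hball, n, hn, h1⟩
  rw [hD] at hbD
  exact mem_bot.mp hbD

/-- (1.2) at all points -/
theorem kk_inf_odd {b : G} (hp : p ∈ V) (hp1 : p ≠ 1) (hq : q ∈ V) (hq1 : q ≠ 1) (hqp : q ≠ p)
    (hb : b ∈ kk V cf p) (hb' : b ∈ kk V cf q) {n : ℕ} (hn : Odd n) (h1 : b ^ n = 1) : b = 1 := by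
  obtain ⟨g, hg, hgp, -⟩ := h.point hp hp1
  have hgi := inv_mem hg
  have h2 := h.conj_kk hgi hp hp1 hb
  have h3 := h.conj_kk hgi hq hq1 hb'
  have e2 : g⁻¹ * p * g⁻¹⁻¹ = z := by rw [← hgp]; group
  rw [e2] at h2
  have h4 : g⁻¹ * q * g⁻¹⁻¹ ∈ V := h.conj_pt hgi hq
  have h5 : g⁻¹ * q * g⁻¹⁻¹ ≠ 1 := conj_ne hq1
  have h6 : g⁻¹ * q * g⁻¹⁻¹ ≠ z := fun e' => hqp (by
    rw [← e2] at e'
    simpa using e')
  have h7 := h.kk_inf_aux H h4 h5 h6 h2 h3 hn (by rw [conj_pow, h1]; group)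
  exact conj_eq_one_iff.mp h7

/-- a subgroup without elements of odd order is a 2-group -/
theorem kk_inf_two (hp : p ∈ V) (hp1 : p ≠ 1) (hq : q ∈ V) (hq1 : q ≠ 1) (hqp : q ≠ p) :
    IsPGroup 2 ((kk V cf p ⊓ kk V cf q : Subgroup G)) := by
  rintro ⟨b, hb⟩
  obtain ⟨k, m, hm, hkm⟩ := Nat.exists_eq_two_pow_mul_odd (n := orderOf b) (orderOf_pos _).ne'
  refine ⟨k, Subtype.ext ?_⟩
  change b ^ 2 ^ k = 1
  refine h.kk_inf_odd H hp hp1 hq hq1 hqp (pow_mem hb.1 _) (pow_mem hb.2 _) hm ?_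
  rw [← pow_mul, ← hkm, pow_orderOf_eq_one]

/-- (1.3) `B_y` has no element of odd order, `y ≠ z` -/
theorem kk_odd_aux {y b : G} (hy : y ∈ V) (hy1 : y ≠ 1) (hyz : y ≠ z) (hb : b ∈ kk V cf y)
    {n : ℕ} (hn : Odd n) (h1 : b ^ n = 1) : b = 1 := by
  have hz := h.ln.z_mem
  have hz1 := h.ln.z_ne
  have hs : z * y ∈ V := mul_mem hz hy
  have hs1 : z * y ≠ 1 := h.mul_ne_one hy (Ne.symm hyz)
  have hsy : z * y ≠ y := fun e' => hz1 (by simpa using e')
  have hen := h.qq_le_normalizer hz H.qq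
  have e1 := h.move hz hz1 hy hy1 hyz H.qq H.move
  set CV := centralizer (V : Set G) with hCV
  set O := o2 CV with hO
  have hOp : IsPGroup 2 O := isPGroup_o2 _
  have hOCV : O ≤ CV := o2_le _
  have hNCV : normalizer (V : Set G) ≤ normalizer ((CV : Subgroup G) : Set G) :=
    normalizer_le_normalizer_centralizer V
  have hNO : normalizer (V : Set G) ≤ normalizer ((O : Subgroup G) : Set G) :=
    hNCV.trans (normalizer_le_normalizer_o2 _)
  have hCO : CV ≤ normalizer ((O : Subgroup G) : Set G) := (centralizer_le_normalizer _).trans hNO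
  have hbV : b ∈ CV := h.kk_le_cent hb
  -- `f = b^e`
  set f := e * b * e⁻¹ with hf
  have hfs : f ∈ kk V cf (z * y) := by
    have := h.conj_kk hen hy hy1 hb
    rwa [e1] at this
  have hfV : f ∈ CV := h.kk_le_cent hfs
  have hfn : f ^ n = 1 := by rw [hf, conj_pow, h1]; group
  -- `B_y ∩ B_s ≤ O`
  have hle : kk V cf y ⊓ kk V cf (z * y) ≤ O := by
    refine le_o2 (inf_le_left.trans h.kk_le_cent) (h.kk_inf_two H hy hy1 hs hs1 hsy) ?_
    refine le_normalizer_of_forall fun c hc x hx => ⟨?_, ?_⟩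
    · exact conj_mem_of_normalizer (h.cent_norm_kk hy hy1) hc hx.1
    · exact conj_mem_of_normalizer (h.cent_norm_kk hs hs1) hc hx.2
  -- `P = O₂(B_z) ≤ O`
  have hPO : o2 (kk V cf z) ≤ O := by
    refine le_o2 ((o2_le _).trans h.kk_le_cent) (isPGroup_o2 _) ?_
    exact (h.cent_norm_kk hz hz1).trans (normalizer_le_normalizer_o2 _)
  -- `d = f b⁻¹`
  set d := f * b⁻¹ with hd
  have hdV : d ∈ CV := mul_mem hfV (inv_mem hbV)
  have hbc : b ∈ cf z := h.cent_le_cf hz hz1 hbV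
  have hdq : d ∈ qq V cf z := by
    have e2 : d = e * (b * e⁻¹ * b⁻¹) := by rw [hd, hf]; group
    rw [e2]
    exact mul_mem H.qq (conj_mem_of_normalizer (h.cf_norm_qq hz hz1) hbc (inv_mem H.qq))
  -- `d² ∈ B_z`
  have hdd : d ^ 2 ∈ kk V cf z := by
    rw [mem_centralizer_iff]
    intro w hw
    have hzz := h.ln.sq z hz
    have hdz := h.qq_p hdq
    rw [pow_two]
    rcases h.qq_cases hz hdq hw with e2 | e2
    · have e3 := comm_of_conj_eq e2
      calc w * (d * d) = (w * d) * d := by group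
        _ = (d * w) * d := by rw [e3]
        _ = d * (w * d) := by group
        _ = d * (d * w) := by rw [e3]
        _ = d * d * w := by group
    · have e3 : d * w = z * w * d := by
        calc d * w = d * w * d⁻¹ * d := by group
          _ = z * w * d := by rw [e2]
      calc w * (d * d) = (z * z) * (w * d * d) := by rw [hzz]; group
        _ = z * (z * w * d) * d := by group
        _ = z * (d * w) * d := by rw [e3]
        _ = (z * d) * w * d := by group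
        _ = (d * z) * w * d := by rw [hdz]
        _ = d * (z * w * d) := by group
        _ = d * (d * w) := by rw [e3]
        _ = d * d * w := by group
  -- modulo `O` : work in `N_G(O) / O`
  set N := normalizer ((O : Subgroup G) : Set G) with hN
  have heN : e ∈ N := hNO hen
  have hbN : b ∈ N := hCO hbV
  have hfN : f ∈ N := hCO hfV
  have hdN : d ∈ N := hCO hdV
  let π : N →* N ⧸ (O.subgroupOf N) := QuotientGroup.mk' _
  have hON : O ≤ N := le_normalizer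
  have hker : ∀ x : N, π x = 1 ↔ (x : G) ∈ O := fun x => by
    rw [QuotientGroup.mk'_apply, QuotientGroup.eq_one_iff, mem_subgroupOf]
  have hπ : ∀ x y : N, (x : G) * (y : G)⁻¹ ∈ O → π x = π y := fun x y hxy => by
    have : π (x * y⁻¹) = 1 := (hker _).mpr hxy
    rw [map_mul, map_inv, mul_inv_eq_one] at this
    exact this
  set B : N := ⟨b, hbN⟩ with hB
  set F : N := ⟨f, hfN⟩ with hF
  set D : N := ⟨d, hdN⟩ with hD
  set E : N := ⟨e, heN⟩ with hE
  have hDFB : D = F * B⁻¹ := Subtype.ext hd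
  have hFE : F = E * B * E⁻¹ := Subtype.ext hf
  have hcomm : π B * π F = π F * π B := by
    rw [← map_mul, ← map_mul]
    refine hπ _ _ (hle ⟨?_, ?_⟩)
    · change b * f * (f * b)⁻¹ ∈ _
      have e2 : b * f * (f * b)⁻¹ = b * (f * b⁻¹ * f⁻¹) := by group
      rw [e2]
      exact mul_mem hb (conj_mem_of_normalizer (h.cent_norm_kk hy hy1) hfV (inv_mem hb))
    · change b * f * (f * b)⁻¹ ∈ _
      have e2 : b * f * (f * b)⁻¹ = (b * f * b⁻¹) * f⁻¹ := by group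
      rw [e2]
      exact (kk V cf (z * y)).mul_mem (conj_mem_of_normalizer (h.cent_norm_kk hs hs1) hbV hfs)
        ((kk V cf (z * y)).inv_mem hfs)
  have hBn : π B ^ n = 1 := by
    rw [← map_pow]
    have : B ^ n = 1 := Subtype.ext h1
    rw [this, map_one]
  have hFn : π F ^ n = 1 := by
    rw [← map_pow]
    have : F ^ n = 1 := Subtype.ext hfn
    rw [this, map_one]
  have hDn : π D ^ n = 1 := by
    rw [hDFB, map_mul, map_inv]
    have hc : Commute (π F) (π B)⁻¹ := (show Commute (π F) (π B) from hcomm.symm).inv_right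
    rw [hc.mul_pow, hFn, inv_pow, hBn, inv_one, mul_one]
  -- `π E` centralises `π (d²)`
  have hED2 : π E * π D ^ 2 * (π E)⁻¹ = π D ^ 2 := by
    rw [← map_pow, ← map_inv, ← map_mul, ← map_mul]
    refine hπ _ _ (hPO ?_)
    change e * d ^ 2 * e⁻¹ * (d ^ 2)⁻¹ ∈ _
    exact h.kk_comm_lx H.lx hdd
  -- so it centralises `π D`
  have hED : π E * π D * (π E)⁻¹ = π D := by
    have hDD : π D = (π D ^ 2) ^ ((n + 1) / 2) := by
      rw [← pow_mul]
      obtain ⟨k, rfl⟩ := hn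
      have : 2 * ((2 * k + 1 + 1) / 2) = (2 * k + 1) + 1 := by omega
      rw [this, pow_succ, hDn, one_mul]
    rw [hDD, ← conj_pow, hED2]
  have hFDB : π F = π D * π B := by
    rw [hDFB, map_mul, map_inv, inv_mul_cancel_right]
  have hEE : π E * π E = 1 := by
    rw [← map_mul]
    have : E * E = 1 := Subtype.ext H.sq
    rw [this, map_one]
  have hEBE : π E * π B * (π E)⁻¹ = π F := by
    rw [hFE, map_mul, map_mul, map_inv]
  have hD2 : π D ^ 2 = 1 := by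
    -- apply `E` twice
    have h2 : π E * π F * (π E)⁻¹ = π B := by
      rw [← hEBE]
      have hEi : (π E)⁻¹ = π E := inv_eq_of_mul_eq_one_left hEE
      rw [hEi]
      calc π E * (π E * π B * π E) * π E = (π E * π E) * π B * (π E * π E) := by group
        _ = π B := by rw [hEE]; group
    have h3 : π E * π F * (π E)⁻¹ = π D * (π D * π B) := by
      rw [hFDB]
      calc π E * (π D * π B) * (π E)⁻¹ = (π E * π D * (π E)⁻¹) * (π E * π B * (π E)⁻¹) := by group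
        _ = π D * (π D * π B) := by rw [hED, hEBE, hFDB]
    rw [h3, ← mul_assoc] at h2
    rw [pow_two]
    exact mul_eq_right.mp h2
  have hD1 : π D = 1 := by
    obtain ⟨k, rfl⟩ := hn
    have := hDn
    rwa [pow_succ, pow_mul, hD2, one_pow, one_mul] at this
  have hdO : d ∈ O := (hker D).mp hD1
  -- `b = d⁻¹ f ∈ O B_s`
  have hbs : b ∈ kk V cf (z * y) := by
    refine mem_of_odd hOp ?_ (inv_mem hdO) hfs ?_ hn h1
    · exact hOCV.trans (h.cent_norm_kk hs hs1)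
    · rw [hd]; group
  exact h.kk_inf_odd H hy hy1 hs hs1 hsy hb hbs hn h1

/-- (1.3) `B_p` has no element of odd order -/
theorem kk_odd {b : G} (hp : p ∈ V) (hp1 : p ≠ 1) (hb : b ∈ kk V cf p) {n : ℕ} (hn : Odd n)
    (h1 : b ^ n = 1) : b = 1 := by
  obtain ⟨y, hy, hy1, hyz⟩ := h.ln.exists_y
  obtain ⟨g, hg, hgp, -⟩ := h.point hp hp1
  obtain ⟨k, hk, hky, -⟩ := h.point hy hy1
  have hgk : k * g⁻¹ ∈ normalizer (V : Set G) := mul_mem hk (inv_mem hg)
  have h2 := h.conj_kk hgk hp hp1 hb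
  have e2 : k * g⁻¹ * p * (k * g⁻¹)⁻¹ = y := by rw [← hgp, ← hky]; group
  rw [e2] at h2
  have h7 := h.kk_odd_aux H hy hy1 hyz h2 hn (by rw [conj_pow, h1]; group)
  exact conj_eq_one_iff.mp h7

/-- **(1.3) `B_p = C_G(W_p)` is a 2-group.** -/
theorem kk_two (hp : p ∈ V) (hp1 : p ≠ 1) : IsPGroup 2 (kk V cf p) := by
  rintro ⟨b, hb⟩
  obtain ⟨k, m, hm, hkm⟩ := Nat.exists_eq_two_pow_mul_odd (n := orderOf b) (orderOf_pos _).ne'
  refine ⟨k, Subtype.ext ?_⟩
  change b ^ 2 ^ k = 1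
  refine h.kk_odd H hp hp1 (pow_mem hb _) hm ?_
  rw [← pow_mul, ← hkm, pow_orderOf_eq_one]

/-- `K_p` is a 2-group. -/
theorem qq_two (hp : p ∈ V) (hp1 : p ≠ 1) : IsPGroup 2 (qq V cf p) := by
  rintro ⟨d, hd⟩
  have hpp := h.ln.sq p hp
  have hdp := h.qq_p hd
  have hdd : d ^ 2 ∈ kk V cf p := by
    rw [mem_centralizer_iff]
    intro w hw
    rw [pow_two]
    rcases h.qq_cases hp hd hw with e2 | e2
    · have e3 := comm_of_conj_eq e2
      calc w * (d * d) = (w * d) * d := by group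
        _ = (d * w) * d := by rw [e3]
        _ = d * (w * d) := by group
        _ = d * (d * w) := by rw [e3]
        _ = d * d * w := by group
    · have e3 : d * w = p * w * d := by
        calc d * w = d * w * d⁻¹ * d := by group
          _ = p * w * d := by rw [e2]
      calc w * (d * d) = (p * p) * (w * d * d) := by rw [hpp]; group
        _ = p * (p * w * d) * d := by group
        _ = p * (d * w) * d := by rw [e3]
        _ = (p * d) * w * d := by group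
        _ = (d * p) * w * d := by rw [hdp]
        _ = d * (p * w * d) := by group
        _ = d * (d * w) := by rw [e3]
        _ = d * d * w := by group
  obtain ⟨k, hk⟩ := h.kk_two H hp hp1 ⟨d ^ 2, hdd⟩
  refine ⟨k + 1, Subtype.ext ?_⟩
  have h2 : (d ^ 2) ^ 2 ^ k = 1 := congrArg Subtype.val hk
  change d ^ 2 ^ (k + 1) = 1
  rw [pow_succ', pow_mul]
  exact h2

/-- `K_p ∩ C_G(V) ≤ O₂(C_G(V))` -/
theorem qq_inf_le (hp : p ∈ V) (hp1 : p ≠ 1) :
    qq V cf p ⊓ centralizer (V : Set G) ≤ o2 (centralizer (V : Set G)) := by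
  refine le_o2 inf_le_right ((h.qq_two H hp hp1).to_le inf_le_left) ?_
  refine le_normalizer_of_forall fun c hc x hx =>
    ⟨?_, (centralizer (V : Set G)).mul_mem ((centralizer (V : Set G)).mul_mem hc hx.2) (inv_mem hc)⟩
  exact conj_mem_of_normalizer (h.cf_norm_qq hp hp1) (h.cent_le_cf hp hp1 hc) hx.1

/-- `[K_p, C_G(V)] ≤ O₂(C_G(V))` -/
theorem qq_cent_le (hp : p ∈ V) (hp1 : p ≠ 1) {k c : G} (hk : k ∈ qq V cf p)
    (hc : c ∈ centralizer (V : Set G)) : k * c * k⁻¹ * c⁻¹ ∈ o2 (centralizer (V : Set G)) := by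
  refine h.qq_inf_le H hp hp1 ⟨?_, ?_⟩
  · have e2 : k * c * k⁻¹ * c⁻¹ = k * (c * k⁻¹ * c⁻¹) := by group
    rw [e2]
    exact mul_mem hk (conj_mem_of_normalizer (h.cf_norm_qq hp hp1) (h.cent_le_cf hp hp1 hc) (inv_mem hk))
  · exact (centralizer (V : Set G)).mul_mem (conj_mem_of_normalizer
      (normalizer_le_normalizer_centralizer V) (h.qq_le_normalizer hp hk) hc) (inv_mem hc)

end B

end Fam

end Cfsg.Agent.Omega.NO3S.Fit

end

section


/-!
# NO-3S, `q = 2`, `n = 1`, no `λ`-transvections: all line vectors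

`h : One T V z`, `R : MRep V cg z M H`, `y ∈ V`, `y ≠ 1, z`, `v₀ = R.pi y`.

* `LL R y` : the orbit of `v₀` (the line vectors);
* `AA R y l`, `II R y l`, `AL R y l` : the group `A_l`, the subspace `Ī_l`, the map `M → A_l` (kernel `Ē_l`), `l ∈ LL R y`;
  `One.mem_AA`, `One.mem_II`, `One.AL_eq` : they are the conjugates under ANY `x` with `x • v₀ = l`;
* `One.in_*` : all facts of `LocA.lean` at every `l ∈ LL R y`, equivariance under all of `H`.
-/

set_option autoImplicit false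
set_option linter.unusedSectionVars false

namespace Cfsg.Agent.Omega.NO3S.TwoOne

open Subgroup Cfsg Cfsg.Agent.ZN Cfsg.Agent.MinSimple.Geo Cfsg.Agent.Omega.CaseL
open Cfsg.Agent.Omega.NO3S.Fit
open Cfsg.Agent.ZN.Block (conj_mem_of_normalizer conj_mem_of_normalizer' le_normalizer_of_forall
  mem_normalizer_of)
open scoped commutatorElement

universe u

variable {G : Type u} [Group G]

section defs

variable {M H : Type u} [AddCommGroup M] [Group H] [DistribMulAction H M] {V : Subgroup G} {z : G}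
  (R : MRep V cg z M H) (y : G)

/-- the line vectors -/
def LL : Set M := Set.range fun x : H => x • R.pi y

open Classical in
/-- an element which maps `v₀` to `l` -/
noncomputable def rr (l : M) : H := if hl : ∃ x : H, x • R.pi y = l then hl.choose else 1

/-- `A_l` -/
noncomputable def AA (l : M) : Subgroup H := (a0 R y).map (MulAut.conj (rr R y l)).toMonoidHom

/-- `Ī_l` -/
noncomputable def II (l : M) : AddSubgroup M := (i0 R).map (DistribSMul.toAddMonoidHom M (rr R y l))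

/-- `M → A_l` -/
noncomputable def AL (l m : M) : H := rr R y l * al0 R y ((rr R y l)⁻¹ • m) * (rr R y l)⁻¹

theorem mem_LL {l : M} : l ∈ LL R y ↔ ∃ x : H, x • R.pi y = l := Iff.rfl

theorem self_mem_LL : R.pi y ∈ LL R y := ⟨1, one_smul _ _⟩

theorem smul_mem_LL (x : H) {l : M} (hl : l ∈ LL R y) : x • l ∈ LL R y := by
  obtain ⟨g, rfl⟩ := hl
  exact ⟨x * g, mul_smul _ _ _⟩

theorem trans_LL {l m : M} (hl : l ∈ LL R y) (hm : m ∈ LL R y) : ∃ x : H, x • l = m := by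
  obtain ⟨g, rfl⟩ := hl
  obtain ⟨k, rfl⟩ := hm
  refine ⟨k * g⁻¹, ?_⟩
  change (k * g⁻¹) • g • R.pi y = k • R.pi y
  rw [smul_smul, inv_mul_cancel_right]

theorem rr_smul {l : M} (hl : l ∈ LL R y) : rr R y l • R.pi y = l := by
  have hl' : ∃ x : H, x • R.pi y = l := hl
  unfold rr
  rw [dif_pos hl']
  exact hl'.choose_spec

end defs

namespace One

variable {T V : Subgroup G} {z : G} {M H : Type u} [AddCommGroup M] [Group H] [DistribMulAction H M]
  (h : One T V z) (R : MRep V cg z M H) {y : G} (hy : y ∈ V) (hy1 : y ≠ 1) (hyz : y ≠ z)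
include h hy hy1 hyz

theorem mem_AA [Finite G] {l : M} {x a : H} (hx : x • R.pi y = l) : a ∈ AA R y l ↔ x⁻¹ * a * x ∈ a0 R y := by
  have hl : l ∈ LL R y := ⟨x, hx⟩
  have hg := rr_smul R y hl
  set g := rr R y l with hgd
  have hs : (x⁻¹ * g) • R.pi y = R.pi y := by rw [mul_smul, hg, ← hx, inv_smul_smul]
  have hs' : (g⁻¹ * x) • R.pi y = R.pi y := by rw [mul_smul, hx, ← hg, inv_smul_smul]
  have h0 : a ∈ AA R y l ↔ g⁻¹ * a * g ∈ a0 R y := by
    unfold AA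
    rw [Subgroup.mem_map, ← hgd]
    constructor
    · rintro ⟨b, hb, rfl⟩
      have e : g⁻¹ * ((MulAut.conj g).toMonoidHom b) * g = b := by
        change g⁻¹ * (g * b * g⁻¹) * g = b
        group
      rw [e]; exact hb
    · intro hb
      refine ⟨_, hb, ?_⟩
      change g * (g⁻¹ * a * g) * g⁻¹ = a
      group
  rw [h0]
  constructor
  · intro ha
    have := h.loc_A_conj R hy hy1 hyz hs ha
    have e : x⁻¹ * g * (g⁻¹ * a * g) * (x⁻¹ * g)⁻¹ = x⁻¹ * a * x := by group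
    rwa [e] at this
  · intro ha
    have := h.loc_A_conj R hy hy1 hyz hs' ha
    have e : g⁻¹ * x * (x⁻¹ * a * x) * (g⁻¹ * x)⁻¹ = g⁻¹ * a * g := by group
    rwa [e] at this

theorem mem_II [Finite G] {l u : M} {x : H} (hx : x • R.pi y = l) : u ∈ II R y l ↔ x⁻¹ • u ∈ i0 R := by
  have hl : l ∈ LL R y := ⟨x, hx⟩
  have hg := rr_smul R y hl
  set g := rr R y l with hgd
  have hs : (x⁻¹ * g) • R.pi y = R.pi y := by rw [mul_smul, hg, ← hx, inv_smul_smul]
  have hs' : (g⁻¹ * x) • R.pi y = R.pi y := by rw [mul_smul, hx, ← hg, inv_smul_smul]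
  have h0 : u ∈ II R y l ↔ g⁻¹ • u ∈ i0 R := by
    unfold II
    rw [AddSubgroup.mem_map, ← hgd]
    constructor
    · rintro ⟨b, hb, rfl⟩
      change g⁻¹ • (g • b) ∈ i0 R
      rw [inv_smul_smul]; exact hb
    · intro hb
      exact ⟨_, hb, smul_inv_smul g u⟩
  rw [h0]
  constructor
  · intro ha
    have := h.loc_I_conj R hy hy1 hyz hs ha
    rwa [smul_smul, mul_inv_cancel_right] at this
  · intro ha
    have := h.loc_I_conj R hy hy1 hyz hs' ha
    rwa [smul_smul, mul_inv_cancel_right] at this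

theorem AL_eq [Finite G] {l : M} {x : H} (hx : x • R.pi y = l) (m : M) :
    AL R y l m = x * al0 R y (x⁻¹ • m) * x⁻¹ := by
  have hl : l ∈ LL R y := ⟨x, hx⟩
  have hg := rr_smul R y hl
  unfold AL
  set g := rr R y l with hgd
  have hs : (x⁻¹ * g) • R.pi y = R.pi y := by rw [mul_smul, hg, ← hx, inv_smul_smul]
  have h1 := h.loc_al_conj R hy hy1 hyz hs (g⁻¹ • m)
  rw [smul_smul, mul_inv_cancel_right] at h1
  rw [h1]; group

/-! ### equivariance -/

theorem in_A_conj [Finite G] {l : M} (hl : l ∈ LL R y) {x a : H} (ha : a ∈ AA R y l) : x * a * x⁻¹ ∈ AA R y (x • l) := by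
  obtain ⟨g, hg⟩ := hl
  have hg' : (x * g) • R.pi y = x • l := by rw [mul_smul]; exact congrArg _ hg
  rw [h.mem_AA R hy hy1 hyz hg] at ha
  rw [h.mem_AA R hy hy1 hyz hg']
  have e : (x * g)⁻¹ * (x * a * x⁻¹) * (x * g) = g⁻¹ * a * g := by group
  rw [e]; exact ha

theorem in_I_conj [Finite G] {l : M} (hl : l ∈ LL R y) (x : H) {u : M} (hu : u ∈ II R y l) : x • u ∈ II R y (x • l) := by
  obtain ⟨g, hg⟩ := hl
  have hg' : (x * g) • R.pi y = x • l := by rw [mul_smul]; exact congrArg _ hg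
  rw [h.mem_II R hy hy1 hyz hg] at hu
  rw [h.mem_II R hy hy1 hyz hg', smul_smul]
  have e : (x * g)⁻¹ * x = g⁻¹ := by group
  rw [e]; exact hu

theorem in_al_conj [Finite G] {l : M} (hl : l ∈ LL R y) (x : H) (m : M) :
    AL R y (x • l) (x • m) = x * AL R y l m * x⁻¹ := by
  obtain ⟨g, hg⟩ := hl
  have hg' : (x * g) • R.pi y = x • l := by rw [mul_smul]; exact congrArg _ hg
  rw [h.AL_eq R hy hy1 hyz hg', h.AL_eq R hy hy1 hyz hg, smul_smul]
  have e : (x * g)⁻¹ * x = g⁻¹ := by group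
  rw [e]; group

/-! ### the facts at every line vector -/

theorem in_gen [Finite G] : AddSubgroup.closure (LL R y) = ⊤ := R.span h.fam hy hy1 hyz

theorem in_ne [Finite G] {l : M} (hl : l ∈ LL R y) : l ≠ 0 := by
  obtain ⟨g, rfl⟩ := hl
  intro e
  apply R.v0_ne h.fam hy hy1 hyz
  have := congrArg (fun m => g⁻¹ • m) e
  change g⁻¹ • g • R.pi y = g⁻¹ • (0 : M) at this
  rwa [inv_smul_smul, smul_zero] at this

theorem in_sq [Finite G] {l : M} (hl : l ∈ LL R y) {a : H} (ha : a ∈ AA R y l) : a * a = 1 := by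
  obtain ⟨g, hg⟩ := hl
  rw [h.mem_AA R hy hy1 hyz hg] at ha
  have := h.loc_sq R hy hy1 hyz ha
  calc a * a = g * ((g⁻¹ * a * g) * (g⁻¹ * a * g)) * g⁻¹ := by group
    _ = 1 := by rw [this]; group

theorem in_comm_A [Finite G] {l : M} (hl : l ∈ LL R y) {a b : H} (ha : a ∈ AA R y l) (hb : b ∈ AA R y l) :
    a * b = b * a := by
  obtain ⟨g, hg⟩ := hl
  rw [h.mem_AA R hy hy1 hyz hg] at ha hb
  have := h.loc_comm_A R hy hy1 hyz ha hb
  calc a * b = g * ((g⁻¹ * a * g) * (g⁻¹ * b * g)) * g⁻¹ := by group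
    _ = g * ((g⁻¹ * b * g) * (g⁻¹ * a * g)) * g⁻¹ := by rw [this]
    _ = b * a := by group

theorem in_card [Finite G] {l : M} (_ : l ∈ LL R y) : Nat.card (AA R y l) = (ee V z).relIndex (ws V z) := by
  rw [← h.loc_card R hy hy1 hyz]
  exact Subgroup.card_map_of_injective (MulAut.conj (rr R y l)).injective

theorem in_self [Finite G] {l : M} (hl : l ∈ LL R y) : l ∈ II R y l := by
  obtain ⟨g, hg⟩ := hl
  rw [h.mem_II R hy hy1 hyz hg, ← hg]
  change g⁻¹ • g • R.pi y ∈ i0 R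
  rw [inv_smul_smul]
  exact h.loc_self R hy hy1

theorem in_comm [Finite G] {l : M} (hl : l ∈ LL R y) {a : H} (ha : a ∈ AA R y l) (m : M) : a • m + m ∈ II R y l := by
  obtain ⟨g, hg⟩ := hl
  rw [h.mem_AA R hy hy1 hyz hg] at ha
  rw [h.mem_II R hy hy1 hyz hg]
  have := h.loc_comm R hy hy1 hyz ha (g⁻¹ • m)
  have e : (g⁻¹ * a * g) • g⁻¹ • m + g⁻¹ • m = g⁻¹ • (a • m + m) := by
    rw [smul_add, smul_smul, smul_smul]
    congr 2
    group
  rwa [e] at this

theorem in_fix [Finite G] {l : M} (hl : l ∈ LL R y) {a : H} {u : M} (ha : a ∈ AA R y l) (hu : u ∈ II R y l) :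
    a • u = u := by
  obtain ⟨g, hg⟩ := hl
  rw [h.mem_AA R hy hy1 hyz hg] at ha
  rw [h.mem_II R hy hy1 hyz hg] at hu
  have := h.loc_fix R hy hy1 hyz ha hu
  have e : (g⁻¹ * a * g) • g⁻¹ • u = g⁻¹ • (a • u) := by
    rw [smul_smul, smul_smul]
    congr 1
    group
  rw [e] at this
  exact smul_left_cancel g⁻¹ this

/-- no plane -/
theorem in_LI [Finite G] (hP : NP V z) {l m : M} (hl : l ∈ LL R y) (hm : m ∈ LL R y) (hml : m ∈ II R y l) :
    m = l := by
  obtain ⟨g, hg⟩ := hl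
  obtain ⟨k, hk⟩ := hm
  rw [h.mem_II R hy hy1 hyz hg, ← hk] at hml
  change g⁻¹ • k • R.pi y ∈ i0 R at hml
  rw [smul_smul] at hml
  have := h.loc_LI R hy hy1 hyz hP hml
  have h1 : g • ((g⁻¹ * k) • R.pi y) = g • R.pi y := by rw [this]
  rw [smul_smul, mul_inv_cancel_left] at h1
  rw [← hk, ← hg]; exact h1

theorem in_al_mem [Finite G] {l : M} (hl : l ∈ LL R y) (m : M) : AL R y l m ∈ AA R y l := by
  obtain ⟨g, hg⟩ := hl
  rw [h.mem_AA R hy hy1 hyz hg, h.AL_eq R hy hy1 hyz hg]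
  have e : g⁻¹ * (g * al0 R y (g⁻¹ • m) * g⁻¹) * g = al0 R y (g⁻¹ • m) := by group
  rw [e]
  exact h.loc_al_mem R hy hy1 hyz _

theorem in_al_add [Finite G] {l : M} (hl : l ∈ LL R y) (m m' : M) : AL R y l (m + m') = AL R y l m * AL R y l m' := by
  obtain ⟨g, hg⟩ := hl
  rw [h.AL_eq R hy hy1 hyz hg, h.AL_eq R hy hy1 hyz hg, h.AL_eq R hy hy1 hyz hg, smul_add,
    h.loc_al_add R hy hy1 hyz]
  group

theorem in_al_surj [Finite G] {l : M} (hl : l ∈ LL R y) {a : H} (ha : a ∈ AA R y l) : ∃ m, AL R y l m = a := by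
  obtain ⟨g, hg⟩ := hl
  rw [h.mem_AA R hy hy1 hyz hg] at ha
  obtain ⟨m, hm⟩ := h.loc_al_surj R hy hy1 hyz ha
  refine ⟨g • m, ?_⟩
  rw [h.AL_eq R hy hy1 hyz hg, inv_smul_smul, hm]
  group

/-- conjugation of an element of `AA` into `a0` -/
theorem exists_a0 [Finite G] {l : M} {g : H} (hg : g • R.pi y = l) {a : H} (ha : a ∈ a0 R y) :
    g * a * g⁻¹ ∈ AA R y l := by
  rw [h.mem_AA R hy hy1 hyz hg]
  have e : g⁻¹ * (g * a * g⁻¹) * g = a := by group
  rw [e]; exact ha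

theorem in_al_ker [Finite G] (hN : NT V) {l : M} (hl : l ∈ LL R y) (m : M) :
    AL R y l m = 1 ↔ ∀ a ∈ AA R y l, a • m = m ∨ a • m = m + l := by
  obtain ⟨g, hg⟩ := hl
  have e0 : AL R y l m = 1 ↔ al0 R y (g⁻¹ • m) = 1 := by
    rw [h.AL_eq R hy hy1 hyz hg]
    exact conj_eq_one_iff
  rw [e0, h.loc_al_ker R hy hy1 hyz hN]
  constructor
  · intro hc a ha
    rw [h.mem_AA R hy hy1 hyz hg] at ha
    have h1 := hc _ ha
    have e : (g⁻¹ * a * g) • g⁻¹ • m = g⁻¹ • (a • m) := by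
      rw [smul_smul, smul_smul]
      congr 1
      group
    rw [e] at h1
    rcases h1 with h1 | h1
    · left; exact smul_left_cancel g⁻¹ h1
    · right
      have h2 := congrArg (fun u => g • u) h1
      change g • g⁻¹ • (a • m) = g • (g⁻¹ • m + R.pi y) at h2
      rw [smul_inv_smul, smul_add, smul_inv_smul] at h2
      rw [h2, ← hg]
  · intro hc a ha
    have h1 := hc _ (h.exists_a0 R hy hy1 hyz hg ha)
    have e : a • g⁻¹ • m = g⁻¹ • ((g * a * g⁻¹) • m) := by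
      rw [smul_smul, smul_smul]
      congr 1
      group
    rw [e]
    rcases h1 with h1 | h1
    · left; rw [h1]
    · right
      rw [h1, smul_add, ← hg]
      change g⁻¹ • m + g⁻¹ • g • R.pi y = _
      rw [inv_smul_smul]

/-- `β` is symmetric -/
theorem in_sy [Finite G] {l : M} (hl : l ∈ LL R y) (m m' : M) :
    AL R y l m' • m + m + (AL R y l m • m' + m') = 0 ∨ AL R y l m' • m + m + (AL R y l m • m' + m') = l := by
  obtain ⟨g, hg⟩ := hl
  have h1 := h.loc_sy R hy hy1 hyz (g⁻¹ • m) (g⁻¹ • m')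
  have e : ∀ m m' : M, al0 R y (g⁻¹ • m') • g⁻¹ • m = g⁻¹ • (AL R y l m' • m) := by
    intro m m'
    rw [h.AL_eq R hy hy1 hyz hg, smul_smul, smul_smul]
    congr 1
    group
  have e1 : al0 R y (g⁻¹ • m') • g⁻¹ • m + g⁻¹ • m + (al0 R y (g⁻¹ • m) • g⁻¹ • m' + g⁻¹ • m') =
      g⁻¹ • (AL R y l m' • m + m + (AL R y l m • m' + m')) := by
    rw [e, e, smul_add, smul_add, smul_add]
  rw [e1] at h1
  rcases h1 with h1 | h1
  · left
    exact (smul_eq_zero_iff_eq g⁻¹).mp h1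
  · right
    have h2 := congrArg (fun u => g • u) h1
    change g • g⁻¹ • _ = g • R.pi y at h2
    rw [smul_inv_smul] at h2
    exact h2.trans hg

/-- `Φ^⊥ = 0` -/
theorem in_phi [Finite G] (hN : NT V) {l : M} (hl : l ∈ LL R y) {a : H} (ha : a ∈ AA R y l) (ha1 : a ≠ 1) :
    ∃ e : M, AL R y l e = 1 ∧ a • e = e + l := by
  obtain ⟨g, hg⟩ := hl
  rw [h.mem_AA R hy hy1 hyz hg] at ha
  obtain ⟨e, he, hae⟩ := h.loc_phi R hy hy1 hyz hN ha (fun e' => ha1 (by
    calc a = g * (g⁻¹ * a * g) * g⁻¹ := by group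
      _ = 1 := by rw [e']; group))
  refine ⟨g • e, ?_, ?_⟩
  · rw [h.AL_eq R hy hy1 hyz hg, inv_smul_smul, he]; group
  · have h1 := congrArg (fun u => g • u) hae
    change g • ((g⁻¹ * a * g) • e) = g • (e + R.pi y) at h1
    rw [smul_smul, smul_add] at h1
    have e2 : g * (g⁻¹ * a * g) = a * g := by group
    rw [e2, mul_smul] at h1
    rw [h1, ← hg]

/-- (FU): `K̃_l` induces all functionals of `Ī_l / l`, centralises `A_l`, `M / Ē_l` and `Ē_l / D̄_l` -/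
theorem in_Kt [Finite G] {l : M} (hl : l ∈ LL R y) {u : M} (hu : u ∈ II R y l) (hu0 : u ≠ 0) (hul : u ≠ l) :
    ∃ c : H, c • l = l ∧ c • u = u + l ∧ (∀ a ∈ AA R y l, c * a = a * c) ∧
      (∀ m, AL R y l (c • m) = AL R y l m) ∧
      ∀ e, AL R y l e = 1 → ∀ a ∈ AA R y l, a • (c • e + e) = c • e + e := by
  obtain ⟨g, hg⟩ := hl
  have hgl : g⁻¹ • l = R.pi y := by rw [← hg]; exact inv_smul_smul g _
  rw [h.mem_II R hy hy1 hyz hg] at hu
  obtain ⟨c, h1, h2, h3, h4, h5⟩ := h.loc_Kt R hy hy1 hyz hu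
    (fun e => hu0 ((smul_eq_zero_iff_eq g⁻¹).mp e))
    (fun e => hul (smul_left_cancel g⁻¹ (e.trans hgl.symm)))
  have ec : ∀ m : M, (g * c * g⁻¹) • m = g • (c • (g⁻¹ • m)) := fun m => by
    rw [smul_smul, smul_smul, mul_assoc]
  refine ⟨g * c * g⁻¹, ?_, ?_, ?_, ?_, ?_⟩
  · rw [ec, hgl, h1]; exact hg
  · rw [ec, h2, smul_add, smul_inv_smul]
    congr 1
  · intro a ha
    rw [h.mem_AA R hy hy1 hyz hg] at ha
    have h6 := h3 _ ha
    calc g * c * g⁻¹ * a = g * (c * (g⁻¹ * a * g)) * g⁻¹ := by group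
      _ = g * ((g⁻¹ * a * g) * c) * g⁻¹ := by rw [h6]
      _ = a * (g * c * g⁻¹) := by group
  · intro m
    rw [h.AL_eq R hy hy1 hyz hg, h.AL_eq R hy hy1 hyz hg, ec, inv_smul_smul, h4]
  · intro e he a ha
    rw [h.AL_eq R hy hy1 hyz hg] at he
    rw [h.mem_AA R hy hy1 hyz hg] at ha
    have h6 := h5 _ (conj_eq_one_iff.mp he) _ ha
    have e1 : c • g⁻¹ • e + g⁻¹ • e = g⁻¹ • ((g * c * g⁻¹) • e + e) := by
      rw [smul_add, ec, inv_smul_smul]
    rw [e1, smul_smul] at h6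
    have e2 : g⁻¹ * a * g * g⁻¹ = g⁻¹ * a := by group
    rw [e2, mul_smul] at h6
    exact smul_left_cancel g⁻¹ h6

/-- **(TI)** -/
theorem in_TI [Finite G] (hN : NT V) (hP : NP V z) {l m : M} (hl : l ∈ LL R y) (hm : m ∈ LL R y) {a : H}
    (ha : a ∈ AA R y l) (ham : a ∈ AA R y m) (ha1 : a ≠ 1) : l = m := by
  obtain ⟨g, hg⟩ := hl
  obtain ⟨k, hk⟩ := hm
  rw [h.mem_AA R hy hy1 hyz hg] at ha
  rw [h.mem_AA R hy hy1 hyz hk] at ham
  have h1 := h.loc_TI R hy hy1 hyz hN hP (x := g⁻¹ * k) ha (fun e' => ha1 (by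
    calc a = g * (g⁻¹ * a * g) * g⁻¹ := by group
      _ = 1 := by rw [e']; group)) (by
    have e : (g⁻¹ * k)⁻¹ * (g⁻¹ * a * g) * (g⁻¹ * k) = k⁻¹ * a * k := by group
    rw [e]; exact ham)
  have h2 : g • ((g⁻¹ * k) • R.pi y) = g • R.pi y := by rw [h1]
  rw [smul_smul, mul_inv_cancel_left] at h2
  rw [← hg, ← hk]; exact h2.symm

/-- `C_H(a) ≤ H_l` for `a ∈ A_l#` -/
theorem in_cent [Finite G] (hN : NT V) (hP : NP V z) {l : M} (hl : l ∈ LL R y) {a x : H} (ha : a ∈ AA R y l)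
    (ha1 : a ≠ 1) (hxa : x * a = a * x) : x • l = l := by
  refine (h.in_TI R hy hy1 hyz hN hP hl (smul_mem_LL R y x hl) ha ?_ ha1).symm
  have := h.in_A_conj R hy hy1 hyz hl (x := x) ha
  rwa [hxa, mul_inv_cancel_right] at this

/-- `N_H(A_l) = H_l` (planes allowed) -/
theorem in_norm [Finite G] {l : M} (hl : l ∈ LL R y) {x : H} (hx : ∀ a ∈ AA R y l, x * a * x⁻¹ ∈ AA R y l) :
    x • l = l := by
  obtain ⟨g, hg⟩ := hl
  have h1 := h.rep_norm R hy hy1 hyz (x := g⁻¹ * x * g) (by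
    intro a ha
    rw [h.ww_cg hy hy1] at ha ⊢
    have h2 := hx _ (h.exists_a0 R hy hy1 hyz hg ha)
    rw [h.mem_AA R hy hy1 hyz hg] at h2
    have e : g⁻¹ * x * g * a * (g⁻¹ * x * g)⁻¹ = g⁻¹ * (x * (g * a * g⁻¹) * x⁻¹) * g := by group
    rw [e]; exact h2)
  have h2 : g • ((g⁻¹ * x * g) • R.pi y) = g • R.pi y := by rw [h1]
  rw [smul_smul] at h2
  have e : g * (g⁻¹ * x * g) = x * g := by group
  rw [e, mul_smul] at h2
  rw [← hg]; exact h2

/-- `C_M(A_l) = D̄_l`; `D_z = I` : it is `Ī_l` -/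
theorem in_D [Finite G] (hN : NT V) (hD : dd V z ≤ ii V) {l : M} (hl : l ∈ LL R y) {m : M}
    (hm : ∀ a ∈ AA R y l, a • m = m) : m ∈ II R y l := by
  obtain ⟨g, hg⟩ := hl
  rw [h.mem_II R hy hy1 hyz hg]
  obtain ⟨w, hw, e⟩ := h.rp_surj R (g⁻¹ • m)
  rw [← e, h.mem_i0 R]
  refine ⟨w, hD ((h.loc_D R hy hy1 hyz hN hw).mp fun a ha => ?_), rfl⟩
  have h1 := hm _ (h.exists_a0 R hy hy1 hyz hg ha)
  rw [e]
  have e1 : a • g⁻¹ • m = g⁻¹ • ((g * a * g⁻¹) • m) := by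
    rw [smul_smul, smul_smul]
    congr 1
    group
  rw [e1, h1]

end One

end Cfsg.Agent.Omega.NO3S.TwoOne

end

section


/-!
# NO-3S, `q = 2`, `n = 1`: the module seen from another line

`h : One T V z`, `R : MRep V cg z M H`.  For `l ∈ LL R y` there are a line `V'` on `z`, a point `q` of `V'`, `One T' V' z`
and `R' : MRep V' cg z M H` with the same `pi`, `phi` such that `R.pi q = l` and `LL`, `AA`, `II`, `AL` are the same:
`One.base`.  So every statement about a line vector `l` may be proved at `v₀`.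
-/

set_option autoImplicit false
set_option linter.unusedSectionVars false

namespace Cfsg.Agent.Omega.NO3S.TwoOne

open Subgroup Cfsg Cfsg.Agent.ZN Cfsg.Agent.MinSimple.Geo Cfsg.Agent.Omega.CaseL
open Cfsg.Agent.Omega.NO3S.Fit
open Cfsg.Agent.ZN.Block (conj_mem_of_normalizer conj_mem_of_normalizer' le_normalizer_of_forall
  mem_normalizer_of)
open scoped commutatorElement

universe u

variable {G : Type u} [Group G]

theorem conj_mem_xl' {V : Subgroup G} (g : G) {k : G} (hk : k ∈ xl V) : g * k * g⁻¹ ∈ xl (cj g V) := by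
  have h1 : xl V ≤ cj g⁻¹ (xl (cj g V)) := by
    refine xl_le fun p hp hp1 k hk => ?_
    rw [mem_cj, inv_inv]
    refine kq_le_xl (conj_mem_cj hp) (fun e => hp1 (conj_eq_one_iff.mp e)) ?_
    rw [kq_cj]
    exact conj_mem_kq g hk
  have := mem_cj.mp (h1 hk)
  rwa [inv_inv] at this

theorem tw_cj {V : Subgroup G} (g : G) {p a q b : G} (ht : Tw V p a q b) :
    Tw (cj g V) (g * p * g⁻¹) (g * a * g⁻¹) (g * q * g⁻¹) (g * b * g⁻¹) := by
  obtain ⟨c, hc, hcp, h2⟩ := ht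
  refine ⟨g * c * g⁻¹, conj_mem_xl' g hc, ?_, ?_⟩
  · rw [← hcp]; group
  · have h3 := conj_mem_ee' g h2
    have e : g * (c * a * c⁻¹ * b⁻¹) * g⁻¹ = g * c * g⁻¹ * (g * a * g⁻¹) * (g * c * g⁻¹)⁻¹ * (g * b * g⁻¹)⁻¹ := by
      group
    rwa [e] at h3

/-- the same module, another member of the class of `V` -/
def lineRep {V V' : Subgroup G} {z : G} {M H : Type u} [AddCommGroup M] [Group H] [DistribMulAction H M]
    (R : MRep V cg z M H) (hw : ww V' cg z = ww V cg z) (hq : qq V' cg z = qq V cg z) : MRep V' cg z M H where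
  pi := R.pi
  phi := R.phi
  pi_mul := fun a ha b hb => R.pi_mul a (hw ▸ ha) b (hw ▸ hb)
  pi_surj := fun m => by
    obtain ⟨w, hw', e⟩ := R.pi_surj m
    exact ⟨w, hw ▸ hw', e⟩
  pi_ker := fun w hw' => R.pi_ker w (hw ▸ hw')
  phi_mul := R.phi_mul
  phi_surj := R.phi_surj
  phi_ker := fun c hc => by rw [hq]; exact R.phi_ker c hc
  act := fun c hc w hw' => R.act c hc w (hw ▸ hw')

namespace One

variable {T V : Subgroup G} {z : G} {M H : Type u} [AddCommGroup M] [Group H] [DistribMulAction H M]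

/-- **the base change** -/
theorem base [Finite G] (h : One T V z) (R : MRep V cg z M H) {y : G} (hy : y ∈ V) (hy1 : y ≠ 1) (hyz : y ≠ z)
    {l : M} (hl : l ∈ LL R y) :
    ∃ (T' V' : Subgroup G) (q : G) (_ : One T' V' z) (R' : MRep V' cg z M H), V' ∈ lines V z ∧ q ∈ V' ∧ q ≠ 1 ∧
      q ≠ z ∧ R'.pi = R.pi ∧ R'.phi = R.phi ∧ R.pi q = l ∧ LL R' q = LL R y ∧
      (∀ m ∈ LL R y, AA R' q m = AA R y m) ∧ (∀ m ∈ LL R y, II R' q m = II R y m) ∧
      (∀ m ∈ LL R y, ∀ w, AL R' q m w = AL R y m w) ∧ (NT V → NT V') ∧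
      (ee V' z).relIndex (ws V' z) = (ee V z).relIndex (ws V z) ∧ ∃ f : G, f * z * f⁻¹ = z ∧ V' = cj f V := by
  have hz := h.ln.z_mem
  have hz1 := h.ln.z_ne
  obtain ⟨x, hx⟩ := hl
  obtain ⟨f, hf, rfl⟩ := R.phi_surj x
  change R.phi f • R.pi y = l at hx
  have hfz : f * z * f⁻¹ = z := conj_eq_of_comm (mem_centralizer_singleton_iff.mp hf)
  have hyW := h.V_le hz hz1 hy
  have hL : cj f V ∈ lines V z := by
    have := mem_lines_cj (g := f) (L := V) (V := V) (x := z) ⟨⟨1, (cj_one V).symm⟩, hz⟩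
    rwa [hfz] at this
  obtain ⟨-, -, T', h'⟩ := h.of_line hL hz1
  have hww : ww (cj f V) cg z = ww V cg z := by rw [h'.ww_cg hL.2 hz1, h.ww_cg hz hz1, ws_cj]
  have hqq : qq (cj f V) cg z = qq V cg z := by rw [h'.qq_cg, h.qq_cg, kq_cj]
  set q := f * y * f⁻¹ with hq
  have hqL : q ∈ cj f V := conj_mem_cj hy
  have hq1 : q ≠ 1 := fun e => hy1 (conj_eq_one_iff.mp e)
  have hqz : q ≠ z := fun e => hyz (by
    calc y = f⁻¹ * q * f := by rw [hq]; group
      _ = f⁻¹ * (f * z * f⁻¹) * f := by rw [e, hfz]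
      _ = z := by group)
  have hpq : R.phi f • R.pi y = R.pi q := h.rp_act R hf hyW
  let R' := lineRep R hww hqq
  have hpi : R'.pi = R.pi := rfl
  have hphi : R'.phi = R.phi := rfl
  set F := R.phi f with hF
  -- the data at `v₀' = F v₀`
  have hLL : LL R' q = LL R y := by
    ext m
    constructor
    · rintro ⟨x, hx'⟩
      refine ⟨x * F, ?_⟩
      change (x * F) • R.pi y = m
      rw [mul_smul, hpq]; exact hx'
    · rintro ⟨x, hx'⟩
      refine ⟨x * F⁻¹, ?_⟩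
      change (x * F⁻¹) • R.pi q = m
      rw [← hpq, smul_smul, inv_mul_cancel_right]; exact hx'
  have hxF : ∀ {x : H} {m : M}, x • R.pi y = m → (x * F⁻¹) • R'.pi q = m := by
    intro x m e
    change (x * F⁻¹) • R.pi q = m
    rw [← hpq, smul_smul, inv_mul_cancel_right]; exact e
  have hA : ∀ a : H, a ∈ a0 R' q ↔ F⁻¹ * a * F ∈ a0 R y := by
    intro a
    rw [h'.mem_a0 R' hqL hq1, h.mem_a0 R hy hy1]
    constructor
    · rintro ⟨b, hb, rfl⟩
      rw [ws_cj] at hb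
      have h1 : f⁻¹ * b * f ∈ ws V y := by
        have := conj_mem_ws f⁻¹ hb
        have e : f⁻¹ * q * f⁻¹⁻¹ = y := by rw [hq]; group
        rwa [e, inv_inv] at this
      refine ⟨_, h1, ?_⟩
      have hbc : b ∈ cg z := by
        have := h'.ws_le_cz hqL hq1 (by rw [ws_cj]; exact hb)
        exact this
      rw [R.phi_mul _ (mul_mem (inv_mem hf) hbc) f hf, R.phi_mul _ (inv_mem hf) b hbc, R.phi_inv hf]
      rfl
    · rintro ⟨b, hb, e⟩
      refine ⟨f * b * f⁻¹, by rw [ws_cj]; exact conj_mem_ws f hb, ?_⟩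
      have hbc : b ∈ cg z := h.ws_le_cz hy hy1 hb
      change R.phi _ = a
      rw [R.phi_mul _ (mul_mem hf hbc) _ (inv_mem hf), R.phi_mul f hf b hbc, R.phi_inv hf, e, ← hF]
      group
  have hI : ∀ u : M, u ∈ i0 R' ↔ F⁻¹ • u ∈ i0 R := by
    intro u
    rw [h'.mem_i0 R', h.mem_i0 R]
    constructor
    · rintro ⟨v, hv, rfl⟩
      have hvz : v ∈ ws V z := by
        have := ii_le hL.2 hz1 hv
        rwa [ws_cj] at this
      refine ⟨f⁻¹ * v * f, ?_, ?_⟩
      · intro p hp hp1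
        have h1 := hv (f * p * f⁻¹) (conj_mem_cj hp) (fun e => hp1 (conj_eq_one_iff.mp e))
        rw [ws_cj] at h1
        have h2 := conj_mem_ws f⁻¹ h1
        have e : f⁻¹ * (f * p * f⁻¹) * f⁻¹⁻¹ = p := by group
        rwa [e, inv_inv] at h2
      · have h1 := h.rp_act R (inv_mem hf) hvz
        rw [inv_inv, R.phi_inv hf] at h1
        exact h1.symm
    · rintro ⟨v, hv, e⟩
      refine ⟨f * v * f⁻¹, ?_, ?_⟩
      · intro p hp hp1
        have h1 := hv _ (mem_cj.mp hp) (conj_ne_one hp1)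
        have h2 := conj_mem_ws f h1
        have e : f * (f⁻¹ * p * f) * f⁻¹ = p := by group
        rw [ws_cj]
        rwa [e] at h2
      · change R.pi _ = u
        rw [← h.rp_act R hf (ii_le hz hz1 hv), e]
        exact smul_inv_smul F u
  have hal : ∀ m : M, al0 R' q m = F * al0 R y (F⁻¹ • m) * F⁻¹ := by
    intro m
    obtain ⟨w, hw, b, hb, e, ht, e1⟩ := h.exists_al0 R hy hy1 hyz (F⁻¹ • m)
    have hwz : f * w * f⁻¹ ∈ ws V z := by
      have := conj_mem_ws f hw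
      rwa [hfz] at this
    have h1 : R'.pi (f * w * f⁻¹) = m := by
      change R.pi _ = m
      rw [← h.rp_act R hf hw, e]
      exact smul_inv_smul F m
    have h2 : Tw (cj f V) z (f * w * f⁻¹) q (f * b * f⁻¹) := by
      have := tw_cj f ht
      rwa [hfz] at this
    have h3 := h'.al0_eq R' hqL hq1 hqz (by rw [ws_cj]; exact hwz) (by rw [ws_cj]; exact conj_mem_ws f hb) h2
    rw [h1] at h3
    rw [h3, e1]
    have hbc : b ∈ cg z := h.ws_le_cz hy hy1 hb
    change R.phi _ = _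
    rw [R.phi_mul _ (mul_mem hf hbc) _ (inv_mem hf), R.phi_mul f hf b hbc, R.phi_inv hf]
  refine ⟨T', cj f V, q, h', R', hL, hqL, hq1, hqz, rfl, rfl, hpq.symm.trans hx, hLL, ?_, ?_, ?_, ?_, ?_, f, hfz, rfl⟩
  · rintro m ⟨x, hx'⟩
    ext a
    rw [h'.mem_AA R' hqL hq1 hqz (hxF hx'), h.mem_AA R hy hy1 hyz hx', hA]
    have e : F⁻¹ * ((x * F⁻¹)⁻¹ * a * (x * F⁻¹)) * F = x⁻¹ * a * x := by group
    rw [e]
  · rintro m ⟨x, hx'⟩
    ext u
    rw [h'.mem_II R' hqL hq1 hqz (hxF hx'), h.mem_II R hy hy1 hyz hx', hI, smul_smul]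
    have e : F⁻¹ * (x * F⁻¹)⁻¹ = x⁻¹ := by group
    rw [e]
  · rintro m ⟨x, hx'⟩ w
    rw [h'.AL_eq R' hqL hq1 hqz (hxF hx'), h.AL_eq R hy hy1 hyz hx', hal, smul_smul]
    have e : F⁻¹ * (x * F⁻¹)⁻¹ = x⁻¹ := by group
    rw [e]
    group
  · intro hN; exact NT.conj hN f
  · have e1 : cj f (ee V z) = ee (cj f V) z := by
      ext w
      rw [mem_cj]
      constructor
      · intro hw
        have := conj_mem_ee' f hw
        rw [hfz] at this
        have e : f * (f⁻¹ * w * f) * f⁻¹ = w := by group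
        rwa [e] at this
      · intro hw
        have := conj_mem_ee' f⁻¹ hw
        have e2 : f⁻¹ * z * f⁻¹⁻¹ = z := by
          rw [inv_inv]
          calc f⁻¹ * z * f = f⁻¹ * (f * z * f⁻¹) * f := by rw [hfz]
            _ = z := by group
        have e3 : cj f⁻¹ (cj f V) = V := by
          ext v
          rw [mem_cj, mem_cj]
          have e : f⁻¹ * (f⁻¹⁻¹ * v * f⁻¹) * f = v := by group
          rw [e]
        rw [e2, e3] at this
        rwa [inv_inv] at this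
    have e2 : cj f (ws V z) = ws (cj f V) z := by rw [cj_ws, hfz, ws_cj]
    rw [← e1, ← e2, relIndex_cj]

end One

end Cfsg.Agent.Omega.NO3S.TwoOne

end
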