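import Cfsg.Agent.Mrg.Omega.NO3S.TwoOne.Three
import Cfsg.Agent.Mrg.Omega.NO3S.TwoOne.Irr
import Cfsg.Agent.Involutions.BaerSuzuki

section


/-!
# NO-3S, `q = 2`, `n = 1`: planes on which all `W_q` have the same image (THEOREM P, part 1)

* `Sp p q x` : `x ∈ ⟨p, q⟩ = {1, p, q, pq}`;
* `Pa V U` : `U` is a plane, and for each `t ∈ U#` all `W_q`, `q ∈ U - ⟨t⟩`, have the same image in `C_G(t) / K_t`;
* `Ps V U` : the facts about such a plane which are used below (`Pa.ps`: they hold if `NT V`, i.e. if `A` contains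
  no `λ`-transvections).
-/

set_option autoImplicit false
set_option linter.unusedSectionVars false

namespace Cfsg.Agent.Omega.NO3S.TwoOne

open Subgroup Cfsg Cfsg.Agent.ZN Cfsg.Agent.MinSimple.Geo Cfsg.Agent.Omega.CaseL
open Cfsg.Agent.ZN.Block (conj_mem_of_normalizer conj_mem_of_normalizer' le_normalizer_of_forall
  mem_normalizer_of)
open scoped commutatorElement

universe u

variable {G : Type u} [Group G]

/-- `x ∈ {1, p, q, p q}` -/
def Sp (p q x : G) : Prop := x = 1 ∨ x = p ∨ x = q ∨ x = p * q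

theorem Sp.mul {p q x y : G} (hp : p * p = 1) (hq : q * q = 1) (hpq : p * q = q * p) (hx : Sp p q x)
    (hy : Sp p q y) : Sp p q (x * y) := by
  have h1 : p * (p * q) = q := by rw [← mul_assoc, hp, one_mul]
  have h2 : q * (p * q) = p := by rw [hpq, ← mul_assoc, hq, one_mul]
  have h3 : p * q * p = q := by rw [hpq, mul_assoc, hp, mul_one]
  have h4 : p * q * q = p := by rw [mul_assoc, hq, mul_one]
  have h5 : p * q * (p * q) = 1 := by rw [← mul_assoc, h3, hq]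
  rcases hx with hx | hx | hx | hx <;> rcases hy with hy | hy | hy | hy <;> rw [hx, hy]
  · left; exact one_mul 1
  · right; left; exact one_mul p
  · right; right; left; exact one_mul q
  · right; right; right; exact one_mul _
  · right; left; exact mul_one p
  · left; exact hp
  · right; right; right; rfl
  · right; right; left; exact h1
  · right; right; left; exact mul_one q
  · right; right; right; exact hpq.symm
  · left; exact hq
  · right; left; exact h2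
  · right; right; right; exact mul_one _
  · right; right; left; exact h3
  · right; left; exact h4
  · left; exact h5

/-- a plane on which all `W_q` have the same image -/
structure Pa (V U : Subgroup G) : Prop where
  pl : Pln V U
  pa : ∀ t ∈ U, t ≠ 1 → ∀ q ∈ U, q ≠ 1 → q ≠ t → ∀ q' ∈ U, q' ≠ 1 → q' ≠ t → ∀ a ∈ ws V q,
    ∃ b ∈ ws V q', a * b⁻¹ ∈ kq V t

theorem Pln.conj {V U : Subgroup G} (h : Pln V U) (g : G) : Pln V (cj g U) where
  card := by rw [card_cj, h.card]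
  sq := by
    intro u hu
    have := h.sq _ (mem_of_cj hu)
    calc u * u = g * (g⁻¹ * u * g * (g⁻¹ * u * g)) * g⁻¹ := by group
      _ = 1 := by rw [this]; group
  line := by
    intro p hp q hq hp1 hq1 hpq
    obtain ⟨L, hL, hqL⟩ := h.line _ (mem_of_cj hp) _ (mem_of_cj hq) (conj_ne_one hp1) (conj_ne_one hq1)
      (fun e => hpq (by
        calc p = g * (g⁻¹ * p * g) * g⁻¹ := by group
          _ = g * (g⁻¹ * q * g) * g⁻¹ := by rw [e]
          _ = q := by group))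
    refine ⟨cj g L, ?_, ?_⟩
    · have := mem_lines_cj (g := g) hL
      have e : g * (g⁻¹ * p * g) * g⁻¹ = p := by group
      rwa [e] at this
    · have := conj_mem_cj (g := g) hqL
      have e : g * (g⁻¹ * q * g) * g⁻¹ = q := by group
      rwa [e] at this

theorem Pa.conj {V U : Subgroup G} (h : Pa V U) (g : G) : Pa V (cj g U) where
  pl := h.pl.conj g
  pa := by
    intro t ht ht1 q hq hq1 hqt q' hq' hq1' hqt' a ha
    have hne : ∀ {x y : G}, x ≠ y → g⁻¹ * x * g ≠ g⁻¹ * y * g := fun {x y} hxy e => hxy (by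
      calc x = g * (g⁻¹ * x * g) * g⁻¹ := by group
        _ = g * (g⁻¹ * y * g) * g⁻¹ := by rw [e]
        _ = y := by group)
    have ha' : g⁻¹ * a * g ∈ ws V (g⁻¹ * q * g) := by
      have := conj_mem_ws g⁻¹ ha
      rwa [inv_inv] at this
    obtain ⟨b, hb, hk⟩ := h.pa _ (mem_of_cj ht) (conj_ne_one ht1) _ (mem_of_cj hq) (conj_ne_one hq1)
      (hne hqt) _ (mem_of_cj hq') (conj_ne_one hq1') (hne hqt') _ ha'
    refine ⟨g * b * g⁻¹, ?_, ?_⟩
    · have := conj_mem_ws g hb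
      have e : g * (g⁻¹ * q' * g) * g⁻¹ = q' := by group
      rwa [e] at this
    · have := conj_mem_kq g hk
      have e1 : g * (g⁻¹ * t * g) * g⁻¹ = t := by group
      have e2 : g * (g⁻¹ * a * g * b⁻¹) * g⁻¹ = a * (g * b * g⁻¹)⁻¹ := by group
      rwa [e1, e2] at this

/-- the facts used below -/
structure Ps (V U : Subgroup G) : Prop where
  card : Nat.card U = 8
  sq : ∀ u ∈ U, u * u = 1
  le : ∀ p ∈ U, p ≠ 1 → U ≤ ws V p
  ab : ∀ p ∈ U, p ≠ 1 → ∀ a ∈ ws V p, ∀ b ∈ ws V p, a * b = b * a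
  sw : ∀ p ∈ U, p ≠ 1 → ∀ a ∈ ws V p, a * a = 1
  trv : ∀ p ∈ U, p ≠ 1 → ∀ q ∈ U, q ≠ 1 → q ≠ p → ∀ r ∈ U, r ≠ 1 → r ≠ p → r ≠ q → r ≠ p * q →
    ∃ k ∈ kq V p, k * q * k⁻¹ = p * q ∧ k * r * k⁻¹ = r
  ee : ∀ p ∈ U, p ≠ 1 → ∀ q ∈ U, q ≠ 1 → q ≠ p → ∀ w ∈ ws V p, w ∈ kq V q → w ∈ kq V (p * q)
  dz : ∀ p ∈ U, p ≠ 1 → ∀ q ∈ U, q ≠ 1 → q ≠ p → ∀ w ∈ ws V p, (∀ b ∈ ws V q, ⁅w, b⁆ ∈ zpowers p) →
    ∀ b ∈ ws V q, w * b = b * w
  phi : ∀ p ∈ U, p ≠ 1 → ∀ q ∈ U, q ≠ 1 → q ≠ p → ∃ e ∈ ws V p, e ∈ kq V q ∧ ∃ b ∈ ws V q, e * b ≠ b * e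
  nt : ∀ p ∈ U, p ≠ 1 → ∀ q ∈ U, q ≠ 1 → q ≠ p → ∀ b ∈ ws V q, (∀ a ∈ ws V p, Sp p q ⁅a, b⁆) → b ∈ kq V p
  pa : ∀ t ∈ U, t ≠ 1 → ∀ q ∈ U, q ≠ 1 → q ≠ t → ∀ q' ∈ U, q' ≠ 1 → q' ≠ t → ∀ a ∈ ws V q,
    ∃ b ∈ ws V q', a * b⁻¹ ∈ kq V t

theorem exists_notMem_of_card {U : Subgroup G} (hc : Nat.card U = 8) (S : Set G) (hS : S.ncard < 8) (hf : S.Finite) :
    ∃ r ∈ U, r ∉ S := by
  by_contra hcon
  push Not at hcon
  have h1 : (U : Set G) ⊆ S := fun x hx => hcon x hx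
  have h2 := Set.ncard_le_ncard h1 hf
  have h3 : (U : Set G).ncard = 8 := by
    rw [← hc]; rfl
  omega

theorem exists_ne {U : Subgroup G} (hc : Nat.card U = 8) (p : G) : ∃ q ∈ U, q ≠ 1 ∧ q ≠ p := by
  obtain ⟨r, hr, hrS⟩ := exists_notMem_of_card hc {1, p}
    (lt_of_le_of_lt (Set.ncard_insert_le _ _) (by rw [Set.ncard_singleton]; norm_num)) (Set.toFinite _)
  simp only [Set.mem_insert_iff, Set.mem_singleton_iff, not_or] at hrS
  exact ⟨r, hr, hrS.1, hrS.2⟩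

theorem exists_ne₂ {U : Subgroup G} (hc : Nat.card U = 8) (p q : G) :
    ∃ r ∈ U, r ≠ 1 ∧ r ≠ p ∧ r ≠ q ∧ r ≠ p * q := by
  have h4 : ({1, p, q, p * q} : Set G).ncard ≤ 4 := by
    refine (Set.ncard_insert_le _ _).trans ?_
    have := Set.ncard_insert_le p ({q, p * q} : Set G)
    have := Set.ncard_insert_le q ({p * q} : Set G)
    rw [Set.ncard_singleton] at this
    omega
  obtain ⟨r, hr, hrS⟩ := exists_notMem_of_card hc {1, p, q, p * q} (by omega) (Set.toFinite _)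
  simp only [Set.mem_insert_iff, Set.mem_singleton_iff, not_or] at hrS
  exact ⟨r, hr, hrS.1, hrS.2.1, hrS.2.2.1, hrS.2.2.2⟩

theorem conj_mem_ee' {V : Subgroup G} (g : G) {w p : G} (hw : w ∈ ee V p) :
    g * w * g⁻¹ ∈ ee (cj g V) (g * p * g⁻¹) := by
  refine ⟨by rw [ws_cj]; exact conj_mem_ws g hw.1, fun q hq hq1 => ?_⟩
  rw [kq_cj]
  have h1 := conj_mem_kq g (hw.2 _ (mem_of_cj hq) (conj_ne_one hq1))
  have e : g * (g⁻¹ * q * g) * g⁻¹ = q := by group
  rwa [e] at h1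

/-- `NT` is invariant under conjugation -/
theorem NT.conj {V : Subgroup G} (h : NT V) (g : G) : NT (cj g V) := by
  intro p hp hp1 w hw
  have hw' : g⁻¹ * w * g ∈ n0 V (g⁻¹ * p * g) := by
    obtain ⟨h1, h2, h3⟩ := hw
    rw [ws_cj] at h1
    refine ⟨?_, ?_, fun q hq hq1 b hb => ?_⟩
    · have := conj_mem_ws g⁻¹ h1
      rwa [inv_inv] at this
    · rw [mem_centralizer_iff]
      intro v hv
      have := mem_centralizer_iff.mp h2 _ (conj_mem_cj (g := g) hv)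
      calc v * (g⁻¹ * w * g) = g⁻¹ * (g * v * g⁻¹ * w) * g := by group
        _ = g⁻¹ * (w * (g * v * g⁻¹)) * g := by rw [this]
        _ = g⁻¹ * w * g * v := by group
    · have h4 := h3 _ (conj_mem_cj (g := g) hq) (fun e => hq1 (conj_eq_one_iff.mp e)) (g * b * g⁻¹)
        (by rw [ws_cj]; exact conj_mem_ws g hb)
      have h5 := mem_of_cj h4
      have e : g⁻¹ * ⁅w, g * b * g⁻¹⁆ * g = ⁅g⁻¹ * w * g, b⁆ := by
        simp only [commutatorElement_def]; group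
      rwa [e] at h5
  have h1 := conj_mem_ee' g (h _ (mem_of_cj hp) (conj_ne_one hp1) hw')
  have e1 : g * (g⁻¹ * w * g) * g⁻¹ = w := by group
  have e2 : g * (g⁻¹ * p * g) * g⁻¹ = p := by group
  rwa [e1, e2] at h1

/-- the line through two points of a plane -/
theorem One.exists_one {T V U : Subgroup G} {z : G} (h : One T V z) (hU : Pln V U) {p q : G} (hp : p ∈ U)
    (hp1 : p ≠ 1) (hq : q ∈ U) (hq1 : q ≠ 1) (hqp : q ≠ p) :
    ∃ T' g, One T' (cj g V) p ∧ p ∈ cj g V ∧ q ∈ cj g V := by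
  obtain ⟨L, hL, hqL⟩ := hU.line p hp q hq hp1 hq1 (Ne.symm hqp)
  obtain ⟨g, rfl, T', h'⟩ := h.of_line hL hp1
  exact ⟨T', g, h', hL.2, hqL⟩

theorem Pa.ps [Finite G] {T V U : Subgroup G} {z : G} (h : One T V z) (hN : NT V) (hU : Pa V U) : Ps V U where
  card := hU.pl.card
  sq := hU.pl.sq
  le := by
    intro p hp hp1 x hx
    by_cases hx1 : x = 1
    · rw [hx1]; exact one_mem _
    by_cases hxp : x = p
    · obtain ⟨q, hq, hq1, hqp⟩ := exists_ne hU.pl.card p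
      obtain ⟨L, hL, -⟩ := hU.pl.line p hp q hq hp1 hq1 (Ne.symm hqp)
      rw [hxp]; exact le_ws hL hL.2
    · obtain ⟨L, hL, hxL⟩ := hU.pl.line p hp x hx hp1 hx1 (Ne.symm hxp)
      exact le_ws hL hxL
  ab := by
    intro p hp hp1
    obtain ⟨q, hq, hq1, hqp⟩ := exists_ne hU.pl.card p
    obtain ⟨T', g, h', -, -⟩ := h.exists_one hU.pl hp hp1 hq hq1 hqp
    have := h'.ab
    rwa [ws_cj] at this
  sw := by
    intro p hp hp1
    obtain ⟨q, hq, hq1, hqp⟩ := exists_ne hU.pl.card p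
    obtain ⟨T', g, h', -, -⟩ := h.exists_one hU.pl hp hp1 hq hq1 hqp
    have := h'.sqz
    rwa [ws_cj] at this
  trv := by
    intro p hp hp1 q hq hq1 hqp r hr hr1 hrp hrq hrpq
    exact h.pln_trv hU.pl hp hp1 hq hq1 hqp hr hr1 hrp hrq hrpq
  ee := by
    intro p hp hp1 q hq hq1 hqp w hw hk
    obtain ⟨T', g, h', hpL, hqL⟩ := h.exists_one hU.pl hp hp1 hq hq1 hqp
    have h1 := h'.mem_ee hpL hp1 hqL hq1 hqp (w := w) (by rwa [ws_cj]) (by rwa [kq_cj])
    have h2 := h1.2 _ (mul_mem hpL hqL) (h'.mul_ne_one hqL (Ne.symm hqp))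
    rwa [kq_cj] at h2
  dz := by
    intro p hp hp1 q hq hq1 hqp w hw hc
    obtain ⟨T', g, h', hpL, hqL⟩ := h.exists_one hU.pl hp hp1 hq hq1 hqp
    have h1 := (h'.nt_mem_dd (hN.conj g) hpL hp1 hqL hq1 hqp (w := w)).mpr (by
      rw [ws_cj, ws_cj]; exact ⟨hw, hc⟩)
    have h2 := h1.2 _ hqL hq1
    rwa [ws_cj] at h2
  phi := by
    intro p hp hp1 q hq hq1 hqp
    obtain ⟨T', g, h', hpL, hqL⟩ := h.exists_one hU.pl hp hp1 hq hq1 hqp
    obtain ⟨e, he, b, hb, hc⟩ := h'.exists_ee_comm hpL hp1 (h'.nt_phi (hN.conj g) hpL hp1) hpL hp1 hqL hq1 hqp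
    refine ⟨e, ?_, ?_, b, ?_, fun e' => ?_⟩
    · have := he.1; rwa [ws_cj] at this
    · have := he.2 q hqL hq1; rwa [kq_cj] at this
    · rwa [ws_cj] at hb
    · rw [commutatorElement_eq_one_iff_mul_comm.mpr e'] at hc
      exact hq1 hc.symm
  nt := by
    intro p hp hp1 q hq hq1 hqp b hb hc
    obtain ⟨T', g, h', hpL, hqL⟩ := h.exists_one hU.pl hp hp1 hq hq1 hqp
    have hb' : b ∈ ws (cj g V) q := by rwa [ws_cj]
    have h1 : b ∈ n0 (cj g V) q := by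
      refine h'.mem_n0 hqL hq1 hpL hp1 (Ne.symm hqp) hb' fun a ha => ?_
      rw [h'.comm_swap hpL hp1 hqL hq1 ha hb']
      rw [ws_cj] at ha
      rcases hc a ha with e | e | e | e <;> rw [e]
      · exact one_mem _
      · exact hpL
      · exact hqL
      · exact mul_mem hpL hqL
    have h2 := ((hN.conj g) q hqL hq1 h1).2 p hpL hp1
    rwa [kq_cj] at h2
  pa := hU.pa

end Cfsg.Agent.Omega.NO3S.TwoOne

end

section


/-!
# NO-3S, `q = 2`, `n = 1`: planes on which all `W_q` have the same image (THEOREM P, part 2)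

`P : Ps V U`.

* `Ps.alpha` : `[W_p ∩ K_q, W_s] ≤ ⟨p, q⟩` for all points `s` of `U`;
* `Ps.two` : if `x ∉ ⟨q, r⟩` and `g ∈ W_q ∩ K_r` does not centralise `W_r`, some `ε ∈ W_x ∩ K_q` has `[ε, g] = q`;
* `Ps.jj` : `r^κ = q`, `κ ∈ K_{qr}`, `g ∈ W_r ∩ K_q` : `g g^κ` centralises `W_p` for all `p ∈ U - ⟨q, r⟩`;
* `Ps.three` : every `t ∈ U - ⟨x⟩` is a commutator of elements of `C(W_x) ∩ ⟨W_p | p ∈ U#⟩`.
-/

set_option autoImplicit false
set_option linter.unusedSectionVars false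

namespace Cfsg.Agent.Omega.NO3S.TwoOne

open Subgroup Cfsg Cfsg.Agent.ZN Cfsg.Agent.MinSimple.Geo Cfsg.Agent.Omega.CaseL
open Cfsg.Agent.ZN.Block (conj_mem_of_normalizer conj_mem_of_normalizer' le_normalizer_of_forall
  mem_normalizer_of)
open scoped commutatorElement

universe u

variable {G : Type u} [Group G]

namespace Ps

variable {V U : Subgroup G} {p q r s x t : G}

theorem inv_eq (P : Ps V U) (hp : p ∈ U) : p⁻¹ = p := inv_eq_self (P.sq p hp)

theorem cU (P : Ps V U) (hp : p ∈ U) (hp1 : p ≠ 1) {w u : G} (hw : w ∈ ws V p) (hu : u ∈ U) :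
    w * u = u * w := P.ab p hp hp1 w hw u (P.le p hp hp1 hu)

theorem uc (P : Ps V U) (hp : p ∈ U) (hq : q ∈ U) : p * q = q * p := by
  have h1 := P.sq _ (mul_mem hp hq)
  calc p * q = (p * q)⁻¹ := (inv_eq_self h1).symm
    _ = q⁻¹ * p⁻¹ := by group
    _ = q * p := by rw [P.inv_eq hp, P.inv_eq hq]

theorem kc (P : Ps V U) (hp : p ∈ U) {k w : G} (hk : k ∈ kq V p) (hw : w ∈ ws V p) :
    k * w * k⁻¹ = w ∨ k * w * k⁻¹ = p * w := by
  rcases (mem_zpowers_iff_of_mul_self (P.sq p hp)).mp (kq_comm hk hw) with e | e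
  · left
    calc k * w * k⁻¹ = (k * w * k⁻¹ * w⁻¹) * w := by group
      _ = w := by rw [e, one_mul]
  · right
    calc k * w * k⁻¹ = (k * w * k⁻¹ * w⁻¹) * w := by group
      _ = p * w := by rw [e]

theorem kp {V : Subgroup G} {p k : G} (hk : k ∈ kq V p) : k * p = p * k :=
  mem_centralizer_singleton_iff.mp (kq_le_centralizer V p hk)

theorem wsn {V : Subgroup G} {p g w : G} (hg : g * p = p * g) (hw : w ∈ ws V p) : g * w * g⁻¹ ∈ ws V p :=
  conj_mem_of_normalizer (centralizer_le_normalizer_ws V p) (mem_centralizer_singleton_iff.mpr hg) hw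

theorem kqn {V : Subgroup G} {p g k : G} (hg : g * p = p * g) (hk : k ∈ kq V p) : g * k * g⁻¹ ∈ kq V p :=
  conj_mem_of_normalizer (centralizer_le_normalizer_kq V p) (mem_centralizer_singleton_iff.mpr hg) hk

theorem wk (P : Ps V U) (hp : p ∈ U) (hp1 : p ≠ 1) {w : G} (hw : w ∈ ws V p) : w ∈ kq V p := by
  refine ⟨mem_centralizer_singleton_iff.mpr (P.cU hp hp1 hw hp), fun v hv => ?_, fun v hv => ?_⟩
  · rw [P.ab p hp hp1 w hw v hv]
    simp
  · have := P.ab p hp hp1 v hv w hw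
    have e : w⁻¹ * v * w * v⁻¹ = w⁻¹ * (v * w) * v⁻¹ := by group
    rw [e, this]
    simp

theorem uk (P : Ps V U) (hp : p ∈ U) (hp1 : p ≠ 1) {u : G} (hu : u ∈ U) : u ∈ kq V p :=
  P.wk hp hp1 (P.le p hp hp1 hu)

/-- `[K_q ∩ C(p), W_p] ≤ W_p ∩ K_q` -/
theorem ke (P : Ps V U) (hp : p ∈ U) (hp1 : p ≠ 1) (hq : q ∈ U) {k w : G} (hk : k ∈ kq V q)
    (hkp : k * p = p * k) (hw : w ∈ ws V p) : k * w * k⁻¹ * w⁻¹ ∈ ws V p ∧ k * w * k⁻¹ * w⁻¹ ∈ kq V q := by
  refine ⟨mul_mem (wsn hkp hw) (inv_mem hw), ?_⟩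
  have e : k * w * k⁻¹ * w⁻¹ = k * (w * k⁻¹ * w⁻¹) := by group
  rw [e]
  exact mul_mem hk (kqn (P.cU hp hp1 hw hq) (inv_mem hk))

theorem kw (P : Ps V U) (hq : q ∈ U) {e w : G} (he : e ∈ kq V q) (hw : w ∈ ws V q) :
    ⁅e, w⁆ = 1 ∨ ⁅e, w⁆ = q := by
  rcases P.kc hq he hw with e1 | e1
  · left; rw [commutatorElement_def, e1, mul_inv_cancel]
  · right; rw [commutatorElement_def, e1, mul_inv_cancel_right]

/-- `[w, e] = [e, w]` if one of them is an involution of `U` -/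
theorem swap (P : Ps V U) {a b : G} (h : ⁅a, b⁆ ∈ U) : ⁅b, a⁆ = ⁅a, b⁆ := by
  rw [← commutatorElement_inv, P.inv_eq h]

/-- **(α)** `[W_p ∩ K_q, W_s] ≤ ⟨p, q⟩` -/
theorem alpha (P : Ps V U) (hp : p ∈ U) (hp1 : p ≠ 1) (hq : q ∈ U) (hq1 : q ≠ 1) (hqp : q ≠ p)
    (hs : s ∈ U) (hs1 : s ≠ 1) {e w : G} (he : e ∈ ws V p) (hk : e ∈ kq V q) (hw : w ∈ ws V s) :
    Sp p q ⁅e, w⁆ := by
  by_cases hsp : s = p
  · left
    rw [hsp] at hw
    exact commutatorElement_eq_one_iff_mul_comm.mpr (P.ab p hp hp1 e he w hw)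
  · obtain ⟨v, hv, hκ⟩ := P.pa p hp hp1 s hs hs1 hsp q hq hq1 hqp w hw
    set κ := w * v⁻¹ with hκd
    have hw' : w = κ * v := by rw [hκd]; group
    have e1 : ⁅e, w⁆ = ⁅e, κ⁆ * (κ * ⁅e, v⁆ * κ⁻¹) := by
      rw [hw']; simp only [commutatorElement_def]; group
    have hκq : κ * q * κ⁻¹ = q ∨ κ * q * κ⁻¹ = p * q := P.kc hp hκ (P.le p hp hp1 hq)
    have h1 : Sp p q ⁅e, κ⁆ := by
      have e2 : ⁅e, κ⁆ = e * (κ * e * κ⁻¹)⁻¹ := by rw [commutatorElement_def]; group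
      rcases P.kc hp hκ he with e3 | e3
      · left; rw [e2, e3, mul_inv_cancel]
      · right; left
        rw [e2, e3, mul_inv_rev, mul_inv_cancel_left, P.inv_eq hp]
    have h2 : Sp p q (κ * ⁅e, v⁆ * κ⁻¹) := by
      rcases P.kw hq hk hv with e3 | e3
      · left; rw [e3]; group
      · rw [e3]
        rcases hκq with e4 | e4
        · right; right; left; exact e4
        · right; right; right; exact e4
    rw [e1]
    exact Sp.mul (P.sq p hp) (P.sq q hq) (P.uc hp hq) h1 h2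

theorem sp_mem (_ : Ps V U) (hp : p ∈ U) (hq : q ∈ U) {y : G} (h : Sp p q y) : y ∈ U := by
  rcases h with e | e | e | e <;> rw [e]
  · exact one_mem _
  · exact hp
  · exact hq
  · exact mul_mem hp hq

/-- `p q ≠ 1` -/
theorem mne (P : Ps V U) (hq : q ∈ U) (hpq : p ≠ q) : p * q ≠ 1 := fun e =>
  hpq (by rw [mul_eq_one_iff_eq_inv.mp e, P.inv_eq hq])

/-- `W_p ∩ K_q ∩ K_{q'} ≤ C(W_q)` for independent `p, q, q'` -/
theorem two_lines (P : Ps V U) {q' : G} (hp : p ∈ U) (hp1 : p ≠ 1) (hq : q ∈ U) (hq1 : q ≠ 1) (hqp : q ≠ p)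
    (hq' : q' ∈ U) (hq1' : q' ≠ 1) (hqp' : q' ≠ p) (hqq : q' ≠ q) (hpqq : q' ≠ p * q) {e : G}
    (he : e ∈ ws V p) (hk : e ∈ kq V q) (hk' : e ∈ kq V q') : ∀ w ∈ ws V q, e * w = w * e := by
  intro w hw
  rw [← commutatorElement_eq_one_iff_mul_comm]
  rcases P.kw hq hk hw with e1 | e1
  · exact e1
  · exfalso
    have h1 := P.alpha hp hp1 hq' hq1' hqp' hq hq1 he hk' hw
    rw [e1] at h1
    rcases h1 with e2 | e2 | e2 | e2
    · exact hq1 e2
    · exact hqp e2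
    · exact hqq e2.symm
    · apply hpqq
      rw [e2, ← mul_assoc, P.sq p hp, one_mul]

/-- **(2')** -/
theorem two (P : Ps V U) (hq : q ∈ U) (hq1 : q ≠ 1) (hr : r ∈ U) (hr1 : r ≠ 1) (hrq : r ≠ q)
    (hx : x ∈ U) (hx1 : x ≠ 1) (hxq : x ≠ q) (hxr : x ≠ r) (hxqr : x ≠ q * r) {g : G}
    (hg : g ∈ ws V q) (hgr : g ∈ kq V r) (hgc : ∃ b ∈ ws V r, g * b ≠ b * g) :
    ∃ e ∈ ws V x, e ∈ kq V q ∧ ⁅e, g⁆ = q := by
  have hgx : g ∉ kq V x := by
    intro h1
    obtain ⟨b, hb, hbg⟩ := hgc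
    exact hbg (P.two_lines hq hq1 hr hr1 hrq hx hx1 hxq hxr hxqr hg hgr h1 b hb)
  obtain ⟨w, hw, hwc⟩ : ∃ w ∈ ws V x, ¬ Sp x q ⁅w, g⁆ := by
    by_contra hcon
    push Not at hcon
    exact hgx (P.nt x hx hx1 q hq hq1 (Ne.symm hxq) g hg hcon)
  have h1 := P.alpha hq hq1 hr hr1 hrq hx hx1 hg hgr hw
  have hcU := P.sp_mem hq hr h1
  have hsw := P.swap hcU
  rw [← hsw] at hcU h1
  set c := ⁅w, g⁆ with hc
  obtain ⟨h, hh, hhr, hhx⟩ := P.trv q hq hq1 r hr hr1 hrq x hx hx1 hxq hxr hxqr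
  have hhq : h * q = q * h := kp hh
  have hcr : h * c * h⁻¹ = q * c := by
    rcases h1 with e | e | e | e
    · exact absurd (Or.inl e) hwc
    · exact absurd (Or.inr (Or.inr (Or.inl e))) hwc
    · rw [e]; exact hhr
    · rw [e]
      calc h * (q * r) * h⁻¹ = (h * q) * r * h⁻¹ := by group
        _ = q * (h * r * h⁻¹) := by rw [hhq]; group
        _ = q * (q * r) := by rw [hhr]
  have hhx' : h * x = x * h := comm_of_conj_eq hhx
  obtain ⟨he, hek⟩ := P.ke hx hx1 hq hh hhx' hw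
  refine ⟨_, he, hek, ?_⟩
  -- `[w^h, g] = c^h`
  have hwq : w * q = q * w := P.cU hx hx1 hw hq
  have h2 : ⁅h * w * h⁻¹, g⁆ = h * c * h⁻¹ := by
    have e1 : ⁅h * w * h⁻¹, g⁆ = h * ⁅w, h⁻¹ * g * h⁆ * h⁻¹ := by
      simp only [commutatorElement_def]; group
    rw [e1]
    have hh' : h⁻¹ ∈ kq V q := inv_mem hh
    rcases P.kc hq hh' hg with e2 | e2
    · rw [inv_inv] at e2; rw [e2]
    · rw [inv_inv] at e2
      rw [e2]
      have e3 : ⁅w, q * g⁆ = ⁅w, g⁆ := by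
        have hcq : q * ⁅w, g⁆ = ⁅w, g⁆ * q := P.uc hq hcU
        calc ⁅w, q * g⁆ = (w * q) * g * w⁻¹ * g⁻¹ * q⁻¹ := by simp only [commutatorElement_def]; group
          _ = q * (w * g * w⁻¹ * g⁻¹) * q⁻¹ := by rw [hwq]; group
          _ = (q * ⁅w, g⁆) * q⁻¹ := by rw [commutatorElement_def]
          _ = ⁅w, g⁆ := by rw [hcq, mul_inv_cancel_right]
      rw [e3]
  have h3 : h * w * h⁻¹ ∈ ws V x := wsn hhx' hw
  have hgc' : g * c = c * g := P.cU hq hq1 hg hcU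
  -- `[a w⁻¹, g] = [a, g] [w, g]`
  have hwg : g * w⁻¹ * g⁻¹ = w⁻¹ * c := by rw [hc, commutatorElement_def]; group
  have h4 : ⁅h * w * h⁻¹ * w⁻¹, g⁆ = (h * w * h⁻¹) * (⁅w⁻¹, g⁆) * (h * w * h⁻¹)⁻¹ * ⁅h * w * h⁻¹, g⁆ := by
    simp only [commutatorElement_def]; group
  have h5 : ⁅w⁻¹, g⁆ = c := by
    have hc1 : c⁻¹ = c := P.inv_eq hcU
    have hwc' : w * c = c * w := P.cU hx hx1 hw hcU
    calc ⁅w⁻¹, g⁆ = w⁻¹ * (g * w⁻¹ * g⁻¹)⁻¹ := by rw [commutatorElement_def]; group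
      _ = w⁻¹ * (c⁻¹ * w) := by rw [hwg]; group
      _ = w⁻¹ * (w * c) := by rw [hc1, hwc']
      _ = c := by group
  have h6 : (h * w * h⁻¹) * c = c * (h * w * h⁻¹) := P.cU hx hx1 h3 hcU
  rw [h4, h5, h6, mul_inv_cancel_right, h2, hcr, ← mul_assoc, P.uc hcU hq, mul_assoc, P.sq c hcU, mul_one]

/-- `D_p` is the same for all lines of `U` on `p` -/
theorem dall (P : Ps V U) (hp : p ∈ U) (hp1 : p ≠ 1) (hq : q ∈ U) (hq1 : q ≠ 1) (hqp : q ≠ p)
    (hr : r ∈ U) (hr1 : r ≠ 1) {w : G} (hw : w ∈ ws V p) (hc : ∀ b ∈ ws V q, w * b = b * w) :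
    ∀ b ∈ ws V r, w * b = b * w := by
  by_cases hrp : r = p
  · rw [hrp]
    exact fun b hb => P.ab p hp hp1 w hw b hb
  · refine P.dz p hp hp1 r hr hr1 hrp w hw fun b hb => ?_
    obtain ⟨b', hb', hκ⟩ := P.pa p hp hp1 r hr hr1 hrp q hq hq1 hqp b hb
    set κ := b * b'⁻¹ with hκd
    have e0 : b = κ * b' := by rw [hκd]; group
    have e1 : ⁅w, b⁆ = w * (κ * w * κ⁻¹)⁻¹ := by
      have h1 := hc b' hb'
      rw [e0]
      calc ⁅w, κ * b'⁆ = w * κ * (b' * w⁻¹) * b'⁻¹ * κ⁻¹ := by rw [commutatorElement_def]; group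
        _ = w * κ * (w⁻¹ * b') * b'⁻¹ * κ⁻¹ := by rw [inv_comm_of h1]
        _ = w * (κ * w * κ⁻¹)⁻¹ := by group
    rw [e1]
    rcases P.kc hp hκ hw with e | e
    · rw [e, mul_inv_cancel]; exact one_mem _
    · rw [e, mul_inv_rev, mul_inv_cancel_left]; exact inv_mem (mem_zpowers p)

/-- the elements of `K_x` commute on `W_x` -/
theorem kk (P : Ps V U) (hx : x ∈ U) {k e : G} (hk : k ∈ kq V x) (he : e ∈ kq V x) :
    ∀ w ∈ ws V x, ⁅e, k⁆ * w = w * ⁅e, k⁆ := by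
  intro w hw
  have hke : (k * e)⁻¹ ∈ kq V x := inv_mem (mul_mem hk he)
  have h1 : (k * e)⁻¹ * w * (k * e) ∈ ws V x := by
    have := wsn (kp hke) hw
    rwa [inv_inv] at this
  set v := (k * e)⁻¹ * w * (k * e) with hv
  have hex : ∀ y, e * (x * y) * e⁻¹ = x * (e * y * e⁻¹) := fun y => by
    calc e * (x * y) * e⁻¹ = (e * x) * y * e⁻¹ := by group
      _ = x * (e * y * e⁻¹) := by rw [kp he]; group
  have hkx : ∀ y, k * (x * y) * k⁻¹ = x * (k * y * k⁻¹) := fun y => by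
    calc k * (x * y) * k⁻¹ = (k * x) * y * k⁻¹ := by group
      _ = x * (k * y * k⁻¹) := by rw [kp hk]; group
  have h2 : e * (k * v * k⁻¹) * e⁻¹ = k * (e * v * e⁻¹) * k⁻¹ := by
    rcases P.kc hx hk h1 with f1 | f1 <;> rcases P.kc hx he h1 with f2 | f2 <;>
      simp only [f1, f2, hex, hkx]
  calc ⁅e, k⁆ * w = (e * (k * v * k⁻¹) * e⁻¹) * ⁅e, k⁆ := by
        rw [hv, commutatorElement_def]; group
    _ = (k * (e * v * e⁻¹) * k⁻¹) * ⁅e, k⁆ := by rw [h2]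
    _ = w * ⁅e, k⁆ := by rw [hv, commutatorElement_def]; group

/-- if `U` centralises `w`, then `[w, u g] = [w, g]` modulo conjugation by `u` -/
theorem comm_u (P : Ps V U) {u w g : G} (hu : u ∈ U) (hwu : w * u = u * w) (hc : ⁅w, g⁆ ∈ U) :
    ⁅w, u * g⁆ = ⁅w, g⁆ := by
  calc ⁅w, u * g⁆ = (w * u) * g * w⁻¹ * g⁻¹ * u⁻¹ := by simp only [commutatorElement_def]; group
    _ = (u * ⁅w, g⁆) * u⁻¹ := by rw [hwu, commutatorElement_def]; group
    _ = ⁅w, g⁆ := by rw [P.uc hu hc, mul_inv_cancel_right]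

/-- `[g, u w] = [g, w]` if `g` centralises `u` -/
theorem comm_u' (P : Ps V U) {u w g : G} (hu : u ∈ U) (hgu : g * u = u * g) (hc : ⁅g, w⁆ ∈ U) :
    ⁅g, u * w⁆ = ⁅g, w⁆ := P.comm_u hu hgu hc

/-- Lemma J for a `κ` which fixes `p` -/
theorem jj₀ (P : Ps V U) (hq : q ∈ U) (hq1 : q ≠ 1) (hr : r ∈ U) (hr1 : r ≠ 1) (hrq : r ≠ q)
    (hp : p ∈ U) (hp1 : p ≠ 1) (hpq : p ≠ q) (hpr : p ≠ r) (hpqr : p ≠ q * r) {g κ : G}
    (hg : g ∈ ws V r) (hgq : g ∈ kq V q) (hκ : κ ∈ kq V (q * r)) (hκr : κ * r * κ⁻¹ = q)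
    (hκp : κ * p = p * κ) : ∀ w ∈ ws V p, (g * (κ * g * κ⁻¹)) * w = w * (g * (κ * g * κ⁻¹)) := by
  intro w hw
  have hs : q * r ∈ U := mul_mem hq hr
  have hs1 : q * r ≠ 1 := P.mne hr (Ne.symm hrq)
  have hrr := P.sq r hr
  have hqq := P.sq q hq
  have hκq : κ * q * κ⁻¹ = r := by
    have e1 : κ * (q * r) * κ⁻¹ = q * r := conj_eq_of_comm (kp hκ)
    have e2 : κ * q * κ⁻¹ = (κ * (q * r) * κ⁻¹) * (κ * r * κ⁻¹)⁻¹ := by group
    rw [e2, e1, hκr, P.uc hq hr, mul_inv_cancel_right]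
  have hg' : κ * g * κ⁻¹ ∈ ws V q := by
    have := conj_mem_ws κ hg
    rwa [hκr] at this
  have hg'r : κ * g * κ⁻¹ ∈ kq V r := by
    have := conj_mem_kq κ hgq
    rwa [hκq] at this
  set g' := κ * g * κ⁻¹ with hg'd
  -- `g g' ∈ K_p`
  have hsp : q * r ≠ p := Ne.symm hpqr
  obtain ⟨v, hv, hgv⟩ := P.pa p hp hp1 r hr hr1 (Ne.symm hpr) (q * r) hs hs1 hsp g hg
  have hk1 : g' * g⁻¹ ∈ kq V p := by
    have h1 : κ * (g * v⁻¹) * κ⁻¹ ∈ kq V p := kqn hκp hgv
    have h2 : κ * v * κ⁻¹ * v⁻¹ ∈ kq V p := by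
      rcases P.kc hs hκ hv with e | e
      · rw [e, mul_inv_cancel]; exact one_mem _
      · rw [e, mul_inv_cancel_right]; exact P.uk hp hp1 hs
    have h3 := mul_mem (mul_mem h1 h2) (inv_mem hgv)
    have e : κ * (g * v⁻¹) * κ⁻¹ * (κ * v * κ⁻¹ * v⁻¹) * (g * v⁻¹)⁻¹ = g' * g⁻¹ := by
      rw [hg'd]; group
    rwa [e] at h3
  have hgp : g * p = p * g := P.cU hr hr1 hg hp
  have hk2 : g * g' ∈ kq V p := by
    have h1 : g * (g' * g⁻¹) * g⁻¹ ∈ kq V p := kqn hgp hk1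
    have h2 : g⁻¹ = g := inv_eq_self (P.sw r hr hr1 g hg)
    have e : g * (g' * g⁻¹) * g⁻¹ = g * g' := by
      rw [mul_assoc, mul_assoc, ← mul_inv_rev, P.sw r hr hr1 g hg, inv_one, mul_one]
    rwa [e] at h1
  rw [← commutatorElement_eq_one_iff_mul_comm]
  rcases P.kw hp hk2 hw with e | e
  · exact e
  · exfalso
    -- `[g, w], [g', w] ∈ ⟨q, r⟩`
    have h1 := P.alpha hr hr1 hq hq1 (Ne.symm hrq) hp hp1 hg hgq hw
    have h2 := P.alpha hq hq1 hr hr1 hrq hp hp1 hg' hg'r hw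
    have h1' : Sp q r ⁅g, w⁆ := by
      rcases h1 with f | f | f | f
      · exact Or.inl f
      · exact Or.inr (Or.inr (Or.inl f))
      · exact Or.inr (Or.inl f)
      · exact Or.inr (Or.inr (Or.inr (f.trans (P.uc hr hq))))
    have h3 : ⁅g * g', w⁆ = ⁅g', w⁆ * ⁅g, w⁆ := by
      have hc := P.cU hr hr1 hg (P.sp_mem hq hr h2)
      calc ⁅g * g', w⁆ = (g * ⁅g', w⁆) * g⁻¹ * ⁅g, w⁆ := by simp only [commutatorElement_def]; group
        _ = ⁅g', w⁆ * ⁅g, w⁆ := by rw [hc]; group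
    rw [h3] at e
    have h4 := Sp.mul hqq hrr (P.uc hq hr) h2 h1'
    rw [e] at h4
    rcases h4 with f | f | f | f
    · exact hp1 f
    · exact hpq f
    · exact hpr f
    · exact hpqr f

/-- **Lemma J** -/
theorem jj (P : Ps V U) (hq : q ∈ U) (hq1 : q ≠ 1) (hr : r ∈ U) (hr1 : r ≠ 1) (hrq : r ≠ q)
    (hp : p ∈ U) (hp1 : p ≠ 1) (hpq : p ≠ q) (hpr : p ≠ r) (hpqr : p ≠ q * r) {g κ : G}
    (hg : g ∈ ws V r) (hgq : g ∈ kq V q) (hκ : κ ∈ kq V (q * r)) (hκr : κ * r * κ⁻¹ = q) :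
    ∀ w ∈ ws V p, (g * (κ * g * κ⁻¹)) * w = w * (g * (κ * g * κ⁻¹)) := by
  have hs : q * r ∈ U := mul_mem hq hr
  have hs1 : q * r ≠ 1 := P.mne hr (Ne.symm hrq)
  have hrr := P.sq r hr
  have hqq := P.sq q hq
  have hqr := P.uc hq hr
  have hrs : r ≠ q * r := fun e => hq1 (by simpa using e.symm)
  have hqs : q ≠ q * r := fun e => hr1 (by simpa using e.symm)
  have hsr : q * r * r = q := by rw [mul_assoc, hrr, mul_one]
  have hsq : r * q = q * r := hqr.symm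
  obtain ⟨κ', hκ', hκr', hκp'⟩ := P.trv (q * r) hs hs1 r hr hr1 hrs p hp hp1 hpqr hpr (by
    rw [hsr]; exact hpq)
  rw [hsr] at hκr'
  have hJ := P.jj₀ hq hq1 hr hr1 hrq hp hp1 hpq hpr hpqr hg hgq hκ' hκr' (comm_of_conj_eq hκp')
  -- `v = κ' g κ'⁻¹`
  set v := κ' * g * κ'⁻¹ with hvd
  set c := κ * κ'⁻¹ with hcd
  have hc : c ∈ kq V (q * r) := mul_mem hκ (inv_mem hκ')
  have hcq : c * q = q * c := by
    refine comm_of_conj_eq ?_
    calc c * q * c⁻¹ = κ * (κ'⁻¹ * q * κ') * κ⁻¹ := by rw [hcd]; group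
      _ = κ * r * κ⁻¹ := by rw [← hκr']; group
      _ = q := hκr
  have hgs : g ∈ kq V (q * r) := by
    have := P.ee r hr hr1 q hq hq1 (Ne.symm hrq) g hg hgq
    rwa [hsq] at this
  have hv : v ∈ ws V q := by
    have := conj_mem_ws κ' hg
    rwa [hκr'] at this
  have hvs : v ∈ kq V (q * r) := kqn (kp hκ') hgs
  have h4 : ∀ w ∈ ws V (q * r), (c * v * c⁻¹) * w * (c * v * c⁻¹)⁻¹ = v * w * v⁻¹ := by
    intro w hw
    have hcw : ⁅c * v * c⁻¹, w⁆ = ⁅v, w⁆ := by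
      have e1 : ⁅c * v * c⁻¹, w⁆ = c * ⁅v, c⁻¹ * w * c⁆ * c⁻¹ := by
        simp only [commutatorElement_def]; group
      have h1 : ⁅v, c⁻¹ * w * c⁆ = ⁅v, w⁆ := by
        rcases P.kc hs (inv_mem hc) hw with e | e
        · rw [inv_inv] at e; rw [e]
        · rw [inv_inv] at e; rw [e]
          refine P.comm_u' hs (P.cU hq hq1 hv hs) ?_
          rcases P.kw hs hvs hw with f | f <;> rw [f]
          · exact one_mem _
          · exact hs
      rw [e1, h1]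
      rcases P.kw hs hvs hw with f | f <;> rw [f]
      · group
      · exact conj_eq_of_comm (kp hc)
    have := congrArg (· * w) hcw
    simp only [commutatorElement_def, inv_mul_cancel_right] at this
    exact this
  have hcv : c * v * c⁻¹ ∈ ws V q := wsn hcq hv
  set d := c * v * c⁻¹ * v⁻¹ with hdd
  have hd0 : d ∈ ws V q := mul_mem hcv (inv_mem hv)
  have hd : ∀ w ∈ ws V (q * r), d * w = w * d := by
    intro w hw
    have h3 : v⁻¹ * w * v ∈ ws V (q * r) := by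
      have := wsn (kp (inv_mem hvs)) hw
      rwa [inv_inv] at this
    have h5 := h4 _ h3
    have h6 : v * (v⁻¹ * w * v) * v⁻¹ = w := by group
    rw [h6] at h5
    refine comm_of_conj_eq ?_
    calc d * w * d⁻¹ = (c * v * c⁻¹) * (v⁻¹ * w * v) * (c * v * c⁻¹)⁻¹ := by rw [hdd]; group
      _ = w := h5
  intro w hw
  have hdr := P.dall hq hq1 hs hs1 (Ne.symm hqs) hr hr1 hd0 hd g hg
  have hdp := P.dall hq hq1 hs hs1 (Ne.symm hqs) hp hp1 hd0 hd w hw
  have e1 : κ * g * κ⁻¹ = d * v := by rw [hdd, hcd, hvd]; group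
  have e2 : g * (κ * g * κ⁻¹) = d * (g * v) := by
    rw [e1, ← mul_assoc, ← hdr, mul_assoc]
  rw [e2]
  exact mul_comm_of hdp (hJ w hw)

/-- the group `⟨W_p | p ∈ U#⟩` -/
def _root_.Cfsg.Agent.Omega.NO3S.TwoOne.fpl (V U : Subgroup G) : Subgroup G :=
  closure {w | ∃ p ∈ U, p ≠ 1 ∧ w ∈ ws V p}

theorem _root_.Cfsg.Agent.Omega.NO3S.TwoOne.ws_le_fpl {V U : Subgroup G} {p : G} (hp : p ∈ U) (hp1 : p ≠ 1) :
    ws V p ≤ fpl V U := fun _ hw => subset_closure ⟨p, hp, hp1, hw⟩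

/-- every `t ∈ U - ⟨x⟩` is a commutator of elements of `C(W_x) ∩ ⟨W_p | p ∈ U#⟩` -/
theorem three (P : Ps V U) (hx : x ∈ U) (hx1 : x ≠ 1) (ht : t ∈ U) (ht1 : t ≠ 1) (htx : t ≠ x) :
    ∃ j ∈ fpl V U, ∃ j' ∈ fpl V U, (∀ w ∈ ws V x, j * w = w * j) ∧ (∀ w ∈ ws V x, j' * w = w * j') ∧
      ⁅j, j'⁆ = t := by
  obtain ⟨r, hr, hr1, hrx, hrt, hrxt⟩ := exists_ne₂ P.card x t
  have hxx := P.sq x hx
  have htt := P.sq t ht
  have hxt := P.uc hx ht
  -- `e ∈ E_t^m`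
  obtain ⟨e, he, hex, b, hb, heb⟩ := P.phi t ht ht1 x hx hx1 (Ne.symm htx)
  -- `g ∈ E_r^n`, `[g, e] = t`
  obtain ⟨g, hg, hgt, hge⟩ := P.two ht ht1 hx hx1 (Ne.symm htx) hr hr1 hrt hrx (by rw [← hxt]; exact hrxt)
    he hex ⟨b, hb, heb⟩
  -- `κ`
  have htr := P.uc ht hr
  have hs : t * r ∈ U := mul_mem ht hr
  have hs1 : t * r ≠ 1 := P.mne hr (Ne.symm hrt)
  have hrs : r ≠ t * r := fun e => ht1 (by simpa using e.symm)
  have hsr : t * r * r = t := by rw [mul_assoc, P.sq r hr, mul_one]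
  have hxs : x ≠ t * r := fun e => hrxt (by
    rw [e, mul_assoc, P.uc hr ht, ← mul_assoc, htt, one_mul])
  obtain ⟨κ, hκ, hκr, -⟩ := P.trv (t * r) hs hs1 r hr hr1 hrs x hx hx1 hxs (Ne.symm hrx)
    (by rw [hsr]; exact Ne.symm htx)
  rw [hsr] at hκr
  -- `k`
  obtain ⟨k, hk, hkt, -⟩ := P.trv x hx hx1 t ht ht1 htx r hr hr1 hrx hrt hrxt
  set g' := κ * g * κ⁻¹ with hg'd
  have hg' : g' ∈ ws V t := by
    have := conj_mem_ws κ hg
    rwa [hκr] at this
  have he' : k * e * k⁻¹ ∈ ws V (x * t) := by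
    have := conj_mem_ws k he
    rwa [hkt] at this
  have hxt1 : x * t ≠ 1 := P.mne ht (Ne.symm htx)
  have hxtU : x * t ∈ U := mul_mem hx ht
  have hee : e⁻¹ = e := inv_eq_self (P.sw t ht ht1 e he)
  have hj : ⁅e, k⁆ = e * (k * e * k⁻¹) := by
    rw [commutatorElement_def]
    calc e * k * e⁻¹ * k⁻¹ = e * (k * e⁻¹ * k⁻¹) := by group
      _ = e * (k * e * k⁻¹) := by rw [hee]
  have hJ := fun p (hp : p ∈ U) (hp1 : p ≠ 1) (hpt : p ≠ t) (hpr : p ≠ r) (hptr : p ≠ t * r) =>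
    P.jj ht ht1 hr hr1 hrt hp hp1 hpt hpr hptr hg hgt hκ hκr
  have hJx := hJ x hx hx1 (Ne.symm htx) (Ne.symm hrx) hxs
  have hJxt := hJ (x * t) hxtU hxt1 (fun e => hx1 (by simpa using e)) (Ne.symm hrxt)
    (fun e => hrx (by
      have := congrArg (t * ·) e
      change t * (x * t) = t * (t * r) at this
      rw [← mul_assoc, ← mul_assoc, htt, one_mul, ← hxt, mul_assoc, htt, mul_one] at this
      exact this.symm))
  refine ⟨⁅e, k⁆, ?_, g * g', ?_, P.kk hx hk hex, hJx, ?_⟩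
  · rw [hj]
    exact mul_mem (ws_le_fpl ht ht1 he) (ws_le_fpl hxtU hxt1 he')
  · exact mul_mem (ws_le_fpl hr hr1 hg) (ws_le_fpl ht ht1 hg')
  · -- `[e e^k, g g'] = [e, g g'] = [e, g] = t`
    have h1 := hJxt _ he'
    have h2 : ⁅e * (k * e * k⁻¹), g * g'⁆ = ⁅e, g * g'⁆ := by
      calc ⁅e * (k * e * k⁻¹), g * g'⁆ =
          e * ((k * e * k⁻¹) * (g * g')) * (k * e * k⁻¹)⁻¹ * e⁻¹ * (g * g')⁻¹ := by
            rw [commutatorElement_def]; group
        _ = e * ((g * g') * (k * e * k⁻¹)) * (k * e * k⁻¹)⁻¹ * e⁻¹ * (g * g')⁻¹ := by rw [h1]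
        _ = ⁅e, g * g'⁆ := by rw [commutatorElement_def]; group
    have h3 : ⁅e, g * g'⁆ = ⁅e, g⁆ := by
      have h4 := P.ab t ht ht1 e he g' hg'
      calc ⁅e, g * g'⁆ = e * g * (g' * e⁻¹) * g'⁻¹ * g⁻¹ := by rw [commutatorElement_def]; group
        _ = e * g * (e⁻¹ * g') * g'⁻¹ * g⁻¹ := by rw [inv_comm_of h4]
        _ = ⁅e, g⁆ := by rw [commutatorElement_def]; group
    rw [hj, h2, h3, ← commutatorElement_inv, hge, P.inv_eq ht]

end Ps

end Cfsg.Agent.Omega.NO3S.TwoOne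

end

section


/-!
# NO-3S, `q = 2`, `n = 1`: THEOREM P

`h : One T V z`, `A` the image of `W_y` in `H = C_G(z) / K_z`, `λ = V / z`.

* `One.false_of_pa` : if `A` contains no `λ`-transvection there is no plane `U ∋ z` such that for each `t ∈ U#` all
  `W_q`, `q ∈ U - ⟨t⟩`, have the same image in `C_G(t) / K_t`;
* `One.norm_of_image` (**THEOREM P**) : `f ∈ C_G(z)`, `A^f ≤ A` imply `f ∈ N_G(V)`, i.e. `N_H(A) = H_λ`;
* `One.norm_of_comm` : `C_H(A) ≤ H_λ`.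
-/

set_option autoImplicit false
set_option linter.unusedSectionVars false

namespace Cfsg.Agent.Omega.NO3S.TwoOne

open Subgroup Cfsg Cfsg.Agent.ZN Cfsg.Agent.MinSimple.Geo Cfsg.Agent.Omega.CaseL
open Cfsg.Agent.ZN.Block (conj_mem_of_normalizer conj_mem_of_normalizer' le_normalizer_of_forall
  mem_normalizer_of)
open scoped commutatorElement

universe u

variable {G : Type u} [Group G]

/-- `⟨D_p | p ∈ U#⟩` -/
def dpl (V U : Subgroup G) : Subgroup G :=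
  closure {w | ∃ p ∈ U, p ≠ 1 ∧ w ∈ ws V p ∧ ∀ q ∈ U, q ≠ 1 → ∀ b ∈ ws V q, w * b = b * w}

theorem dpl_comm {V U : Subgroup G} {d f : G} (hd : d ∈ dpl V U) (hf : f ∈ fpl V U) : d * f = f * d := by
  have h1 : dpl V U ≤ centralizer (fpl V U : Set G) := by
    unfold dpl
    rw [closure_le]
    rintro w ⟨p, hp, hp1, hw, hc⟩
    change w ∈ centralizer (fpl V U : Set G)
    rw [mem_centralizer_iff]
    have h2 : fpl V U ≤ centralizer ({w} : Set G) := by
      unfold fpl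
      rw [closure_le]
      rintro v ⟨q, hq, hq1, hv⟩
      exact mem_centralizer_singleton_iff.mpr (hc q hq hq1 v hv).symm
    exact fun v hv => mem_centralizer_singleton_iff.mp (h2 hv)
  exact (mem_centralizer_iff.mp (h1 hd) f hf).symm

theorem dpl_le_fpl (V U : Subgroup G) : dpl V U ≤ fpl V U := by
  refine closure_mono ?_
  rintro w ⟨p, hp, hp1, hw, -⟩
  exact ⟨p, hp, hp1, hw⟩

theorem conj_mem_fpl {V U : Subgroup G} {f : G} (g : G) (hf : f ∈ fpl V U) : g * f * g⁻¹ ∈ fpl V (cj g U) := by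
  have h1 : fpl V U ≤ cj g⁻¹ (fpl V (cj g U)) := by
    conv_lhs => unfold fpl
    rw [closure_le]
    rintro w ⟨p, hp, hp1, hw⟩
    change w ∈ cj g⁻¹ (fpl V (cj g U))
    rw [mem_cj, inv_inv]
    exact ws_le_fpl (conj_mem_cj hp) (fun e => hp1 (conj_eq_one_iff.mp e)) (conj_mem_ws g hw)
  have := h1 hf
  rwa [mem_cj, inv_inv] at this

namespace Ps

variable {V U : Subgroup G} {p q r s x t : G}

theorem fu_comm (P : Ps V U) {f u : G} (hf : f ∈ fpl V U) (hu : u ∈ U) : f * u = u * f := by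
  have h2 : fpl V U ≤ centralizer ({u} : Set G) := by
    unfold fpl
    rw [closure_le]
    rintro v ⟨q, hq, hq1, hv⟩
    exact mem_centralizer_singleton_iff.mpr (P.cU hq hq1 hv hu)
  exact mem_centralizer_singleton_iff.mp (h2 hf)

/-- `[C(W_x), ⟨W_p⟩] ≤ ⟨D_p⟩` -/
theorem four (P : Ps V U) (hx : x ∈ U) (hx1 : x ≠ 1) {b f : G} (hb : ∀ w ∈ ws V x, b * w = w * b)
    (hf : f ∈ fpl V U) : b * f * b⁻¹ * f⁻¹ ∈ dpl V U := by
  refine closure_induction (p := fun f _ => b * f * b⁻¹ * f⁻¹ ∈ dpl V U) ?_ ?_ ?_ ?_ hf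
  · rintro w ⟨p, hp, hp1, hw⟩
    by_cases hpx : p = x
    · rw [hpx] at hw
      rw [hb w hw]
      simp
    · refine subset_closure ⟨p, hp, hp1, ?_⟩
      have hbp : b * p = p * b := hb p (P.le x hx hx1 hp)
      have h1 : b * w * b⁻¹ * w⁻¹ ∈ ws V p := mul_mem (wsn hbp hw) (inv_mem hw)
      refine ⟨h1, fun r hr hr1 => P.dall hp hp1 hx hx1 (Ne.symm hpx) hr hr1 h1 fun v hv => ?_⟩
      have h2 : w⁻¹ * v * w ∈ ws V x := by
        have := wsn (inv_comm_of (P.cU hp hp1 hw hx)) hv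
        rwa [inv_inv] at this
      have h3 := hb _ h2
      have h4 := hb _ hv
      calc b * w * b⁻¹ * w⁻¹ * v = b * w * b⁻¹ * (w⁻¹ * v * w) * w⁻¹ := by group
        _ = b * w * (b⁻¹ * (w⁻¹ * v * w)) * w⁻¹ := by group
        _ = b * w * ((w⁻¹ * v * w) * b⁻¹) * w⁻¹ := by rw [inv_comm_of h3]
        _ = (b * v) * w * b⁻¹ * w⁻¹ := by group
        _ = v * (b * w * b⁻¹ * w⁻¹) := by rw [h4]; group
  · simp
  · intro f g hf hg ihf ihg
    have h1 := dpl_comm ihg hf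
    have e : b * (f * g) * b⁻¹ * (f * g)⁻¹ = (b * f * b⁻¹ * f⁻¹) * (f * (b * g * b⁻¹ * g⁻¹)) * f⁻¹ := by
      group
    rw [e, ← h1, mul_assoc, mul_inv_cancel_right]
    exact mul_mem ihf ihg
  · intro f hf ihf
    have h1 := dpl_comm ihf (inv_mem hf)
    have e : b * f⁻¹ * b⁻¹ * f⁻¹⁻¹ = (f⁻¹ * (b * f * b⁻¹ * f⁻¹) * f)⁻¹ := by group
    rw [e, ← h1, inv_mul_cancel_right]
    exact inv_mem ihf

end Ps

theorem comm_mod {B N : Subgroup G} (hN : ∀ b ∈ B, ∀ n ∈ N, b * n * b⁻¹ ∈ N) {a j a' j' : G} (ha : a ∈ B)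
    (ha' : a' ∈ B) (hj'B : j' ∈ B) (hj : ∀ b ∈ B, b * j * b⁻¹ * j⁻¹ ∈ N)
    (hj' : ∀ b ∈ B, b * j' * b⁻¹ * j'⁻¹ ∈ N) (haa : a * a' = a' * a) : ⁅a * j, a' * j'⁆ ∈ N := by
  have h1 := hj _ (mul_mem ha' hj'B)
  have h2 := hj' _ ha
  have e : ⁅a * j, a' * j'⁆ =
      (a * (a' * j' * j * (a' * j')⁻¹ * j⁻¹)⁻¹ * a⁻¹) * ((a * a') * a⁻¹ * a'⁻¹) *
        (a' * (a * j' * a⁻¹ * j'⁻¹) * a'⁻¹) := by
    rw [commutatorElement_def]
    have : a * a' * a⁻¹ * a'⁻¹ = 1 := by rw [haa]; group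
    have h3 : (a * a')⁻¹ = (a' * a)⁻¹ := by rw [haa]
    rw [this, mul_one]
    calc a * j * (a' * j') * (a * j)⁻¹ * (a' * j')⁻¹ =
        (a * (a' * j' * j * (a' * j')⁻¹ * j⁻¹)⁻¹ * a⁻¹) * (a * a' * j' * a⁻¹ * j'⁻¹ * a'⁻¹) := by group
      _ = (a * (a' * j' * j * (a' * j')⁻¹ * j⁻¹)⁻¹ * a⁻¹) * (a' * a * j' * a⁻¹ * j'⁻¹ * a'⁻¹) := by
        rw [haa]
      _ = _ := by group
  have h3 : (a * a') * a⁻¹ * a'⁻¹ = 1 := by rw [haa]; group
  rw [e, h3, mul_one]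
  exact mul_mem (hN _ ha _ (inv_mem h1)) (hN _ ha' _ h2)

namespace One

variable {T V U : Subgroup G} {z : G}

/-- conjugates of `F_U` by elements of `F_{U^c}` centralise `U` -/
theorem five [Finite G] (h : One T V z) (hN : NT V) (P : Pa V U) (hz : z ∈ U) {c : G} (hc : c * z = z * c)
    {g : G} (hg : g ∈ fpl V (cj c U)) {u : G} (hu : u ∈ U) {f : G} (hf : f ∈ fpl V U) :
    (g * f * g⁻¹) * u = u * (g * f * g⁻¹) := by
  have hz1 := h.ln.z_ne
  have P1 := P.ps h hN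
  have P2 := (P.conj c).ps h hN
  have P3 := (P.conj g).ps h hN
  have hz2 : z ∈ cj c U := by
    rw [mem_cj]
    have : c⁻¹ * z * c = z := by
      calc c⁻¹ * z * c = c⁻¹ * (z * c) := by group
        _ = z := by rw [← hc]; group
    rwa [this]
  have hgz : g * z = z * g := P2.fu_comm hg hz2
  have hz3 : z ∈ cj g U := by
    rw [mem_cj]
    have : g⁻¹ * z * g = z := by
      calc g⁻¹ * z * g = g⁻¹ * (z * g) := by group
        _ = z := by rw [← hgz]; group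
    rwa [this]
  have hfg : g * f * g⁻¹ ∈ fpl V (cj g U) := conj_mem_fpl g hf
  by_cases hu1 : u = 1
  · rw [hu1]; simp
  by_cases huz : u = z
  · rw [huz]; exact P3.fu_comm hfg hz3
  obtain ⟨j, hj, j', hj', hjx, hjx', hjj⟩ := P1.three hz hz1 hu hu1 huz
  let B : Subgroup G := centralizer (ws V z : Set G)
  have hBm : ∀ {b : G}, b ∈ B ↔ ∀ w ∈ ws V z, b * w = w * b := by
    intro b
    rw [mem_centralizer_iff]
    exact ⟨fun h w hw => (h w hw).symm, fun h w hw => (h w hw).symm⟩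
  have hws2 : ws V z ≤ fpl V (cj c U) := ws_le_fpl hz2 hz1
  have hws3 : ws V z ≤ fpl V (cj g U) := ws_le_fpl hz3 hz1
  have key : ∀ j ∈ fpl V U, (∀ w ∈ ws V z, j * w = w * j) → ∃ a ∈ dpl V (cj c U), a ∈ B ∧
      j = a * (g * j * g⁻¹) ∧ g * j * g⁻¹ ∈ B ∧ ∀ b ∈ B, b * (g * j * g⁻¹) * b⁻¹ * (g * j * g⁻¹)⁻¹ ∈
        dpl V (cj g U) := by
    intro j hj hjx
    have h1 := P2.four hz2 hz1 hjx hg
    refine ⟨_, h1, ?_, by group, ?_, ?_⟩
    · rw [hBm]
      exact fun w hw => dpl_comm h1 (hws2 hw)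
    · rw [hBm]
      intro w hw
      have h2 : g⁻¹ * w * g ∈ ws V z := by
        have := Ps.wsn (inv_comm_of hgz) hw
        rwa [inv_inv] at this
      calc g * j * g⁻¹ * w = g * (j * (g⁻¹ * w * g)) * g⁻¹ := by group
        _ = g * ((g⁻¹ * w * g) * j) * g⁻¹ := by rw [hjx _ h2]
        _ = w * (g * j * g⁻¹) := by group
    · intro b hb
      rw [hBm] at hb
      exact P3.four hz3 hz1 hb (conj_mem_fpl g hj)
  obtain ⟨a, ha, haB, hja, hjB, hjc⟩ := key j hj hjx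
  obtain ⟨a', ha', haB', hja', hjB', hjc'⟩ := key j' hj' hjx'
  have hNB : ∀ b ∈ B, ∀ n ∈ dpl V (cj g U), b * n * b⁻¹ ∈ dpl V (cj g U) := by
    intro b hb n hn
    rw [hBm] at hb
    have h1 := P3.four hz3 hz1 hb (dpl_le_fpl _ _ hn)
    have := mul_mem h1 hn
    rwa [inv_mul_cancel_right] at this
  have haa : a * a' = a' * a := dpl_comm ha (dpl_le_fpl _ _ ha')
  have h1 := comm_mod hNB haB haB' hjB' hjc hjc' haa
  rw [← hja, ← hja', hjj] at h1
  exact (dpl_comm h1 hfg).symm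

/-- **THEOREM P**, main part: there is no plane on which all `W_q` have the same image. -/
theorem false_of_pa [Finite G] (h : One T V z) (hN : NT V) (P : Pa V U) (hz : z ∈ U) : False := by
  have hz1 := h.ln.z_ne
  have P1 := P.ps h hN
  obtain ⟨q, hq, hq1, hqz⟩ := exists_ne P1.card z
  obtain ⟨r, hr, hr1, hrz, hrq, hrzq⟩ := exists_ne₂ P1.card z q
  have hzqr : z ≠ q * r := fun e => hrzq (by
    rw [e, P1.uc hq hr, mul_assoc, P1.sq q hq, mul_one])
  obtain ⟨g, hg, hgr, b₀, hb₀, hgb⟩ := P1.phi q hq hq1 r hr hr1 hrq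
  have hgz : g ∉ kq V z := fun h1 =>
    hgb (P1.two_lines hq hq1 hr hr1 hrq hz hz1 (Ne.symm hqz) (Ne.symm hrz) hzqr hg hgr h1 b₀ hb₀)
  have hgU : ∀ w ∈ ws V z, ⁅g, w⁆ ∈ U := fun w hw =>
    P1.sp_mem hq hr (P1.alpha hq hq1 hr hr1 hrq hz hz1 hg hgr hw)
  have hgC : g * z = z * g := P1.cU hq hq1 hg hz
  have hgg : g * g = 1 := P1.sw q hq hq1 g hg
  have hgf : g ∈ fpl V U := ws_le_fpl hq hq1 hg
  -- the group `H`
  let C := centralizer ({z} : Set G)
  have hK := centralizer_le_normalizer_kq V z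
  have : ((kq V z).subgroupOf C).Normal := normal_subgroupOf_of_le_normalizer hK
  let H := C ⧸ (kq V z).subgroupOf C
  let π : C →* H := QuotientGroup.mk' _
  have hπ : ∀ c : C, π c = 1 ↔ (c : G) ∈ kq V z := fun c => by
    rw [show π c = (QuotientGroup.mk c : H) from rfl, QuotientGroup.eq_one_iff, mem_subgroupOf]
  have hgC' : g ∈ C := mem_centralizer_singleton_iff.mpr hgC
  set γ : C := ⟨g, hgC'⟩ with hγ
  have hγγ : γ * γ = 1 := Subtype.ext hgg
  have hπγ : π γ * π γ = 1 := by rw [← map_mul, hγγ, map_one]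
  by_cases h2 : IsPGroup 2 (normalClosure {π γ} : Subgroup H)
  · -- `O₂(H) = 1`
    apply hgz
    let R : Subgroup G := ((normalClosure {π γ} : Subgroup H).comap π).map C.subtype
    have hRC : R ≤ C := map_subtype_le _
    have hgR : g ∈ R := ⟨γ, subset_normalClosure (Set.mem_singleton _), rfl⟩
    refine h.le_kq hRC ?_ ?_ hgR
    · refine le_normalizer_of_forall fun c hc y hy => ?_
      obtain ⟨y', hy', rfl⟩ := hy
      refine ⟨⟨c, hc⟩ * y' * ⟨c, hc⟩⁻¹, ?_, rfl⟩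
      change π (⟨c, hc⟩ * y' * ⟨c, hc⟩⁻¹) ∈ normalClosure {π γ}
      rw [map_mul, map_mul, map_inv]
      exact normalClosure_normal.conj_mem _ hy' _
    · rintro y ⟨y', hy', rfl⟩
      obtain ⟨n, hn⟩ := h2 ⟨π y', hy'⟩
      refine ⟨n, ?_⟩
      have h3 : π (y' ^ 2 ^ n) = 1 := by
        rw [map_pow]
        exact congrArg Subtype.val hn
      rw [hπ] at h3
      exact h3
  · obtain ⟨η, hη1, hodd, hinv⟩ := Cfsg.Agent.Involutions.BaerSuzuki.exists_odd_inverted (π γ) hπγ h2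
    obtain ⟨c, rfl⟩ := QuotientGroup.mk'_surjective ((kq V z).subgroupOf C) η
    have hcz : (c : G) * z = z * c := mem_centralizer_singleton_iff.mp c.2
    set b : G := c * g * (c : G)⁻¹ with hb
    have hbf : b ∈ fpl V (cj (c : G) U) := conj_mem_fpl (c : G) hgf
    have hbb : b * b = 1 := by
      calc b * b = c * (g * g) * (c : G)⁻¹ := by rw [hb]; group
        _ = 1 := by rw [hgg]; group
    have hbi : b⁻¹ = b := inv_eq_self hbb
    have hbC : b * z = z * b := by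
      have : b ∈ C := mul_mem (mul_mem c.2 hgC') (inv_mem c.2)
      exact mem_centralizer_singleton_iff.mp this
    set a := b * g * b⁻¹ with ha
    have haU : ∀ u ∈ U, a * u = u * a := fun u hu => h.five hN P hz hcz hbf hu hgf
    have haC : a * z = z * a := by
      have : a ∈ C := mul_mem (mul_mem (mem_centralizer_singleton_iff.mpr hbC) hgC')
        (inv_mem (mem_centralizer_singleton_iff.mpr hbC))
      exact mem_centralizer_singleton_iff.mp this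
    -- `g` and `a` commute on `W_z`
    have hcomm : ∀ w ∈ ws V z, (g * a) * w * (g * a)⁻¹ = (a * g) * w * (a * g)⁻¹ := by
      intro w hw
      have hu := hgU w hw
      set u := ⁅g, w⁆ with hud
      have e1 : g * w * g⁻¹ = u * w := by rw [hud, commutatorElement_def]; group
      have hw' : b⁻¹ * w * b ∈ ws V z := by
        have := Ps.wsn (inv_comm_of hbC) hw
        rwa [inv_inv] at this
      have hu' := hgU _ hw'
      set u' := ⁅g, b⁻¹ * w * b⁆ with hud'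
      set v := b * u' * b⁻¹ with hvd
      have e2 : a * w * a⁻¹ = v * w := by
        rw [hvd, hud', commutatorElement_def, ha]; group
      have hgv : g * v * g⁻¹ = v := by
        have h3 := haU u' hu'
        have h4 : b⁻¹ * g * b = a := by rw [ha, hbi]
        calc g * v * g⁻¹ = b * ((b⁻¹ * g * b) * u' * (b⁻¹ * g * b)⁻¹) * b⁻¹ := by rw [hvd]; group
          _ = b * (a * u' * a⁻¹) * b⁻¹ := by rw [h4]
          _ = b * u' * b⁻¹ := by rw [conj_eq_of_comm h3]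
          _ = v := by rw [hvd]
      have hau : a * u * a⁻¹ = u := conj_eq_of_comm (haU u hu)
      have huw : u ∈ ws V z := P1.le z hz hz1 hu
      have hvw : v ∈ ws V z := by
        have h5 : v = (a * w * a⁻¹) * w⁻¹ := by rw [e2]; group
        rw [h5]
        exact mul_mem (Ps.wsn haC hw) (inv_mem hw)
      calc (g * a) * w * (g * a)⁻¹ = g * (a * w * a⁻¹) * g⁻¹ := by group
        _ = (g * v * g⁻¹) * (g * w * g⁻¹) := by rw [e2]; group
        _ = v * u * w := by rw [hgv, e1]; group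
        _ = u * v * w := by rw [P1.ab z hz hz1 v hvw u huw]
        _ = (a * u * a⁻¹) * (a * w * a⁻¹) := by rw [hau, e2]; group
        _ = a * (g * w * g⁻¹) * a⁻¹ := by rw [e1]; group
        _ = (a * g) * w * (a * g)⁻¹ := by group
    have haCm : a ∈ C := mem_centralizer_singleton_iff.mpr haC
    have hk : ⁅g, a⁆ ∈ kq V z := by
      have hC : ⁅g, a⁆ ∈ C := by
        rw [commutatorElement_def]
        exact mul_mem (mul_mem (mul_mem hgC' haCm) (inv_mem hgC')) (inv_mem haCm)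
      have hfix : ∀ w ∈ ws V z, ⁅g, a⁆ * w * ⁅g, a⁆⁻¹ = w := by
        intro w hw
        have hag : (a * g) * z = z * (a * g) := mul_comm_of haC hgC
        have h3 : (a * g)⁻¹ * w * (a * g) ∈ ws V z := by
          have := Ps.wsn (inv_comm_of hag) hw
          rwa [inv_inv] at this
        calc ⁅g, a⁆ * w * ⁅g, a⁆⁻¹ = (g * a) * ((a * g)⁻¹ * w * (a * g)) * (g * a)⁻¹ := by
              rw [commutatorElement_def]; group
          _ = (a * g) * ((a * g)⁻¹ * w * (a * g)) * (a * g)⁻¹ := hcomm _ h3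
          _ = w := by group
      refine ⟨hC, fun w hw => ?_, fun w hw => ?_⟩
      · rw [hfix w hw, mul_inv_cancel]; exact one_mem _
      · have h3 := hfix w hw
        have h4 : ⁅g, a⁆⁻¹ * w * ⁅g, a⁆ = w := by
          calc ⁅g, a⁆⁻¹ * w * ⁅g, a⁆ = ⁅g, a⁆⁻¹ * (⁅g, a⁆ * w * ⁅g, a⁆⁻¹) * ⁅g, a⁆ := by rw [h3]
            _ = w := by group
        rw [h4, mul_inv_cancel]; exact one_mem _
    -- in `H`
    have e1 : π ⁅γ, (c * γ * c⁻¹) * γ * (c * γ * c⁻¹)⁻¹⁆ = 1 := by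
      rw [hπ]
      have : ((⁅γ, (c * γ * c⁻¹) * γ * (c * γ * c⁻¹)⁻¹⁆ : C) : G) = ⁅g, a⁆ := by
        simp [ha, hb, hγ, commutatorElement_def]
      rw [this]; exact hk
    set θ := QuotientGroup.mk' ((kq V z).subgroupOf C) c with hθ
    have hθ' : π c = θ := rfl
    have e2 : ⁅π γ, (θ * π γ * θ⁻¹) * π γ * (θ * π γ * θ⁻¹)⁻¹⁆ = 1 := by
      rw [← hθ']
      have := e1
      simpa [map_mul, map_inv, map_commutatorElement] using this
    set g' := π γ with hg'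
    have hgi : g'⁻¹ = g' := inv_eq_self hπγ
    have hgt : g' * θ * g' = θ⁻¹ := by rw [← hinv, hgi]
    -- `θ ^ 8 = 1`
    have hpow : ∀ n : ℕ, g' * θ ^ n * g' = (θ ^ n)⁻¹ := by
      intro n
      have h3 : g' * θ * g'⁻¹ = θ⁻¹ := by rw [hgi]; exact hgt
      calc g' * θ ^ n * g' = g' * θ ^ n * g'⁻¹ := by rw [hgi]
        _ = (g' * θ * g'⁻¹) ^ n := conj_pow.symm
        _ = (θ ^ n)⁻¹ := by rw [h3, inv_pow]
    have s1 : θ * g' * θ⁻¹ = θ ^ 2 * g' := by
      calc θ * g' * θ⁻¹ = θ * g' * (g' * θ * g') := by rw [hgt]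
        _ = θ * (g' * g') * θ * g' := by group
        _ = θ ^ 2 * g' := by rw [hπγ, mul_one, pow_two]
    have s2 : (θ ^ 2 * g') * g' * (θ ^ 2 * g')⁻¹ = θ ^ 4 * g' := by
      calc (θ ^ 2 * g') * g' * (θ ^ 2 * g')⁻¹ = θ ^ 2 * (g' * g') * (g'⁻¹ * (θ ^ 2)⁻¹) := by group
        _ = θ ^ 2 * (g' * (g' * θ ^ 2 * g')) := by rw [hπγ, mul_one, hgi, hpow]
        _ = θ ^ 2 * (g' * g') * θ ^ 2 * g' := by group
        _ = θ ^ 4 * g' := by rw [hπγ, mul_one, ← pow_add]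
    have h8 : θ ^ 8 = 1 := by
      rw [s1, s2, commutatorElement_eq_one_iff_mul_comm] at e2
      have h4 : g' * θ ^ 4 * g' = θ ^ 4 := by
        rw [mul_assoc, e2, mul_assoc, hπγ, mul_one]
      rw [hpow] at h4
      have h5 : θ ^ 4 * θ ^ 4 = 1 := by
        calc θ ^ 4 * θ ^ 4 = θ ^ 4 * (θ ^ 4)⁻¹ := by rw [h4]
          _ = 1 := mul_inv_cancel _
      rwa [← pow_add] at h5
    apply hη1
    have h9 : orderOf θ ∣ 8 := orderOf_dvd_of_pow_eq_one h8
    have h10 : Nat.Coprime (orderOf θ) 8 := by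
      have : Nat.Coprime (orderOf θ) (2 ^ 3) := Nat.Coprime.pow_right 3 (Nat.coprime_two_right.mpr hodd)
      simpa using this
    have h11 := Nat.Coprime.eq_one_of_dvd h10 h9
    exact orderOf_eq_one_iff.mp h11

end One

end Cfsg.Agent.Omega.NO3S.TwoOne

end

section


/-!
# NO-3S, `q = 2`, `n = 1`: THEOREM P, the statement

`h : One T V z`, `y` a point of `V`, `y ≠ z`, `A` the image of `W_y` in `H = C_G(z) / K_z`, `λ = V / z`.

* `One.norm_of_image` (**THEOREM P**) : `f ∈ C_G(z)`, `A^f ≤ A` imply `f ∈ N_G(V)`, i.e. `N_H(A) = H_λ`;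
* `One.norm_of_comm` : `C_H(A) ≤ H_λ`;
* `One.eq_of_image` : if `L` is a line on `z`, `y' ∈ L - ⟨z⟩`, and `W_{y'}`, `W_y` have the same image in `H` then
  `L = V`.
-/

set_option autoImplicit false
set_option linter.unusedSectionVars false

namespace Cfsg.Agent.Omega.NO3S.TwoOne

open Subgroup Cfsg Cfsg.Agent.ZN Cfsg.Agent.MinSimple.Geo Cfsg.Agent.Omega.CaseL
open Cfsg.Agent.ZN.Block (conj_mem_of_normalizer conj_mem_of_normalizer' le_normalizer_of_forall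
  mem_normalizer_of)
open scoped commutatorElement

universe u

variable {G : Type u} [Group G]

/-- the image of `W_q` in `C_G(z) / K_z` is contained in the image of `W_{q'}` -/
def Rl (V : Subgroup G) (z q q' : G) : Prop := ∀ a ∈ ws V q, ∃ b ∈ ws V q', a * b⁻¹ ∈ kq V z

namespace Rl

variable {V : Subgroup G} {z q q' q'' : G}

theorem trans (h1 : Rl V z q q') (h2 : Rl V z q' q'') : Rl V z q q'' := by
  intro a ha
  obtain ⟨b, hb, hab⟩ := h1 a ha
  obtain ⟨c, hc, hbc⟩ := h2 b hb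
  refine ⟨c, hc, ?_⟩
  have := mul_mem hab hbc
  rwa [mul_assoc, inv_mul_cancel_left] at this

theorem conj (h1 : Rl V z q q') {c : G} (hc : c * z = z * c) : Rl V z (c * q * c⁻¹) (c * q' * c⁻¹) := by
  intro a ha
  have ha' : c⁻¹ * a * c ∈ ws V q := by
    have := conj_mem_ws c⁻¹ ha
    have e : c⁻¹ * (c * q * c⁻¹) * c⁻¹⁻¹ = q := by group
    rwa [e, inv_inv] at this
  obtain ⟨b, hb, hab⟩ := h1 _ ha'
  refine ⟨c * b * c⁻¹, conj_mem_ws c hb, ?_⟩
  have := Ps.kqn hc hab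
  have e : c * (c⁻¹ * a * c * b⁻¹) * c⁻¹ = a * (c * b * c⁻¹)⁻¹ := by group
  rwa [e] at this

theorem of_kq {k : G} (hk : k ∈ kq V z) (hq : ws V q ≤ centralizer ({z} : Set G)) :
    Rl V z q (k * q * k⁻¹) := by
  intro a ha
  refine ⟨k * a * k⁻¹, conj_mem_ws k ha, ?_⟩
  have h1 : a * k * a⁻¹ ∈ kq V z := Ps.kqn (mem_centralizer_singleton_iff.mp (hq ha)) hk
  have e : a * (k * a * k⁻¹)⁻¹ = a * k * a⁻¹ * k⁻¹ := by group
  rw [e]
  exact mul_mem h1 (inv_mem hk)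

theorem of_kq' {k : G} (hk : k ∈ kq V z) (hq : ws V q ≤ centralizer ({z} : Set G)) :
    Rl V z (k * q * k⁻¹) q := by
  have h1 : ws V (k * q * k⁻¹) ≤ centralizer ({z} : Set G) := by
    intro a ha
    have ha' : k⁻¹ * a * k ∈ ws V q := by
      have := conj_mem_ws k⁻¹ ha
      have e : k⁻¹ * (k * q * k⁻¹) * k⁻¹⁻¹ = q := by group
      rwa [e, inv_inv] at this
    have h2 := mem_centralizer_singleton_iff.mp (hq ha')
    have h3 := Ps.kp hk
    rw [mem_centralizer_singleton_iff]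
    have e : a = k * (k⁻¹ * a * k) * k⁻¹ := by group
    rw [e]
    exact mul_comm_of (mul_comm_of h3 h2) (inv_comm_of h3)
  have := of_kq (inv_mem hk) h1
  have e : k⁻¹ * (k * q * k⁻¹) * k⁻¹⁻¹ = q := by group
  rwa [e] at this

end Rl

/-- equality of the images -/
def Re (V : Subgroup G) (z q q' : G) : Prop := Rl V z q q' ∧ Rl V z q' q

namespace Re

variable {V : Subgroup G} {z q q' q'' : G}

theorem symm (h : Re V z q q') : Re V z q' q := ⟨h.2, h.1⟩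

theorem refl (V : Subgroup G) (z q : G) : Re V z q q := by
  have : Rl V z q q := fun a ha => ⟨a, ha, by rw [mul_inv_cancel]; exact one_mem _⟩
  exact ⟨this, this⟩

theorem trans (h1 : Re V z q q') (h2 : Re V z q' q'') : Re V z q q'' :=
  ⟨h1.1.trans h2.1, h2.2.trans h1.2⟩

theorem conj (h1 : Re V z q q') {c : G} (hc : c * z = z * c) : Re V z (c * q * c⁻¹) (c * q' * c⁻¹) :=
  ⟨h1.1.conj hc, h1.2.conj hc⟩

theorem of_kq {k : G} (hk : k ∈ kq V z) (hq : ws V q ≤ centralizer ({z} : Set G)) :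
    Re V z q (k * q * k⁻¹) := ⟨Rl.of_kq hk hq, Rl.of_kq' hk hq⟩

end Re

namespace One

variable {T V U : Subgroup G} {z : G}

/-- `U ≤ W_p` -/
theorem pln_le (_ : One T V z) (hU : Pln V U) {p : G} (hp : p ∈ U) (hp1 : p ≠ 1) : U ≤ ws V p := by
  intro x hx
  by_cases hx1 : x = 1
  · rw [hx1]; exact one_mem _
  by_cases hxp : x = p
  · obtain ⟨q, hq, hq1, hqp⟩ := exists_ne hU.card p
    obtain ⟨L, hL, -⟩ := hU.line p hp q hq hp1 hq1 (Ne.symm hqp)
    rw [hxp]; exact le_ws hL hL.2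
  · obtain ⟨L, hL, hxL⟩ := hU.line p hp x hx hp1 hx1 (Ne.symm hxp)
    exact le_ws hL hxL

/-- `K_p` normalises a plane `U ∋ p` -/
theorem pln_conj (h : One T V z) (hU : Pln V U) {p k u : G} (hp : p ∈ U) (hp1 : p ≠ 1) (hk : k ∈ kq V p)
    (hu : u ∈ U) : k * u * k⁻¹ ∈ U := by
  rcases (mem_zpowers_iff_of_mul_self (hU.sq p hp)).mp (kq_comm hk (h.pln_le hU hp hp1 hu)) with e | e
  · have : k * u * k⁻¹ = u := by
      calc k * u * k⁻¹ = (k * u * k⁻¹ * u⁻¹) * u := by group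
        _ = u := by rw [e, one_mul]
    rw [this]; exact hu
  · have : k * u * k⁻¹ = p * u := by
      calc k * u * k⁻¹ = (k * u * k⁻¹ * u⁻¹) * u := by group
        _ = p * u := by rw [e]
    rw [this]; exact mul_mem hp hu

/-- if all `W_q` have the same image in `C_G(z) / K_z` then this holds at all points -/
theorem pa_of (h : One T V z) [Finite G] (hU : Pln V U) (hz : z ∈ U)
    (hR : ∀ q ∈ U, q ≠ 1 → q ≠ z → ∀ q' ∈ U, q' ≠ 1 → q' ≠ z → Rl V z q q') : Pa V U := by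
  refine ⟨hU, fun t ht ht1 q hq hq1 hqt q' hq' hq1' hqt' a ha => ?_⟩
  have hz1 := h.ln.z_ne
  have hzz := h.ln.zz
  by_cases htz : t = z
  · subst htz
    exact hR q hq hq1 hqt q' hq' hq1' hqt' a ha
  · have hs : z * t ∈ U := mul_mem hz ht
    have hs1 : z * t ≠ 1 := fun e => htz (by
      rw [← inv_eq_self (hU.sq t ht)]
      exact (mul_eq_one_iff_inv_eq'.mp e))
    have hzs : z ≠ z * t := fun e => ht1 (by simpa using e.symm)
    obtain ⟨r, hr, hr1, hrs, hrz, hrsz⟩ := exists_ne₂ hU.card (z * t) z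
    obtain ⟨k, hk, hkz, -⟩ := h.pln_trv hU hs hs1 hz hz1 hzs hr hr1 hrs hrz hrsz
    have hzt : z * t = t * z := by
      have h1 := hU.sq _ hs
      have h2 := inv_eq_self h1
      rw [mul_inv_rev, inv_eq_self hzz, inv_eq_self (hU.sq t ht)] at h2
      exact h2.symm
    have hkt : k * z * k⁻¹ = t := by
      rw [hkz, hzt, mul_assoc, hzz, mul_one]
    have hkU : ∀ u ∈ U, k⁻¹ * u * k ∈ U := fun u hu => by
      have := h.pln_conj hU hs hs1 (inv_mem hk) hu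
      rwa [inv_inv] at this
    have hne : ∀ {u : G}, u ≠ t → k⁻¹ * u * k ≠ z := fun {u} hut e => hut (by
      calc u = k * (k⁻¹ * u * k) * k⁻¹ := by group
        _ = t := by rw [e, hkt])
    have ha' : k⁻¹ * a * k ∈ ws V (k⁻¹ * q * k) := by
      have := conj_mem_ws k⁻¹ ha
      rwa [inv_inv] at this
    obtain ⟨b, hb, hab⟩ := hR _ (hkU q hq) (conj_ne_one hq1) (hne hqt) _ (hkU q' hq') (conj_ne_one hq1')
      (hne hqt') _ ha'
    refine ⟨k * b * k⁻¹, ?_, ?_⟩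
    · have := conj_mem_ws k hb
      have e : k * (k⁻¹ * q' * k) * k⁻¹ = q' := by group
      rwa [e] at this
    · have := conj_mem_kq k hab
      have e : k * (k⁻¹ * a * k * b⁻¹) * k⁻¹ = a * (k * b * k⁻¹)⁻¹ := by group
      rwa [hkt, e] at this

/-- the images of the `W_q`, `q ∈ U - ⟨z⟩`, `U = ⟨V, u⟩` a plane, if `W_y`, `W_u` have the same image -/
theorem re_of (h : One T V z) [Finite G] (hU : Pln V U) (hVU : V ≤ U) {u y : G} (hu : u ∈ U) (huV : u ∉ V)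
    (hy : y ∈ V) (hy1 : y ≠ 1) (hyz : y ≠ z) (hR : Re V z y u) :
    ∀ q ∈ U, q ≠ 1 → q ≠ z → Re V z y q := by
  have hz := h.ln.z_mem
  have hz1 := h.ln.z_ne
  have hzz := h.ln.zz
  have hzU := hVU hz
  have hyU := hVU hy
  have hu1 : u ≠ 1 := fun e => huV (by rw [e]; exact one_mem _)
  have huz : u ≠ z := fun e => huV (by rw [e]; exact hz)
  have huy : u ≠ y := fun e => huV (by rw [e]; exact hy)
  have huzy : u ≠ z * y := fun e => huV (by rw [e]; exact mul_mem hz hy)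
  have huyz : u ≠ y * z := fun e => huV (by rw [e]; exact mul_mem hy hz)
  -- `W_q ≤ C(z)` for `q ∈ U#`
  have hC : ∀ q ∈ U, q ≠ 1 → ws V q ≤ centralizer ({z} : Set G) := by
    intro q hq hq1 a ha
    rw [mem_centralizer_singleton_iff]
    obtain ⟨r, hr, hr1, hrq⟩ := exists_ne hU.card q
    obtain ⟨T', g, h', -, -⟩ := h.exists_one hU hq hq1 hr hr1 hrq
    have hab := h'.ab
    rw [ws_cj] at hab
    exact hab a ha z (h.pln_le hU hq hq1 hzU)
  -- `q` and `z q`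
  have hzq : ∀ q ∈ U, q ≠ 1 → q ≠ z → Re V z q (z * q) := by
    intro q hq hq1 hqz
    obtain ⟨r, hr, hr1, hrz, hrq, hrzq⟩ := exists_ne₂ hU.card z q
    obtain ⟨k, hk, hkq, -⟩ := h.pln_trv hU hzU hz1 hq hq1 hqz hr hr1 hrz hrq hrzq
    have := Re.of_kq hk (hC q hq hq1)
    rwa [hkq] at this
  -- the third line
  obtain ⟨k, hk, hku, hkz⟩ := h.pln_trv hU hyU hy1 hu hu1 huy hzU hz1 (Ne.symm hyz) (Ne.symm huz) (by
    intro e
    apply huyz
    rw [e, ← mul_assoc, h.ln.sq y hy, one_mul])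
  have hR3 : Re V z y (y * u) := by
    have := hR.conj (comm_of_conj_eq hkz)
    rwa [hku, conj_eq_of_comm (Ps.kp hk)] at this
  have hVu : ∀ x ∈ U, x ∈ V ∨ ∃ v ∈ V, x = v * u := by
    intro x hx
    have h2 : V.relIndex U = 2 := by
      have := Block.card_mul_relIndex' hVU
      rw [h.ln.card_V, hU.card] at this
      omega
    by_cases hxV : x ∈ V
    · exact Or.inl hxV
    · right
      have h3 : ((V.subgroupOf U).index) = 2 := h2
      have h4 := Subgroup.mul_mem_iff_of_index_two h3 (a := ⟨x, hx⟩) (b := ⟨u, hu⟩)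
      rw [mem_subgroupOf, mem_subgroupOf, mem_subgroupOf] at h4
      have h5 : x * u ∈ V := h4.mpr ⟨fun e => absurd e hxV, fun e => absurd e huV⟩
      exact ⟨x * u, h5, by rw [mul_assoc, hU.sq u hu, mul_one]⟩
  intro q hq hq1 hqz
  rcases hVu q hq with hqV | ⟨v, hv, rfl⟩
  · rcases h.ln.four hz hy hz1 hy1 (Ne.symm hyz) hqV with e | e | e | e
    · exact absurd e hq1
    · exact absurd e hqz
    · rw [e]; exact Re.refl _ _ _
    · rw [e]; exact hzq y hyU hy1 hyz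
  · rcases h.ln.four hz hy hz1 hy1 (Ne.symm hyz) hv with e | e | e | e
    · rw [e, one_mul]; exact hR
    · rw [e]
      exact hR.trans (hzq u hu hu1 huz)
    · rw [e]; exact hR3
    · rw [e, mul_assoc]
      refine hR3.trans (hzq _ (mul_mem hyU hu) ?_ ?_)
      · intro e'
        apply huy
        rw [← inv_eq_self (hU.sq u hu)]
        exact (mul_eq_one_iff_eq_inv.mp e').symm
      · intro e'
        apply huyz
        rw [← e', ← mul_assoc, h.ln.sq y hy, one_mul]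

/-- no `λ`-transvection in `A` if all `W_q`, `q ∈ U - ⟨z⟩`, have the same image -/
theorem nt_of_re (h : One T V z) [Finite G] (hU : Pln V U) (hVU : V ≤ U) {u y : G} (hu : u ∈ U) (huV : u ∉ V)
    (hy : y ∈ V) (hy1 : y ≠ 1) (hyz : y ≠ z)
    (hR : ∀ q ∈ U, q ≠ 1 → q ≠ z → Re V z y q) : NT V := by
  have hz := h.ln.z_mem
  have hz1 := h.ln.z_ne
  have hzz := h.ln.zz
  have hzU := hVU hz
  have hyU := hVU hy
  have hu1 : u ≠ 1 := fun e => huV (by rw [e]; exact one_mem _)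
  have huz : u ≠ z := fun e => huV (by rw [e]; exact hz)
  have huy : u ≠ y := fun e => huV (by rw [e]; exact hy)
  have hyuU : y * u ∈ U := mul_mem hyU hu
  have hyu1 : y * u ≠ 1 := fun e => huy (by
    rw [← inv_eq_self (hU.sq u hu)]
    exact (mul_eq_one_iff_eq_inv.mp e).symm)
  have hyuz : y * u ≠ z := fun e => huV (by
    have : u = y⁻¹ * z := by rw [← e]; group
    rw [this]; exact mul_mem (inv_mem hy) hz)
  have hyyu : y ≠ y * u := fun e => hu1 (by simpa using e.symm)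
  have hyu : y * u = u * y := by
    have h1 := hU.sq _ hyuU
    have h2 := inv_eq_self h1
    rw [mul_inv_rev, inv_eq_self (hU.sq u hu), inv_eq_self (h.ln.sq y hy)] at h2
    exact h2.symm
  have hyuy : y * u * y = u := by rw [hyu, mul_assoc, h.ln.sq y hy, mul_one]
  refine h.nt_of hz hz1 hy hy1 hyz fun b hb hV => ?_
  obtain ⟨k, hk, hky, hkz⟩ := h.pln_trv hU hyuU hyu1 hyU hy1 hyyu hzU hz1 (Ne.symm hyuz) (Ne.symm hyz) (by
    rw [hyuy]; exact Ne.symm huz)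
  rw [hyuy] at hky
  have hkz' := comm_of_conj_eq hkz
  have hyuk : y * u ∈ kq V z := h.ws_le_kq hz hz1 (h.pln_le hU hzU hz1 hyuU)
  -- `k b k⁻¹ ≡ b`
  obtain ⟨c, hc, hbc⟩ := (hR _ hyuU hyu1 hyuz).1 b hb
  have h1 : k * (b * c⁻¹) * k⁻¹ ∈ kq V z := Ps.kqn hkz' hbc
  have h2 : k * c * k⁻¹ * c⁻¹ ∈ kq V z := by
    rcases (mem_zpowers_iff_of_mul_self (hU.sq _ hyuU)).mp (kq_comm hk hc) with e | e
    · rw [e]; exact one_mem _
    · rw [e]; exact hyuk
  set κ := k * b * k⁻¹ * b⁻¹ with hκd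
  have hκ : κ ∈ kq V z := by
    have h3 := mul_mem (mul_mem h1 h2) (inv_mem hbc)
    have e : k * (b * c⁻¹) * k⁻¹ * (k * c * k⁻¹ * c⁻¹) * (b * c⁻¹)⁻¹ = κ := by rw [hκd]; group
    rwa [e] at h3
  have hbC := h.cent_le_centralizer hz (h.ws_le_centralizer_V hy hy1 hb)
  refine h.mem_kq hz (mem_centralizer_singleton_iff.mp hbC) fun w hw => ?_
  have hw' : k⁻¹ * w * k ∈ ws V z := by
    have := Ps.wsn (inv_comm_of hkz') hw
    rwa [inv_inv] at this
  have hv' := hV _ hw'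
  have hv := hV _ hw
  set v := ⁅w, b⁆ with hvd
  set v' := ⁅k⁻¹ * w * k, b⁆ with hvd'
  -- `[w, k b k⁻¹] = k v' k⁻¹`
  have e1 : k * v' * k⁻¹ = ⁅w, κ * b⁆ := by
    rw [hvd', hκd]; simp only [commutatorElement_def]; group
  have e2 : ⁅w, κ * b⁆ = ⁅w, κ⁆ * (κ * v * κ⁻¹) := by
    rw [hvd]; simp only [commutatorElement_def]; group
  have e3 : ⁅w, κ⁆ = 1 ∨ ⁅w, κ⁆ = z := by
    have e4 : ⁅w, κ⁆ = w * (κ * w * κ⁻¹)⁻¹ := by rw [commutatorElement_def]; group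
    rcases h.kq_cases hz hκ hw with e | e
    · left; rw [e4, e, mul_inv_cancel]
    · right; rw [e4, e, mul_inv_rev, mul_inv_cancel_left, inv_eq_self hzz]
  have e5 : κ * v * κ⁻¹ = v ∨ κ * v * κ⁻¹ = z * v := h.kq_cases hz hκ (h.V_le hz hz1 hv)
  have e6 : k * v' * k⁻¹ = v ∨ k * v' * k⁻¹ = z * v := by
    rw [e1, e2]
    rcases e3 with e3 | e3 <;> rcases e5 with e5 | e5 <;> rw [e3, e5]
    · left; exact one_mul _
    · right; exact one_mul _
    · right; rfl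
    · left; rw [← mul_assoc, hzz, one_mul]
  have e7 : k * v' * k⁻¹ = 1 ∨ k * v' * k⁻¹ = z ∨ k * v' * k⁻¹ = u ∨ k * v' * k⁻¹ = z * u := by
    rcases h.ln.four hz hy hz1 hy1 (Ne.symm hyz) hv' with e | e | e | e <;> rw [e]
    · left; group
    · right; left; exact hkz
    · right; right; left; exact hky
    · right; right; right
      calc k * (z * y) * k⁻¹ = (k * z * k⁻¹) * (k * y * k⁻¹) := by group
        _ = z * u := by rw [hkz, hky]
  have e8 : k * v' * k⁻¹ ∈ V := by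
    rcases e6 with e | e <;> rw [e]
    · exact hv
    · exact mul_mem hz hv
  have e9 : k * v' * k⁻¹ = 1 ∨ k * v' * k⁻¹ = z := by
    rcases e7 with e | e | e | e
    · exact Or.inl e
    · exact Or.inr e
    · rw [e] at e8; exact absurd e8 huV
    · rw [e] at e8
      exfalso
      have := mul_mem (inv_mem hz) e8
      rw [inv_mul_cancel_left] at this
      exact huV this
  have e10 : v = 1 ∨ v = z := by
    rcases e6 with e | e <;> rcases e9 with f | f <;> rw [e] at f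
    · exact Or.inl f
    · exact Or.inr f
    · right
      rw [← inv_eq_self hzz]
      exact (mul_eq_one_iff_inv_eq.mp f).symm
    · left; simpa using f
  -- `b w b⁻¹ = v⁻¹ w`
  have e11 : b * w * b⁻¹ = v⁻¹ * w := by rw [hvd, commutatorElement_def]; group
  rcases e10 with e | e
  · left; rw [e11, e, inv_one, one_mul]
  · right; rw [e11, e, inv_eq_self hzz]

/-- **THEOREM P**: a line `L` on `z` such that `W_{y'}`, `y' ∈ L - ⟨z⟩`, and `W_y` have the same image in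
`C_G(z) / K_z` is `V`. -/
theorem eq_of_image (h : One T V z) [Finite G] {y y' : G} (hy : y ∈ V) (hy1 : y ≠ 1) (hyz : y ≠ z)
    {L : Subgroup G} (hL : L ∈ lines V z) (hy' : y' ∈ L) (hy1' : y' ≠ 1) (hyz' : y' ≠ z)
    (hR : Re V z y y') : L = V := by
  by_contra hne
  have hz := h.ln.z_mem
  have hz1 := h.ln.z_ne
  have hzz := h.ln.zz
  obtain ⟨g, rfl, T', h'⟩ := h.of_line hL hz1
  obtain ⟨w, hw, b', hb', hwV, hwz⟩ := h'.exists_lambda hL.2 hz1 hy' hy1' hyz'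
  rw [ws_cj] at hw hb'
  obtain ⟨b, hb, hκ⟩ := hR.2 b' hb'
  set κ := b' * b⁻¹ with hκd
  set u := ⁅w, b⁆ with hud
  have hui : u ∈ ii V := h.comm_ii_mem hz hz1 hy hy1 hw hb
  have huw : u ∈ ws V z := ii_le hz hz1 hui
  have e0 : b' = κ * b := by rw [hκd]; group
  have e2 : ⁅w, b'⁆ = ⁅w, κ⁆ * (κ * u * κ⁻¹) := by
    rw [e0, hud]; simp only [commutatorElement_def]; group
  have e3 : ⁅w, κ⁆ = 1 ∨ ⁅w, κ⁆ = z := by
    have e4 : ⁅w, κ⁆ = w * (κ * w * κ⁻¹)⁻¹ := by rw [commutatorElement_def]; group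
    rcases h.kq_cases hz hκ hw with e | e
    · left; rw [e4, e, mul_inv_cancel]
    · right; rw [e4, e, mul_inv_rev, mul_inv_cancel_left, inv_eq_self hzz]
  have e6 : ⁅w, b'⁆ = u ∨ ⁅w, b'⁆ = z * u := by
    rw [e2]
    rcases e3 with e3 | e3 <;> rcases h.kq_cases hz hκ huw with e5 | e5 <;> rw [e3, e5]
    · left; exact one_mul _
    · right; exact one_mul _
    · right; rfl
    · left; rw [← mul_assoc, hzz, one_mul]
  have huL : u ∈ cj g V := by
    rcases e6 with e | e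
    · rw [← e]; exact hwV
    · have : u = z * ⁅w, b'⁆ := by rw [e, ← mul_assoc, hzz, one_mul]
      rw [this]; exact mul_mem hL.2 hwV
  have huz : u ∉ zpowers z := by
    intro hu
    apply hwz
    rcases e6 with e | e <;> rw [e]
    · exact hu
    · exact mul_mem (mem_zpowers z) hu
  have hu1 : u ≠ 1 := fun e => huz (by rw [e]; exact one_mem _)
  have huz' : u ≠ z := fun e => huz (by rw [e]; exact mem_zpowers z)
  have huV : u ∉ V := by
    intro hu
    apply hne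
    have hle : V ≤ cj g V := by
      intro x hx
      rcases h.ln.four hz hu hz1 hu1 (Ne.symm huz') hx with e | e | e | e <;> rw [e]
      · exact one_mem _
      · exact hL.2
      · exact huL
      · exact mul_mem hL.2 huL
    exact (Subgroup.eq_of_le_of_card_ge hle (by rw [card_cj])).symm
  obtain ⟨U, hU, hVU, huU, -⟩ := h.exists_plane hui huV ⟨_, hL, huL⟩
  have hyC : ∀ q ∈ cj g V, q ≠ 1 → q ≠ z → Re V z y' q := by
    intro q hq hq1 hqz
    rcases h'.ln.four hL.2 hy' hz1 hy1' (Ne.symm hyz') hq with e | e | e | e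
    · exact absurd e hq1
    · exact absurd e hqz
    · rw [e]; exact Re.refl _ _ _
    · obtain ⟨k, hk, -, hk2⟩ := h'.exists_move hL.2 hz1 hy' hy1' hyz'
      rw [kq_cj] at hk
      have h1 := Re.of_kq (q := y') hk (by
        have := h'.cent_le_centralizer hL.2
        have h2 := h'.ws_le_centralizer_V hy' hy1'
        rw [ws_cj] at h2
        exact h2.trans this)
      rwa [hk2, ← e] at h1
  have hRu : Re V z y u := hR.trans (hyC u huL hu1 huz')
  have hall := h.re_of hU hVU huU huV hy hy1 hyz hRu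
  have hN := h.nt_of_re hU hVU huU huV hy hy1 hyz hall
  have P := h.pa_of hU (hVU hz) fun q hq hq1 hqz q' hq' hq1' hqz' =>
    (hall q hq hq1 hqz).2.trans (hall q' hq' hq1' hqz').1
  exact h.false_of_pa hN P (hVU hz)

/-- **THEOREM P**: `N_H(A) = H_λ`. -/
theorem norm_of_image (h : One T V z) [Finite G] {y f : G} (hy : y ∈ V) (hy1 : y ≠ 1) (hyz : y ≠ z)
    (hf : f ∈ centralizer ({z} : Set G))
    (hA : ∀ a ∈ ws V y, ∃ b ∈ ws V y, f * a * f⁻¹ * b⁻¹ ∈ kq V z) : f ∈ normalizer (V : Set G) := by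
  have hz := h.ln.z_mem
  have hfz : f * z = z * f := mem_centralizer_singleton_iff.mp hf
  have h1 : Rl V z (f * y * f⁻¹) y := by
    intro a ha
    have ha' : f⁻¹ * a * f ∈ ws V y := by
      have := conj_mem_ws f⁻¹ ha
      have e : f⁻¹ * (f * y * f⁻¹) * f⁻¹⁻¹ = y := by group
      rwa [e, inv_inv] at this
    obtain ⟨b, hb, hab⟩ := hA _ ha'
    refine ⟨b, hb, ?_⟩
    have e : f * (f⁻¹ * a * f) * f⁻¹ = a := by group
    rwa [e] at hab
  -- `f` has finite order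
  have h2 : ∀ n : ℕ, Rl V z (f ^ (n + 1) * y * (f ^ (n + 1))⁻¹) (f * y * f⁻¹) := by
    intro n
    induction n with
    | zero =>
      rw [zero_add, pow_one]
      exact fun a ha => ⟨a, ha, by rw [mul_inv_cancel]; exact one_mem _⟩
    | succ n ih =>
      have h3 := (ih.trans h1).conj hfz
      have e : f * (f ^ (n + 1) * y * (f ^ (n + 1))⁻¹) * f⁻¹ = f ^ (n + 1 + 1) * y * (f ^ (n + 1 + 1))⁻¹ := by
        rw [pow_succ' f (n + 1)]; group
      rwa [e] at h3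
  have h3 : Rl V z y (f * y * f⁻¹) := by
    obtain ⟨n, hn, hfn⟩ : ∃ n, 0 < n ∧ f ^ n = 1 := ⟨orderOf f, orderOf_pos f, pow_orderOf_eq_one f⟩
    obtain ⟨m, rfl⟩ := Nat.exists_eq_succ_of_ne_zero hn.ne'
    have h4 := h2 m
    rw [show m + 1 = m.succ from rfl, hfn] at h4
    have e : (1 : G) * y * 1⁻¹ = y := by group
    rwa [e] at h4
  have hL : cj f V ∈ lines V z := by
    have := mem_lines_cj (g := f) h.ln.V_mem_lines
    rwa [conj_eq_of_comm hfz] at this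
  have h4 := h.eq_of_image hy hy1 hyz hL (conj_mem_cj hy) (fun e => hy1 (conj_eq_one_iff.mp e))
    (fun e => hyz (by
      calc y = f⁻¹ * (f * y * f⁻¹) * f := by group
        _ = f⁻¹ * (z * f) := by rw [e]; group
        _ = z := by rw [← hfz]; group)) ⟨h3, h1⟩
  exact mem_normalizer_iff_cj.mpr h4

/-- **THEOREM P**: `C_H(A) ≤ H_λ`. -/
theorem norm_of_comm (h : One T V z) [Finite G] {y f : G} (hy : y ∈ V) (hy1 : y ≠ 1) (hyz : y ≠ z)
    (hf : f ∈ centralizer ({z} : Set G)) (hA : ∀ a ∈ ws V y, f * a * f⁻¹ * a⁻¹ ∈ kq V z) :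
    f ∈ normalizer (V : Set G) :=
  h.norm_of_image hy hy1 hyz hf fun a ha => ⟨a, ha, hA a ha⟩

end One

end Cfsg.Agent.Omega.NO3S.TwoOne

end

section


/-!
# NO-3S, `q = 2`, `n = 1`: consequences of THEOREM P

* `One.le_kq_of_norm` : a normal subgroup of `C_G(z)` contained in `N_G(V)` is in `K_z`;
* `One.le_kq_of_comm` (C1) : no normal subgroup `≠ 1` of `H` is centralised by `A`;
* `One.ee_of_comm`, `One.ii_of_comm` (VIII) : `C_H(A)` is trivial on `M / Ē` and on `[M, A] / λ`.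
-/

set_option autoImplicit false
set_option linter.unusedSectionVars false

namespace Cfsg.Agent.Omega.NO3S.TwoOne

open Subgroup Cfsg Cfsg.Agent.ZN Cfsg.Agent.MinSimple.Geo Cfsg.Agent.Omega.CaseL
open Cfsg.Agent.ZN.Block (conj_mem_of_normalizer conj_mem_of_normalizer' le_normalizer_of_forall
  mem_normalizer_of)
open scoped commutatorElement

universe u

variable {G : Type u} [Group G]

namespace One

variable {T V : Subgroup G} {z : G}

/-- a normal subgroup of `C_G(z)` contained in `N_G(V)` is in `K_z` -/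
theorem le_kq_of_norm [Finite G] (h : One T V z) {R : Subgroup G} (hR : R ≤ centralizer ({z} : Set G))
    (hn : centralizer ({z} : Set G) ≤ normalizer (R : Set G)) (h6 : R ≤ normalizer (V : Set G)) :
    R ≤ kq V z := by
  have hz := h.ln.z_mem
  have hz1 := h.ln.z_ne
  have h8 : ∀ r ∈ R, ∀ w ∈ ws V z, r * w * r⁻¹ * w⁻¹ ∈ zpowers z := by
    intro r hr
    let A : Subgroup G :=
      { carrier := {w | ∀ r ∈ R, r * w * r⁻¹ * w⁻¹ ∈ zpowers z ∧ w * z = z * w}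
        mul_mem' := by
          intro a b ha hb r hr
          have haz := (ha r hr).2
          have hbz := (hb r hr).2
          refine ⟨?_, mul_comm_of haz hbz⟩
          have e : r * (a * b) * r⁻¹ * (a * b)⁻¹ =
              (r * a * r⁻¹ * a⁻¹) * (a * (r * b * r⁻¹ * b⁻¹) * a⁻¹) := by group
          rw [e, conj_zpowers (mem_centralizer_singleton_iff.mpr haz) (hb r hr).1]
          exact mul_mem (ha r hr).1 (hb r hr).1
        one_mem' := fun r hr => ⟨by simp, by simp⟩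
        inv_mem' := by
          intro a ha r hr
          have haz := (ha r hr).2
          refine ⟨?_, inv_comm_of haz⟩
          have e : r * a⁻¹ * r⁻¹ * a⁻¹⁻¹ = a⁻¹ * (r * a * r⁻¹ * a⁻¹)⁻¹ * a⁻¹⁻¹ := by group
          rw [e, conj_zpowers (inv_mem (mem_centralizer_singleton_iff.mpr haz)) (inv_mem (ha r hr).1)]
          exact inv_mem (ha r hr).1 }
    have hA : ws V z ≤ A := by
      refine ws_le fun L hL => ?_
      obtain ⟨c, hc, rfl⟩ := h.ln.exists_of_mem_lines hL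
      intro x hx r hr
      have hx' := mem_of_cj hx
      have hr' := conj_mem_of_normalizer' hn hc hr
      refine ⟨?_, mem_centralizer_singleton_iff.mp (h.ws_le_cent (le_ws hL hx))⟩
      have h9 : c⁻¹ * r * c * (c⁻¹ * x * c) * (c⁻¹ * r * c)⁻¹ * (c⁻¹ * x * c)⁻¹ ∈ zpowers z := by
        rcases h.ln.conj_cases hz hx' hz1 (mem_centralizer_singleton_iff.mp (hR hr')) (h6 hr') with e | e
        · rw [e, mul_inv_cancel]; exact one_mem _
        · rw [e, mul_inv_cancel_right]; exact mem_zpowers z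
      have e : r * x * r⁻¹ * x⁻¹ =
          c * (c⁻¹ * r * c * (c⁻¹ * x * c) * (c⁻¹ * r * c)⁻¹ * (c⁻¹ * x * c)⁻¹) * c⁻¹ := by group
      rw [e, conj_zpowers hc h9]
      exact h9
    exact fun w hw => (hA hw r hr).1
  intro r hr
  refine ⟨hR hr, h8 r hr, fun w hw => ?_⟩
  have := h8 r⁻¹ (inv_mem hr) w hw
  rwa [inv_inv] at this

/-- **(C1)** no normal subgroup `≠ 1` of `H = C_G(z) / K_z` is centralised by `A` -/
theorem le_kq_of_comm [Finite G] (h : One T V z) {y : G} (hy : y ∈ V) (hy1 : y ≠ 1) (hyz : y ≠ z)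
    {R : Subgroup G} (hR : R ≤ centralizer ({z} : Set G))
    (hn : centralizer ({z} : Set G) ≤ normalizer (R : Set G))
    (hc : ∀ r ∈ R, ∀ a ∈ ws V y, r * a * r⁻¹ * a⁻¹ ∈ kq V z) : R ≤ kq V z :=
  h.le_kq_of_norm hR hn fun r hr => h.norm_of_comm hy hy1 hyz (hR hr) (hc r hr)

/-- an element of `N(V) ∩ C(z)` is `c k` with `c ∈ C_G(V)`, `k ∈ K_z` -/
theorem exists_mul_kq (h : One T V z) {f : G} (hf : f ∈ centralizer ({z} : Set G))
    (hfn : f ∈ normalizer (V : Set G)) : ∃ c ∈ centralizer (V : Set G), ∃ k ∈ kq V z, f = c * k := by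
  have hz := h.ln.z_mem
  have hz1 := h.ln.z_ne
  have hfz := mem_centralizer_singleton_iff.mp hf
  obtain ⟨y, hy, hy1, hyz⟩ := h.exists_q hz hz1
  rcases h.ln.conj_cases hz hy hz1 hfz hfn with e | e
  · exact ⟨f, h.mem_centralizer_of hz hz1 hy hy1 hyz hfz (comm_of_conj_eq e), 1, one_mem _, by simp⟩
  · obtain ⟨k, hk, hk1⟩ := h.exists_mover hz hz1
    have e1 := h.move hz hz1 hy hy1 hyz hk hk1
    refine ⟨f * k⁻¹, ?_, k, hk, by group⟩
    refine h.mem_centralizer_of hz hz1 (mul_mem hz hy) (h.mul_ne_one hy (Ne.symm hyz)) ?_ ?_ ?_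
    · intro e'
      exact hy1 (by simpa using e')
    · exact mul_comm_of hfz (inv_comm_of (h.kq_p hk))
    · refine comm_of_conj_eq ?_
      calc f * k⁻¹ * (z * y) * (f * k⁻¹)⁻¹ = f * (k⁻¹ * (z * y) * k) * f⁻¹ := by group
        _ = f * (k⁻¹ * (k * y * k⁻¹) * k) * f⁻¹ := by rw [e1]
        _ = f * y * f⁻¹ := by group
        _ = z * y := e

/-- **(VIII)** `C_H(A)` is trivial on `M / Ē` -/
theorem ee_of_comm [Finite G] (h : One T V z) {y f : G} (hy : y ∈ V) (hy1 : y ≠ 1) (hyz : y ≠ z)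
    (hf : f ∈ centralizer ({z} : Set G)) (hA : ∀ a ∈ ws V y, f * a * f⁻¹ * a⁻¹ ∈ kq V z) {w : G}
    (hw : w ∈ ws V z) : f * w * f⁻¹ * w⁻¹ ∈ ee V z := by
  have hz := h.ln.z_mem
  have hz1 := h.ln.z_ne
  obtain ⟨c, hc, k, hk, rfl⟩ := h.exists_mul_kq hf (h.norm_of_comm hy hy1 hyz hf hA)
  have hcz : c * z = z * c := (h.V_comm hz hc).symm
  -- `c` centralises `W_y / E_y`
  have h1 : ∀ a ∈ ws V y, c * a * c⁻¹ * a⁻¹ ∈ ee V y := by
    intro a ha
    refine h.mem_ee hy hy1 hz hz1 (Ne.symm hyz) ?_ ?_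
    · exact mul_mem (conj_mem_of_normalizer (h.cent_norm hy) hc ha) (inv_mem ha)
    · have haC : a * z = z * a := mem_centralizer_singleton_iff.mp
        (h.cent_le_centralizer hz (h.ws_le_centralizer_V hy hy1 ha))
      have h2 : c * (a * k * a⁻¹ * k⁻¹) * c⁻¹ ∈ kq V z :=
        Ps.kqn hcz (mul_mem (Ps.kqn haC hk) (inv_mem hk))
      have h3 := hA a ha
      have h4 : (c * k * a * (c * k)⁻¹ * a⁻¹) * (a * (c * (a⁻¹ * k * a * k⁻¹) * c⁻¹) * a⁻¹)  ∈ kq V z := by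
        refine mul_mem h3 (Ps.kqn haC (Ps.kqn hcz (mul_mem ?_ (inv_mem hk))))
        have := Ps.kqn (inv_comm_of haC) hk
        rwa [inv_inv] at this
      -- `c a c⁻¹ a⁻¹` from `c k a k⁻¹ c⁻¹ a⁻¹`
      have h5 : c * (k * a * k⁻¹ * a⁻¹)⁻¹ * c⁻¹ ∈ kq V z := by
        refine Ps.kqn hcz (inv_mem ?_)
        have e : k * a * k⁻¹ * a⁻¹ = k * (a * k⁻¹ * a⁻¹) := by group
        rw [e]
        exact mul_mem hk (Ps.kqn haC (inv_mem hk))
      have h6 := mul_mem h5 h3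
      have e : c * (k * a * k⁻¹ * a⁻¹)⁻¹ * c⁻¹ * (c * k * a * (c * k)⁻¹ * a⁻¹) = c * a * c⁻¹ * a⁻¹ := by
        group
      rwa [e] at h6
  -- so on `W_z / E_z`
  obtain ⟨g, hg, hgy⟩ := h.xl_trans hy hy1 hz hz1
  have h2 : c * w * c⁻¹ * w⁻¹ ∈ ee V z := by
    set a := g⁻¹ * w * g with had
    have ha : a ∈ ws V y := by
      have := conj_mem_ws g⁻¹ hw
      have e : g⁻¹ * z * g⁻¹⁻¹ = y := by rw [← hgy]; group
      rwa [e, inv_inv] at this
    have h3 := h.xl_cent hy hy1 hg hgy hc ha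
    have h4 := conj_mem_ee (h.xl_le_normalizer hg) (h1 a ha)
    rw [hgy] at h4
    have e1 : g * a * g⁻¹ = w := by rw [had]; group
    have e2 : g * (c * a * c⁻¹ * a⁻¹) * g⁻¹ = (g * (c * a * c⁻¹) * g⁻¹) * w⁻¹ := by
      rw [had]; group
    rw [e1] at h3
    rw [e2] at h4
    have := md_trans (md_symm h3) h4
    exact this
  have hkw : k * w * k⁻¹ ∈ ws V z := Ps.wsn (h.kq_p hk) hw
  rcases h.kq_cases hz hk hw with e | e
  · have e3 : c * k * w * (c * k)⁻¹ * w⁻¹ = c * (k * w * k⁻¹) * c⁻¹ * w⁻¹ := by group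
    rw [e3, e]; exact h2
  · have e3 : c * k * w * (c * k)⁻¹ * w⁻¹ = c * (k * w * k⁻¹) * c⁻¹ * w⁻¹ := by group
    have e4 : c * (z * w) * c⁻¹ * w⁻¹ = z * (c * w * c⁻¹ * w⁻¹) := by
      calc c * (z * w) * c⁻¹ * w⁻¹ = (c * z) * w * c⁻¹ * w⁻¹ := by group
        _ = z * (c * w * c⁻¹ * w⁻¹) := by rw [hcz]; group
    rw [e3, e, e4]
    exact mul_mem (h.V_le_ee hz hz1 hz) h2

end One

end Cfsg.Agent.Omega.NO3S.TwoOne

end
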