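import Cfsg.Agent.Mrg.Omega.NO3S.TwoOne.TIa
import Cfsg.Agent.Mrg.Omega.CaseL.Main
import Cfsg.Agent.Mrg.Omega.NO3S.TwoOne.Three
import Cfsg.Agent.Mrg.Omega.NO3S.TwoOne.Bridge
import Cfsg.Agent.Mrg.Omega.NO3S.TV.Sys
import Cfsg.Agent.Mrg.Omega.NO3S.TwoOne.DRel
import Mathlib
import Cfsg.Agent.Mrg.Omega.NO3S.TwoOne.PlaneKA

section


/-!
# NO-3S, `q = 2`, `n = 1`: `|W_z| = 16` (helper225's text #15275 (A)), third part

* `Std.dl_eq`, `Std.bz_eq_ws` : `D_l = V`, `B_z = W_z`; `Std.card_kq` : `|K_z| = 2^7`;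
* `Std.large`, `Std.o2_eq` : `K_z = O₂(C_G(z))` is extraspecial with centre `⟨z⟩`;
* `Std.extra` : `Omega.Exits.Extra z 3`.
-/

set_option autoImplicit false
set_option linter.unusedSectionVars false

namespace Cfsg.Agent.Omega.NO3S.TwoOne

open Subgroup Cfsg Cfsg.Agent.ZN Cfsg.Agent.MinSimple.Geo Cfsg.Agent.Omega.CaseL
open Cfsg.Agent.ZN.Block (conj_mem_of_normalizer conj_mem_of_normalizer' le_normalizer_of_forall
  mem_normalizer_of)
open scoped commutatorElement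

universe u

variable {G : Type u} [Group G]

namespace Std

variable {T V : Subgroup G} {z p q r : G}

/-- `U_z = C_{B_z}(K_z)` -/
abbrev uz (V : Subgroup G) (z : G) : Subgroup G := bz V z ⊓ centralizer (kq V z : Set G)

theorem mem_ck {V : Subgroup G} {z g : G} : g ∈ centralizer (kq V z : Set G) ↔ ∀ k ∈ kq V z, k * g = g * k :=
  mem_centralizer_iff

/-- `U_z ∩ U_y = 1` -/
theorem uz_inf [Finite G] (h : Std T V z) (hq : q ∈ V) (hq1 : q ≠ 1) (hqz : q ≠ z) : uz V z ⊓ uz V q = ⊥ := by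
  rw [eq_bot_iff]
  rintro u ⟨⟨hu, huz⟩, ⟨-, huq⟩⟩
  replace huz := mem_ck.mp huz
  replace huq := mem_ck.mp huq
  let F : Subgroup G :=
    { carrier := {f | f ∈ dl V ∧ ∀ p ∈ V, p ≠ 1 → ∀ k ∈ kq V p, k * f = f * k}
      mul_mem' := by
        rintro a b ⟨ha, ha1⟩ ⟨hb, hb1⟩
        exact ⟨mul_mem ha hb, fun p hp hp1 k hk => comm_mul_of (ha1 p hp hp1 k hk) (hb1 p hp hp1 k hk)⟩
      one_mem' := ⟨one_mem _, fun p hp hp1 k hk => by simp⟩
      inv_mem' := by
        rintro a ⟨ha, ha1⟩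
        exact ⟨inv_mem ha, fun p hp hp1 k hk => comm_inv_of (ha1 p hp hp1 k hk)⟩ }
  have hDn : F ≤ normalizer (V : Set G) := fun d hd =>
    centralizer_le_normalizer _ (h.bz_le_centralizer (h.dl_le_bz hd.1))
  have hN : normalizer (V : Set G) ≤ normalizer (F : Set G) := by
    refine le_normalizer_of_forall fun g hg d hd => ?_
    refine ⟨conj_mem_dl hg hd.1, fun p hp hp1 k hk => ?_⟩
    have hk' : g⁻¹ * k * g ∈ kq V (g⁻¹ * p * g) := by
      have := conj_mem_kq g⁻¹ hk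
      rwa [inv_inv] at this
    have := hd.2 _ ((mem_normalizer_iff''.mp hg p).mp hp) (conj_ne_one hp1) _ hk'
    calc k * (g * d * g⁻¹) = g * ((g⁻¹ * k * g) * d) * g⁻¹ := by group
      _ = g * (d * (g⁻¹ * k * g)) * g⁻¹ := by rw [this]
      _ = g * d * g⁻¹ * k := by group
  have hF : F = ⊥ := by
    by_contra hne
    have hz := h.one.ln.z_mem_of_normal hDn hN hne
    obtain ⟨k, hk, hk1⟩ := h.one.exists_mover hq hq1
    have e1 := h.one.move hq hq1 h.z_mem h.z_ne (Ne.symm hqz) hk hk1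
    rw [conj_eq_of_comm (hz.2 q hq hq1 k hk)] at e1
    exact hq1 (by simpa using e1.symm)
  have : u ∈ F := by
    refine ⟨h.uz_le hu huz, fun p hp hp1 k hk => ?_⟩
    rcases h.one.third h.z_mem h.z_ne hq hq1 hqz hp hp1 with e | e | e
    · rw [e] at hk; exact huz k hk
    · rw [e] at hk; exact huq k hk
    · obtain ⟨t, ht, -, ht2⟩ := h.one.exists_move h.z_mem h.z_ne hq hq1 hqz
      have h1 : t⁻¹ * k * t ∈ kq V q := by
        have h2 := conj_mem_kq t⁻¹ hk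
        have e3 : t⁻¹ * p * t⁻¹⁻¹ = q := by rw [e, ← ht2]; group
        rwa [e3, inv_inv] at h2
      have h2 := huz t ht
      have h3 := huq _ h1
      have h4 := mul_comm_of (mul_comm_of h2 h3) (inv_comm_of h2)
      have e4 : t * (t⁻¹ * k * t) * t⁻¹ = k := by group
      rwa [e4] at h4
  rw [hF] at this
  exact this

/-- the two pairings -/
theorem card_aux [Finite G] (h : Std T V z) :
    2 * Nat.card (kq V z) = 16 * Nat.card (bz V z) ∧ Nat.card (bz V z) = 4 * Nat.card (dl V) ∧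
      Nat.card (dl V) = 2 * Nat.card (uz V z) := by
  have hVW := h.one.V_le h.z_mem h.z_ne
  have hab : ∀ a ∈ bz V z, ∀ b ∈ kq V z, a * b = b * a ∨ a * b = z * (b * a) := by
    intro a ha b hb
    rcases (h.zp h.z_mem).mp (h.bz_kq ha hb) with e | e
    · left
      calc a * b = (a * b * a⁻¹ * b⁻¹) * (b * a) := by group
        _ = b * a := by rw [e, one_mul]
    · right
      calc a * b = (a * b * a⁻¹ * b⁻¹) * (b * a) := by group
        _ = z * (b * a) := by rw [e]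
  have hzK : ∀ b ∈ kq V z, z * b = b * z := fun b hb => (h.one.kq_p hb).symm
  have hzB : ∀ b ∈ bz V z, z * b = b * z := fun b hb => hzK b (h.bz_le_kq hb)
  have h1 := MinSimple.BTwoD.pairing (A := ws V z) (B := kq V z) h.zz h.z_ne
    (fun a ha => hzB a (h.ws_le_bz ha)) hzK (fun a ha b hb => hab a (h.ws_le_bz ha) b hb)
  have h2 := MinSimple.BTwoD.pairing (A := bz V z) (B := kq V z) h.zz h.z_ne hzB hzK hab
  have e1 : ws V z ⊓ centralizer (kq V z : Set G) = zpowers z := by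
    apply le_antisymm
    · rintro w ⟨hw, hwk⟩
      exact h.cent_ws hw (mem_ck.mp hwk)
    · rw [zpowers_le]
      exact ⟨hVW h.z_mem, mem_ck.mpr fun k hk => h.one.kq_p hk⟩
  have e2 : kq V z ⊓ centralizer (ws V z : Set G) = bz V z := inf_eq_right.mpr h.bz_le_kq
  have e3 : kq V z ⊓ centralizer (bz V z : Set G) = bz V z := by
    apply le_antisymm
    · rintro k ⟨-, hk⟩
      exact centralizer_le h.ws_le_bz hk
    · intro b hb
      exact ⟨h.bz_le_kq hb, mem_centralizer_iff.mpr fun c hc => h.bz_ab hc hb⟩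
  have e4 : Nat.card (zpowers z) = 2 := by
    rw [Nat.card_zpowers]
    exact orderOf_eq_prime (by rw [pow_two]; exact h.zz) h.z_ne
  rw [e1, e2, e4, h.card] at h1
  rw [e3] at h2
  have e5 : ws V z ⊔ dl V = bz V z := by
    refine le_antisymm (sup_le h.ws_le_bz h.dl_le_bz) fun b hb => ?_
    obtain ⟨w, hw, e, he, rfl⟩ := h.bz_eq hb
    exact mul_mem (mem_sup_left hw) (mem_sup_right he)
  have e6 : ws V z ⊓ dl V = V := by
    apply le_antisymm
    · rintro w ⟨hw, hwd⟩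
      obtain ⟨y, hy, hy1, hyz⟩ := h.one.ln.exists_y
      exact h.le z h.z_mem h.z_ne (h.one.dd_le_ee z
        (h.one.mem_dd h.z_mem h.z_ne hy hy1 hyz hw (mem_bz.mp (hwd y hy hy1))))
    · exact le_inf hVW h.V_le_dl
  have h3 := Block.card_sup_mul_card_inf (H := ws V z) (N := dl V)
    (((h.one.ws_le_centralizer_V h.z_mem h.z_ne).trans (centralizer_le_normalizer _)).trans
      (normalizer_le_normalizer_dl V))
  rw [e5, e6, h.card, h.one.ln.card_V] at h3
  have hB : 0 < Nat.card (bz V z) := Nat.card_pos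
  have h4 : Nat.card (bz V z) = 4 * Nat.card (dl V) := by omega
  refine ⟨h1, h4, ?_⟩
  have h5 : Nat.card (kq V z) = 8 * Nat.card (bz V z) := by omega
  rw [h5] at h2
  have h6 : Nat.card (bz V z) * (8 * Nat.card (uz V z)) = Nat.card (bz V z) * Nat.card (bz V z) := by
    rw [← h2]; ring
  have h7 := Nat.eq_of_mul_eq_mul_left hB h6
  omega

/-- `D_l = V` -/
theorem dl_eq [Finite G] (h : Std T V z) : dl V = V := by
  obtain ⟨y, hy, hy1, hyz⟩ := h.one.ln.exists_y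
  obtain ⟨T', h'⟩ := h.point hy hy1
  obtain ⟨-, -, h1⟩ := h.card_aux
  obtain ⟨-, -, h2⟩ := h'.card_aux
  have hu : uz V z ≤ dl V := fun u hu => h.uz_le hu.1 (mem_ck.mp hu.2)
  have hu' : uz V y ≤ dl V := fun u hu => h'.uz_le hu.1 (mem_ck.mp hu.2)
  have h3 := Block.card_sup_mul_card_inf (H := uz V z) (N := uz V y) (by
    refine le_normalizer_of_forall fun g hg v hv => ?_
    have h4 : g * v = v * g := h.bz_ab hg.1 (h.dl_le_bz (hu' hv))
    rw [conj_eq_of_comm h4]; exact hv)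
  rw [h.uz_inf hy hy1 hyz, Subgroup.card_bot, mul_one] at h3
  have h4 := Nat.le_of_dvd Nat.card_pos (card_dvd_of_le (sup_le hu hu'))
  have h5 : Nat.card (uz V z) = Nat.card (uz V y) := by omega
  have h6 : 0 < Nat.card (uz V z) := Nat.card_pos
  have h7 : Nat.card (dl V) ≤ 4 := by
    rw [h3, ← h5, h1] at h4
    have h8 : Nat.card (uz V z) ≤ 2 := Nat.le_of_mul_le_mul_right h4 h6
    omega
  exact (eq_of_le_of_card_ge h.V_le_dl (by rw [h.one.ln.card_V]; exact h7)).symm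

/-- `B_z = W_z` -/
theorem bz_eq_ws [Finite G] (h : Std T V z) : bz V z = ws V z := by
  refine le_antisymm (fun b hb => ?_) h.ws_le_bz
  obtain ⟨w, hw, e, he, rfl⟩ := h.bz_eq hb
  rw [h.dl_eq] at he
  exact mul_mem hw (h.one.V_le h.z_mem h.z_ne he)

/-- `|K_z| = 2^7` -/
theorem card_kq [Finite G] (h : Std T V z) : Nat.card (kq V z) = 2 ^ 7 := by
  obtain ⟨h1, -, -⟩ := h.card_aux
  rw [h.bz_eq_ws, h.card] at h1
  omega

/-! ### `K_z / ⟨z⟩` is elementary abelian -/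

theorem zc (_ : Std T V z) {x k : G} (hx : x ∈ zpowers z) (hk : k ∈ kq V z) : k * x * k⁻¹ = x :=
  conj_zpowers (kq_le_centralizer V z hk) hx

/-- the images of `a ∈ W_y` under a mover -/
theorem ta_mem (h : Std T V z) (hp : p ∈ V) (hp1 : p ≠ 1) (hpz : p ≠ z) {t a : G} (ht : t ∈ kq V z)
    (ht1 : t ∉ centralizer (V : Set G)) (ha : a ∈ ws V p) : t * a * t⁻¹ ∈ ws V (z * p) := by
  have := conj_mem_ws t ha
  rwa [h.one.move h.z_mem h.z_ne hp hp1 hpz ht ht1] at this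

/-- the square of a mover is trivial on `W_y / V` -/
theorem tt_ta (h : Std T V z) (hp : p ∈ V) (hp1 : p ≠ 1) (hpz : p ≠ z) {t a : G} (ht : t ∈ kq V z)
    (ht1 : t ∉ centralizer (V : Set G)) (ha : a ∈ ws V p) :
    ∃ v ∈ V, t * (t * a * t⁻¹) * t⁻¹ = v * a := by
  have hmv := h.one.move h.z_mem h.z_ne hp hp1 hpz ht ht1
  have htz : t * z * t⁻¹ = z := conj_eq_of_comm (h.one.kq_p ht)
  have h1 : t * t * p * (t * t)⁻¹ = p := by
    calc t * t * p * (t * t)⁻¹ = t * (t * p * t⁻¹) * t⁻¹ := by group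
      _ = t * (z * p) * t⁻¹ := by rw [hmv]
      _ = (t * z * t⁻¹) * (t * p * t⁻¹) := by group
      _ = p := by rw [htz, hmv, ← mul_assoc, h.zz, one_mul]
  have htx := kq_le_xl h.z_mem h.z_ne ht
  have h2 := h.le p hp hp1 (h.one.xl_fix hp hp1 (mul_mem htx htx) h1 ha)
  exact ⟨_, h2, by group⟩

/-- `v ∈ V` commuting with a mover is in `⟨z⟩` -/
theorem fix_mem (h : Std T V z) {t v : G} (ht : t ∈ kq V z) (ht1 : t ∉ centralizer (V : Set G)) (hv : v ∈ V)
    (hc : t * v * t⁻¹ = v) : v ∈ zpowers z := by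
  by_contra hvz
  rw [h.zp h.z_mem] at hvz
  push Not at hvz
  rw [h.one.move h.z_mem h.z_ne hv hvz.1 hvz.2 ht ht1] at hc
  exact h.z_ne (by simpa using hc)

/-- `[tat⁻¹, b] = t [a, tbt⁻¹] t⁻¹` modulo nothing: the key identity -/
theorem ta_comm (h : Std T V z) (hp : p ∈ V) (hp1 : p ≠ 1) (hpz : p ≠ z) {t a b : G} (ht : t ∈ kq V z)
    (ht1 : t ∉ centralizer (V : Set G)) (ha : a ∈ ws V p) (hb : b ∈ ws V p) :
    t * ⁅a, t * b * t⁻¹⁆ * t⁻¹ = ⁅t * a * t⁻¹, b⁆ := by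
  obtain ⟨v, hv, e⟩ := h.tt_ta hp hp1 hpz ht ht1 hb
  have hzp : z * p ∈ V := mul_mem h.z_mem hp
  have hzp1 : z * p ≠ 1 := h.one.mul_ne_one hp (Ne.symm hpz)
  rw [conjugate_commutatorElement, e]
  have ha' := h.ta_mem hp hp1 hpz ht ht1 ha
  rw [h.one.comm_mul_right hzp hzp1 hp hp1 ha' (h.one.V_le hp hp1 hv) hb]
  have h1 : ⁅t * a * t⁻¹, v⁆ = 1 := commutatorElement_eq_one_iff_mul_comm.mpr
    (h.one.V_comm hv (h.one.ws_le_centralizer_V hzp hzp1 ha')).symm
  rw [h1, one_mul]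

theorem ga_sq (h : Std T V z) (hp : p ∈ V) (hp1 : p ≠ 1) (hpz : p ≠ z) {t a : G} (ht : t ∈ kq V z)
    (ht1 : t ∉ centralizer (V : Set G)) (ha : a ∈ ws V p) :
    a * t * a⁻¹ * t⁻¹ * (a * t * a⁻¹ * t⁻¹) ∈ zpowers z := by
  have hzp : z * p ∈ V := mul_mem h.z_mem hp
  have hzp1 : z * p ≠ 1 := h.one.mul_ne_one hp (Ne.symm hpz)
  have ha' := h.ta_mem hp hp1 hpz ht ht1 ha
  have haa := h.one.sq hp hp1 a ha
  have haa' := h.one.sq hzp hzp1 _ ha'
  have e1 : a * t * a⁻¹ * t⁻¹ * (a * t * a⁻¹ * t⁻¹) = ⁅a, t * a * t⁻¹⁆ := by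
    have e2 : a * t * a⁻¹ * t⁻¹ = a * (t * a * t⁻¹)⁻¹ := by group
    rw [e2, commutatorElement_def, inv_eq_self haa', inv_eq_self haa]
    group
  rw [e1]
  refine h.fix_mem ht ht1 (h.comm_mem hp hp1 hzp hzp1 ha ha') ?_
  rw [h.ta_comm hp hp1 hpz ht ht1 ha ha, h.one.comm_swap hp hp1 hzp hzp1 ha ha']

theorem ga_comm (h : Std T V z) (hp : p ∈ V) (hp1 : p ≠ 1) (hpz : p ≠ z) {t a b : G} (ht : t ∈ kq V z)
    (ht1 : t ∉ centralizer (V : Set G)) (ha : a ∈ ws V p) (hb : b ∈ ws V p) :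
    ⁅a * t * a⁻¹ * t⁻¹, b * t * b⁻¹ * t⁻¹⁆ ∈ zpowers z := by
  have hzp : z * p ∈ V := mul_mem h.z_mem hp
  have hzp1 : z * p ≠ 1 := h.one.mul_ne_one hp (Ne.symm hpz)
  have ha' := h.ta_mem hp hp1 hpz ht ht1 ha
  have hb' := h.ta_mem hp hp1 hpz ht ht1 hb
  have haa' := inv_eq_self (h.one.sq hzp hzp1 _ ha')
  have hbb' := inv_eq_self (h.one.sq hzp hzp1 _ hb')
  have ea : a * t * a⁻¹ * t⁻¹ = a * (t * a * t⁻¹) := by
    have : a * t * a⁻¹ * t⁻¹ = a * (t * a * t⁻¹)⁻¹ := by group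
    rw [this, haa']
  have eb : b * t * b⁻¹ * t⁻¹ = b * (t * b * t⁻¹) := by
    have : b * t * b⁻¹ * t⁻¹ = b * (t * b * t⁻¹)⁻¹ := by group
    rw [this, hbb']
  rw [ea, eb]
  have key := h.ta_comm hp hp1 hpz ht ht1 ha hb
  set a' := t * a * t⁻¹ with ha'd
  set b' := t * b * t⁻¹ with hb'd
  have hv : ⁅a, b'⁆ ∈ V := h.comm_mem hp hp1 hzp hzp1 ha hb'
  have hv' : ⁅a', b⁆ ∈ V := h.comm_mem hzp hzp1 hp hp1 ha' hb
  have hab := h.one.comm hp hp1 a ha b hb
  have hab' := h.one.comm hzp hzp1 a' ha' b' hb'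
  have haV := h.one.ws_le_centralizer_V hp hp1 ha
  have hbV := h.one.ws_le_centralizer_V hp hp1 hb
  set v := ⁅a, b'⁆ with hvd
  set v' := ⁅a', b⁆ with hvd'
  have e1 : a * b' = v * b' * a := by rw [hvd, commutatorElement_def]; group
  have e2 : a' * b = v' * b * a' := by rw [hvd', commutatorElement_def]; group
  have c1 := h.one.V_comm hv' haV
  have c2 := h.one.V_comm hv hbV
  have e3 : a * a' * (b * b') = (v' * v) * (b * b' * (a * a')) := by
    calc a * a' * (b * b') = a * (a' * b) * b' := by group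
      _ = (a * v') * b * a' * b' := by rw [e2]; group
      _ = v' * (a * b) * (a' * b') := by rw [← c1]; group
      _ = v' * b * (a * b') * a' := by rw [hab, hab']; group
      _ = v' * (b * v) * b' * a * a' := by rw [e1]; group
      _ = (v' * v) * (b * b' * (a * a')) := by rw [← c2]; group
  have e4 : ⁅a * a', b * b'⁆ = v' * v := by
    rw [commutatorElement_def, e3]; group
  rw [e4, ← key]
  by_cases hvz : v ∈ zpowers z
  · rw [zc h hvz ht]; exact mul_mem hvz hvz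
  · have hvz' := hvz
    rw [h.zp h.z_mem] at hvz'
    push Not at hvz'
    rw [h.one.move h.z_mem h.z_ne hv hvz'.1 hvz'.2 ht ht1, mul_assoc, h.one.ln.sq v hv, mul_one]
    exact mem_zpowers z

theorem comm_mul_zp (h : Std T V z) {k k' g : G} (hk : k ∈ kq V z) (h1 : ⁅k, g⁆ ∈ zpowers z)
    (h2 : ⁅k', g⁆ ∈ zpowers z) : ⁅k * k', g⁆ ∈ zpowers z := by
  have e : ⁅k * k', g⁆ = (k * ⁅k', g⁆ * k⁻¹) * ⁅k, g⁆ := by simp only [commutatorElement_def]; group
  rw [e, h.zc h2 hk]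
  exact mul_mem h2 h1

theorem comm_symm_zp {z k k' : G} (h1 : ⁅k, k'⁆ ∈ zpowers z) : ⁅k', k⁆ ∈ zpowers z := by
  rw [← commutatorElement_inv]; exact inv_mem h1

theorem ws_comm_zp (_ : Std T V z) {w k : G} (hw : w ∈ ws V z) (hk : k ∈ kq V z) : ⁅w, k⁆ ∈ zpowers z := by
  refine comm_symm_zp ?_
  exact kq_comm hk hw

/-- `k, k' ∈ K_z ∩ C_G(V)` -/
theorem kq_cV [Finite G] (h : Std T V z) {k k' : G} (hk : k ∈ kq V z) (hkV : k ∈ centralizer (V : Set G))
    (hk' : k' ∈ kq V z) (hkV' : k' ∈ centralizer (V : Set G)) :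
    ⁅k, k'⁆ ∈ zpowers z ∧ k * k ∈ zpowers z := by
  obtain ⟨y, hy, hy1, hyz⟩ := h.one.ln.exists_y
  obtain ⟨t, ht, ht1⟩ := h.one.exists_mover h.z_mem h.z_ne
  obtain ⟨a, ha, b, hb, rfl⟩ := h.kq_rep hy hy1 hyz ht ht1 hk hkV
  obtain ⟨a', ha', b', hb', rfl⟩ := h.kq_rep hy hy1 hyz ht ht1 hk' hkV'
  rw [h.bz_eq_ws] at hb hb'
  have h1 := h.ga_comm hy hy1 hyz ht ht1 ha ha'
  have h2 := h.ga_sq hy hy1 hyz ht ht1 ha
  have hg := (h.ga_mem hy hy1 ht ha).1
  have hg' := (h.ga_mem hy hy1 ht ha').1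
  set g := a * t * a⁻¹ * t⁻¹ with hgd
  set g' := a' * t * a'⁻¹ * t⁻¹ with hgd'
  refine ⟨h.comm_mul_zp (h.ws_le_kq hb) (h.ws_comm_zp hb hk') ?_, ?_⟩
  · exact comm_symm_zp (h.comm_mul_zp (h.ws_le_kq hb') (h.ws_comm_zp hb' hg) (comm_symm_zp h1))
  · have e : b * g * (b * g) = b * (g * b * g⁻¹ * b⁻¹) * b⁻¹ * (b * b) * (g * g) := by group
    rw [e, h.one.sqz b hb, mul_one, h.zc (kq_comm hg hb) (h.ws_le_kq hb)]
    exact mul_mem (kq_comm hg hb) h2

/-- `k, k' ∈ K_z` centralise a common line -/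
theorem exists_line₂ [Finite G] (h : Std T V z) {k k' : G} (hk : k ∈ kq V z) (hk' : k' ∈ kq V z) :
    ∃ g : G, (∃ T', Std T' (cj g V) z) ∧ k ∈ centralizer (cj g V : Set G) ∧
      k' ∈ centralizer (cj g V : Set G) := by
  have hVW := h.one.V_le h.z_mem h.z_ne
  have key : ∀ k ∈ kq V z, (centralizer ({k} : Set G)).relIndex (ws V z) ≤ 2 := by
    intro k hk
    refine relIndex_le_two fun a ha b hb ha' hb' => ?_
    rw [mem_centralizer_singleton_iff] at ha' hb' ⊢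
    have h1 := (h.one.kq_cases h.z_mem hk ha).resolve_left (fun e => ha' (comm_of_conj_eq e).symm)
    have h2 := (h.one.kq_cases h.z_mem hk hb).resolve_left (fun e => hb' (comm_of_conj_eq e).symm)
    symm
    refine comm_of_conj_eq ?_
    have haz := h.one.comm h.z_mem h.z_ne a ha z (hVW h.z_mem)
    calc k * (a * b) * k⁻¹ = (k * a * k⁻¹) * (k * b * k⁻¹) := by group
      _ = z * (a * z) * b := by rw [h1, h2]; group
      _ = (z * z) * (a * b) := by rw [haz]; group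
      _ = a * b := by rw [h.zz, one_mul]
  set C := centralizer ({k} : Set G) ⊓ centralizer ({k'} : Set G) with hC
  have h1 : C.relIndex (ws V z) ≤ 4 := by
    refine (relIndex_inf_le (H := centralizer ({k} : Set G)) (K := centralizer ({k'} : Set G))).trans ?_
    exact Nat.mul_le_mul (key k hk) (key k' hk')
  obtain ⟨w, hw, hwC, hwz⟩ : ∃ w ∈ ws V z, w ∈ C ∧ w ∉ zpowers z := by
    by_contra hcon
    push Not at hcon
    have h2 : C ⊓ ws V z ≤ zpowers z := fun w hw => hcon w hw.2 hw.1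
    have h3 := relIndex_mul_card (inf_le_right : C ⊓ ws V z ≤ ws V z)
    rw [inf_relIndex_right, h.card] at h3
    have h4 := Nat.le_of_dvd Nat.card_pos (card_dvd_of_le h2)
    have e4 : Nat.card (zpowers z) = 2 := by
      rw [Nat.card_zpowers]
      exact orderOf_eq_prime (by rw [pow_two]; exact h.zz) h.z_ne
    rw [e4] at h4
    have := Nat.mul_le_mul h1 h4
    omega
  obtain ⟨g, hwL, hw1, hwz', hL, T', h'⟩ := h.line_of hw hwz
  refine ⟨g, ⟨T', h'⟩, ?_, ?_⟩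
  · exact h'.one.mem_centralizer_of h'.z_mem h'.z_ne hwL hw1 hwz' (h.one.kq_p hk)
      (mem_centralizer_singleton_iff.mp hwC.1).symm
  · exact h'.one.mem_centralizer_of h'.z_mem h'.z_ne hwL hw1 hwz' (h.one.kq_p hk')
      (mem_centralizer_singleton_iff.mp hwC.2).symm

theorem kq_comm_sq [Finite G] (h : Std T V z) {k k' : G} (hk : k ∈ kq V z) (hk' : k' ∈ kq V z) :
    ⁅k, k'⁆ ∈ zpowers z ∧ k * k ∈ zpowers z := by
  obtain ⟨g, ⟨T', h'⟩, h1, h2⟩ := h.exists_line₂ hk hk'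
  exact h'.kq_cV (by rw [kq_cj]; exact hk) h1 (by rw [kq_cj]; exact hk') h2

theorem large [Finite G] (h : Std T V z) : Cfsg.Agent.Co2Type.Quad.Large (kq V z) z where
  z_mem := h.ws_le_kq (h.one.V_le h.z_mem h.z_ne h.z_mem)
  z_ne := h.z_ne
  z_sq := h.zz
  comm_z := fun _ hx => h.one.kq_p hx
  conj_mem := fun g hg x hx => conj_mem_of_normalizer (centralizer_le_normalizer_kq V z)
    (mem_centralizer_singleton_iff.mpr hg) hx
  sq := fun x hx => (h.zp h.z_mem).mp (h.kq_comm_sq hx hx).2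
  comm := by
    intro x hx y hy
    have hzz := h.one.kq_p (mul_mem hy hx)
    rcases (h.zp h.z_mem).mp (h.kq_comm_sq hx hy).1 with e | e
    · exact Or.inl (commutatorElement_eq_one_iff_mul_comm.mp e)
    · right
      calc x * y = ⁅x, y⁆ * (y * x) := by rw [commutatorElement_def]; group
        _ = y * x * z := by rw [e, hzz]
  cent := by
    intro x _ hc
    have h1 : x ∈ bz V z := mem_bz.mpr fun w hw => hc w (h.ws_le_kq hw)
    rw [h.bz_eq_ws] at h1
    exact (h.zp h.z_mem).mp (h.cent_ws h1 fun k hk => (hc k hk).symm)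
  self := by
    intro g _ hc
    have h1 : g ∈ bz V z := mem_bz.mpr fun w hw => hc w (h.ws_le_kq hw)
    exact h.bz_le_kq h1

/-- `O₂(C_G(z)) = K_z` -/
theorem o2_eq [Finite G] (h : Std T V z) : o2 (centralizer ({z} : Set G)) = kq V z := by
  have hfact : Fact (Nat.Prime 2) := ⟨Nat.prime_two⟩
  apply le_antisymm
  · refine h.one.le_kq (Block.o2_le _) (le_normalizer_o2 _) fun r hr => ?_
    obtain ⟨n, hn⟩ := Block.o2_isPGroup (centralizer ({z} : Set G)) ⟨r, hr⟩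
    refine ⟨n, ?_⟩
    have : r ^ 2 ^ n = 1 := congrArg Subtype.val hn
    rw [this]; exact one_mem _
  · have hp : IsPGroup 2 (kq V z) := IsPGroup.of_card h.card_kq
    exact Block.le_o2 hp (kq_le_centralizer V z) (centralizer_le_normalizer_kq V z)

/-- **`O₂(C_G(z))` is extraspecial of order `2^7`** -/
theorem extra [Finite G] (h : Std T V z) : Exits.Extra z 3 := by
  have L := h.large
  have hcard : Nat.card ↥(o2 (centralizer ({z} : Set G))) = 2 ^ 7 := by rw [h.o2_eq, h.card_kq]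
  rw [← h.o2_eq] at L
  have hE : IsExtraspecial 2 ↥(o2 (centralizer ({z} : Set G))) := by
    refine Cfsg.Agent.J2.ExtQuot.isExtraspecial_two (Block.o2_isPGroup _) L.card_center ?_ ?_
    · intro x
      rw [L.mem_center]
      rcases L.sq x x.2 with e | e
      · left; simpa [pow_two] using e
      · right; simpa [pow_two] using e
    · obtain ⟨y, hy, hy1, hyz⟩ := h.one.ln.exists_y
      obtain ⟨t, ht, ht1⟩ := h.one.exists_mover h.z_mem h.z_ne
      have hyK : y ∈ o2 (centralizer ({z} : Set G)) := by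
        rw [h.o2_eq]; exact h.ws_le_kq (h.one.V_le h.z_mem h.z_ne hy)
      have htK : t ∈ o2 (centralizer ({z} : Set G)) := by rw [h.o2_eq]; exact ht
      refine ⟨⟨t, htK⟩, ⟨y, hyK⟩, fun e => ?_⟩
      have e1 : t * y = y * t := congrArg Subtype.val e
      have e2 := h.one.move h.z_mem h.z_ne hy hy1 hyz ht ht1
      rw [conj_eq_of_comm e1] at e2
      exact h.z_ne (by simpa using e2.symm)
  refine ⟨orderOf_eq_prime (by rw [pow_two]; exact h.zz) h.z_ne,
    Cfsg.Agent.J2.ExtQuot.isExtraspecial_of_equiv (Pair.o2Equiv z) hE, ?_⟩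
  rw [← hcard]
  exact (Nat.card_congr (Pair.o2Equiv z).toEquiv).symm

/-- the exit -/
theorem known [Finite G] [IsSimpleGroup G] (h : Std T V z) (hna : ¬ IsMulCommutative G)
    (h62 : Exits.St1762.{u}) : IsKnownSimple' G := h.extra.known_three h.one.ln.charTwo hna h62

end Std

end Cfsg.Agent.Omega.NO3S.TwoOne

end

section


/-!
# NO-3S, `q = 2`, `n = 1`: `|W_z| = 16` implies `|A| = 4`

`Tw2 T V z` : `One T V z`, `|W_z| = 16`, `|A| = |W_z : E_z| = 2`.  `Tw2.false` : this is impossible.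

For a point `p` collinear with `z` let `F_p = ff V z p = {w ∈ W_z | [w, W_p] ≤ ⟨z⟩}`; it has index 2 in `W_z`, and an
`a ∈ W_p` acts on `W_z/⟨z⟩` as the transvection with axis `F_p` and centre `p` (`Tw2.facts`); `q ∈ F_p` iff `p ∈ F_q`
(`Tw2.symm`).  `comb`: two points `r`, `α` with `F_r = F_α` and `1 ≠ rα ∈ F_p` for all `p`, so that the product of the
two transvections contradicts faithfulness (`One.faithful`).
-/

set_option autoImplicit false
set_option linter.unusedSectionVars false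

namespace Cfsg.Agent.Omega.NO3S.TwoOne

open Subgroup Cfsg Cfsg.Agent.ZN Cfsg.Agent.MinSimple.Geo Cfsg.Agent.Omega.CaseL
open Cfsg.Agent.ZN.Block (conj_mem_of_normalizer conj_mem_of_normalizer' le_normalizer_of_forall
  mem_normalizer_of)
open scoped commutatorElement

universe u

variable {G : Type u} [Group G]

/-! ### combinatorics -/

theorem card_zpowers_sup_le [Finite G] {W B : Subgroup G} (ab : ∀ a ∈ W, ∀ b ∈ W, a * b = b * a)
    (sq : ∀ a ∈ W, a * a = 1) {a : G} (ha : a ∈ W) (hB : B ≤ W) :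
    Nat.card ↥(zpowers a ⊔ B) ≤ 2 * Nat.card B := by
  have hle : zpowers a ≤ normalizer (B : Set G) := by
    refine le_normalizer_of_forall fun g hg v hv => ?_
    rw [ab g (zpowers_le_of_mem ha hg) v (hB hv), mul_inv_cancel_right]; exact hv
  have h1 := Block.card_sup_mul_card_inf hle
  have h2 : Nat.card (zpowers a) ≤ 2 := by
    rw [Nat.card_zpowers]
    exact Nat.le_of_dvd (by norm_num) (orderOf_dvd_of_pow_eq_one (by rw [pow_two]; exact sq a ha))
  have h3 : 0 < Nat.card ↥(zpowers a ⊓ B) := Nat.card_pos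
  calc Nat.card ↥(zpowers a ⊔ B) = Nat.card ↥(zpowers a ⊔ B) * 1 := (mul_one _).symm
    _ ≤ Nat.card ↥(zpowers a ⊔ B) * Nat.card ↥(zpowers a ⊓ B) := Nat.mul_le_mul_left _ h3
    _ = Nat.card (zpowers a) * Nat.card B := h1
    _ ≤ 2 * Nat.card B := Nat.mul_le_mul_right _ h2

/-- the elements of a group of order at most 4 -/
theorem mem_four [Finite G] {D : Subgroup G} (hD : Nat.card D ≤ 4) {p q : G} (hp : p ∈ D) (hq : q ∈ D)
    (hp1 : p ≠ 1) (hq1 : q ≠ 1) (hpq : p ≠ q) (hpq1 : p * q ≠ 1) {v : G} (hv : v ∈ D) :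
    v = 1 ∨ v = p ∨ v = q ∨ v = p * q := by
  have hpqp : p * q ≠ p := fun e => hq1 (by simpa using e)
  have hpqq : p * q ≠ q := fun e => hp1 (by simpa using e)
  have h1 : ({1, p, q, p * q} : Set G) ⊆ (D : Set G) := by
    rintro x (rfl | rfl | rfl | rfl)
    · exact D.one_mem
    · exact hp
    · exact hq
    · exact D.mul_mem hp hq
  have h2 : ({1, p, q, p * q} : Set G).ncard = 4 := by
    rw [Set.ncard_insert_of_notMem, Set.ncard_insert_of_notMem, Set.ncard_pair (Ne.symm hpqq)]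
    · rintro (e | e)
      · exact hpq e
      · exact hpqp e.symm
    · rintro (e | e | e)
      · exact hp1 e.symm
      · exact hq1 e.symm
      · exact hpq1 e.symm
  have h3 : (D : Set G).ncard ≤ 4 := hD
  have h4 : ({1, p, q, p * q} : Set G) = D := Set.eq_of_subset_of_ncard_le h1 (by rw [h2]; exact h3)
    (Set.toFinite _)
  have : v ∈ ({1, p, q, p * q} : Set G) := by rw [h4]; exact hv
  simpa using this

/-- the combinatorial part -/
theorem comb [Finite G] {W : Subgroup G} {z : G} {N : Set G} {F : G → Subgroup G}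
    (hc : Nat.card W = 16) (ab : ∀ a ∈ W, ∀ b ∈ W, a * b = b * a) (sq : ∀ a ∈ W, a * a = 1) (hz : z ∈ W)
    (hz1 : z ≠ 1) (hN : ∀ p ∈ N, p ∈ W) (hN1 : ∀ p ∈ N, p ∉ zpowers z)
    (hgen : ∀ X : Subgroup G, z ∈ X → (∀ p ∈ N, p ∈ X) → W ≤ X)
    (hFW : ∀ p ∈ N, F p ≤ W) (hFz : ∀ p ∈ N, z ∈ F p) (hFp : ∀ p ∈ N, p ∈ F p)
    (hFi : ∀ p ∈ N, ∀ a ∈ W, ∀ b ∈ W, a ∉ F p → b ∉ F p → a * b ∈ F p) (hFn : ∀ p ∈ N, ¬ W ≤ F p)
    (hzF : ∀ p ∈ N, F (z * p) = F p) (hsym : ∀ p ∈ N, ∀ q ∈ N, q ∈ F p → p ∈ F q)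
    (hmul : ∀ p ∈ N, ∀ q ∈ N, q ∉ F p → p * q ∈ N ∧ F p ⊓ F q ≤ F (p * q)) (hne : N.Nonempty) :
    ∃ r ∈ N, ∃ s ∈ N, F r = F s ∧ r * s ∉ zpowers z ∧ ∀ p ∈ N, r * s ∈ F p := by
  have hzz := sq z hz
  have zp : ∀ {x : G}, x ∈ zpowers z ↔ x = 1 ∨ x = z := mem_zpowers_iff_of_mul_self hzz
  obtain ⟨y, hy⟩ := hne
  obtain ⟨q, hq, hqy⟩ : ∃ q ∈ N, q ∉ F y := by
    by_contra hcon
    push Not at hcon
    exact hFn y hy (hgen _ (hFz y hy) hcon)
  have hyq : y ∉ F q := fun e => hqy (hsym q hq y hy e)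
  obtain ⟨hyqN, hDyq⟩ := hmul y hy q hq hqy
  have hyW := hN y hy
  have hqW := hN q hq
  have hyy := sq y hyW
  have hqq := sq q hqW
  set D := F y ⊓ F q with hD
  have hDW : D ≤ W := inf_le_left.trans (hFW y hy)
  have hzD : z ∈ D := ⟨hFz y hy, hFz q hq⟩
  -- `B = {y, q, y q}`
  have hDB : ∀ b, (b = y ∨ b = q ∨ b = y * q) → b ∈ N ∧ D ≤ F b := by
    rintro b (rfl | rfl | rfl)
    · exact ⟨hy, inf_le_left⟩
    · exact ⟨hq, inf_le_right⟩
    · exact ⟨hyqN, hDyq⟩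
  -- the cosets of `D`
  have hcos : ∀ w ∈ W, w ∈ D ∨ ∃ b, (b = y ∨ b = q ∨ b = y * q) ∧ w * b ∈ D := by
    intro w hw
    by_cases h1 : w ∈ F y <;> by_cases h2 : w ∈ F q
    · exact Or.inl ⟨h1, h2⟩
    · exact Or.inr ⟨y, Or.inl rfl, mul_mem h1 (hFp y hy), hFi q hq w hw y hyW h2 hyq⟩
    · exact Or.inr ⟨q, Or.inr (Or.inl rfl), hFi y hy w hw q hqW h1 hqy, mul_mem h2 (hFp q hq)⟩
    · refine Or.inr ⟨y * q, Or.inr (Or.inr rfl), ?_, ?_⟩
      · refine hFi y hy w hw _ (mul_mem hyW hqW) h1 fun e => hqy ?_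
        exact (mul_mem_cancel_left (hFp y hy)).mp e
      · have : w * (y * q) = (w * y) * q := by group
        rw [this]
        exact mul_mem (hFi q hq w hw y hyW h2 hyq) (hFp q hq)
  -- `|D| ≤ 4`
  have hD4 : Nat.card D ≤ 4 := by
    have hDy : D ≤ F y := inf_le_left
    have h1 := relIndex_mul_card hDy
    have h2 := relIndex_mul_card (hFW y hy)
    have h3 : D.relIndex (F y) ≠ 1 := fun e => hyq (relIndex_eq_one.mp e (hFp y hy)).2
    have h4 : D.relIndex (F y) ≠ 0 := relIndex_ne_zero' _ _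
    have h5 : (F y).relIndex W ≠ 1 := fun e => hFn y hy (relIndex_eq_one.mp e)
    have h6 : (F y).relIndex W ≠ 0 := relIndex_ne_zero' _ _
    have h7 : 2 ≤ D.relIndex (F y) := by omega
    have h8 : 2 ≤ (F y).relIndex W := by omega
    have h9 := Nat.mul_le_mul_right (Nat.card D) h7
    have h10 := Nat.mul_le_mul_right (Nat.card (F y)) h8
    omega
  -- `D = ⟨z, d⟩`
  have hDd : ∀ d ∈ D, d ∉ zpowers z → ∀ X : Subgroup G, z ∈ X → d ∈ X → D ≤ X := by
    intro d hd hdz X hzX hdX v hv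
    rw [zp] at hdz
    push Not at hdz
    have hzd1 : z * d ≠ 1 := fun e => hdz.2 (by
      rw [mul_eq_one_iff_eq_inv.mp e]
      exact (inv_eq_self (sq d (hDW hd))).symm)
    rcases mem_four hD4 hzD hd hz1 hdz.1 (Ne.symm hdz.2) hzd1 hv with e | e | e | e
    · rw [e]; exact one_mem _
    · rw [e]; exact hzX
    · rw [e]; exact hdX
    · rw [e]; exact mul_mem hzX hdX
  -- an element `r ∈ N` outside `D`
  have hrb : ∀ r ∈ N, ∀ b, (b = y ∨ b = q ∨ b = y * q) → r * b ∈ D → r * b ∈ F r ∧ r = (r * b) * b := by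
    intro r hr b hb hd
    obtain ⟨hbN, hDb⟩ := hDB b hb
    have hbb := sq b (hN b hbN)
    have e1 : r = (r * b) * b := by rw [mul_assoc, hbb, mul_one]
    have h1 : r ∈ F b := by rw [e1]; exact mul_mem (hDb hd) (hFp b hbN)
    exact ⟨mul_mem (hFp r hr) (hsym b hbN r hr h1), e1⟩
  -- Claim A
  have hA : ∀ r ∈ N, D ≤ F r := by
    intro r hr
    rcases hcos r (hN r hr) with h1 | ⟨b, hb, hd⟩
    · exact hDd r h1 (hN1 r hr) _ (hFz r hr) (hFp r hr)
    · obtain ⟨h1, e1⟩ := hrb r hr b hb hd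
      obtain ⟨hbN, hDb⟩ := hDB b hb
      by_cases hdz : r * b ∈ zpowers z
      · rcases zp.mp hdz with e | e
        · rw [e, one_mul] at e1
          rw [e1]; exact hDb
        · rw [e] at e1
          rw [e1, hzF b hbN]; exact hDb
      · exact hDd _ hd hdz _ (hFz r hr) h1
  -- `r ∈ N - ⟨z, y, q⟩`
  set Y := zpowers y ⊔ (zpowers q ⊔ zpowers z) with hY
  have hYc : Nat.card Y ≤ 8 := by
    have h0 : zpowers z ≤ W := zpowers_le_of_mem hz
    have h1 := card_zpowers_sup_le ab sq hqW h0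
    have h2 : Nat.card Y ≤ 2 * Nat.card ↥(zpowers q ⊔ zpowers z) :=
      card_zpowers_sup_le ab sq hyW (sup_le (zpowers_le_of_mem hqW) h0)
    have h3 : Nat.card (zpowers z) ≤ 2 := by
      rw [Nat.card_zpowers]
      exact Nat.le_of_dvd (by norm_num) (orderOf_dvd_of_pow_eq_one (by rw [pow_two]; exact hzz))
    omega
  have hyY : y ∈ Y := mem_sup_left (mem_zpowers y)
  have hqY : q ∈ Y := mem_sup_right (mem_sup_left (mem_zpowers q))
  have hzY : zpowers z ≤ Y := (le_sup_right : zpowers z ≤ zpowers q ⊔ zpowers z).trans le_sup_right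
  obtain ⟨r, hr, hrY⟩ : ∃ r ∈ N, r ∉ Y := by
    by_contra hcon
    push Not at hcon
    have h1 := hgen Y (hzY (mem_zpowers z)) hcon
    have h2 := Nat.le_of_dvd Nat.card_pos (card_dvd_of_le h1)
    omega
  rcases hcos r (hN r hr) with h1 | ⟨b, hb, hd⟩
  · exfalso
    apply hFn r hr
    have hyr : y ∈ F r := hsym y hy r hr h1.1
    have hqr : q ∈ F r := hsym q hq r hr h1.2
    intro w hw
    rcases hcos w hw with h2 | ⟨b, hb, hd⟩
    · exact hA r hr h2
    · have hbr : b ∈ F r := by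
        rcases hb with rfl | rfl | rfl
        · exact hyr
        · exact hqr
        · exact mul_mem hyr hqr
      exact (mul_mem_cancel_right hbr).mp (hA r hr hd)
  · obtain ⟨hbN, hDb⟩ := hDB b hb
    obtain ⟨h1, e1⟩ := hrb r hr b hb hd
    have hbY : b ∈ Y := by
      rcases hb with rfl | rfl | rfl
      · exact hyY
      · exact hqY
      · exact mul_mem hyY hqY
    refine ⟨r, hr, b, hbN, ?_, ?_, fun p hp => hA p hp hd⟩
    · -- `F r = F b`
      have key : ∀ w ∈ W, (w ∈ F r ↔ w ∈ F b) := by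
        intro w hw
        rcases hcos w hw with h2 | ⟨c, hc, hd'⟩
        · exact ⟨fun _ => hA b hbN h2, fun _ => hA r hr h2⟩
        · obtain ⟨hcN, hDc⟩ := hDB c hc
          have hcW := hN c hcN
          have e2 : w = (w * c) * c := by rw [mul_assoc, sq c hcW, mul_one]
          have h3 : c ∈ F r ↔ c ∈ F b := by
            constructor
            · intro h4
              have h5 := hsym r hr c hcN h4
              rw [e1] at h5
              exact hsym c hcN b hbN ((mul_mem_cancel_left (hDc hd)).mp h5)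
            · intro h4
              have h5 := hsym b hbN c hcN h4
              have h6 : r ∈ F c := by rw [e1]; exact mul_mem (hDc hd) h5
              exact hsym c hcN r hr h6
          rw [e2, mul_mem_cancel_left (hA r hr hd'), mul_mem_cancel_left (hA b hbN hd')]
          exact h3
      ext w
      constructor
      · exact fun hw => (key w (hFW r hr hw)).mp hw
      · exact fun hw => (key w (hFW b hbN hw)).mpr hw
    · intro hdz
      apply hrY
      rw [e1]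
      exact mul_mem (hzY hdz) hbY

/-! ### the hyperplanes `F_p` -/

/-- `F_p = {w ∈ W_z | [w, W_p] ≤ ⟨z⟩}` -/
def ff (V : Subgroup G) (z p : G) : Subgroup G where
  carrier := {w | w ∈ ws V z ∧ w ∈ centralizer ({z} : Set G) ∧ ∀ a ∈ ws V p, ⁅a, w⁆ ∈ zpowers z}
  mul_mem' := by
    rintro v w ⟨hv, hvz, hv1⟩ ⟨hw, hwz, hw1⟩
    refine ⟨mul_mem hv hw, mul_mem hvz hwz, fun a ha => ?_⟩
    have e : ⁅a, v * w⁆ = ⁅a, v⁆ * (v * ⁅a, w⁆ * v⁻¹) := by simp only [commutatorElement_def]; group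
    rw [e, conj_zpowers hvz (hw1 a ha)]
    exact mul_mem (hv1 a ha) (hw1 a ha)
  one_mem' := ⟨one_mem _, one_mem _, fun a ha => by simp⟩
  inv_mem' := by
    rintro w ⟨hw, hwz, hw1⟩
    refine ⟨inv_mem hw, inv_mem hwz, fun a ha => ?_⟩
    have e : ⁅a, w⁻¹⁆ = w⁻¹ * ⁅a, w⁆⁻¹ * w⁻¹⁻¹ := by simp only [commutatorElement_def]; group
    rw [e, conj_zpowers (inv_mem hwz) (inv_mem (hw1 a ha))]
    exact inv_mem (hw1 a ha)

theorem ff_cj (V : Subgroup G) (g z p : G) : ff (cj g V) z p = ff V z p := by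
  ext w
  change (w ∈ _ ∧ _ ∧ ∀ a ∈ ws (cj g V) p, _) ↔ _
  rw [ws_cj, ws_cj]
  rfl

theorem conj_mem_ff {V : Subgroup G} {z p g w : G} (hg : g ∈ centralizer ({z} : Set G)) (hw : w ∈ ff V z p) :
    g * w * g⁻¹ ∈ ff V z (g * p * g⁻¹) := by
  refine ⟨conj_mem_of_normalizer (centralizer_le_normalizer_ws V z) hg hw.1,
    mul_mem (mul_mem hg hw.2.1) (inv_mem hg), fun a ha => ?_⟩
  have h1 : g⁻¹ * a * g ∈ ws V p := by
    have := conj_mem_ws g⁻¹ ha
    have e : g⁻¹ * (g * p * g⁻¹) * g⁻¹⁻¹ = p := by group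
    rwa [e, inv_inv] at this
  have h2 := hw.2.2 _ h1
  have e : ⁅a, g * w * g⁻¹⁆ = g * ⁅g⁻¹ * a * g, w⁆ * g⁻¹ := by simp only [commutatorElement_def]; group
  rw [e, conj_zpowers hg h2]; exact h2

theorem ee_cj (V : Subgroup G) (g x : G) : cj g (ee V x) = ee (cj g V) (g * x * g⁻¹) := by
  ext w
  rw [mem_cj]
  constructor
  · rintro ⟨h1, h2⟩
    refine ⟨?_, fun q hq hq1 => ?_⟩
    · rw [ws_cj]
      have := conj_mem_ws g h1
      have e : g * (g⁻¹ * w * g) * g⁻¹ = w := by group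
      rwa [e] at this
    · rw [mem_cj] at hq
      have := conj_mem_kq g (h2 _ hq (conj_ne_one hq1))
      have e : g * (g⁻¹ * w * g) * g⁻¹ = w := by group
      have e' : g * (g⁻¹ * q * g) * g⁻¹ = q := by group
      rw [e, e'] at this
      rw [kq_cj]; exact this
  · rintro ⟨h1, h2⟩
    refine ⟨?_, fun q hq hq1 => ?_⟩
    · rw [ws_cj] at h1
      have := conj_mem_ws g⁻¹ h1
      have e : g⁻¹ * (g * x * g⁻¹) * g⁻¹⁻¹ = x := by group
      rwa [e, inv_inv] at this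
    · have h3 := h2 (g * q * g⁻¹) (conj_mem_cj hq) (fun e => hq1 (conj_eq_one_iff.mp e))
      rw [kq_cj] at h3
      have := conj_mem_kq g⁻¹ h3
      have e : g⁻¹ * (g * q * g⁻¹) * g⁻¹⁻¹ = q := by group
      rwa [e, inv_inv] at this

/-- `|W_z| = 16`, `|A| = 2` -/
structure Tw2 (T V : Subgroup G) (z : G) : Prop where
  one : One T V z
  card : Nat.card (ws V z) = 16
  two : (ee V z).relIndex (ws V z) = 2

namespace Tw2

variable {T V : Subgroup G} {z p q r : G}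

theorem conj (h : Tw2 T V z) (g : G) : Tw2 (cj g T) (cj g V) (g * z * g⁻¹) where
  one := h.one.conj g
  card := by rw [ws_cj, ← cj_ws, card_cj]; exact h.card
  two := by rw [← ee_cj, ws_cj, ← cj_ws, relIndex_cj]; exact h.two

theorem z_mem (h : Tw2 T V z) : z ∈ V := h.one.ln.z_mem

theorem z_ne (h : Tw2 T V z) : z ≠ 1 := h.one.ln.z_ne

theorem zz (h : Tw2 T V z) : z * z = 1 := h.one.ln.zz

theorem zp (h : Tw2 T V z) {x : G} : x ∈ zpowers z ↔ x = 1 ∨ x = z :=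
  mem_zpowers_iff_of_mul_self h.zz

theorem line (h : Tw2 T V z) {L : Subgroup G} (hL : L ∈ lines V z) : ∃ g, L = cj g V ∧ ∃ T', Tw2 T' L z := by
  obtain ⟨c, hc, rfl⟩ := h.one.ln.exists_of_mem_lines hL
  have h1 := h.conj c
  rw [conj_eq_of_comm (mem_centralizer_singleton_iff.mp hc)] at h1
  exact ⟨c, rfl, _, h1⟩

/-- the line of a point -/
theorem line_nb (h : Tw2 T V z) (hp : p ∈ nb V z) :
    ∃ g : G, p ∈ cj g V ∧ p ≠ 1 ∧ p ≠ z ∧ cj g V ∈ lines V z ∧ ∃ T', Tw2 T' (cj g V) z := by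
  obtain ⟨L, hL, hpL, hp1, hpz⟩ := hp
  obtain ⟨g, rfl, hT⟩ := h.line hL
  exact ⟨g, hpL, hp1, hpz, hL, hT⟩

/-- two elements of `V - ⟨z⟩` -/
theorem mul_mem_zp (h : Tw2 T V z) {v w : G} (hv : v ∈ V) (hw : w ∈ V)
    (hv' : v ∉ zpowers z) (hw' : w ∉ zpowers z) : v * w ∈ zpowers z := by
  rw [h.zp] at hv' hw' ⊢
  push Not at hv' hw'
  rcases h.one.third h.z_mem h.z_ne hv hv'.1 hv'.2 hw hw'.1 with e | e | e
  · exact absurd e hw'.2
  · left; rw [e, h.one.ln.sq v hv]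
  · right
    rw [e, h.one.ln.comm h.z_mem hv, ← mul_assoc, h.one.ln.sq v hv, one_mul]

/-- the action of `W_p` on `W_z`, `p ∈ V` -/
theorem facts [Finite G] (h : Tw2 T V z) (hp : p ∈ V) (hp1 : p ≠ 1) (hpz : p ≠ z) :
    (∃ w ∈ ws V z, w ∉ ff V z p) ∧ (∀ w ∈ ws V z, ∀ w' ∈ ws V z, w ∉ ff V z p → w' ∉ ff V z p →
      w * w' ∈ ff V z p) ∧ ∃ a ∈ ws V p, ∀ w ∈ ws V z, ⁅a, w⁆ ∈ V ∧ (⁅a, w⁆ ∈ zpowers z ↔ w ∈ ff V z p) := by
  have hz := h.z_mem
  have hz1 := h.z_ne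
  have hVW := h.one.V_le hz hz1
  have hcz := h.one.ws_le_cent
  have h2 : (ee V p).relIndex (ws V p) = 2 := by rw [h.one.relIndex_ee_ws hp hp1 hz hz1]; exact h.two
  obtain ⟨a, ha, haE⟩ := SetLike.not_le_iff_exists.mp (h.one.not_ws_le_ee hp hp1)
  have hpi : ((ee V p).subgroupOf (ws V p)).index = 2 := h2
  have hcos : ∀ b ∈ ws V p, b ∈ ee V p ∨ b * a⁻¹ ∈ ee V p := by
    intro b hb
    by_cases hbE : b ∈ ee V p
    · exact Or.inl hbE
    · right
      have := Subgroup.mul_mem_iff_of_index_two hpi (a := ⟨b, hb⟩) (b := ⟨a⁻¹, inv_mem ha⟩)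
      rw [mem_subgroupOf, mem_subgroupOf, mem_subgroupOf] at this
      exact this.mpr ⟨fun e => absurd e hbE, fun e => absurd (inv_mem_iff.mp e) haE⟩
  have hE : ∀ e ∈ ee V p, ∀ w ∈ ws V z, ⁅e, w⁆ ∈ zpowers z := fun e he w hw => kq_comm (he.2 z hz hz1) hw
  have hsplit : ∀ b ∈ ws V p, ∀ w ∈ ws V z, ∃ x ∈ zpowers z, ⁅b, w⁆ = x ∨ ⁅b, w⁆ = x * ⁅a, w⁆ := by
    intro b hb w hw
    rcases hcos b hb with h3 | h3
    · exact ⟨_, hE b h3 w hw, Or.inl rfl⟩
    · refine ⟨_, hE _ h3 w hw, Or.inr ?_⟩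
      rw [← h.one.comm_mul_left hp hp1 hz hz1 (ee_le_ws V p h3) ha hw, inv_mul_cancel_right]
  have hff : ∀ w ∈ ws V z, (⁅a, w⁆ ∈ zpowers z ↔ w ∈ ff V z p) := by
    intro w hw
    constructor
    · intro h3
      refine ⟨hw, hcz hw, fun b hb => ?_⟩
      obtain ⟨x, hx, e | e⟩ := hsplit b hb w hw
      · rw [e]; exact hx
      · rw [e]; exact mul_mem hx h3
    · exact fun h3 => h3.2.2 a ha
  have hVF : V ≤ ff V z p := fun v hv => (hff v (hVW hv)).mp (by
    rw [commutatorElement_eq_one_iff_mul_comm.mpr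
      (h.one.V_comm hv (h.one.ws_le_centralizer_V hp hp1 ha)).symm]
    exact one_mem _)
  -- some commutator is in `V - ⟨z⟩`
  obtain ⟨w₀, hw₀, hw₀V, hw₀z⟩ : ∃ w ∈ ws V z, ⁅a, w⁆ ∈ V ∧ ⁅a, w⁆ ∉ zpowers z := by
    obtain ⟨w, hw, b, hb, h3, h4⟩ := h.one.exists_lambda hz hz1 hp hp1 hpz
    rw [← h.one.comm_swap hz hz1 hp hp1 hw hb] at h3 h4
    obtain ⟨x, hx, e | e⟩ := hsplit b hb w hw
    · exact absurd (by rw [e]; exact hx) h4
    · have hxV := zpowers_le_of_mem hz hx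
      refine ⟨w, hw, ?_, fun h5 => h4 (by rw [e]; exact mul_mem hx h5)⟩
      rw [e] at h3
      exact (mul_mem_cancel_left hxV).mp h3
  have hw₀F : w₀ ∉ ff V z p := fun e => hw₀z ((hff w₀ hw₀).mpr e)
  have hφ : ∀ w ∈ ws V z, ⁅a, w⁆ ∈ V := by
    intro w₁ hw₁
    by_contra hcon
    have hci := h.one.comm_ii_mem hp hp1 hz hz1 ha hw₁
    have hc1 : ⁅a, w₁⁆ ∈ ff V z p := (hff _ (ii_le hz hz1 hci)).mp (by
      rw [commutatorElement_eq_one_iff_mul_comm.mpr (h.one.comm hp hp1 a ha _ (ii_le hp hp1 hci))]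
      exact one_mem _)
    have hw₁F : w₁ ∉ ff V z p := fun e => hcon (zpowers_le_of_mem hz ((hff w₁ hw₁).mpr e))
    have h3 := mul_mem_of_card_lt hVF (fun w hw => hw.1) h.one.ln.card_V h.card (fun hle => hcon (hle hc1))
      hw₀ hw₁ hw₀F hw₁F
    have h4 := (hff _ (mul_mem hw₀ hw₁)).mpr h3
    rw [h.one.comm_mul_right hp hp1 hz hz1 ha hw₀ hw₁] at h4
    exact hcon ((mul_mem_cancel_left hw₀V).mp (zpowers_le_of_mem hz h4))
  refine ⟨⟨w₀, hw₀, hw₀F⟩, fun w hw w' hw' h3 h4 => ?_, a, ha, fun w hw => ⟨hφ w hw, hff w hw⟩⟩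
  refine (hff _ (mul_mem hw hw')).mp ?_
  rw [h.one.comm_mul_right hp hp1 hz hz1 ha hw hw']
  exact h.mul_mem_zp (hφ w hw) (hφ w' hw') (fun e => h3 ((hff w hw).mp e)) (fun e => h4 ((hff w' hw').mp e))

/-- `|W_p : W_p ∩ K_z| = 2`, `p ∈ V` -/
theorem index_two [Finite G] (h : Tw2 T V z) (hp : p ∈ V) (hp1 : p ≠ 1) (hpz : p ≠ z) {b c : G}
    (hb : b ∈ ws V p) (hc : c ∈ ws V p) (hbc : b ∈ kq V z ↔ c ∈ kq V z) : b * c⁻¹ ∈ kq V z := by
  have hz := h.z_mem
  have hz1 := h.z_ne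
  have h2 : (ee V p).relIndex (ws V p) = 2 := by rw [h.one.relIndex_ee_ws hp hp1 hz hz1]; exact h.two
  have hpi : ((ee V p).subgroupOf (ws V p)).index = 2 := h2
  have hE : ∀ x ∈ ws V p, (x ∈ ee V p ↔ x ∈ kq V z) := fun x hx =>
    ⟨fun h3 => h3.2 z hz hz1, fun h3 => h.one.mem_ee hp hp1 hz hz1 (Ne.symm hpz) hx h3⟩
  have := Subgroup.mul_mem_iff_of_index_two hpi (a := ⟨b, hb⟩) (b := ⟨c⁻¹, inv_mem hc⟩)
  rw [mem_subgroupOf, mem_subgroupOf, mem_subgroupOf] at this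
  rw [← hE _ (mul_mem hb (inv_mem hc))]
  refine this.mpr ?_
  change b ∈ ee V p ↔ c⁻¹ ∈ ee V p
  rw [inv_mem_iff, hE b hb, hE c hc]
  exact hbc

theorem nb_ws {V : Subgroup G} {z p : G} (hp : p ∈ nb V z) : p ∈ ws V z := by
  obtain ⟨L, hL, hpL, -, -⟩ := hp
  exact le_ws hL hpL

theorem nb_not (h : Tw2 T V z) (hp : p ∈ nb V z) : p ∉ zpowers z := by
  obtain ⟨L, hL, hpL, hp1, hpz⟩ := hp
  rw [h.zp]
  push Not
  exact ⟨hp1, hpz⟩

theorem zmul_nb (h : Tw2 T V z) (hp : p ∈ nb V z) : z * p ∈ nb V z := by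
  obtain ⟨L, hL, hpL, hp1, hpz⟩ := hp
  refine ⟨L, hL, mul_mem hL.2 hpL, fun e => hpz ?_, fun e => hp1 (by simpa using e)⟩
  have := mul_eq_one_iff_eq_inv.mp e
  rw [inv_eq_self (h.one.sqz p (le_ws hL hpL))] at this
  exact this.symm

/-- the facts for an arbitrary point collinear with `z` -/
theorem facts' [Finite G] (h : Tw2 T V z) (hp : p ∈ nb V z) :
    (∃ w ∈ ws V z, w ∉ ff V z p) ∧ (∀ w ∈ ws V z, ∀ w' ∈ ws V z, w ∉ ff V z p → w' ∉ ff V z p →
      w * w' ∈ ff V z p) ∧ ∃ a ∈ ws V p, a * z = z * a ∧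
        (∀ w ∈ ws V z, w ∈ ff V z p → a * w * a⁻¹ * w⁻¹ ∈ zpowers z) ∧
        (∀ w ∈ ws V z, w ∉ ff V z p → a * w * a⁻¹ * w⁻¹ = p ∨ a * w * a⁻¹ * w⁻¹ = z * p) ∧
        p ∈ ff V z p := by
  have hp' := hp
  obtain ⟨g, hpL, hp1, hpz, hL, T', h'⟩ := h.line_nb hp'
  obtain ⟨h1, h2, a, ha, h3⟩ := h'.facts hpL hp1 hpz
  rw [ff_cj, ws_cj] at h1
  rw [ff_cj, ws_cj] at h2
  rw [ws_cj] at ha
  have h3' : ∀ w ∈ ws V z, ⁅a, w⁆ ∈ cj g V ∧ (⁅a, w⁆ ∈ zpowers z ↔ w ∈ ff V z p) := by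
    intro w hw
    have := h3 w (by rw [ws_cj]; exact hw)
    rwa [ff_cj] at this
  have haz : a * z = z * a := mem_centralizer_singleton_iff.mp (h.one.nb_le_cent hp' ha)
  refine ⟨h1, h2, a, ha, haz, fun w hw hwF => ((h3' w hw).2.mpr hwF), fun w hw hwF => ?_, ?_⟩
  · obtain ⟨h4, h5⟩ := h3' w hw
    have h6 : ⁅a, w⁆ ∉ zpowers z := fun e => hwF (h5.mp e)
    rw [h.zp] at h6
    push Not at h6
    exact (h'.one.third h'.z_mem h'.z_ne hpL hp1 hpz h4 h6.1).resolve_left h6.2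
  · refine ⟨le_ws hL hpL, h.one.ws_le_cent (le_ws hL hpL), fun b hb => ?_⟩
    have hb' : b ∈ ws (cj g V) p := by rw [ws_cj]; exact hb
    rw [commutatorElement_eq_one_iff_mul_comm.mpr
      (h'.one.comm hpL hp1 b hb' p (h'.one.V_le hpL hp1 hpL))]
    exact one_mem _

/-- a mover of a line -/
theorem mover [Finite G] (h : Tw2 T V z) (hp : p ∈ nb V z) : ∃ t ∈ kq V z, t * p * t⁻¹ = z * p := by
  obtain ⟨g, hpL, hp1, hpz, hL, T', h'⟩ := h.line_nb hp
  obtain ⟨t, ht, -, ht2⟩ := h'.one.exists_move h'.z_mem h'.z_ne hpL hp1 hpz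
  rw [kq_cj] at ht
  exact ⟨t, ht, ht2⟩

theorem z_ff [Finite G] (h : Tw2 T V z) (hp : p ∈ nb V z) : z ∈ ff V z p := by
  have hzw := h.one.V_le h.z_mem h.z_ne h.z_mem
  refine ⟨hzw, h.one.ws_le_cent hzw, fun a ha => ?_⟩
  rw [commutatorElement_eq_one_iff_mul_comm.mpr (mem_centralizer_singleton_iff.mp (h.one.nb_le_cent hp ha))]
  exact one_mem _

theorem ff_zmul [Finite G] (h : Tw2 T V z) (hp : p ∈ nb V z) : ff V z (z * p) = ff V z p := by
  have hz := h.z_mem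
  have key : ∀ p ∈ nb V z, ff V z p ≤ ff V z (z * p) := by
    intro p hp w hw
    obtain ⟨t, ht, ht2⟩ := h.mover hp
    have h1 := conj_mem_ff (kq_le_centralizer V z ht) hw
    rw [ht2] at h1
    rcases h.one.kq_cases hz ht hw.1 with e | e
    · rwa [e] at h1
    · rw [e] at h1
      exact (mul_mem_cancel_left (h.z_ff (h.zmul_nb hp))).mp h1
  refine le_antisymm ?_ (key p hp)
  have := key _ (h.zmul_nb hp)
  rwa [← mul_assoc, h.zz, one_mul] at this

/-- `q ∈ F_p` implies `p ∈ F_q` -/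
theorem symm [Finite G] (h : Tw2 T V z) (hp : p ∈ nb V z) (hq : q ∈ nb V z) (hqp : q ∈ ff V z p) :
    p ∈ ff V z q := by
  obtain ⟨⟨w, hw, hwF⟩, -, a, ha, haz, h1, h2, -⟩ := h.facts' hp
  have hpW := nb_ws hp
  have hqW := nb_ws hq
  have hCn := centralizer_le_normalizer_kq V z
  have hCw := centralizer_le_normalizer_ws V z
  have haC : a ∈ centralizer ({z} : Set G) := mem_centralizer_singleton_iff.mpr haz
  refine ⟨hpW, h.one.ws_le_cent hpW, fun b hb => ?_⟩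
  have hbC : b ∈ centralizer ({z} : Set G) := h.one.nb_le_cent hq hb
  have hbz : b * z = z * b := mem_centralizer_singleton_iff.mp hbC
  -- `s ∈ K_z` with `s q s⁻¹ = a q a⁻¹`
  obtain ⟨s, hs, hsq⟩ : ∃ s ∈ kq V z, s * q * s⁻¹ = a * q * a⁻¹ := by
    rcases h.zp.mp (h1 q hqW hqp) with e | e
    · refine ⟨1, one_mem _, ?_⟩
      have : a * q * a⁻¹ = q := by
        calc a * q * a⁻¹ = (a * q * a⁻¹ * q⁻¹) * q := by group
          _ = q := by rw [e, one_mul]
      rw [this]; simp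
    · obtain ⟨t, ht, ht2⟩ := h.mover hq
      refine ⟨t, ht, ?_⟩
      rw [ht2]
      calc z * q = (a * q * a⁻¹ * q⁻¹) * q := by rw [e]
        _ = a * q * a⁻¹ := by group
  have hsC := kq_le_centralizer V z hs
  -- `κ = a b a⁻¹ b⁻¹ ∈ K_z`
  obtain ⟨g, hqL, hq1, hqz, hL, T', h'⟩ := h.line_nb hq
  have hκ : a * b * a⁻¹ * b⁻¹ ∈ kq V z := by
    set c := s⁻¹ * (a * b * a⁻¹) * s with hc
    have hcw : c ∈ ws V q := by
      have h3 := conj_mem_ws s⁻¹ (conj_mem_ws a hb)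
      have e : s⁻¹ * (a * q * a⁻¹) * s⁻¹⁻¹ = q := by rw [← hsq]; group
      rwa [e, inv_inv] at h3
    have hiff : c ∈ kq V z ↔ b ∈ kq V z := by
      constructor
      · intro h3
        have h4 := conj_mem_of_normalizer' hCn haC (conj_mem_of_normalizer hCn hsC h3)
        have e : a⁻¹ * (s * c * s⁻¹) * a = b := by rw [hc]; group
        rwa [e] at h4
      · intro h3
        exact conj_mem_of_normalizer' hCn hsC (conj_mem_of_normalizer hCn haC h3)
    have h3 : c * b⁻¹ ∈ kq V z := by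
      have := h'.index_two (b := c) (c := b) hqL hq1 hqz (by rw [ws_cj]; exact hcw)
        (by rw [ws_cj]; exact hb) (by rw [kq_cj]; exact hiff)
      rwa [kq_cj] at this
    have hcC : c ∈ centralizer ({z} : Set G) := h.one.nb_le_cent hq hcw
    have h4 := mul_mem (mul_mem hs (conj_mem_of_normalizer hCn hcC (inv_mem hs))) h3
    have e : s * (c * s⁻¹ * c⁻¹) * (c * b⁻¹) = a * b * a⁻¹ * b⁻¹ := by rw [hc]; group
    rwa [e] at h4
  set κ := a * b * a⁻¹ * b⁻¹ with hκd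
  obtain ⟨gp, hpL, hp1, hpz, hpLn, -⟩ := h.line_nb hp
  -- `[a, x] ∈ L_p = {1, z, p, z p}` for `x ∈ W_z`
  have hLp : ∀ x ∈ ws V z, a * x * a⁻¹ * x⁻¹ ∈ cj gp V := by
    intro x hx
    by_cases hxF : x ∈ ff V z p
    · exact zpowers_le_of_mem hpLn.2 (h1 x hx hxF)
    · rcases h2 x hx hxF with e | e
      · rw [e]; exact hpL
      · rw [e]; exact mul_mem hpLn.2 hpL
  have hw' : b * w * b⁻¹ ∈ ws V z := conj_mem_of_normalizer hCw hbC hw
  -- `b [a, w] b⁻¹ ∈ L_p`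
  have h5 : b * (a * w * a⁻¹ * w⁻¹) * b⁻¹ ∈ cj gp V := by
    set w' := b * w * b⁻¹ with hw'd
    have h6 := hLp w' hw'
    set y := a * w' * a⁻¹ with hyd
    have hy : y ∈ ws V z := conj_mem_of_normalizer hCw haC hw'
    have e1 : b * (a * w * a⁻¹ * w⁻¹) * b⁻¹ = (κ⁻¹ * y * κ⁻¹⁻¹ * y⁻¹) * (y * w'⁻¹) := by
      rw [hκd, hyd, hw'd]; group
    rw [e1]
    exact mul_mem (zpowers_le_of_mem hpLn.2 (kq_comm (inv_mem hκ) hy)) h6
  have h6 : b * p * b⁻¹ ∈ cj gp V := by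
    rcases h2 w hw hwF with e | e
    · rwa [e] at h5
    · rw [e] at h5
      have e1 : b * (z * p) * b⁻¹ = z * (b * p * b⁻¹) := by
        calc b * (z * p) * b⁻¹ = (b * z) * p * b⁻¹ := by group
          _ = z * (b * p * b⁻¹) := by rw [hbz]; group
      rw [e1] at h5
      exact (mul_mem_cancel_left hpLn.2).mp h5
  obtain ⟨-, -, Tg, hg⟩ := h.line hpLn
  have h7 : b * p * b⁻¹ = p ∨ b * p * b⁻¹ = z * p := by
    rcases hg.one.ln.four hpLn.2 hpL h.z_ne hp1 (Ne.symm hpz) h6 with e | e | e | e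
    · exact absurd (conj_eq_one_iff.mp e) hp1
    · exfalso
      apply hpz
      calc p = b⁻¹ * (b * p * b⁻¹) * b := by group
        _ = b⁻¹ * (z * b) := by rw [e]; group
        _ = z := by rw [← hbz]; group
    · exact Or.inl e
    · exact Or.inr e
  rw [commutatorElement_def]
  rcases h7 with e | e
  · rw [e, mul_inv_cancel]; exact one_mem _
  · rw [e, mul_inv_cancel_right]; exact mem_zpowers z

theorem pmul [Finite G] (h : Tw2 T V z) (hp : p ∈ nb V z) (hq : q ∈ nb V z) (hqp : q ∉ ff V z p) :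
    p * q ∈ nb V z ∧ ff V z p ⊓ ff V z q ≤ ff V z (p * q) := by
  obtain ⟨-, -, a, ha, haz, h1, h2, hpp⟩ := h.facts' hp
  have hqW := nb_ws hq
  have haC : a ∈ centralizer ({z} : Set G) := mem_centralizer_singleton_iff.mpr haz
  have h3 := conj_mem_nb haC hq
  have h4 : ff V z p ⊓ ff V z q ≤ ff V z (a * q * a⁻¹) := by
    rintro d ⟨hdp, hdq⟩
    have h5 := conj_mem_ff haC hdq
    have h6 := h1 d hdp.1 hdp
    have h7 := mul_mem (inv_mem (zpowers_le_of_mem (h.z_ff h3) h6)) h5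
    have e : (a * d * a⁻¹ * d⁻¹)⁻¹ * (a * d * a⁻¹) = d := by group
    rwa [e] at h7
  rcases h2 q hqW hqp with e | e
  · have e1 : a * q * a⁻¹ = p * q := by
      calc a * q * a⁻¹ = (a * q * a⁻¹ * q⁻¹) * q := by group
        _ = p * q := by rw [e]
    rw [e1] at h3 h4
    exact ⟨h3, h4⟩
  · have e1 : a * q * a⁻¹ = z * (p * q) := by
      calc a * q * a⁻¹ = (a * q * a⁻¹ * q⁻¹) * q := by group
        _ = z * (p * q) := by rw [e, mul_assoc]
    have h5 := h.zmul_nb h3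
    rw [e1, ← mul_assoc, h.zz, one_mul] at h5
    rw [e1, h.ff_zmul h5] at h4
    exact ⟨h5, h4⟩

/-- **`|W_z| = 16` implies `|A| ≠ 2`** -/
theorem false [Finite G] (h : Tw2 T V z) : False := by
  have hz := h.z_mem
  have hz1 := h.z_ne
  have hVW := h.one.V_le hz hz1
  have ab := h.one.comm hz hz1
  have sq := h.one.sq hz hz1
  obtain ⟨y, hy, hy1, hyz⟩ := h.one.ln.exists_y
  obtain ⟨r, hr, s, hs, hrs, hd, hD⟩ := comb (W := ws V z) (z := z) (N := nb V z) (F := ff V z)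
    h.card ab sq (hVW hz) hz1 (fun p hp => nb_ws hp) (fun p hp => h.nb_not hp)
    (fun X hzX hX => ws_le fun L hL x hx => by
      by_cases hxz : x ∈ zpowers z
      · exact zpowers_le_of_mem hzX hxz
      · rw [h.zp] at hxz
        push Not at hxz
        exact hX x ⟨L, hL, hx, hxz.1, hxz.2⟩)
    (fun p _ w hw => hw.1) (fun p hp => h.z_ff hp)
    (fun p hp => (h.facts' hp).2.2.choose_spec.2.2.2.2)
    (fun p hp a ha b hb h1 h2 => (h.facts' hp).2.1 a ha b hb h1 h2)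
    (fun p hp hle => by
      obtain ⟨w, hw, hwF⟩ := (h.facts' hp).1
      exact hwF (hle hw))
    (fun p hp => h.ff_zmul hp) (fun p hp q hq hqp => h.symm hp hq hqp)
    (fun p hp q hq hqp => h.pmul hp hq hqp)
    ⟨y, h.one.mem_nb hy hy1 hyz⟩
  obtain ⟨⟨w₀, hw₀, hw₀F⟩, -, a, ha, haz, a1, a2, hrr⟩ := h.facts' hr
  obtain ⟨-, -, b, hb, hbz, b1, b2, hss⟩ := h.facts' hs
  rw [← hrs] at b1 b2 hss
  have hrW := nb_ws hr
  have hsW := nb_ws hs
  have hsr := ab s hsW r hrW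
  have haC : a ∈ centralizer ({z} : Set G) := mem_centralizer_singleton_iff.mpr haz
  have hzcm : zpowers z ≤ cm V z := zpowers_le.mpr h.one.isSub_cm.z_mem
  have hdcm : r * s ∈ cm V z := ⟨mul_mem hrW hsW, h.one.ws_le_cent (mul_mem hrW hsW),
    fun y hy a ha => (hD y hy).2.2 a ha⟩
  have hzF : zpowers z ≤ ff V z r := zpowers_le.mpr (h.z_ff hr)
  have hsplit : ∀ w, a * b * w * (a * b)⁻¹ * w⁻¹ = a * (b * w * b⁻¹ * w⁻¹) * a⁻¹ * (a * w * a⁻¹ * w⁻¹) :=
    fun w => by group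
  have hin : ∀ w ∈ ws V z, w ∈ ff V z r → a * b * w * (a * b)⁻¹ * w⁻¹ ∈ zpowers z := by
    intro w hw hwF
    rw [hsplit, conj_zpowers haC (b1 w hw hwF)]
    exact mul_mem (b1 w hw hwF) (a1 w hw hwF)
  have hout : ∀ w ∈ ws V z, w ∉ ff V z r → ∃ e ∈ zpowers z, a * b * w * (a * b)⁻¹ * w⁻¹ = e * (r * s) := by
    intro w hw hwF
    obtain ⟨e1, he1, h1⟩ : ∃ e ∈ zpowers z, a * w * a⁻¹ * w⁻¹ = e * r := by
      rcases a2 w hw hwF with e | e
      · exact ⟨1, one_mem _, by rw [e, one_mul]⟩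
      · exact ⟨z, mem_zpowers z, e⟩
    obtain ⟨e2, he2, h2⟩ : ∃ e ∈ zpowers z, b * w * b⁻¹ * w⁻¹ = e * s := by
      rcases b2 w hw hwF with e | e
      · exact ⟨1, one_mem _, by rw [e, one_mul]⟩
      · exact ⟨z, mem_zpowers z, e⟩
    have hx : e2 * s ∈ ff V z r := mul_mem (hzF he2) hss
    have h3 := a1 _ hx.1 hx
    refine ⟨(a * (e2 * s) * a⁻¹ * (e2 * s)⁻¹) * (e2 * e1), mul_mem h3 (mul_mem he2 he1), ?_⟩
    rw [hsplit, h1, h2]
    have he1W : e1 ∈ ws V z := zpowers_le_of_mem (hVW hz) he1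
    calc a * (e2 * s) * a⁻¹ * (e1 * r)
        = (a * (e2 * s) * a⁻¹ * (e2 * s)⁻¹) * (e2 * (s * e1) * r) := by group
      _ = (a * (e2 * s) * a⁻¹ * (e2 * s)⁻¹) * (e2 * e1) * (s * r) := by rw [ab s hsW e1 he1W]; group
      _ = (a * (e2 * s) * a⁻¹ * (e2 * s)⁻¹) * (e2 * e1) * (r * s) := by rw [hsr]
  have hgK : a * b ∈ kq V z := by
    refine h.one.faithful (mul_mem haC (mem_centralizer_singleton_iff.mpr hbz)) fun w hw => ?_
    by_cases hwF : w ∈ ff V z r
    · exact hzcm (hin w hw hwF)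
    · obtain ⟨e, he, h1⟩ := hout w hw hwF
      rw [h1]
      exact mul_mem (hzcm he) hdcm
  obtain ⟨e, he, h1⟩ := hout w₀ hw₀ hw₀F
  have h2 := kq_comm hgK hw₀
  rw [h1] at h2
  exact hd ((mul_mem_cancel_left he).mp h2)

end Tw2

end Cfsg.Agent.Omega.NO3S.TwoOne

end

section


/-!
# NO-3S, `q = 2`, `n = 1`: `|W_z| = 16` (helper225's text #15275 (A)): the exit

* `One.std` : `One T V z`, `|W_z| = 16` and nonlocality give `Std T V z` (`|A| = 4`, `E_p = V`);
* `One.extra_card` : `O₂(C_G(z)) = K_z` is extraspecial of order `2^7`; `One.known_card` : `G` is known (S1762: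
  `L₅(2)`, `M₂₄`, `He`);
* `known_of_card` : the same in terms of `Hyp S P`.
-/

set_option autoImplicit false

namespace Cfsg.Agent.Omega.NO3S.TwoOne

open Subgroup Cfsg Cfsg.Agent.ZN Cfsg.Agent.MinSimple.Geo Cfsg.Agent.Omega.CaseL
open Cfsg.Agent.ZN.Block (conj_mem_of_normalizer conj_mem_of_normalizer' le_normalizer_of_forall
  mem_normalizer_of)

universe u

section

variable {G : Type u} [Group G] {T V : Subgroup G} {z : G}

/-- nonlocality for all subgroups of `C_G(z)`, in characteristic 2 type -/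
theorem nonloc_of [Finite G] (hc : IsCharacteristicTwoType G) (hz : z * z = 1) (hz1 : z ≠ 1)
    (nl : ∀ N : Subgroup G, IsPGroup 2 N → centralizer ({z} : Set G) ≤ normalizer (N : Set G) →
      normalizer (V : Set G) ≤ normalizer (N : Set G) → N = ⊥)
    {N : Subgroup G} (hN : N ≤ centralizer ({z} : Set G))
    (h1 : centralizer ({z} : Set G) ≤ normalizer (N : Set G))
    (h2 : normalizer (V : Set G) ≤ normalizer (N : Set G)) : N = ⊥ := by
  have h0 := ZN.normalizer_le_normalizer_o2 N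
  have hb : o2 N = ⊥ := nl _ (Block.o2_isPGroup N) (h1.trans h0) (h2.trans h0)
  set C := centralizer ({z} : Set G) with hC
  have hQ : N ⊓ o2 C = ⊥ := by
    rw [eq_bot_iff, ← hb]
    refine Block.le_o2 ((Block.o2_isPGroup C).to_le inf_le_right) inf_le_left ?_
    refine le_normalizer_of_forall fun n hn x hx => ⟨?_, ?_⟩
    · exact N.mul_mem (N.mul_mem hn hx.1) (N.inv_mem hn)
    · exact conj_mem_of_normalizer (Block.le_normalizer_o2 C) (hN hn) hx.2
  rw [eq_bot_iff]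
  intro n hn
  have hnC := hN hn
  have hcen : n ∈ centralizer (o2 C : Set G) := by
    rw [mem_centralizer_iff]
    intro q hq
    have hqC := Block.o2_le C hq
    have h3 : n * q * n⁻¹ * q⁻¹ ∈ N ⊓ o2 C := by
      refine ⟨?_, ?_⟩
      · have e : n * q * n⁻¹ * q⁻¹ = n * (q * n⁻¹ * q⁻¹) := by group
        rw [e]
        exact N.mul_mem hn (conj_mem_of_normalizer h1 hqC (N.inv_mem hn))
      · exact (o2 C).mul_mem (conj_mem_of_normalizer (Block.le_normalizer_o2 C) hnC hq) ((o2 C).inv_mem hq)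
    rw [hQ, mem_bot] at h3
    calc q * n = (n * q * n⁻¹ * q⁻¹)⁻¹ * (n * q) := by group
      _ = n * q := by rw [h3]; group
  have h4 : n ∈ o2 C := inf_centralizer_o2_le hc (isTwoLocal_centralizer hz hz1) ⟨hnC, hcen⟩
  rw [← hQ]
  exact ⟨hn, h4⟩

namespace One

/-- `|W_z| = 16` implies `|A| = 4` -/
theorem ee_card [Finite G] (h : One T V z) (h16 : Nat.card (ws V z) = 16) :
    (ee V z).relIndex (ws V z) = 4 := by
  have hz := h.ln.z_mem
  have hz1 := h.ln.z_ne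
  have h1 := relIndex_mul_card (ee_le_ws V z)
  have h2 := relIndex_mul_card (h.V_le_ee hz hz1)
  rw [h.ln.card_V] at h2
  rw [h16] at h1
  have h3 : (ee V z).relIndex (ws V z) ≠ 1 := fun e => h.not_ws_le_ee hz hz1 (relIndex_eq_one.mp e)
  have h4 : (ee V z).relIndex (ws V z) ≠ 2 := fun e => Tw2.false ⟨h, h16, e⟩
  have h5 : (ee V z).relIndex (ws V z) ∣ 4 := by
    refine ⟨V.relIndex (ee V z), ?_⟩
    rw [← h2] at h1
    have h6 : (ee V z).relIndex (ws V z) * V.relIndex (ee V z) * 4 = 4 * 4 := by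
      rw [mul_assoc]; exact h1
    exact (Nat.eq_of_mul_eq_mul_right (by norm_num) h6).symm
  have h6 := Nat.le_of_dvd (by norm_num) h5
  interval_cases h7 : (ee V z).relIndex (ws V z) <;> omega

theorem card_ws_point (h : One T V z) {p : G} (hp : p ∈ V) (hp1 : p ≠ 1) :
    Nat.card (ws V p) = Nat.card (ws V z) := by
  obtain ⟨g, -, hg, -⟩ := h.point hp hp1
  rw [← hg, ← cj_ws, card_cj]

theorem ee_le_V [Finite G] (h : One T V z) (h16 : Nat.card (ws V z) = 16) {p : G} (hp : p ∈ V)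
    (hp1 : p ≠ 1) : ee V p ≤ V := by
  have h1 := h.ee_card h16
  rw [h.relIndex_ee_ws h.ln.z_mem h.ln.z_ne hp hp1] at h1
  have h2 := relIndex_mul_card (ee_le_ws V p)
  rw [h1, h.card_ws_point hp hp1, h16] at h2
  have h3 : Nat.card (ee V p) = 4 := by omega
  exact (eq_of_le_of_card_ge (h.V_le_ee hp hp1) (by rw [h3, h.ln.card_V])).ge

theorem std [Finite G] (h : One T V z) (h16 : Nat.card (ws V z) = 16)
    (nl : ∀ N : Subgroup G, IsPGroup 2 N → centralizer ({z} : Set G) ≤ normalizer (N : Set G) →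
      normalizer (V : Set G) ≤ normalizer (N : Set G) → N = ⊥) : Std T V z where
  one := h
  card := h16
  le := fun _ hp hp1 => h.ee_le_V h16 hp hp1
  nl := fun _ h1 h2 h3 => nonloc_of h.ln.charTwo h.ln.zz h.ln.z_ne nl h1 h2 h3

/-- **`|W_z| = 16`: `O₂(C_G(z))` is extraspecial of order `2^7`.** -/
theorem extra_card [Finite G] (h : One T V z) (h16 : Nat.card (ws V z) = 16)
    (nl : ∀ N : Subgroup G, IsPGroup 2 N → centralizer ({z} : Set G) ≤ normalizer (N : Set G) →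
      normalizer (V : Set G) ≤ normalizer (N : Set G) → N = ⊥) : Exits.Extra z 3 := (h.std h16 nl).extra

/-- **`|W_z| = 16`: the exit S1762.** -/
theorem known_card [Finite G] [IsSimpleGroup G] (h : One T V z) (h16 : Nat.card (ws V z) = 16)
    (nl : ∀ N : Subgroup G, IsPGroup 2 N → centralizer ({z} : Set G) ≤ normalizer (N : Set G) →
      normalizer (V : Set G) ≤ normalizer (N : Set G) → N = ⊥)
    (hna : ¬ IsMulCommutative G) (h62 : Exits.St1762.{u}) : IsKnownSimple' G :=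
  (h.std h16 nl).known hna h62

end One

end

open Cfsg.Agent.Omega.MinPar Cfsg.Agent.Omega.FrameNOFF

/-- **`|W_z| = 16`** in terms of `Hyp S P`. -/
theorem known_of_card {G : Type u} [Group G] [Finite G] {S : Sylow 2 G} {P : Subgroup G}
    (h : Hyp S P) (hc : Nat.card (zl (S : Subgroup G) P) = 4) {z : G}
    (h1 : One (S : Subgroup G) (zl (S : Subgroup G) P) z) (hz : z ∈ zc (S : Subgroup G))
    (h16 : Nat.card (WW (S : Subgroup G) P) = 16) (h62 : Exits.St1762.{u}) : IsKnownSimple' G := by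
  have := h.ctx.simple
  have hz1 := h1.ln.z_ne
  have hC := centralizer_singleton_eq_CZ h hc hz hz1
  refine h1.known_card (by rw [ws_four h hc hz hz1]; exact h16) (fun N h2 h3 h4 => ?_) ?_ h62
  · rw [hC] at h3
    exact h.nonLoc N h2 ((le_normalizer_zl _ _).trans h4) h3
  · exact h.ctx.nonComm

end Cfsg.Agent.Omega.NO3S.TwoOne

end

section


/-!
# NO-3S, `q = 2`, `n = 1`, no `λ`-transvections: the relation `λ' ∈ C_M(A_λ)` is symmetric
(helper507, bb #18693, (SYM1), (SYM2); no hypothesis on planes, on `|A|` or on `D_x`)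

`h : One T V z`, `NT V`, `L` a line on `z`, `y ∈ V`, `q ∈ L` points `≠ z`.

* `One.not_mem_dd_of_move` (SYM1) : some `e ∈ E_q` moves `y` implies `q ∉ D_z(V)`;
* `One.ee_of_dd` (SYM1) : `q ∈ D_z(V)` implies `y ∈ E_z(L)`;
* `One.dd_symm`, `One.dd_iff` (SYM2) : `q ∈ D_z(V)` iff `y ∈ D_z(L)`;
* `One.inf_le_ee` : `y ∉ I_L` implies `W_y ∩ W_q ≤ E_y ∩ E_q` (`A_λ ∩ A_λ' = 1`);
* `One.comm_mem_ee` : `q ∈ D_z(V)`, `y ∉ I_L` imply `[W_y, W_q] ≤ E_y ∩ E_q` (`[A_λ, A_λ'] = 1`).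
-/

set_option autoImplicit false
set_option linter.unusedSectionVars false

namespace Cfsg.Agent.Omega.NO3S.TwoOne

open Subgroup Cfsg Cfsg.Agent.ZN Cfsg.Agent.MinSimple.Geo Cfsg.Agent.Omega.CaseL
open Cfsg.Agent.ZN.Block (conj_mem_of_normalizer conj_mem_of_normalizer' le_normalizer_of_forall
  mem_normalizer_of)
open scoped commutatorElement

universe u

variable {G : Type u} [Group G]

/-- `|A|` is the same for all lines -/
theorem relIndex_ee_line {V : Subgroup G} (g x : G) :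
    (ee (cj g V) (g * x * g⁻¹)).relIndex (ws (cj g V) (g * x * g⁻¹)) = (ee V x).relIndex (ws V x) := by
  have key : ∀ (U : Subgroup G) (g x : G), ∀ w ∈ ee U x, g * w * g⁻¹ ∈ ee (cj g U) (g * x * g⁻¹) := by
    intro U g x w hw
    refine ⟨by rw [ws_cj]; exact conj_mem_ws g hw.1, fun q hq hq1 => ?_⟩
    have h1 := hw.2 _ (mem_cj.mp hq) (conj_ne_one hq1)
    have h2 := conj_mem_kq g h1
    have e : g * (g⁻¹ * q * g) * g⁻¹ = q := by group
    rwa [e, ← kq_cj U g] at h2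
  have h1 : cj g (ee V x) = ee (cj g V) (g * x * g⁻¹) := by
    apply le_antisymm
    · intro w hw
      have := key V g x _ (mem_cj.mp hw)
      have e : g * (g⁻¹ * w * g) * g⁻¹ = w := by group
      rwa [e] at this
    · intro w hw
      rw [mem_cj]
      have := key (cj g V) g⁻¹ _ w hw
      have e1 : cj g⁻¹ (cj g V) = V := by rw [cj_cj, inv_mul_cancel, cj_one]
      have e2 : g⁻¹ * (g * x * g⁻¹) * g⁻¹⁻¹ = x := by group
      rw [e1, e2, inv_inv] at this
      exact this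
  rw [← h1, ws_cj, ← cj_ws, relIndex_cj]

namespace One

variable {T V L : Subgroup G} {z y q : G}

theorem relIndex_line [Finite G] (h : One T V z) (hL : L ∈ lines V z) {p q : G} (hp : p ∈ V) (hp1 : p ≠ 1)
    (hq : q ∈ L) (hq1 : q ≠ 1) : (ee L q).relIndex (ws L q) = (ee V p).relIndex (ws V p) := by
  obtain ⟨g, rfl, T', h'⟩ := h.of_line hL h.ln.z_ne
  have h1 := h'.relIndex_ee_ws hq hq1 (conj_mem_cj (g := g) hp) (fun e => hp1 (conj_eq_one_iff.mp e))
  rw [h1, relIndex_ee_line]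

theorem mem_lines_symm (h : One T V z) (hL : L ∈ lines V z) : V ∈ lines L z := by
  obtain ⟨⟨g, rfl⟩, -⟩ := hL
  exact ⟨⟨g⁻¹, by rw [cj_cj, inv_mul_cancel, cj_one]⟩, h.ln.z_mem⟩

/-- **(SYM1)** if some `e ∈ E_q` moves `y` then `q ∉ D_z(V)` -/
theorem not_mem_dd_of_move [Finite G] (h : One T V z) (hN : NT V) (hL : L ∈ lines V z) (hy : y ∈ V)
    (hy1 : y ≠ 1) (hyz : y ≠ z) (hq : q ∈ L) (hq1 : q ≠ 1) (hqz : q ≠ z) {e : G} (he : e ∈ ee L q)
    (hey : e * y * e⁻¹ = z * y) : q ∉ dd V z := by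
  intro hqD
  have hz := h.ln.z_mem
  have hz1 := h.ln.z_ne
  obtain ⟨-, -, T', h'⟩ := h.of_line hL hz1
  have hNL : NT L := hN.of_lines hL
  have hek : e ∈ kq V z := by
    have := he.2 z h'.ln.z_mem hz1
    rwa [kq_of_lines hL] at this
  have hzy : z * y ∈ V := mul_mem hz hy
  have hzy1 : z * y ≠ 1 := h.mul_ne_one hy (Ne.symm hyz)
  have hez : e * z * e⁻¹ = z := conj_eq_of_comm (h.kq_p hek)
  -- `w^e ∈ W_{zy}`
  have hwe : ∀ w ∈ ws V y, e * w * e⁻¹ ∈ ws V (z * y) := by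
    intro w hw
    have := conj_mem_ws e hw
    rwa [hey] at this
  -- `w w^e ∈ E_q`
  have key : ∀ w ∈ ws V y, w * (e * w * e⁻¹) ∈ ee L q := by
    intro w hw
    refine h'.mem_ee hq hq1 h'.ln.z_mem hz1 (Ne.symm hqz) ?_ ?_
    · have hww : w⁻¹ = w := inv_eq_self (h.sq hy hy1 w hw)
      have hwq : w * q = q * w := (hqD.2 y hy hy1 w hw).symm
      have h1 := conj_mem_ws (V := L) w he.1
      rw [conj_eq_of_comm hwq] at h1
      have e1 : w * (e * w * e⁻¹) = w * e * w⁻¹ * e⁻¹ := by rw [hww]; group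
      rw [e1]
      exact mul_mem h1 (inv_mem he.1)
    · rw [kq_of_lines hL]
      exact h.mul_conj_kq hz hy hy1 hek hw
  -- elements of `V` commute with `w w^e`
  have hV : ∀ w ∈ ws V y, ∀ v ∈ V, v * (w * (e * w * e⁻¹)) = w * (e * w * e⁻¹) * v := by
    intro w hw v hv
    exact (mul_comm_of (h.V_comm hv (h.ws_le_centralizer_V hy hy1 hw)).symm
      (h.V_comm hv (h.ws_le_centralizer_V hzy hzy1 (hwe w hw))).symm).symm
  -- the homomorphism
  have hn : ((dd L q).subgroupOf (ee L q)).Normal := by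
    refine ⟨fun a ha b => ?_⟩
    rw [mem_subgroupOf] at ha ⊢
    change (b : G) * a * (b : G)⁻¹ ∈ dd L q
    rw [conj_eq_of_comm (h'.comm hq hq1 _ b.2.1 _ a.2.1)]
    exact ha
  have hmul : ∀ a ∈ ws V y, ∀ b ∈ ws V y, (a * (e * a * e⁻¹) * (b * (e * b * e⁻¹)))⁻¹ *
      (a * b * (e * (a * b) * e⁻¹)) ∈ dd L q := by
    intro a ha b hb
    have h1 : (a * (e * a * e⁻¹) * (b * (e * b * e⁻¹)))⁻¹ * (a * b * (e * (a * b) * e⁻¹)) ∈ ee L q :=
      mul_mem (inv_mem (mul_mem (key a ha) (key b hb))) (key _ (mul_mem ha hb))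
    refine h'.ii_le_dd hq hq1 (h'.mem_ii h'.ln.z_mem hz1 hq hq1 hqz ?_ h1.1)
    rw [ws_of_lines hL]
    -- `= [b, a^e]` conjugated by `w^e`
    have h2 := h.comm_ii_mem hzy hzy1 hy hy1 (inv_mem (hwe a ha)) hb
    have h3 := (h2 z hz hz1)
    have e1 : (a * (e * a * e⁻¹) * (b * (e * b * e⁻¹)))⁻¹ * (a * b * (e * (a * b) * e⁻¹)) =
        (e * b * e⁻¹)⁻¹ * (b⁻¹ * ⁅(e * a * e⁻¹)⁻¹, b⁆ * b) * (e * b * e⁻¹) := by
      simp only [commutatorElement_def]; group
    rw [e1]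
    have h4 : b⁻¹ * ⁅(e * a * e⁻¹)⁻¹, b⁆ * b ∈ ws V z := by
      have := conj_mem_of_normalizer (h.cent_norm hz) (inv_mem (h.ws_le_centralizer_V hy hy1 hb)) h3
      rwa [inv_inv] at this
    have := conj_mem_of_normalizer (h.cent_norm hz)
      (inv_mem (h.ws_le_centralizer_V hzy hzy1 (hwe b hb))) h4
    rwa [inv_inv] at this
  let f : ws V y →* ee L q ⧸ (dd L q).subgroupOf (ee L q) :=
    { toFun := fun w => QuotientGroup.mk ⟨(w : G) * (e * w * e⁻¹), key w w.2⟩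
      map_one' := by
        rw [QuotientGroup.eq_one_iff, mem_subgroupOf]
        change (1 : G) * (e * 1 * e⁻¹) ∈ dd L q
        have : (1 : G) * (e * 1 * e⁻¹) = 1 := by group
        rw [this]; exact one_mem _
      map_mul' := fun a b => by
        rw [← QuotientGroup.mk_mul, eq_comm, QuotientGroup.eq, mem_subgroupOf]
        exact hmul a a.2 b b.2 }
  -- the kernel
  have hker : f.ker ≤ (ee V y).subgroupOf (ws V y) := by
    intro w hw
    rw [MonoidHom.mem_ker] at hw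
    change QuotientGroup.mk (⟨(w : G) * (e * w * e⁻¹), key w w.2⟩ : ee L q) = 1 at hw
    rw [QuotientGroup.eq_one_iff, mem_subgroupOf] at hw
    change (w : G) * (e * w * e⁻¹) ∈ dd L q at hw
    rw [mem_subgroupOf, ← h.nt_w1 hN hy hy1]
    refine h.mem_w1 hy hy1 hz hz1 (Ne.symm hyz) w.2 fun m hm => ?_
    by_contra hcon
    have hmw : (w : G) * m * (w : G)⁻¹ = y * m := by
      rcases h.kq_cases hy (hm.2 y hy hy1) w.2 with e1 | e1
      · exact absurd (comm_of_conj_eq e1).symm hcon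
      · have hym : y * m = m * y := h.comm hz hz1 y (h.V_le hz hz1 hy) m hm.1
        have hyy : y * y = 1 := h.ln.sq y hy
        have e2 : m * w = y * w * m := by
          calc m * w = (m * w * m⁻¹) * m := by group
            _ = y * w * m := by rw [e1]
        have hyw : y * w = w * y := h.V_comm hy (h.ws_le_centralizer_V hy hy1 w.2)
        calc (w : G) * m * (w : G)⁻¹ = (y * y) * (w * m) * (w : G)⁻¹ := by rw [hyy]; group
          _ = y * (y * w * m) * (w : G)⁻¹ := by group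
          _ = y * m := by rw [← e2]; group
    have hmz : m ∈ ws V z := hm.1
    -- `w^e` acts as `m ↦ z y m`
    have hzw := h.V_comm hz (h.ws_le_centralizer_V hy hy1 w.2)
    have h5 : e * w * e⁻¹ * m * (e * w * e⁻¹)⁻¹ = z * y * m := by
      have h6 : ∀ m', m' = m ∨ m' = z * m → (w : G) * m' * (w : G)⁻¹ = y * m' := by
        rintro m' (rfl | rfl)
        · exact hmw
        · have hyz' : y * z = z * y := h.ln.comm hy hz
          calc (w : G) * (z * m) * (w : G)⁻¹ = (w * z) * m * (w : G)⁻¹ := by group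
            _ = z * (w * m * (w : G)⁻¹) := by rw [← hzw]; group
            _ = (z * y) * m := by rw [hmw]; group
            _ = y * (z * m) := by rw [← hyz']; group
      have h7 : e⁻¹ * m * e = m ∨ e⁻¹ * m * e = z * m := by
        have := h.kq_cases hz (inv_mem hek) hmz
        rwa [inv_inv] at this
      have h8 := h6 _ h7
      calc e * w * e⁻¹ * m * (e * w * e⁻¹)⁻¹ = e * ((w : G) * (e⁻¹ * m * e) * (w : G)⁻¹) * e⁻¹ := by group
        _ = (e * y * e⁻¹) * m := by rw [h8]; group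
        _ = z * y * m := by rw [hey]
    have h9 : (w : G) * (e * w * e⁻¹) * m * ((w : G) * (e * w * e⁻¹))⁻¹ = z * m := by
      have hyw := h.V_comm hzy (h.ws_le_centralizer_V hy hy1 w.2)
      calc (w : G) * (e * w * e⁻¹) * m * ((w : G) * (e * w * e⁻¹))⁻¹
          = w * (e * w * e⁻¹ * m * (e * w * e⁻¹)⁻¹) * (w : G)⁻¹ := by group
        _ = (w * (z * y)) * m * (w : G)⁻¹ := by rw [h5]; group
        _ = (z * y) * (w * m * (w : G)⁻¹) := by rw [← hyw]; group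
        _ = z * (y * y) * m := by rw [hmw]; group
        _ = z * m := by rw [h.ln.sq y hy, mul_one]
    have h10 := hw.2 z h'.ln.z_mem hz1 m (by rw [ws_of_lines hL]; exact hmz)
    rw [conj_eq_of_comm h10] at h9
    exact hz1 (by simpa using h9.symm)
  -- surjectivity
  have hrange : f.range = ⊤ := by
    apply Subgroup.eq_top_of_card_eq
    have h1 : f.ker.index = Nat.card f.range := Subgroup.index_ker f
    have h2 : ((ee V y).subgroupOf (ws V y)).index ≤ f.ker.index :=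
      Nat.le_of_dvd (Nat.pos_of_ne_zero index_ne_zero_of_finite) (index_dvd_of_le hker)
    have h3 : Nat.card (ee L q ⧸ (dd L q).subgroupOf (ee L q)) = (dd L q).relIndex (ee L q) := rfl
    have h4 : (dd L q).relIndex (ee L q) = (ee L q).relIndex (ws L q) := h'.nt_phi_card hNL hq hq1 hq hq1
    have h5 := h.relIndex_line hL hy hy1 hq hq1
    have h6 : ((ee V y).subgroupOf (ws V y)).index = (ee V y).relIndex (ws V y) := rfl
    have h7 : Nat.card f.range ≤ Nat.card (ee L q ⧸ (dd L q).subgroupOf (ee L q)) :=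
      Nat.card_le_card_of_injective _ Subtype.val_injective
    omega
  obtain ⟨w, hw⟩ := MonoidHom.range_eq_top.mp hrange (QuotientGroup.mk ⟨e, he⟩)
  change QuotientGroup.mk (⟨(w : G) * (e * w * e⁻¹), key w w.2⟩ : ee L q) = _ at hw
  rw [QuotientGroup.eq, mem_subgroupOf] at hw
  have hd : ((w : G) * (e * w * e⁻¹))⁻¹ * e ∈ dd L q := hw
  have hyLz : y ∈ ws L z := by
    rw [ws_of_lines hL]; exact h.V_le hz hz1 hy
  have h1 := hd.2 z h'.ln.z_mem hz1 y hyLz
  have h2 := hV w w.2 y hy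
  have h3 : e * y = y * e := by
    have e1 : e = (w : G) * (e * w * e⁻¹) * (((w : G) * (e * w * e⁻¹))⁻¹ * e) := by group
    have h4 : (w : G) * (e * w * e⁻¹) * (((w : G) * (e * w * e⁻¹))⁻¹ * e) * y =
        y * ((w : G) * (e * w * e⁻¹) * (((w : G) * (e * w * e⁻¹))⁻¹ * e)) :=
      mul_comm_of h2.symm h1
    rwa [← e1] at h4
  rw [conj_eq_of_comm h3] at hey
  exact hz1 (by simpa using hey.symm)

/-- **(SYM1)** `q ∈ D_z(V)` implies `y ∈ E_z(L)` -/
theorem ee_of_dd [Finite G] (h : One T V z) (hN : NT V) (hL : L ∈ lines V z) (hy : y ∈ V)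
    (hy1 : y ≠ 1) (hyz : y ≠ z) (hq : q ∈ L) (hq1 : q ≠ 1) (hqz : q ≠ z) (hqD : q ∈ dd V z) : y ∈ ee L z := by
  by_contra hyE
  have hz1 := h.ln.z_ne
  obtain ⟨-, -, T', h'⟩ := h.of_line hL hz1
  obtain ⟨e, he, hey⟩ := h'.nt_move_ee (hN.of_lines hL) hq hq1 h'.ln.z_mem hz1 (Ne.symm hqz)
    (by rw [ws_of_lines hL]; exact h.V_le h.ln.z_mem hz1 hy) hyE
  exact h.not_mem_dd_of_move hN hL hy hy1 hyz hq hq1 hqz he hey hqD

/-- `y ∉ I_L` implies `W_y ∩ W_q ≤ E_y` -/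
theorem inf_le_ee [Finite G] (h : One T V z) (hN : NT V) (hL : L ∈ lines V z) (hy : y ∈ V)
    (hy1 : y ≠ 1) (hyz : y ≠ z) (hq : q ∈ L) (hq1 : q ≠ 1) (hyI : y ∉ ii L) {c : G}
    (hc : c ∈ ws V y) (hc' : c ∈ ws L q) : c ∈ ee V y := by
  by_contra hcE
  have hz := h.ln.z_mem
  have hz1 := h.ln.z_ne
  obtain ⟨-, -, T', h'⟩ := h.of_line hL hz1
  obtain ⟨e, he, hec⟩ := h.nt_move_ee hN hz hz1 hy hy1 hyz hc hcE
  apply hyI
  have h1 : ⁅e, c⁆ = y := by rw [commutatorElement_def, hec, mul_inv_cancel_right]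
  rw [← h1]
  exact h'.comm_ii_mem h'.ln.z_mem hz1 hq hq1 (by rw [ws_of_lines hL]; exact he.1) hc'

/-- `q ∈ I_V` implies `y ∈ I_L` -/
theorem ii_symm [Finite G] (h : One T V z) (hL : L ∈ lines V z) (hy : y ∈ V)
    (hy1 : y ≠ 1) (hq : q ∈ L) (hq1 : q ≠ 1) (hqz : q ≠ z) (hqI : q ∈ ii V) : y ∈ ii L := by
  have hz := h.ln.z_mem
  have hz1 := h.ln.z_ne
  obtain ⟨-, -, T', h'⟩ := h.of_line hL hz1
  have hyz' : y ∈ ws L z := by rw [ws_of_lines hL]; exact h.V_le hz hz1 hy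
  refine h'.mem_ii h'.ln.z_mem hz1 hq hq1 hqz hyz' ?_
  by_cases hqV : q ∈ V
  · rw [ws_of_lines hL]
    exact h.V_le hqV hq1 hy
  · obtain ⟨U, hU, hVU, hqU, -⟩ := h.exists_plane hqI hqV ⟨L, hL, hq⟩
    obtain ⟨L', hL', hyL'⟩ := hU.line q hqU y (hVU hy) hq1 hy1 (fun e => hqV (by rw [e]; exact hy))
    rw [ws_of_lines hL]
    exact le_ws hL' hyL'

/-- **(SYM2)** `q ∈ D_z(V)` implies `y ∈ D_z(L)` -/
theorem dd_symm [Finite G] (h : One T V z) (hN : NT V) (hL : L ∈ lines V z) (hy : y ∈ V)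
    (hy1 : y ≠ 1) (hyz : y ≠ z) (hq : q ∈ L) (hq1 : q ≠ 1) (hqz : q ≠ z) (hqD : q ∈ dd V z) : y ∈ dd L z := by
  by_contra hyD
  have hz := h.ln.z_mem
  have hz1 := h.ln.z_ne
  obtain ⟨-, -, T', h'⟩ := h.of_line hL hz1
  have hzL := h'.ln.z_mem
  have hNL : NT L := hN.of_lines hL
  have hyE := h.ee_of_dd hN hL hy hy1 hyz hq hq1 hqz hqD
  have hyI : y ∉ ii L := fun hi => hyD (h'.ii_le_dd hzL hz1 hi)
  have hyq : y * q = q * y := (hqD.2 y hy hy1 y (h.V_le hy hy1 hy)).symm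
  have hqq : q * q = 1 := h'.ln.sq q hq
  -- some `c ∈ W_q` moves `y` to `q y`
  obtain ⟨c, hc, hcy⟩ : ∃ c ∈ ws L q, c * y * c⁻¹ = q * y := by
    by_contra hcon
    push Not at hcon
    apply hyD
    refine h'.mem_dd hzL hz1 hq hq1 hqz hyE.1 fun b hb => ?_
    rcases h'.kq_cases hq (hyE.2 q hq hq1) hb with e1 | e1
    · exact comm_of_conj_eq e1
    · exfalso
      apply hcon b hb
      have hbq : q * b = b * q := h'.V_comm hq (h'.ws_le_centralizer_V hq hq1 hb)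
      have e2 : y * b = q * b * y := by
        calc y * b = (y * b * y⁻¹) * y := by group
          _ = q * b * y := by rw [e1]
      calc b * y * b⁻¹ = (q * q) * (b * y) * b⁻¹ := by rw [hqq]; group
        _ = q * (q * b * y) * b⁻¹ := by group
        _ = q * y := by rw [← e2]; group
  -- `W_y` normalizes `W_q`
  have hWy : ∀ w ∈ ws V y, ∀ b ∈ ws L q, w * b * w⁻¹ ∈ ws L q := by
    intro w hw b hb
    have h1 := conj_mem_ws (V := L) w hb
    rwa [conj_eq_of_comm (hqD.2 y hy hy1 w hw).symm] at h1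
  -- `U = C_{W_q}(y)`
  let U : Subgroup G := ws L q ⊓ centralizer ({y} : Set G)
  have hEU : ee L q ≤ U := fun b hb => ⟨hb.1, mem_centralizer_singleton_iff.mpr
    (h'.ee_comm hq hq1 hzL hz1 hb hyE)⟩
  have hUW : U ≤ ws L q := inf_le_left
  -- `[U, W_y] ≤ E_q`
  have hU : ∀ w ∈ ws V y, ∀ b ∈ U, w * b * w⁻¹ * b⁻¹ ∈ ee L q := by
    intro w hw b hb
    have hbW : b ∈ ws L q := hb.1
    have h1 : w * b * w⁻¹ * b⁻¹ ∈ ws L q := mul_mem (hWy w hw b hbW) (inv_mem hbW)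
    have h2 : w * b * w⁻¹ * b⁻¹ ∈ ws V y := by
      have h3 := conj_mem_ws b (inv_mem hw)
      rw [conj_eq_of_comm (mem_centralizer_singleton_iff.mp hb.2)] at h3
      have e1 : w * b * w⁻¹ * b⁻¹ = w * (b * w⁻¹ * b⁻¹) := by group
      rw [e1]
      exact mul_mem hw h3
    have h3 := h.inf_le_ee hN hL hy hy1 hyz hq hq1 hyI h2 h1
    refine h'.mem_ee hq hq1 hzL hz1 (Ne.symm hqz) h1 ?_
    rw [kq_of_lines hL]
    exact h3.2 z hz hz1
  -- `[w, c] ∈ U`
  have hcU : ∀ w ∈ ws V y, w * c * w⁻¹ * c⁻¹ ∈ U := by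
    intro w hw
    have hmem : w * c * w⁻¹ * c⁻¹ ∈ ws L q := mul_mem (hWy w hw c hc) (inv_mem hc)
    refine ⟨hmem, mem_centralizer_singleton_iff.mpr ?_⟩
    apply comm_of_conj_eq
    have hwy : w * y * w⁻¹ = y := conj_eq_of_comm
      (h.V_comm hy (h.ws_le_centralizer_V hy hy1 hw)).symm
    have hwq : w * q * w⁻¹ = q := conj_eq_of_comm (hqD.2 y hy hy1 w hw).symm
    have hcq : c * q * c⁻¹ = q := conj_eq_of_comm
      (h'.V_comm hq (h'.ws_le_centralizer_V hq hq1 hc)).symm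
    have hcq' : c⁻¹ * q * c = q := by
      calc c⁻¹ * q * c = c⁻¹ * (c * q * c⁻¹) * c := by rw [hcq]
        _ = q := by group
    have hwq' : w⁻¹ * q * w = q := by
      calc w⁻¹ * q * w = w⁻¹ * (w * q * w⁻¹) * w := by rw [hwq]
        _ = q := by group
    have hwy' : w⁻¹ * y * w = y := by
      calc w⁻¹ * y * w = w⁻¹ * (w * y * w⁻¹) * w := by rw [hwy]
        _ = y := by group
    have hcy' : c⁻¹ * y * c = q * y := by
      have e1 : y = q * (c⁻¹ * y * c) := by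
        calc y = c⁻¹ * (c * y * c⁻¹) * c := by group
          _ = (c⁻¹ * q * c) * (c⁻¹ * y * c) := by rw [hcy]; group
          _ = q * (c⁻¹ * y * c) := by rw [hcq']
      calc c⁻¹ * y * c = (q * q) * (c⁻¹ * y * c) := by rw [hqq, one_mul]
        _ = q * (q * (c⁻¹ * y * c)) := by group
        _ = q * y := by rw [← e1]
    calc w * c * w⁻¹ * c⁻¹ * y * (w * c * w⁻¹ * c⁻¹)⁻¹
        = w * (c * (w⁻¹ * (c⁻¹ * y * c) * w) * c⁻¹) * w⁻¹ := by group
      _ = w * (c * ((w⁻¹ * q * w) * (w⁻¹ * y * w)) * c⁻¹) * w⁻¹ := by rw [hcy']; group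
      _ = w * ((c * q * c⁻¹) * (c * y * c⁻¹)) * w⁻¹ := by rw [hwq', hwy']; group
      _ = w * (q * (q * y)) * w⁻¹ := by rw [hcq, hcy]
      _ = w * y * w⁻¹ := by rw [← mul_assoc q q y, hqq, one_mul]
      _ = y := hwy
  -- the homomorphism `w ↦ [w, c]` into `U / E_q`
  have hn : ((ee L q).subgroupOf U).Normal := by
    refine ⟨fun a ha b => ?_⟩
    rw [mem_subgroupOf] at ha ⊢
    change (b : G) * a * (b : G)⁻¹ ∈ ee L q
    rw [conj_eq_of_comm (h'.comm hq hq1 _ b.2.1 _ a.2.1)]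
    exact ha
  have hmul : ∀ a ∈ ws V y, ∀ b ∈ ws V y, ((a * c * a⁻¹ * c⁻¹) * (b * c * b⁻¹ * c⁻¹))⁻¹ *
      (a * b * c * (a * b)⁻¹ * c⁻¹) ∈ ee L q := by
    intro a ha b hb
    have h1 := hU a ha _ (hcU b hb)
    have h2 := h'.comm hq hq1 _ (hcU a ha).1 _ (hcU b hb).1
    have h3 := h'.comm hq hq1 _ (hcU a ha).1 _ h1.1
    set u := a * c * a⁻¹ * c⁻¹ with hu
    set v := b * c * b⁻¹ * c⁻¹ with hv
    have e1 : a * b * c * (a * b)⁻¹ * c⁻¹ = (a * v * a⁻¹ * v⁻¹) * v * u := by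
      rw [hu, hv]; group
    have e2 : (u * v)⁻¹ * (a * b * c * (a * b)⁻¹ * c⁻¹) = (u * v)⁻¹ * (a * v * a⁻¹ * v⁻¹) * (u * v) := by
      rw [e1, h2]; group
    rw [e2]
    have h4 : (u * v)⁻¹ * (a * v * a⁻¹ * v⁻¹) = (a * v * a⁻¹ * v⁻¹) * (u * v)⁻¹ :=
      h'.comm hq hq1 _ (inv_mem (mul_mem (hcU a ha).1 (hcU b hb).1)) _ h1.1
    rw [h4, inv_mul_cancel_right]
    exact h1
  let f : ws V y →* U ⧸ (ee L q).subgroupOf U :=
    { toFun := fun w => QuotientGroup.mk ⟨(w : G) * c * (w : G)⁻¹ * c⁻¹, hcU w w.2⟩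
      map_one' := by
        rw [QuotientGroup.eq_one_iff, mem_subgroupOf]
        change (1 : G) * c * (1 : G)⁻¹ * c⁻¹ ∈ ee L q
        have : (1 : G) * c * (1 : G)⁻¹ * c⁻¹ = 1 := by group
        rw [this]; exact one_mem _
      map_mul' := fun a b => by
        rw [← QuotientGroup.mk_mul, eq_comm, QuotientGroup.eq, mem_subgroupOf]
        exact hmul a a.2 b b.2 }
  -- some `w ∈ W_y - E_y` commutes with `c` modulo `E_q`
  obtain ⟨w, hw, hwE, hwc⟩ : ∃ w ∈ ws V y, w ∉ ee V y ∧ w * c * w⁻¹ * c⁻¹ ∈ ee L q := by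
    by_contra hcon
    push Not at hcon
    have hker : f.ker ≤ (ee V y).subgroupOf (ws V y) := by
      intro w hw
      rw [MonoidHom.mem_ker] at hw
      change QuotientGroup.mk (⟨(w : G) * c * (w : G)⁻¹ * c⁻¹, hcU w w.2⟩ : U) = 1 at hw
      rw [QuotientGroup.eq_one_iff, mem_subgroupOf] at hw
      by_contra hwE
      exact hcon w w.2 hwE hw
    have h1 : f.ker.index = Nat.card f.range := Subgroup.index_ker f
    have h2 : ((ee V y).subgroupOf (ws V y)).index ≤ f.ker.index :=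
      Nat.le_of_dvd (Nat.pos_of_ne_zero index_ne_zero_of_finite) (index_dvd_of_le hker)
    have h3 : Nat.card (U ⧸ (ee L q).subgroupOf U) = (ee L q).relIndex U := rfl
    have h5 := h.relIndex_line hL hy hy1 hq hq1
    have h6 : ((ee V y).subgroupOf (ws V y)).index = (ee V y).relIndex (ws V y) := rfl
    have h7 : Nat.card f.range ≤ Nat.card (U ⧸ (ee L q).subgroupOf U) :=
      Nat.card_le_card_of_injective _ Subtype.val_injective
    have h8 : (ee L q).relIndex U * U.relIndex (ws L q) = (ee L q).relIndex (ws L q) :=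
      relIndex_mul_relIndex _ _ _ hEU hUW
    have h9 : U.relIndex (ws L q) ≠ 1 := by
      intro e1
      rw [relIndex_eq_one] at e1
      have h10 := mem_centralizer_singleton_iff.mp (e1 hc).2
      rw [conj_eq_of_comm h10] at hcy
      exact hq1 (by simpa using hcy.symm)
    have h10 : U.relIndex (ws L q) ≠ 0 := relIndex_ne_zero' _ _
    have h11 : (ee L q).relIndex U ≠ 0 := relIndex_ne_zero' _ _
    have h12 : 2 * (ee L q).relIndex U ≤ (ee L q).relIndex (ws L q) := by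
      rw [← h8, mul_comm 2]
      exact Nat.mul_le_mul_left _ (by omega)
    omega
  -- `y = [e, w]`, conjugate by `c`
  obtain ⟨e, he, hew⟩ := h.nt_move_ee hN hz hz1 hy hy1 hyz hw hwE
  have hcz : c * z * c⁻¹ = z := conj_eq_of_comm (h'.V_comm hzL (h'.ws_le_centralizer_V hq hq1 hc)).symm
  have he' : c * e * c⁻¹ ∈ ws V z := by
    have := conj_mem_ws c he.1
    rwa [hcz] at this
  set k := w * c * w⁻¹ * c⁻¹ with hk
  have hkz : k⁻¹ ∈ kq V z := by
    have := hwc.2 z hzL hz1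
    rw [kq_of_lines hL] at this
    exact inv_mem this
  have hcw : c * w * c⁻¹ = k⁻¹ * w := by rw [hk]; group
  set e' := c * e * c⁻¹ with he'd
  have h1 : q * y = (e' * k⁻¹ * e'⁻¹ * k) * (k⁻¹ * ⁅e', w⁆ * k) := by
    have h2 : e' * (k⁻¹ * w) * e'⁻¹ = q * y * (k⁻¹ * w) := by
      calc e' * (k⁻¹ * w) * e'⁻¹ = c * (e * w * e⁻¹) * c⁻¹ := by rw [← hcw, he'd]; group
        _ = (c * y * c⁻¹) * (c * w * c⁻¹) := by rw [hew]; group
        _ = q * y * (k⁻¹ * w) := by rw [hcy, hcw]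
    calc q * y = (q * y * (k⁻¹ * w)) * (k⁻¹ * w)⁻¹ := by group
      _ = e' * (k⁻¹ * w) * e'⁻¹ * (k⁻¹ * w)⁻¹ := by rw [← h2]
      _ = (e' * k⁻¹ * e'⁻¹ * k) * (k⁻¹ * ⁅e', w⁆ * k) := by
          simp only [commutatorElement_def]; group
  have h2 : ⁅e', w⁆ ∈ ii V := h.comm_ii_mem hz hz1 hy hy1 he' hw
  have h3 : k⁻¹ * ⁅e', w⁆ * k ∈ ii V := by
    have h4 := h.kq_cases hz hkz (h2 z hz hz1)
    rw [inv_inv] at h4
    rcases h4 with e1 | e1
    · rw [e1]; exact h2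
    · rw [e1]; exact mul_mem (h.V_le_ii hz) h2
  have h4 : e' * k⁻¹ * e'⁻¹ * k ∈ ii V := by
    have h5 := h.kq_cases hz hkz (inv_mem he')
    rw [inv_inv] at h5
    have e1 : e' * k⁻¹ * e'⁻¹ * k = e' * (k⁻¹ * e'⁻¹ * k) := by group
    rw [e1]
    rcases h5 with e2 | e2
    · rw [e2, mul_inv_cancel]; exact one_mem _
    · have hze : z * e' = e' * z := h.comm hz hz1 z (h.V_le hz hz1 hz) e' he'
      rw [e2, ← mul_assoc, ← hze, mul_inv_cancel_right]
      exact h.V_le_ii hz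
  have h5 : q ∈ ii V := by
    have h6 : q * y ∈ ii V := by rw [h1]; exact mul_mem h4 h3
    have := mul_mem h6 (inv_mem (h.V_le_ii hy))
    rwa [mul_inv_cancel_right] at this
  exact hyI (h.ii_symm hL hy hy1 hq hq1 hqz h5)

/-- **(SYM2)** `q ∈ D_z(V)` iff `y ∈ D_z(L)` -/
theorem dd_iff [Finite G] (h : One T V z) (hN : NT V) (hL : L ∈ lines V z) (hy : y ∈ V)
    (hy1 : y ≠ 1) (hyz : y ≠ z) (hq : q ∈ L) (hq1 : q ≠ 1) (hqz : q ≠ z) : q ∈ dd V z ↔ y ∈ dd L z := by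
  refine ⟨h.dd_symm hN hL hy hy1 hyz hq hq1 hqz, fun hyD => ?_⟩
  obtain ⟨-, -, T', h'⟩ := h.of_line hL h.ln.z_ne
  exact h'.dd_symm (hN.of_lines hL) (h.mem_lines_symm hL) hq hq1 hqz hy hy1 hyz hyD

/-- `q ∈ D_z(V)`, `y ∉ I_L` imply `[W_y, W_q] ≤ E_y ∩ E_q` -/
theorem comm_mem_ee [Finite G] (h : One T V z) (hN : NT V) (hL : L ∈ lines V z) (hy : y ∈ V)
    (hy1 : y ≠ 1) (hyz : y ≠ z) (hq : q ∈ L) (hq1 : q ≠ 1) (hqz : q ≠ z) (hqD : q ∈ dd V z)
    (hyI : y ∉ ii L) {w b : G} (hw : w ∈ ws V y) (hb : b ∈ ws L q) : ⁅w, b⁆ ∈ ee V y ∧ ⁅w, b⁆ ∈ ee L q := by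
  have hz := h.ln.z_mem
  have hz1 := h.ln.z_ne
  obtain ⟨-, -, T', h'⟩ := h.of_line hL hz1
  have hzL := h'.ln.z_mem
  have hyD := h.dd_symm hN hL hy hy1 hyz hq hq1 hqz hqD
  have h1 : ⁅w, b⁆ ∈ ws L q := by
    have h2 := conj_mem_ws (V := L) w hb
    rw [conj_eq_of_comm (hqD.2 y hy hy1 w hw).symm] at h2
    exact mul_mem h2 (inv_mem hb)
  have h2 : ⁅w, b⁆ ∈ ws V y := by
    have h3 := conj_mem_ws b (inv_mem hw)
    rw [conj_eq_of_comm (hyD.2 q hq hq1 b hb).symm] at h3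
    have e1 : ⁅w, b⁆ = w * (b * w⁻¹ * b⁻¹) := by rw [commutatorElement_def]; group
    rw [e1]
    exact mul_mem hw h3
  have h3 := h.inf_le_ee hN hL hy hy1 hyz hq hq1 hyI h2 h1
  refine ⟨h3, h'.mem_ee hq hq1 hzL hz1 (Ne.symm hqz) h1 ?_⟩
  rw [kq_of_lines hL]
  exact h3.2 z hz hz1

end One

end Cfsg.Agent.Omega.NO3S.TwoOne

end

section


/-!
# NO-3S, `q = 2`, `n = 1`, no `λ`-transvections, `D_x > I`: the relation `λ' ∈ Ē_λ` is symmetric
(helper507, bb #18693, (a+); from helper409's (N6) = `NSix.lean` and `SymRel.lean`; planes allowed)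

* `One.nt_move_two` : two elements of `W_z - E_z` are moved by one `e ∈ E_y`;
* `One.nsix_nt` : (N6) without side conditions;
* `One.not_mem_ee_symm`, `One.ee_iff` : `D_x > I` implies `q ∈ E_z(V)` iff `y ∈ E_z(L)`.
-/

set_option autoImplicit false
set_option linter.unusedSectionVars false

namespace Cfsg.Agent.Omega.NO3S.TwoOne

open Subgroup Cfsg Cfsg.Agent.ZN Cfsg.Agent.MinSimple.Geo Cfsg.Agent.Omega.CaseL
open Cfsg.Agent.ZN.Block (conj_mem_of_normalizer conj_mem_of_normalizer' le_normalizer_of_forall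
  mem_normalizer_of)
open scoped commutatorElement

universe u

variable {G : Type u} [Group G]

namespace One

variable {T V L : Subgroup G} {z y q d w : G}

/-- (N1): two elements of `W_z - E_z` are moved by one `e ∈ E_y` -/
theorem nt_move_two [Finite G] (h : One T V z) (hN : NT V) (hy : y ∈ V) (hy1 : y ≠ 1) (hyz : y ≠ z) {a b : G}
    (ha : a ∈ ws V z) (haE : a ∉ ee V z) (hb : b ∈ ws V z) (hbE : b ∉ ee V z) :
    ∃ e ∈ ee V y, e * a ≠ a * e ∧ e * b ≠ b * e := by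
  have hz := h.ln.z_mem
  have hz1 := h.ln.z_ne
  obtain ⟨e, he, hea⟩ := h.nt_move_ee hN hy hy1 hz hz1 (Ne.symm hyz) ha haE
  obtain ⟨f, hf, hfb⟩ := h.nt_move_ee hN hy hy1 hz hz1 (Ne.symm hyz) hb hbE
  have hne : ∀ {k c : G}, k * c * k⁻¹ = z * c → k * c ≠ c * k := fun {k c} h1 h2 => by
    rw [conj_eq_of_comm h2] at h1
    exact hz1 (by simpa using h1.symm)
  by_cases h1 : e * b = b * e
  · by_cases h2 : f * a = a * f
    · refine ⟨e * f, mul_mem he hf, hne ?_, hne ?_⟩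
      · calc e * f * a * (e * f)⁻¹ = e * (f * a * f⁻¹) * e⁻¹ := by group
          _ = z * a := by rw [conj_eq_of_comm h2, hea]
      · have hez : z * e = e * z := h.V_comm hz (h.ws_le_centralizer_V hy hy1 he.1)
        calc e * f * b * (e * f)⁻¹ = e * (f * b * f⁻¹) * e⁻¹ := by group
          _ = (e * z) * b * e⁻¹ := by rw [hfb]; group
          _ = z * (e * b * e⁻¹) := by rw [← hez]; group
          _ = z * b := by rw [conj_eq_of_comm h1]
    · exact ⟨f, hf, h2, hne hfb⟩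
  · exact ⟨e, he, hne hea, h1⟩

/-- **(N6)**, no side condition: `D_x > I`, `λ_L ∉ Ē_V ⟹ [λ_V, A_L] ≤ Ē_V` -/
theorem nsix_nt [Finite G] (h : One T V z) (hN : NT V) (hL : L ∈ lines V z) (hy : y ∈ V) (hy1 : y ≠ 1)
    (hyz : y ≠ z) (hq : q ∈ L) (hq1 : q ≠ 1) (hqz : q ≠ z) (hd : d ∈ dd V y) (hdI : d ∉ ii V)
    (hqE : q ∉ ee V z) (hw : w ∈ ws V q) : w * y * w⁻¹ * y⁻¹ ∈ ee V z := by
  have hz := h.ln.z_mem
  have hz1 := h.ln.z_ne
  obtain ⟨-, -, T', h'⟩ := h.of_line hL hz1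
  have hyL : y ∈ ws L z := by rw [ws_of_lines hL]; exact h.V_le hz hz1 hy
  refine h.nsix_ee hL hy hy1 hyz hq hq1 hqz
    (fun a ha haE b hb hbE => h.nt_move_two hN hy hy1 hyz ha haE hb hbE) ?_ hd hdI hqE hw
  by_cases hyD : y ∈ dd L z
  · exact absurd (h.dd_le_ee z ((h.dd_iff hN hL hy hy1 hyz hq hq1 hqz).mpr hyD)) hqE
  · obtain ⟨g, hg, -, hgy⟩ := h'.nt_move_dd (hN.of_lines hL) h'.ln.z_mem hz1 hyL hyD
    exact Or.inl ⟨g, fun p _ _ c hc => dd_comm_fl hc hg, hgy⟩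

/-- **(a+)** `D_x > I`: `q ∉ E_z(V)` implies `y ∉ E_z(L)` -/
theorem not_mem_ee_symm [Finite G] (h : One T V z) (hN : NT V) (hL : L ∈ lines V z) (hy : y ∈ V) (hy1 : y ≠ 1)
    (hyz : y ≠ z) (hq : q ∈ L) (hq1 : q ≠ 1) (hqz : q ≠ z) (hd : d ∈ dd V y) (hdI : d ∉ ii V)
    (hqE : q ∉ ee V z) : y ∉ ee L z := by
  intro hyE
  have hz1 := h.ln.z_ne
  obtain ⟨-, -, T', h'⟩ := h.of_line hL hz1
  apply hqE
  apply h.dd_le_ee z
  rw [h.dd_iff hN hL hy hy1 hyz hq hq1 hqz]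
  refine h'.mem_dd h'.ln.z_mem hz1 hq hq1 hqz hyE.1 fun b hb => ?_
  rcases h'.kq_cases hq (hyE.2 q hq hq1) hb with e1 | e1
  · exact comm_of_conj_eq e1
  · exfalso
    apply hqE
    have hb' : b ∈ ws V q := by rwa [ws_of_lines hL] at hb
    have h1 := h.nsix_nt hN hL hy hy1 hyz hq hq1 hqz hd hdI hqE hb'
    have hbq : q * b = b * q := h'.V_comm hq (h'.ws_le_centralizer_V hq hq1 hb)
    have e2 : y * b = q * b * y := by
      calc y * b = (y * b * y⁻¹) * y := by group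
        _ = q * b * y := by rw [e1]
    have e3 : b * y * b⁻¹ * y⁻¹ = q := by
      calc b * y * b⁻¹ * y⁻¹ = (q * q) * (b * y) * b⁻¹ * y⁻¹ := by rw [h'.ln.sq q hq]; group
        _ = q * (q * b * y) * b⁻¹ * y⁻¹ := by group
        _ = q := by rw [← e2]; group
    rwa [e3] at h1

/-- `D_x > I` holds on every line -/
theorem exists_dd_line [Finite G] (h : One T V z) (hL : L ∈ lines V z) (hd : d ∈ dd V y)
    (hy : y ∈ V) (hy1 : y ≠ 1) (hdI : d ∉ ii V) (hq : q ∈ L) (hq1 : q ≠ 1) : ∃ c ∈ dd L q, c ∉ ii L := by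
  obtain ⟨g, hgL, T', h'⟩ := h.of_line hL h.ln.z_ne
  subst hgL
  have h1 : g * y * g⁻¹ ∈ cj g V := conj_mem_cj hy
  have h2 : g * y * g⁻¹ ≠ 1 := fun e => hy1 (conj_eq_one_iff.mp e)
  have hd1 : g * d * g⁻¹ ∈ dd (cj g V) (g * y * g⁻¹) := by
    refine ⟨by rw [ws_cj]; exact conj_mem_ws g hd.1, fun r hr hr1 b hb => ?_⟩
    have h3 := conj_mem_ws g⁻¹ hb
    rw [ws_cj, inv_inv] at h3
    have h4 := hd.2 _ (mem_cj.mp hr) (conj_ne_one hr1) _ h3
    calc g * d * g⁻¹ * b = g * (d * (g⁻¹ * b * g)) * g⁻¹ := by group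
      _ = g * ((g⁻¹ * b * g) * d) * g⁻¹ := by rw [h4]
      _ = b * (g * d * g⁻¹) := by group
  have hd2 : g * d * g⁻¹ ∉ ii (cj g V) := by
    intro hi
    apply hdI
    intro p hp hp1
    have h3 := hi _ (conj_mem_cj (g := g) hp) (fun e => hp1 (conj_eq_one_iff.mp e))
    rw [ws_cj] at h3
    have h4 := conj_mem_ws g⁻¹ h3
    have e1 : g⁻¹ * (g * d * g⁻¹) * g⁻¹⁻¹ = d := by group
    have e2 : g⁻¹ * (g * p * g⁻¹) * g⁻¹⁻¹ = p := by group
    rwa [e1, e2] at h4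
  obtain ⟨x, hx, hxq⟩ := h'.xl_trans h1 h2 hq hq1
  have hxn := h'.xl_le_normalizer hx
  refine ⟨x * (g * d * g⁻¹) * x⁻¹, ?_, fun hi => hd2 ?_⟩
  · have := conj_mem_dd hxn hd1
    rwa [hxq] at this
  · have := conj_mem_of_normalizer' (normalizer_le_normalizer_ii _) hxn hi
    have e1 : x⁻¹ * (x * (g * d * g⁻¹) * x⁻¹) * x = g * d * g⁻¹ := by group
    rwa [e1] at this

/-- **(a+)** `D_x > I`: `q ∈ E_z(V)` iff `y ∈ E_z(L)`: the relation `λ' ∈ Ē_λ` is symmetric -/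
theorem ee_iff [Finite G] (h : One T V z) (hN : NT V) (hL : L ∈ lines V z) (hy : y ∈ V) (hy1 : y ≠ 1)
    (hyz : y ≠ z) (hq : q ∈ L) (hq1 : q ≠ 1) (hqz : q ≠ z) (hd : d ∈ dd V y) (hdI : d ∉ ii V) :
    q ∈ ee V z ↔ y ∈ ee L z := by
  constructor
  · intro hqE
    by_contra hyE
    obtain ⟨-, -, T', h'⟩ := h.of_line hL h.ln.z_ne
    obtain ⟨c, hc, hcI⟩ := h.exists_dd_line hL hd hy hy1 hdI hq hq1
    exact h'.not_mem_ee_symm (hN.of_lines hL) (h.mem_lines_symm hL) hq hq1 hqz hy hy1 hyz hc hcI hyE hqE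
  · intro hyE
    by_contra hqE
    exact h.not_mem_ee_symm hN hL hy hy1 hyz hq hq1 hqz hd hdI hqE hyE

end One

end Cfsg.Agent.Omega.NO3S.TwoOne

end

section


/-!
# NO-3S, `TwoOne` / `CompP`, `k ≥ 2`: THEOREM `SIGMA_k` (helper225's text #18607), pure form

`H` acts on the elementary abelian 2-group `M`; `L` = the line vectors, `A l`, `I l`, `al l` (`l ∈ L`) the data of
the line `l`; `SK` = the fields used, in particular (S1) and (S3) for symmetric pairs.

* `SK.sigma` : `a ∈ A l`, `a ≠ 1`, `o ≠ 1` of odd order, `a o a⁻¹ = o⁻¹` imply `o ^ 3 = 1`, `al l (o l) = 1`,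
  `a (o l) = o l + l`, `o⁻¹ l = o l + l`.
-/

set_option autoImplicit false

namespace Cfsg.Agent.Omega.NO3S.TwoOne

/-- the fields used for `SIGMA_k` -/
structure SK {M H : Type*} [AddCommGroup M] [Group H] [DistribMulAction H M] (L : Set M) (A : M → Subgroup H)
    (I : M → AddSubgroup M) (al : M → M → H) : Prop where
  two : ∀ m : M, m + m = 0
  ne0 : ∀ {l : M}, l ∈ L → l ≠ 0
  smul : ∀ (h : H) {l : M}, l ∈ L → h • l ∈ L
  A_conj : ∀ (h : H) {l : M} {a : H}, l ∈ L → a ∈ A l → h * a * h⁻¹ ∈ A (h • l)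
  I_conj : ∀ (h : H) {l u : M}, l ∈ L → u ∈ I l → h • u ∈ I (h • l)
  sq : ∀ {l : M} {a : H}, l ∈ L → a ∈ A l → a * a = 1
  four : ∀ {l : M}, l ∈ L → 4 ≤ Nat.card (A l)
  self : ∀ {l : M}, l ∈ L → l ∈ I l
  fix : ∀ {l : M} {a : H} {u : M}, l ∈ L → a ∈ A l → u ∈ I l → a • u = u
  al_mem : ∀ {l : M}, l ∈ L → ∀ m, al l m ∈ A l
  al_add : ∀ {l : M}, l ∈ L → ∀ m m', al l (m + m') = al l m * al l m'
  al_conj : ∀ {l : M} (h : H), l ∈ L → ∀ m, al (h • l) (h • m) = h * al l m * h⁻¹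
  al_ker : ∀ {l : M}, l ∈ L → ∀ m, al l m = 1 ↔ ∀ a ∈ A l, a • m = m ∨ a • m = m + l
  phi : ∀ {l : M} {a : H}, l ∈ L → a ∈ A l → a ≠ 1 → ∃ e, al l e = 1 ∧ a • e = e + l
  s1 : ∀ {l m e : M}, l ∈ L → m ∈ L → al l m ≠ 1 → al m l ≠ 1 → al l e = 1 → al l m • e = e →
    ∃ j ∈ I m, al l j = 1 ∧ ∀ a ∈ A l, a • j + j = a • e + e
  s3 : ∀ {l m : M} {a : H}, l ∈ L → m ∈ L → al l m ≠ 1 → al m l ≠ 1 → a ∈ A l → al m (a • m + m) ≠ 1 →
    ∃ j ∈ I m, al l j = 1 ∧ al l m • j = j + l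

namespace SK

variable {M H : Type*} [AddCommGroup M] [Group H] [DistribMulAction H M] {L : Set M} {A : M → Subgroup H}
    {I : M → AddSubgroup M} {al : M → M → H} (G : SK L A I al)
include G

theorem two_left (x y : M) : x + (x + y) = y := by
  rw [← add_assoc, G.two, zero_add]

theorem two_right (x y : M) : x + y + y = x := by
  rw [add_assoc, G.two, add_zero]

theorem inv {l : M} {a : H} (hl : l ∈ L) (ha : a ∈ A l) : a⁻¹ = a :=
  inv_eq_of_mul_eq_one_left (G.sq hl ha)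

/-- an element of odd order in `A l` is trivial -/
theorem odd_one {l : M} {a : H} (hl : l ∈ L) (ha : a ∈ A l) {n : ℕ} (hn : Odd n) (h1 : a ^ n = 1) : a = 1 := by
  obtain ⟨k, rfl⟩ := hn
  rw [pow_succ, pow_mul, pow_two, G.sq hl ha, one_pow, one_mul] at h1
  exact h1

/-- functionals are additive -/
theorem phi_add {l e e' : M} {a : H} (hl : l ∈ L) (he : al l e = 1) (he' : al l e' = 1)
    (h1 : a • e = e + l) (h2 : a • e' = e' + l) : al l (e + e') = 1 ∧ a • (e + e') = e + e' := by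
  refine ⟨by rw [G.al_add hl, he, he', one_mul], ?_⟩
  rw [smul_add, h1, h2]
  calc e + l + (e' + l) = e + e' + (l + l) := by abel
    _ = e + e' := by rw [G.two, add_zero]

/-- one element: `c ∉ {1, n}` implies that some functional vanishes on `n`, not on `c` -/
theorem sep {l : M} {n c : H} (hl : l ∈ L) (hn : n ∈ A l) (hc : c ∈ A l) (hc1 : c ≠ 1) (hcn : c ≠ n) :
    ∃ e, al l e = 1 ∧ n • e = e ∧ c • e = e + l := by
  have h0 := G.ne0 hl
  obtain ⟨e₁, he₁, hce₁⟩ := G.phi hl hc hc1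
  have hnn := G.sq hl hn
  have hcn' : c * n ≠ 1 := fun e => hcn (by
    calc c = c * (n * n) := by rw [hnn, mul_one]
      _ = n := by rw [← mul_assoc, e, one_mul])
  obtain ⟨e₂, he₂, hce₂⟩ := G.phi hl (mul_mem hc hn) hcn'
  rcases (G.al_ker hl e₁).mp he₁ n hn with h1 | h1
  · exact ⟨e₁, he₁, h1, hce₁⟩
  · rcases (G.al_ker hl e₂).mp he₂ n hn with h2 | h2
    · refine ⟨e₂, he₂, h2, ?_⟩
      rwa [mul_smul, h2] at hce₂
    · -- `n e₂ = e₂ + l`, `c n e₂ = e₂ + l`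
      have hcl : c • l = l := G.fix hl hc (G.self hl)
      have h3 : c • e₂ = e₂ := by
        rw [mul_smul, h2, smul_add, hcl] at hce₂
        exact add_right_cancel hce₂
      obtain ⟨h4, h5⟩ := G.phi_add hl he₁ he₂ h1 h2
      refine ⟨e₁ + e₂, h4, h5, ?_⟩
      rw [smul_add, hce₁, h3]
      abel

/-- two elements: `c ∉ ⟨n, a⟩` implies that some functional vanishes on `n` and `a`, not on `c` -/
theorem sep2 {l : M} {n a c : H} (hl : l ∈ L) (hn : n ∈ A l) (ha : a ∈ A l) (hc : c ∈ A l) (hc1 : c ≠ 1) (hcn : c ≠ n)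
    (hca : c ≠ a) (hcna : c ≠ n * a) : ∃ e, al l e = 1 ∧ n • e = e ∧ a • e = e ∧ c • e = e + l := by
  obtain ⟨e₁, he₁, hn₁, hce₁⟩ := G.sep hl hn hc hc1 hcn
  have haa := G.sq hl ha
  have hcn' : c * a ≠ 1 := fun e => hca (by
    calc c = c * (a * a) := by rw [haa, mul_one]
      _ = a := by rw [← mul_assoc, e, one_mul])
  have hcn'' : c * a ≠ n := fun e => hcna (by
    calc c = c * (a * a) := by rw [haa, mul_one]
      _ = n * a := by rw [← mul_assoc, e])
  obtain ⟨e₂, he₂, hn₂, hce₂⟩ := G.sep hl hn (mul_mem hc ha) hcn' hcn''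
  rcases (G.al_ker hl e₁).mp he₁ a ha with h1 | h1
  · exact ⟨e₁, he₁, hn₁, h1, hce₁⟩
  · rcases (G.al_ker hl e₂).mp he₂ a ha with h2 | h2
    · refine ⟨e₂, he₂, hn₂, h2, ?_⟩
      rwa [mul_smul, h2] at hce₂
    · have hcl : c • l = l := G.fix hl hc (G.self hl)
      have h3 : c • e₂ = e₂ := by
        rw [mul_smul, h2, smul_add, hcl] at hce₂
        exact add_right_cancel hce₂
      obtain ⟨h4, h5⟩ := G.phi_add hl he₁ he₂ h1 h2
      refine ⟨e₁ + e₂, h4, by rw [smul_add, hn₁, hn₂], h5, ?_⟩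
      rw [smul_add, hce₁, h3]
      abel

/-- **THEOREM `SIGMA_k`** -/
theorem sigma {l : M} {a o : H} (hl : l ∈ L) (ha : a ∈ A l) (ha1 : a ≠ 1) {n : ℕ} (hn : Odd n) (hon : o ^ n = 1)
    (ho1 : o ≠ 1) (hao : a * o * a⁻¹ = o⁻¹) :
    o ^ 3 = 1 ∧ al l (o • l) = 1 ∧ a • o • l = o • l + l ∧ o⁻¹ • l = o • l + l := by
  have h0 := G.ne0 hl
  have haa := G.sq hl ha
  have hai := G.inv hl ha
  have hal : a • l = l := G.fix hl ha (G.self hl)
  -- powers of `o` of odd order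
  have hodd : ∀ k : ℕ, o ^ (2 * k) = 1 → o ^ k = 1 := by
    intro k hk
    obtain ⟨r, hr⟩ := hn
    have h1 : (o ^ k) ^ n = 1 := by rw [← pow_mul, mul_comm, pow_mul, hon, one_pow]
    have h2 : (o ^ k) ^ (2 * r) = 1 := by
      rw [← pow_mul, show k * (2 * r) = (2 * k) * r by ring, pow_mul, hk, one_pow]
    rwa [hr, pow_succ, h2, one_mul] at h1
  have hgen : ∃ k : ℕ, (o * o) ^ k = o := by
    obtain ⟨r, hr⟩ := hn
    refine ⟨r + 1, ?_⟩
    rw [← pow_two, ← pow_mul]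
    have : 2 * (r + 1) = n + 1 := by omega
    rw [this, pow_succ, hon, one_mul]
  have hao' : a * o = o⁻¹ * a := by rw [← hao]; group
  have hoa : o * a = a * o⁻¹ := by
    calc o * a = (a * a) * (o * a) := by rw [haa, one_mul]
      _ = a * (a * o) * a := by group
      _ = a * o⁻¹ * (a * a) := by rw [hao']; group
      _ = a * o⁻¹ := by rw [haa, mul_one]
  have hinv : a * o⁻¹ * a⁻¹ = o := by
    calc a * o⁻¹ * a⁻¹ = (a * o * a⁻¹)⁻¹ := by group
      _ = o := by rw [hao, inv_inv]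
  -- a power of `o` in the stabiliser of `l`
  have hstab : ∀ k : ℕ, o ^ k • l = l → o ^ k = 1 := by
    intro k hk
    have h1 := G.A_conj (o ^ k) hl ha
    rw [hk] at h1
    have h2 : a * (o ^ k * a * (o ^ k)⁻¹) ∈ A l := mul_mem ha h1
    have h3 : a * o ^ k * a⁻¹ = (o ^ k)⁻¹ := by
      rw [← conj_pow, hao, inv_pow]
    have h4 : a * (o ^ k * a * (o ^ k)⁻¹) = (o ^ (2 * k))⁻¹ := by
      calc a * (o ^ k * a * (o ^ k)⁻¹) = (a * o ^ k * a⁻¹) * (a * a) * (o ^ k)⁻¹ := by group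
        _ = (o ^ k)⁻¹ * (o ^ k)⁻¹ := by rw [h3, haa, mul_one]
        _ = (o ^ (2 * k))⁻¹ := by rw [two_mul, pow_add, mul_inv_rev]
    rw [h4] at h2
    have h5 : ((o ^ (2 * k))⁻¹) ^ n = 1 := by
      rw [inv_pow, ← pow_mul, mul_comm, pow_mul, hon, one_pow, inv_one]
    exact hodd k (inv_eq_one.mp (G.odd_one hl h2 hn h5))
  obtain ⟨m, hm⟩ : ∃ m, m = o • l := ⟨_, rfl⟩
  have hmL : m ∈ L := by rw [hm]; exact G.smul o hl
  have hml : m ≠ l := by
    intro e
    apply ho1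
    have := hstab 1 (by rw [pow_one, ← hm, e])
    rwa [pow_one] at this
  -- `a m = o⁻¹ l`
  have ham : a • m = o⁻¹ • l := by
    rw [hm, smul_smul, hao', mul_smul, hal]
  -- `a' = o a o⁻¹ ∈ A_m`
  obtain ⟨a', ha'⟩ : ∃ a', a' = o * a * o⁻¹ := ⟨_, rfl⟩
  have ha'A : a' ∈ A m := by rw [ha', hm]; exact G.A_conj o hl ha
  have haa' : a * a' = o⁻¹ * o⁻¹ := by
    calc a * a' = (a * o * a⁻¹) * (a * a) * o⁻¹ := by rw [ha']; group
      _ = o⁻¹ * o⁻¹ := by rw [hao, haa, mul_one]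
  have ha'a : a' * a = o * o := by
    have ha'a' := G.sq hmL ha'A
    calc a' * a = (a * a')⁻¹ := by rw [mul_inv_rev, hai, inv_eq_of_mul_eq_one_left ha'a']
      _ = o * o := by rw [haa', mul_inv_rev, inv_inv]
  -- fixed by `a` and `a'` implies fixed by `o`
  have hfo : ∀ u : M, a • u = u → a' • u = u → o • u = u := by
    intro u h1 h2
    have h3 : (o * o) • u = u := by rw [← ha'a, mul_smul, h1, h2]
    obtain ⟨k, hk⟩ := hgen
    have h4 : ∀ k : ℕ, (o * o) ^ k • u = u := by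
      intro k
      induction k with
      | zero => rw [pow_zero, one_smul]
      | succ k ih => rw [pow_succ, mul_smul, h3, ih]
    have := h4 k
    rwa [hk] at this
  have hamm : a • m ≠ m := by
    intro e
    have h1 := G.A_conj a hmL ha'A
    rw [e] at h1
    have h2 : a' * (a * a' * a⁻¹) ∈ A m := mul_mem ha'A h1
    have h3 : a' * (a * a' * a⁻¹) = o ^ 4 := by
      calc a' * (a * a' * a⁻¹) = (a' * a) * (a' * a) := by rw [hai]; group
        _ = o ^ 4 := by rw [ha'a]; simp only [pow_succ, pow_zero, one_mul, mul_assoc]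
    rw [h3] at h2
    have h4 := G.odd_one hmL h2 hn (by rw [← pow_mul, mul_comm, pow_mul, hon, one_pow])
    have h5 := hodd 1 (hodd 2 h4)
    rw [pow_one] at h5
    exact ho1 h5
  -- `τ = o a` interchanges `l` and `m`, `a` and `a'`
  have hτl : (o * a) • l = m := by rw [mul_smul, hal, hm]
  have hτm : (o * a) • m = l := by rw [mul_smul, ham, smul_inv_smul]
  have hττ : (o * a) * (o * a) = 1 := by
    calc (o * a) * (o * a) = o * (a * o) * a := by group
      _ = o * (o⁻¹ * a) * a := by rw [hao']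
      _ = a * a := by group
      _ = 1 := haa
  have hτi : (o * a)⁻¹ = o * a := inv_eq_of_mul_eq_one_left hττ
  have hτa : (o * a) * a * (o * a)⁻¹ = a' := by
    calc (o * a) * a * (o * a)⁻¹ = o * (a * a) * a⁻¹ * o⁻¹ := by group
      _ = a' := by rw [haa, ha', hai]; group
  have hsym : al m l ≠ 1 → al l m ≠ 1 := by
    intro h1 h2
    apply h1
    have h3 := G.al_conj (o * a) hl m
    rw [hτl, hτm, h2, mul_one, mul_inv_cancel] at h3
    exact h3
  have hend : al l m = 1 → o ^ 3 = 1 ∧ al l (o • l) = 1 ∧ a • o • l = o • l + l ∧ o⁻¹ • l = o • l + l := by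
    intro h1
    have h2 : a • m = m + l := ((G.al_ker hl m).mp h1 a ha).resolve_left hamm
    have h3 : o⁻¹ • l = m + l := by rw [← ham, h2]
    have h4 : o • m = m + l := by
      have h5 : o • (o⁻¹ • l) = o • (m + l) := by rw [h3]
      rw [smul_inv_smul, smul_add, ← hm] at h5
      calc o • m = o • m + m + m := (G.two_right _ _).symm
        _ = m + l := by rw [← h5, add_comm]
    have h5 : o ^ 3 • l = l := by
      calc o ^ 3 • l = o • o • o • l := by
            rw [smul_smul, smul_smul]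
            congr 1
            simp only [pow_succ, pow_zero, one_mul, mul_assoc]
        _ = o • (m + l) := by rw [← hm, h4]
        _ = (m + l) + m := by rw [smul_add, h4, ← hm]
        _ = l := by rw [add_comm (m + l) m, G.two_left]
    exact ⟨hstab 3 h5, by rw [← hm]; exact h1, by rw [← hm]; exact h2, by rw [← hm]; exact h3⟩
  by_cases hml1 : al l m = 1
  · exact hend hml1
  exfalso
  have hlm1 : al m l ≠ 1 := by
    intro h2
    apply hml1
    have h3 := G.al_conj (o * a) hmL l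
    rw [hτl, hτm, h2, mul_one, mul_inv_cancel] at h3
    exact h3
  -- (*)
  have hstar : ∀ j ∈ I m, a • j = j → j ∈ I l := by
    intro j hj haj
    have h1 := hfo j haj (G.fix hmL ha'A hj)
    have h2 := G.I_conj o⁻¹ hmL hj
    have h3 : o⁻¹ • j = j := by
      calc o⁻¹ • j = o⁻¹ • o • j := by rw [h1]
        _ = j := inv_smul_smul o j
    have h4 : o⁻¹ • m = l := by rw [hm, inv_smul_smul]
    rwa [h3, h4] at h2
  obtain ⟨ν, hν⟩ : ∃ ν, ν = al l m := ⟨_, rfl⟩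
  have hνA : ν ∈ A l := by rw [hν]; exact G.al_mem hl m
  have hne : ∀ {x : M}, x ≠ x + l := fun {x} e => h0 (by
    have := congrArg (fun u => x + u) e
    simp only [G.two, G.two_left] at this
    exact this.symm)
  -- functionals which vanish on `ν` and `a`
  have hvan : ∀ e, al l e = 1 → ν • e = e → a • e = e → ∀ c ∈ A l, c • e ≠ e + l := by
    intro e he hνe hae c hc hce
    obtain ⟨j, hj, -, hf⟩ := G.s1 hl hmL hml1 hlm1 he (by rw [← hν]; exact hνe)
    have h1 := hf a ha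
    rw [hae, G.two] at h1
    have h2 : a • j = j := by
      calc a • j = a • j + j + j := (G.two_right _ _).symm
        _ = j := by rw [h1, zero_add]
    have h3 := G.fix hl hc (hstar j hj h2)
    have h4 := hf c hc
    rw [h3, G.two, hce] at h4
    apply h0
    calc l = e + l + e := by rw [add_comm (e + l) e, G.two_left]
      _ = 0 := h4.symm
  have hA4 : ∀ c ∈ A l, c = 1 ∨ c = ν ∨ c = a ∨ c = ν * a := by
    intro c hc
    by_contra hcon
    push Not at hcon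
    obtain ⟨e, h1, h2, h3, h4⟩ := G.sep2 hl hνA ha hc hcon.1 hcon.2.1 hcon.2.2.1 hcon.2.2.2
    exact hvan e h1 h2 h3 c hc h4
  have hνa : a ≠ ν := by
    intro e
    have h1 : (A l : Set H) ⊆ {1, a} := by
      intro c hc
      rcases hA4 c hc with e1 | e1 | e1 | e1
      · left; exact e1
      · right; rw [e1, ← e]; exact rfl
      · right; exact e1
      · left; rw [e1, ← e, haa]
    have h2 : Nat.card (A l) ≤ 2 := by
      have h3 := Set.ncard_le_ncard h1 (Set.toFinite _)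
      have h4 : ({1, a} : Set H).ncard ≤ 2 := (Set.ncard_insert_le _ _).trans (by rw [Set.ncard_singleton])
      have h5 : (A l : Set H).ncard = Nat.card (A l) := rfl
      omega
    have := G.four hl
    omega
  -- the S3 case is impossible
  have hω1 : al m (a • m + m) = 1 := by
    by_contra hcon
    obtain ⟨j, hj, hj1, hνj⟩ := G.s3 hl hmL hml1 hlm1 ha hcon
    rw [← hν] at hνj
    have h1 : a • j ≠ j := by
      intro e
      have h2 := G.fix hl hνA (hstar j hj e)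
      rw [h2] at hνj
      exact hne hνj
    have h2 : a • j = j + l := ((G.al_ker hl j).mp hj1 a ha).resolve_left h1
    obtain ⟨e, he, hνe, hae⟩ := G.sep hl hνA ha ha1 hνa
    obtain ⟨j', hj', hj'1, hf⟩ := G.s1 hl hmL hml1 hlm1 he (by rw [← hν]; exact hνe)
    have h3 : a • j' = j' + l := by
      have h4 := hf a ha
      rw [hae, add_comm (e + l) e, G.two_left] at h4
      calc a • j' = a • j' + j' + j' := (G.two_right _ _).symm
        _ = j' + l := by rw [h4, add_comm]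
    have h4 : ν • j' = j' := by
      have h5 := hf ν hνA
      rw [hνe, G.two] at h5
      calc ν • j' = ν • j' + j' + j' := (G.two_right _ _).symm
        _ = j' := by rw [h5, zero_add]
    have h5 := (G.phi_add hl hj1 hj'1 h2 h3).2
    have h6 := G.fix hl hνA (hstar _ (add_mem hj hj') h5)
    rw [smul_add, hνj, h4] at h6
    have h7 : j + l + j' = (j + j') + l := by abel
    rw [h7] at h6
    exact hne h6.symm
  obtain ⟨ω, hω⟩ : ∃ ω, ω = a • m + m := ⟨_, rfl⟩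
  rw [← hω] at hω1
  have hω0 : ω ≠ 0 := by
    intro e
    apply hamm
    calc a • m = a • m + m + m := (G.two_right _ _).symm
      _ = m := by rw [← hω, e, zero_add]
  have haω : a • ω = ω := by
    rw [hω, smul_add, smul_smul, haa, one_smul, add_comm]
  have ham' : a • m = m + ω := by
    rw [hω, add_comm (a • m) m, G.two_left]
  have ha'm : a' • m = m := G.fix hmL ha'A (G.self hmL)
  rcases (G.al_ker hmL ω).mp hω1 a' ha'A with h1 | h1
  · -- `ω` is fixed by `o`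
    have h2 := hfo ω haω h1
    have h3 : (o * o) • m = m + ω := by
      rw [← ha'a, mul_smul, ham', smul_add, ha'm, h1]
    have h4 : o ^ 4 • m = m := by
      calc o ^ 4 • m = (o * o) • ((o * o) • m) := by
            rw [smul_smul]
            congr 1
            simp only [pow_succ, pow_zero, one_mul, mul_assoc]
        _ = m := by
          rw [h3, smul_add, h3, mul_smul, h2, h2, G.two_right]
    have h5 : o ^ 4 • l = l := by
      have h6 : o • (o ^ 4 • l) = o • l := by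
        rw [smul_smul, ← pow_succ', pow_succ, mul_smul, ← hm, h4]
      exact smul_left_cancel o h6
    have h6 := hstab 4 h5
    have h7 := hodd 1 (hodd 2 h6)
    rw [pow_one] at h7
    exact ho1 h7
  · -- `ω' = a' l + l`
    obtain ⟨ω', hω'⟩ : ∃ ω', ω' = a' • l + l := ⟨_, rfl⟩
    have hτω : (o * a) • ω = ω' := by
      have h2 : (o * a) • a • m = a' • l := by
        calc (o * a) • a • m = ((o * a) * a * (o * a)⁻¹) • ((o * a) • m) := by
              rw [smul_smul, smul_smul]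
              congr 1
              group
          _ = a' • l := by rw [hτa, hτm]
      rw [hω, smul_add, h2, hτm, hω']
    have hτω' : (o * a) • ω' = ω := by
      rw [← hτω, smul_smul, hττ, one_smul]
    have hτa' : (o * a) * a' * (o * a)⁻¹ = a := by
      calc (o * a) * a' * (o * a)⁻¹ = (o * a) * ((o * a) * a * (o * a)⁻¹) * (o * a)⁻¹ := by rw [hτa]
        _ = ((o * a) * (o * a)) * a * ((o * a) * (o * a))⁻¹ := by group
        _ = a := by rw [hττ]; group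
    have haω' : a • ω' = ω' + l := by
      have h2 : (o * a) • a' • ω = (o * a) • (ω + m) := by rw [h1]
      rw [smul_add, hτω, hτm] at h2
      calc a • ω' = ((o * a) * a' * (o * a)⁻¹) • ((o * a) • ω) := by rw [hτa', hτω]
        _ = (o * a) • a' • ω := by
            rw [smul_smul, smul_smul]
            congr 1
            group
        _ = ω' + l := h2
    have ha'l : a' • l = l + ω' := by
      rw [hω', add_comm (a' • l) l, G.two_left]
    have ha'a' := G.sq hmL ha'A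
    have ha'ω' : a' • ω' = ω' := by
      rw [hω', smul_add, smul_smul, ha'a', one_smul, add_comm]
    -- `{0, l, ω', l + ω'}` is invariant under `o`
    have hoo : ∀ u : M, (u = 0 ∨ u = l ∨ u = ω' ∨ u = l + ω') →
        ((o * o) • u = 0 ∨ (o * o) • u = l ∨ (o * o) • u = ω' ∨ (o * o) • u = l + ω') := by
      intro u hu
      rw [← ha'a, mul_smul]
      rcases hu with e | e | e | e <;> rw [e]
      · left; rw [smul_zero, smul_zero]
      · right; right; right; rw [hal, ha'l]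
      · right; left
        rw [haω', smul_add, ha'ω', ha'l, add_comm l ω', G.two_left]
      · right; right; left
        rw [smul_add, hal, haω', add_comm ω' l, G.two_left, ha'ω']
    have hpw : ∀ k : ℕ, ((o * o) ^ k • l = 0 ∨ (o * o) ^ k • l = l ∨ (o * o) ^ k • l = ω' ∨
        (o * o) ^ k • l = l + ω') := by
      intro k
      induction k with
      | zero => right; left; rw [pow_zero, one_smul]
      | succ k ih => rw [pow_succ', mul_smul]; exact hoo _ ih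
    obtain ⟨k, hk⟩ := hgen
    have h2 := hpw k
    rw [hk, ← hm] at h2
    have hm0 := G.ne0 hmL
    have h3 : m = ω' := by
      rcases h2 with e | e | e | e
      · exact absurd e hm0
      · exact absurd e hml
      · exact e
      · exfalso
        rw [e, smul_add, ha'l, ha'ω', G.two_right] at ha'm
        have h4 : ω' = 0 := by
          have := congrArg (fun u => l + u) ha'm
          simp only [G.two, G.two_left] at this
          exact this.symm
        apply hω0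
        rw [← hτω', h4, smul_zero]
    have h4 : ω = l := by rw [← hτω', ← h3, hτm]
    rw [h4] at hω1
    exact hlm1 hω1

end SK

end Cfsg.Agent.Omega.NO3S.TwoOne

end

section


/-!
# NO-3S, `q = 2`, `n = 1`, no `λ`-transvections: symmetric pairs (helper225's text #18607, (S1), (S2), (S3))

`h : One T V z`, `NT V`, `L` another line on `z`, `y ∈ V`, `q ∈ L` points `≠ z`; the pair `(V, L)` is symmetric:
`y ∉ E_z^L`, `q ∉ E_z^V`.  Planes and `D_x` arbitrary.

* `One.twin_iff` : `e ∈ E_{pq}`, `a ∈ W_p` and `b ∈ W_q` the same element of `N`: `e` moves `a` iff it moves `b`;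
* `One.sig_one` (S1) : for `e ∈ E_y ∩ C(q)` some `j ∈ I_L ∩ E_z` has on `W_y` the functional of `e`;
* `One.sig_two` (S2) : `b ∈ W_y ∩ N_G(L)` is in `E_y` or is (mod `E_y`) the element `q`;
* `One.sig_three` (S3) : if `[q, b₁] ∉ E_z^L` for some `b₁ ∈ W_y` then some `j ∈ I_L ∩ E_z` moves the twin of `q`;
* `One.sig_three'` : then `W_y ∩ N_G(L) ≤ E_y`.
-/

set_option autoImplicit false
set_option linter.unusedSectionVars false

namespace Cfsg.Agent.Omega.NO3S.TwoOne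

open Subgroup Cfsg Cfsg.Agent.ZN Cfsg.Agent.MinSimple.Geo Cfsg.Agent.Omega.CaseL
open Cfsg.Agent.ZN.Block (conj_mem_of_normalizer conj_mem_of_normalizer' le_normalizer_of_forall
  mem_normalizer_of)
open scoped commutatorElement

universe u

variable {G : Type u} [Group G]

/-- the line `L` with everything that is known about it -/
theorem One.line [Finite G] {T V L : Subgroup G} {z : G} (h : One T V z) (hN : NT V) (hL : L ∈ lines V z) :
    ∃ T', One T' L z ∧ NT L ∧ (∀ x, ws L x = ws V x) ∧ (∀ x, kq L x = kq V x) := by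
  obtain ⟨c, hLc, T', h'⟩ := h.of_line hL h.ln.z_ne
  refine ⟨T', h', ?_, fun x => by rw [hLc, ws_cj], fun x => by rw [hLc, kq_cj]⟩
  rw [hLc]; exact NT.conj hN c

namespace One

variable {T V L : Subgroup G} {z y q p : G}

/-- `e ∈ E_{pq}` moves `a ∈ W_p` iff it moves its twin `b ∈ W_q` -/
theorem twin_iff (h : One T V z) (hp : p ∈ V) (hp1 : p ≠ 1) (hq : q ∈ V) (hq1 : q ≠ 1) (hqp : q ≠ p)
    {e a b : G} (he : e ∈ ee V (p * q)) (ha : a ∈ ws V p) (ht : Tw V p a q b) :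
    e * a = a * e ↔ e * b = b * e := by
  have hr : p * q ∈ V := mul_mem hp hq
  have hr1 : p * q ≠ 1 := h.mul_ne_one hq (Ne.symm hqp)
  have hpr : p ≠ p * q := fun e' => hq1 (by simpa using e'.symm)
  have hpp := h.ln.sq p hp
  obtain ⟨t, ht1, -, ht2⟩ := h.exists_move hr hr1 hp hp1 hpr
  have ht3 : t * p * t⁻¹ = q := by rw [ht2, h.ln.comm hp hq, mul_assoc, hpp, mul_one]
  have htx : t ∈ xl V := kq_le_xl hr hr1 ht1
  have h1 : (t * a * t⁻¹) * b⁻¹ ∈ ee V q := (h.tw_iff hp hp1 ha htx ht3).mp ht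
  set b₀ := t * a * t⁻¹ with hb₀
  have hb₀q : b₀ ∈ ws V q := by
    have := conj_mem_ws t ha
    rwa [ht3] at this
  -- `e` commutes with `b₀ b⁻¹`
  have h2 := h.ee_comm hr hr1 hq hq1 he h1
  have h3 : e * b = b * e ↔ e * b₀ = b₀ * e := by
    have e1 : b₀ = (b₀ * b⁻¹) * b := by group
    constructor
    · intro hc
      rw [e1]
      exact comm_mul_of h2 hc
    · intro hc
      have e2 : b = (b₀ * b⁻¹)⁻¹ * b₀ := by group
      rw [e2]
      exact comm_mul_of (comm_inv_of h2) hc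
  rw [h3]
  -- `a b₀ ∈ K_{pq}`
  have h4 : a * b₀ ∈ kq V (p * q) := h.mul_conj_kq hr hp hp1 ht1 ha
  have heV := h.ws_le_centralizer_V hr hr1 he.1
  have h5 : ⁅e, a * b₀⁆ = ⁅e, a⁆ * ⁅e, b₀⁆ := by
    have h6 : ⁅e, b₀⁆ ∈ V := by
      rcases h.ee_cases hq hq1 he hb₀q with e1 | e1
      · rw [e1]; exact one_mem _
      · rw [e1]; exact hq
    have h7 : ⁅e, b₀⁆ * a = a * ⁅e, b₀⁆ := h.V_comm h6 (h.ws_le_centralizer_V hp hp1 ha)
    calc ⁅e, a * b₀⁆ = ⁅e, a⁆ * (a * ⁅e, b₀⁆) * a⁻¹ := by simp only [commutatorElement_def]; group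
      _ = ⁅e, a⁆ * (⁅e, b₀⁆ * a) * a⁻¹ := by rw [h7]
      _ = ⁅e, a⁆ * ⁅e, b₀⁆ := by group
  have h8 : ⁅e, a * b₀⁆ = 1 ∨ ⁅e, a * b₀⁆ = p * q := by
    rcases h.kq_cases hr h4 he.1 with e1 | e1
    · left
      exact commutatorElement_eq_one_iff_mul_comm.mpr (comm_of_conj_eq e1).symm
    · right
      have hrr := h.ln.sq _ hr
      have hre : (p * q) * e = e * (p * q) := h.V_comm hr heV
      obtain ⟨k, hk⟩ : ∃ k, k = a * b₀ := ⟨_, rfl⟩
      rw [← hk] at e1 ⊢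
      have e2 : k * e = (p * q) * e * k := by
        calc k * e = (k * e * k⁻¹) * k := by group
          _ = (p * q) * e * k := by rw [e1]
      have e3 : e * k = (p * q) * (k * e) := by
        calc e * k = ((p * q) * (p * q)) * (e * k) := by rw [hrr, one_mul]
          _ = (p * q) * ((p * q) * e * k) := by group
          _ = (p * q) * (k * e) := by rw [e2]
      calc ⁅e, k⁆ = (e * k) * e⁻¹ * k⁻¹ := by rw [commutatorElement_def]
        _ = p * q := by rw [e3]; group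
  constructor
  · intro hc
    have e1 : ⁅e, a⁆ = 1 := commutatorElement_eq_one_iff_mul_comm.mpr hc
    rw [e1, one_mul] at h5
    apply commutatorElement_eq_one_iff_mul_comm.mp
    rcases h.ee_cases hq hq1 he hb₀q with e2 | e2
    · exact e2
    · exfalso
      rw [e2] at h5
      rw [h5] at h8
      rcases h8 with e3 | e3
      · exact hq1 e3
      · exact hp1 (by simpa using e3.symm)
  · intro hc
    have e1 : ⁅e, b₀⁆ = 1 := commutatorElement_eq_one_iff_mul_comm.mpr hc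
    rw [e1, mul_one] at h5
    apply commutatorElement_eq_one_iff_mul_comm.mp
    rcases h.ee_cases hp hp1 he ha with e2 | e2
    · exact e2
    · exfalso
      rw [e2] at h5
      rw [h5] at h8
      rcases h8 with e3 | e3
      · exact hp1 e3
      · exact hq1 (by simpa using e3.symm)


/-- two movers: the product does not move -/
theorem mv_mul (h : One T V z) (hp : p ∈ V) {k k' w : G} (hk : k ∈ kq V p) (hk' : k' ∈ kq V p)
    (hw : w ∈ ws V p) (h1 : k * w ≠ w * k) (h2 : k' * w ≠ w * k') : k * k' * w = w * (k * k') := by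
  have h3 := (h.kq_or hp hk hw).resolve_left h1
  have h4 := (h.kq_or hp hk' hw).resolve_left h2
  have h5 := h.kq_p hk
  calc k * k' * w = k * (k' * w) := by group
    _ = (k * p) * w * k' := by rw [h4]; group
    _ = p * (k * w) * k' := by rw [h5]; group
    _ = (p * p) * w * k * k' := by rw [h3]; group
    _ = w * (k * k') := by rw [h.ln.sq p hp]; group

theorem mv_mul' (h : One T V z) (hp : p ∈ V) {k w w' : G} (hk : k ∈ kq V p)
    (hw : w ∈ ws V p) (hw' : w' ∈ ws V p) (h1 : k * w ≠ w * k) (h2 : k * w' ≠ w' * k) :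
    k * (w * w') = w * w' * k := by
  have h3 := (h.kq_or hp hk hw).resolve_left h1
  have h4 := (h.kq_or hp hk hw').resolve_left h2
  have h5 : p * w = w * p := h.V_comm hp (h.ws_le_centralizer_V hp (fun e => h1 (by
    have e3 := h3
    rw [e, one_mul] at e3
    exact e3)) hw)
  calc k * (w * w') = (k * w) * w' := by group
    _ = (p * w) * (k * w') := by rw [h3]; group
    _ = w * (p * p) * w' * k := by rw [h4, h5]; group
    _ = w * w' * k := by rw [h.ln.sq p hp]; group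

/-- one `e ∈ E_p` moves `a` and `b`, `a, b ∈ W_q - E_q` -/
theorem move_two [Finite G] (h : One T V z) (hN : NT V) (hp : p ∈ V) (hp1 : p ≠ 1) (hq : q ∈ V)
    (hq1 : q ≠ 1) (hqp : q ≠ p) {a b : G} (ha : a ∈ ws V q) (haE : a ∉ ee V q) (hb : b ∈ ws V q)
    (hbE : b ∉ ee V q) : ∃ e ∈ ee V p, e * a * e⁻¹ = q * a ∧ e * b * e⁻¹ = q * b := by
  obtain ⟨e, he, hea⟩ := h.nt_move_ee hN hp hp1 hq hq1 hqp ha haE
  obtain ⟨f, hf, hfb⟩ := h.nt_move_ee hN hp hp1 hq hq1 hqp hb hbE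
  rcases h.kq_cases hq (he.2 q hq hq1) hb with e1 | e1
  · rcases h.kq_cases hq (hf.2 q hq hq1) ha with e2 | e2
    · refine ⟨e * f, mul_mem he hf, ?_, ?_⟩
      · calc e * f * a * (e * f)⁻¹ = e * (f * a * f⁻¹) * e⁻¹ := by group
          _ = q * a := by rw [e2, hea]
      · calc e * f * b * (e * f)⁻¹ = e * (f * b * f⁻¹) * e⁻¹ := by group
          _ = (e * q) * b * e⁻¹ := by rw [hfb]; group
          _ = q * (e * b * e⁻¹) := by rw [h.kq_p (he.2 q hq hq1)]; group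
          _ = q * b := by rw [e1]
    · exact ⟨f, hf, e2, hfb⟩
  · exact ⟨e, he, hea, e1⟩

end One

/-- a symmetric pair of lines on `z` -/
structure SyP (V L : Subgroup G) (z y q : G) : Prop where
  line : L ∈ lines V z
  hy : y ∈ V
  hy1 : y ≠ 1
  hyz : y ≠ z
  hq : q ∈ L
  hq1 : q ≠ 1
  hqz : q ≠ z
  yL : y ∉ ee L z
  qV : q ∉ ee V z

namespace SyP

variable {T V L : Subgroup G} {z y q : G} (S : SyP V L z y q) (h : One T V z) (hN : NT V)
include S h

theorem q_ws : q ∈ ws V z := le_ws S.line S.hq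

theorem hs : z * y ∈ V := mul_mem h.ln.z_mem S.hy

theorem hs1 : z * y ≠ 1 := h.mul_ne_one S.hy (Ne.symm S.hyz)

theorem hsz : z * y ≠ z := fun e' => S.hy1 (by simpa using e')

theorem hsy : z * y ≠ y := fun e' => h.ln.z_ne (by simpa using e')

/-- the elements of `C_G(V)` which fix `q` centralise `L` -/
theorem cent_L {c : G} (hc : c ∈ centralizer (V : Set G)) (hcq : c * q = q * c) :
    c ∈ centralizer (L : Set G) := by
  obtain ⟨k, hk, T', h'⟩ := h.of_line S.line h.ln.z_ne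
  exact h'.mem_centralizer_of S.hq S.hq1 S.line.2 h.ln.z_ne (Ne.symm S.hqz) hcq (h.V_comm h.ln.z_mem hc).symm

include hN

/-- some `e ∈ E_y` moves `q` -/
theorem exists_e [Finite G] : ∃ e ∈ ee V y, e * q * e⁻¹ = z * q :=
  h.nt_move_ee hN S.hy S.hy1 h.ln.z_mem h.ln.z_ne (Ne.symm S.hyz) (S.q_ws h) S.qV

/-- some `e ∈ E_q` (of `L`) moves `y` -/
theorem exists_f [Finite G] : ∃ e ∈ ee L q, e * y * e⁻¹ = z * y := by
  obtain ⟨T', h', hNL, hws, hkq⟩ := h.line hN S.line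
  refine h'.nt_move_ee hNL S.hq S.hq1 S.line.2 h.ln.z_ne (Ne.symm S.hqz) ?_ S.yL
  rw [hws]
  exact h.V_le h.ln.z_mem h.ln.z_ne S.hy

/-- `f = e_q`, `e ∈ E_y` fixes `q` : `e e^f ∈ I_L` -/
theorem mem_ii [Finite G] {e f : G} (he : e ∈ ee V y) (heq : e * q = q * e) (hf : f ∈ ee L q)
    (hfy : f * y * f⁻¹ = z * y) : e * (f * e * f⁻¹) ∈ ii L := by
  obtain ⟨T', h', hNL, hws, hkq⟩ := h.line hN S.line
  obtain ⟨g, hg, hgq⟩ := S.exists_e h hN
  have hee := h.sq S.hy S.hy1 e he.1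
  have hei : e⁻¹ = e := inv_eq_self hee
  have hfV : f ∈ kq V z := by
    rw [← hkq]
    exact hf.2 z S.line.2 h.ln.z_ne
  have heL := S.cent_L h (h.ws_le_centralizer_V S.hy S.hy1 he.1) heq
  have h1 : e * (f * e * f⁻¹) ∈ ws L q := by
    have e1 : e * (f * e * f⁻¹) = (e * f * e⁻¹) * f⁻¹ := by rw [hei]; group
    rw [e1]
    exact mul_mem (conj_mem_of_normalizer (h'.cent_norm S.hq) heL hf.1) (inv_mem hf.1)
  have h2 : f * e * f⁻¹ ∈ ee V (z * y) := by
    have := conj_mem_ee (h.kq_le_normalizer h.ln.z_mem h.ln.z_ne hfV) he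
    rwa [hfy] at this
  have h3 : e * (f * e * f⁻¹) * g = g * (e * (f * e * f⁻¹)) :=
    mul_comm_of (h.comm S.hy S.hy1 _ he.1 _ hg.1) (h.ee_comm (S.hs h) (S.hs1 h) S.hy S.hy1 h2 hg)
  exact h'.mem_ii_of_move S.hq S.hq1 S.line.2 h.ln.z_ne (Ne.symm S.hqz) hgq h1 h3

/-- **(S1)** -/
theorem one [Finite G] {e : G} (he : e ∈ ee V y) (heq : e * q = q * e) : ∃ j ∈ ii L, j ∈ ee V z ∧
    ∀ a ∈ ws V z, ∀ b ∈ ws V y, Tw V z a y b → (j * b = b * j ↔ e * a = a * e) := by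
  obtain ⟨T', h', hNL, hws, hkq⟩ := h.line hN S.line
  obtain ⟨f, hf, hfy⟩ := S.exists_f h hN
  have hfV : f ∈ kq V z := by
    rw [← hkq]
    exact hf.2 z S.line.2 h.ln.z_ne
  have h0 := S.mem_ii h hN he heq hf hfy
  have h2 : f * e * f⁻¹ ∈ ee V (z * y) := by
    have := conj_mem_ee (h.kq_le_normalizer h.ln.z_mem h.ln.z_ne hfV) he
    rwa [hfy] at this
  refine ⟨_, h0, ⟨?_, fun p hp hp1 => mul_mem (he.2 p hp hp1) (h2.2 p hp hp1)⟩, fun a ha b hb ht => ?_⟩
  · rw [← hws]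
    exact ii_le S.line.2 h.ln.z_ne h0
  · have h3 : f * e * f⁻¹ * a = a * (f * e * f⁻¹) ↔ f * e * f⁻¹ * b = b * (f * e * f⁻¹) :=
      h.twin_iff h.ln.z_mem h.ln.z_ne S.hy S.hy1 S.hyz h2 ha ht
    have h4 : e * b = b * e := h.comm S.hy S.hy1 _ he.1 _ hb
    have h5 : e * (f * e * f⁻¹) * b = b * (e * (f * e * f⁻¹)) ↔
        f * e * f⁻¹ * b = b * (f * e * f⁻¹) := by
      constructor
      · intro hc
        have e1 : f * e * f⁻¹ = e⁻¹ * (e * (f * e * f⁻¹)) := by group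
        rw [e1]
        exact mul_comm_of (inv_comm_of h4) hc
      · intro hc
        exact mul_comm_of h4 hc
    rw [h5, ← h3]
    -- `f e f⁻¹` and `e` act in the same way on `W_z`
    have hze := h.V_comm h.ln.z_mem (h.ws_le_centralizer_V S.hy S.hy1 he.1)
    have hzf := h.kq_p hfV
    constructor
    · intro hc
      rcases h.kq_cases h.ln.z_mem (inv_mem hfV) ha with e1 | e1
      · rw [inv_inv] at e1
        have : e * (f⁻¹ * a * f) = (f⁻¹ * a * f) * e := by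
          calc e * (f⁻¹ * a * f) = f⁻¹ * (f * e * f⁻¹ * a) * f := by group
            _ = f⁻¹ * (a * (f * e * f⁻¹)) * f := by rw [hc]
            _ = (f⁻¹ * a * f) * e := by group
        rwa [e1] at this
      · rw [inv_inv] at e1
        have : e * (f⁻¹ * a * f) = (f⁻¹ * a * f) * e := by
          calc e * (f⁻¹ * a * f) = f⁻¹ * (f * e * f⁻¹ * a) * f := by group
            _ = f⁻¹ * (a * (f * e * f⁻¹)) * f := by rw [hc]
            _ = (f⁻¹ * a * f) * e := by group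
        rw [e1] at this
        calc e * a = z⁻¹ * ((z * e) * a) := by group
          _ = z⁻¹ * (e * (z * a)) := by rw [hze]; group
          _ = z⁻¹ * (z * a * e) := by rw [this]
          _ = a * e := by group
    · intro hc
      rcases h.kq_cases h.ln.z_mem (inv_mem hfV) ha with e1 | e1
      · rw [inv_inv] at e1
        calc f * e * f⁻¹ * a = f * (e * (f⁻¹ * a * f)) * f⁻¹ := by group
          _ = f * ((f⁻¹ * a * f) * e) * f⁻¹ := by rw [e1, hc]
          _ = a * (f * e * f⁻¹) := by group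
      · rw [inv_inv] at e1
        have : e * (f⁻¹ * a * f) = (f⁻¹ * a * f) * e := by
          rw [e1]
          calc e * (z * a) = (e * z) * a := by group
            _ = z * (e * a) := by rw [← hze]; group
            _ = z * a * e := by rw [hc]; group
        calc f * e * f⁻¹ * a = f * (e * (f⁻¹ * a * f)) * f⁻¹ := by group
          _ = f * ((f⁻¹ * a * f) * e) * f⁻¹ := by rw [this]
          _ = a * (f * e * f⁻¹) := by group

/-- `[j, b] ∈ I_L` for `j ∈ I_L`, `b ∈ W_y` normalising `L` -/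
theorem not_move [Finite G] {j b : G} (hj : j ∈ ii L) (hjE : j ∈ ee V z) (hb : b ∈ ws V y)
    (hbq : b * q * b⁻¹ = q ∨ b * q * b⁻¹ = z * q) : j * b = b * j := by
  obtain ⟨T', h', hNL, hws, hkq⟩ := h.line hN S.line
  have hzL : z ∈ L := S.line.2
  have hbb := h.sq S.hy S.hy1 b hb
  have hbi : b⁻¹ = b := inv_eq_self hbb
  have hbz : b * z * b⁻¹ = z := conj_eq_of_comm (h.V_comm h.ln.z_mem (h.ws_le_centralizer_V S.hy S.hy1 hb)).symm
  have hbqL : b * q * b⁻¹ ∈ L := by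
    rcases hbq with e | e
    · rw [e]; exact S.hq
    · rw [e]; exact mul_mem hzL S.hq
  have h1 : ∀ m ∈ L, b * m * b⁻¹ ∈ L := by
    intro m hm
    rcases h'.ln.four hzL S.hq h.ln.z_ne S.hq1 (Ne.symm S.hqz) hm with e | e | e | e
    · rw [e, mul_one, mul_inv_cancel]; exact one_mem _
    · rw [e, hbz]; exact hzL
    · rw [e]; exact hbqL
    · rw [e]
      have e1 : b * (z * q) * b⁻¹ = (b * z * b⁻¹) * (b * q * b⁻¹) := by group
      rw [e1, hbz]
      exact mul_mem hzL hbqL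
  have hbN : b ∈ normalizer (L : Set G) := mem_normalizer_of h1 (fun m hm => by
    have := h1 m hm
    rwa [hbi] at this ⊢)
  have h2 : ⁅j, b⁆ ∈ ii L := by
    have h3 := conj_mem_of_normalizer (normalizer_le_normalizer_ii L) hbN (inv_mem hj)
    have e1 : ⁅j, b⁆ = j * (b * j⁻¹ * b⁻¹) := by rw [commutatorElement_def]; group
    rw [e1]
    exact mul_mem hj h3
  rcases h.ee_cases S.hy S.hy1 hjE hb with e | e
  · exact commutatorElement_eq_one_iff_mul_comm.mp e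
  · exfalso
    rw [e] at h2
    exact S.yL (h'.ii_le_ee hzL h.ln.z_ne h2)

/-- **(S2)** -/
theorem two [Finite G] {b : G} (hb : b ∈ ws V y) (hbq : b * q * b⁻¹ = q ∨ b * q * b⁻¹ = z * q) :
    b ∈ ee V y ∨ Tw V z q y b := by
  have hz := h.ln.z_mem
  have hz1 := h.ln.z_ne
  obtain ⟨a, ha, hta⟩ := h.tw_exists S.hy S.hy1 hz hz1 hb
  have ht := h.tw_symm hta
  have hqw := S.q_ws h
  have key : ∀ e ∈ ee V y, e * q = q * e → e * a = a * e := by
    intro e he heq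
    obtain ⟨j, hj, hjE, hf⟩ := S.one h hN he heq
    exact (hf a ha b hb ht).mp (S.not_move h hN hj hjE hb hbq)
  obtain ⟨e₀, he₀, he₀q⟩ := S.exists_e h hN
  have he₀q' : e₀ * q ≠ q * e₀ := fun e => by
    rw [conj_eq_of_comm e] at he₀q
    exact hz1 (by simpa using he₀q.symm)
  by_cases h0 : e₀ * a = a * e₀
  · left
    have h1 : a ∈ ee V z := by
      rw [← h.nt_w1 hN hz hz1]
      refine h.mem_w1 hz hz1 S.hy S.hy1 S.hyz ha fun e he => ?_
      by_cases heq : e * q = q * e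
      · exact (key e he heq).symm
      · have h2 := key _ (mul_mem he he₀) (h.mv_mul hz (he.2 z hz hz1) (he₀.2 z hz hz1) hqw heq he₀q')
        have e1 : e = (e * e₀) * e₀⁻¹ := by group
        rw [e1]
        exact (mul_comm_of h2 (inv_comm_of h0)).symm
    have h2 := h.tw_trans hta ((h.tw_one hz hz1 S.hy S.hy1 ha).mpr h1)
    have h3 := (h.tw_self S.hy S.hy1 hb).mp h2
    rwa [inv_one, mul_one] at h3
  · right
    have h1 : a * q ∈ ee V z := by
      rw [← h.nt_w1 hN hz hz1]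
      refine h.mem_w1 hz hz1 S.hy S.hy1 S.hyz (mul_mem ha hqw) fun e he => ?_
      by_cases heq : e * q = q * e
      · have h2 := key e he heq
        calc a * q * e = a * (e * q) := by rw [heq]; group
          _ = (a * e) * q := by group
          _ = e * (a * q) := by rw [← h2]; group
      · have h2 := key _ (mul_mem he he₀) (h.mv_mul hz (he.2 z hz hz1) (he₀.2 z hz hz1) hqw heq he₀q')
        have h3 : e * a ≠ a * e := fun h3 => h0 (by
          have e1 : e₀ = e⁻¹ * (e * e₀) := by group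
          rw [e1]
          exact mul_comm_of (inv_comm_of h3) h2)
        exact (h.mv_mul' hz (he.2 z hz hz1) ha hqw h3 heq).symm
    have h2 : Tw V z q z a := by
      rw [h.tw_self hz hz1 hqw, inv_eq_self (h.sq hz hz1 a ha), h.comm hz hz1 q hqw a ha]
      exact h1
    exact h.tw_trans h2 ht

/-- **(S3)** -/
theorem three [Finite G] {b₁ : G} (hb₁ : b₁ ∈ ws V y) (hω : ⁅q, b₁⁆ ∉ ee L z) :
    ∃ j ∈ ii L, j ∈ ee V z ∧ ∀ b ∈ ws V y, Tw V z q y b → j * b ≠ b * j := by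
  obtain ⟨T', h', hNL, hws, hkq⟩ := h.line hN S.line
  have hz := h.ln.z_mem
  have hz1 := h.ln.z_ne
  have hzL : z ∈ L := S.line.2
  have hqw := S.q_ws h
  have hs := S.hs h
  have hs1 := S.hs1 h
  have hωI : ⁅q, b₁⁆ ∈ ii V := h.comm_ii_mem hz hz1 S.hy S.hy1 hqw hb₁
  have hωz : ⁅q, b₁⁆ ∈ ws L z := by rw [hws]; exact ii_le hz hz1 hωI
  have hyz : y ∈ ws L z := by rw [hws]; exact h.V_le hz hz1 S.hy
  obtain ⟨f, hf, hfy, hfω⟩ := h'.move_two hNL S.hq S.hq1 hzL hz1 (Ne.symm S.hqz) hyz S.yL hωz hω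
  have hfV : f ∈ kq V z := by
    rw [← hkq]
    exact hf.2 z hzL hz1
  have hff : f * f = 1 := h'.sq S.hq S.hq1 f hf.1
  have hfq : f * q = q * f := h'.comm S.hq S.hq1 f hf.1 q (h'.V_le S.hq S.hq1 S.hq)
  obtain ⟨ω, hωd⟩ : ∃ ω, ω = ⁅q, b₁⁆ := ⟨_, rfl⟩
  rw [← hωd] at hω hωI hωz hfω
  have hωω : ω * ω = 1 := h.sq S.hy S.hy1 ω (ii_le S.hy S.hy1 hωI)
  have hb1b : b₁ * b₁ = 1 := h.sq S.hy S.hy1 b₁ hb₁
  have hb1i : b₁⁻¹ = b₁ := inv_eq_self hb1b
  have hb1V := h.ws_le_centralizer_V S.hy S.hy1 hb₁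
  -- `b₁' = b₁^f`
  obtain ⟨c, hc⟩ : ∃ c, c = f * b₁ * f⁻¹ := ⟨_, rfl⟩
  have hcs : c ∈ ws V (z * y) := by
    have := conj_mem_ws f hb₁
    rw [hfy] at this
    rwa [hc]
  have hcc : c * c = 1 := h.sq hs hs1 c hcs
  have hci : c⁻¹ = c := inv_eq_self hcc
  have hcV := h.ws_le_centralizer_V hs hs1 hcs
  have hfc : f * c * f⁻¹ = b₁ := by
    rw [hc]
    calc f * (f * b₁ * f⁻¹) * f⁻¹ = (f * f) * b₁ * (f * f)⁻¹ := by group
      _ = b₁ := by rw [hff]; group
  obtain ⟨g₀, hg₀⟩ : ∃ g₀, g₀ = b₁ * c := ⟨_, rfl⟩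
  have hg₀k : g₀ ∈ kq V z := by
    rw [hg₀, hc]
    exact h.mul_conj_kq hz S.hy S.hy1 hfV hb₁
  have hg₀V : g₀ ∈ centralizer (V : Set G) := by rw [hg₀]; exact mul_mem hb1V hcV
  have hfg₀ : f * g₀ * f⁻¹ = g₀⁻¹ := by
    calc f * g₀ * f⁻¹ = (f * b₁ * f⁻¹) * (f * c * f⁻¹) := by rw [hg₀]; group
      _ = c⁻¹ * b₁⁻¹ := by rw [← hc, hfc, hci, hb1i]
      _ = g₀⁻¹ := by rw [hg₀]; group
  -- `b₁ q b₁⁻¹ = ω q`
  have h1 : b₁ * q * b₁⁻¹ = ω * q := by
    have h2 : ⁅b₁, q⁆ = ω := by rw [h.comm_swap hz hz1 S.hy S.hy1 hqw hb₁, hωd]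
    calc b₁ * q * b₁⁻¹ = ⁅b₁, q⁆ * q := by rw [commutatorElement_def]; group
      _ = ω * q := by rw [h2]
  have h2 : c * q * c⁻¹ = z * ω * q := by
    calc c * q * c⁻¹ = f * (b₁ * (f⁻¹ * q * f) * b₁⁻¹) * f⁻¹ := by rw [hc]; group
      _ = f * (b₁ * q * b₁⁻¹) * f⁻¹ := by
        have e1 : f⁻¹ * q * f = q := by
          calc f⁻¹ * q * f = f⁻¹ * (q * f) := by group
            _ = q := by rw [← hfq]; group
        rw [e1]
      _ = (f * ω * f⁻¹) * (f * q * f⁻¹) := by rw [h1]; group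
      _ = z * ω * q := by rw [hfω, conj_eq_of_comm hfq]
  have hzb : z * b₁ = b₁ * z := h.V_comm hz hb1V
  have hb1ω : b₁ * ω = ω * b₁ := h.comm S.hy S.hy1 b₁ hb₁ ω (ii_le S.hy S.hy1 hωI)
  have h3 : g₀ * q * g₀⁻¹ = z * q := by
    calc g₀ * q * g₀⁻¹ = b₁ * (c * q * c⁻¹) * b₁⁻¹ := by rw [hg₀]; group
      _ = (b₁ * z) * ω * q * b₁⁻¹ := by rw [h2]; group
      _ = z * (b₁ * ω) * q * b₁⁻¹ := by rw [← hzb]; group
      _ = z * ω * (b₁ * q * b₁⁻¹) := by rw [hb1ω]; group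
      _ = z * (ω * ω) * q := by rw [h1]; group
      _ = z * q := by rw [hωω, mul_one]
  obtain ⟨e₀, he₀, he₀q⟩ := S.exists_e h hN
  have he₀V := h.ws_le_centralizer_V S.hy S.hy1 he₀.1
  have he₀e : e₀ * e₀ = 1 := h.sq S.hy S.hy1 e₀ he₀.1
  obtain ⟨e₁, he₁⟩ : ∃ e₁, e₁ = f * e₀ * f⁻¹ := ⟨_, rfl⟩
  have he₁E : e₁ ∈ ee V (z * y) := by
    have := conj_mem_ee (h.kq_le_normalizer hz hz1 hfV) he₀
    rw [hfy] at this
    rwa [he₁]
  have he₁e : e₁ * e₁ = 1 := h.sq hs hs1 e₁ he₁E.1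
  have hg₁k : g₀ * e₀ ∈ kq V z := mul_mem hg₀k (he₀.2 z hz hz1)
  have hzz := h.ln.sq z hz
  have hzg₀ : z * g₀ = g₀ * z := h.V_comm hz hg₀V
  have hze₀ : z * e₀ = e₀ * z := h.V_comm hz he₀V
  have hg₁q : (g₀ * e₀) * q = q * (g₀ * e₀) := by
    apply comm_of_conj_eq
    calc g₀ * e₀ * q * (g₀ * e₀)⁻¹ = g₀ * (e₀ * q * e₀⁻¹) * g₀⁻¹ := by group
      _ = (g₀ * z) * q * g₀⁻¹ := by rw [he₀q]; group
      _ = z * (g₀ * q * g₀⁻¹) := by rw [← hzg₀]; group
      _ = (z * z) * q := by rw [h3]; group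
      _ = q := by rw [hzz, one_mul]
  -- `j = [g₁, f] = g₀ e₀ e₁ g₀`
  obtain ⟨j, hj⟩ : ∃ j, j = g₀ * (e₀ * e₁) * g₀ := ⟨_, rfl⟩
  have hj1 : j = (g₀ * e₀) * (f * (g₀ * e₀)⁻¹ * f⁻¹) := by
    have e1 : f * (g₀ * e₀)⁻¹ * f⁻¹ = (f * e₀ * f⁻¹)⁻¹ * (f * g₀ * f⁻¹)⁻¹ := by group
    rw [e1, hfg₀, ← he₁, inv_inv, inv_eq_self he₁e, hj]
    group
  have hjL : j ∈ ws L q := by
    have h4 := S.cent_L h (mul_mem hg₀V he₀V) hg₁q
    have h5 := conj_mem_of_normalizer (h'.cent_norm S.hq) h4 hf.1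
    have e1 : j = (g₀ * e₀ * f * (g₀ * e₀)⁻¹) * f⁻¹ := by rw [hj1]; group
    rw [e1]
    exact mul_mem h5 (inv_mem hf.1)
  -- `j` commutes with `e₀`
  have hje : j * e₀ = e₀ * j := by
    have h4 : e₀ * b₁ = b₁ * e₀ := h.comm S.hy S.hy1 _ he₀.1 _ hb₁
    have h5 : e₀ * e₁ = e₁ * e₀ := h.ee_comm S.hy S.hy1 hs hs1 he₀ he₁E
    rcases h.kq_or hs (he₀.2 _ hs hs1) hcs with e1 | e1
    · have h6 : g₀ * e₀ = e₀ * g₀ := by
        calc g₀ * e₀ = b₁ * (c * e₀) := by rw [hg₀]; group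
          _ = (b₁ * e₀) * c := by rw [← e1]; group
          _ = e₀ * g₀ := by rw [← h4, hg₀]; group
      calc j * e₀ = g₀ * (e₀ * e₁) * (g₀ * e₀) := by rw [hj]; group
        _ = g₀ * (e₀ * e₁) * (e₀ * g₀) := by rw [h6]
        _ = (g₀ * e₀) * (e₁ * e₀) * g₀ := by group
        _ = (e₀ * g₀) * (e₀ * e₁) * g₀ := by rw [h6, h5]
        _ = e₀ * j := by rw [hj]; group
    · have hse := h.V_comm hs he₀V
      have hsg := h.V_comm hs hg₀V
      have hsb := h.V_comm hs hb1V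
      have hse1 := h.V_comm hs (h.ws_le_centralizer_V hs hs1 he₁E.1)
      have hss := h.ln.sq _ hs
      have h6 : e₀ * g₀ = (z * y) * (g₀ * e₀) := by
        calc e₀ * g₀ = (e₀ * b₁) * c := by rw [hg₀]; group
          _ = b₁ * (e₀ * c) := by rw [h4]; group
          _ = (b₁ * (z * y)) * (c * e₀) := by rw [e1]; group
          _ = (z * y) * (g₀ * e₀) := by rw [← hsb, hg₀]; group
      have h7 : g₀ * e₀ = (z * y) * (e₀ * g₀) := by
        rw [h6, ← mul_assoc, hss, one_mul]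
      obtain ⟨s, hsd⟩ : ∃ s, s = z * y := ⟨_, rfl⟩
      rw [← hsd] at h6 h7 hse hsg hsb hss hse1
      calc j * e₀ = g₀ * (e₀ * e₁) * (g₀ * e₀) := by rw [hj]; group
        _ = g₀ * (e₀ * e₁) * (s * (e₀ * g₀)) := by rw [h7]
        _ = g₀ * e₀ * (e₁ * s) * (e₀ * g₀) := by group
        _ = g₀ * e₀ * (s * e₁) * (e₀ * g₀) := by rw [hse1]
        _ = g₀ * (e₀ * s) * (e₁ * e₀) * g₀ := by group
        _ = g₀ * (s * e₀) * (e₁ * e₀) * g₀ := by rw [hse]
        _ = (g₀ * s) * e₀ * (e₁ * e₀) * g₀ := by group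
        _ = (s * g₀) * e₀ * (e₁ * e₀) * g₀ := by rw [hsg]
        _ = s * (g₀ * e₀) * (e₁ * e₀) * g₀ := by group
        _ = s * (s * (e₀ * g₀)) * (e₀ * e₁) * g₀ := by rw [h7, h5]
        _ = (s * s) * (e₀ * (g₀ * (e₀ * e₁) * g₀)) := by group
        _ = e₀ * j := by rw [hss, one_mul, hj]
  have hjI : j ∈ ii L := h'.mem_ii_of_move S.hq S.hq1 hzL hz1 (Ne.symm S.hqz) he₀q hjL hje
  -- `j = g₀² e' e''`, `e' ∈ E_y`, `e'' ∈ E_s`
  have hgn := centralizer_le_normalizer _ hg₀V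
  have hgy : g₀⁻¹ * y * g₀ = y := by
    calc g₀⁻¹ * y * g₀ = g₀⁻¹ * (y * g₀) := by group
      _ = y := by rw [h.V_comm S.hy hg₀V]; group
  have hgs : g₀⁻¹ * (z * y) * g₀ = z * y := by
    calc g₀⁻¹ * (z * y) * g₀ = g₀⁻¹ * ((z * y) * g₀) := by group
      _ = z * y := by rw [h.V_comm hs hg₀V]; group
  obtain ⟨e', he'⟩ : ∃ e', e' = g₀⁻¹ * e₀ * g₀ := ⟨_, rfl⟩
  obtain ⟨e'', he''⟩ : ∃ e'', e'' = g₀⁻¹ * e₁ * g₀ := ⟨_, rfl⟩
  have he'E : e' ∈ ee V y := by
    have := conj_mem_ee (inv_mem hgn) he₀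
    rw [inv_inv, hgy] at this
    rwa [he']
  have he''E : e'' ∈ ee V (z * y) := by
    have := conj_mem_ee (inv_mem hgn) he₁E
    rw [inv_inv, hgs] at this
    rwa [he'']
  have hgg : g₀ * g₀ ∈ ii V := by
    have e1 : g₀ * g₀ = ⁅b₁, c⁆ := by
      rw [commutatorElement_def, hb1i, hci, hg₀]; group
    rw [e1]
    exact h.comm_ii_mem S.hy S.hy1 hs hs1 hb₁ hcs
  have hj2 : j = (g₀ * g₀) * (e' * e'') := by rw [hj, he', he'']; group
  refine ⟨j, hjI, ⟨?_, fun p hp hp1 => ?_⟩, fun b hb htw hc' => ?_⟩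
  · rw [← hws]
    exact ii_le hzL hz1 hjI
  · rw [hj2]
    exact mul_mem ((h.ii_le_ee S.hy S.hy1 hgg).2 p hp hp1) (mul_mem (he'E.2 p hp hp1) (he''E.2 p hp hp1))
  · -- `e''` commutes with `b`, hence with `q`
    have h4 : (g₀ * g₀) * b = b * (g₀ * g₀) := h.comm S.hy S.hy1 _ (ii_le S.hy S.hy1 hgg) _ hb
    have h5 : e' * b = b * e' := h.comm S.hy S.hy1 _ he'E.1 _ hb
    have h6 : e'' * b = b * e'' := by
      have e1 : e'' = (g₀ * g₀ * e')⁻¹ * j := by rw [hj2]; group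
      rw [e1]
      exact mul_comm_of (inv_comm_of (mul_comm_of h4 h5)) hc'
    have h7 := (h.twin_iff hz hz1 S.hy S.hy1 S.hyz he''E hqw htw).mpr h6
    -- but it moves `q`
    have h8 : g₀⁻¹ * q * g₀ = z * q := by
      calc g₀⁻¹ * q * g₀ = g₀⁻¹ * (z * z) * q * g₀ := by rw [hzz]; group
        _ = g₀⁻¹ * z * (z * q) * g₀ := by group
        _ = g₀⁻¹ * z * (g₀ * q * g₀⁻¹) * g₀ := by rw [h3]
        _ = g₀⁻¹ * (z * g₀) * q := by group
        _ = z * q := by rw [hzg₀]; group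
    have h9 : e₁ * q * e₁⁻¹ = z * q := by
      calc e₁ * q * e₁⁻¹ = f * (e₀ * (f⁻¹ * q * f) * e₀⁻¹) * f⁻¹ := by rw [he₁]; group
        _ = f * (e₀ * q * e₀⁻¹) * f⁻¹ := by
          have e1 : f⁻¹ * q * f = q := by
            calc f⁻¹ * q * f = f⁻¹ * (q * f) := by group
              _ = q := by rw [← hfq]; group
          rw [e1]
        _ = (f * z) * q * f⁻¹ := by rw [he₀q]; group
        _ = z * (f * q * f⁻¹) := by rw [h.kq_p hfV]; group
        _ = z * q := by rw [conj_eq_of_comm hfq]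
    have h10 : e'' * q * e''⁻¹ = z * q := by
      have hze₁ := h.V_comm hz (h.ws_le_centralizer_V hs hs1 he₁E.1)
      calc e'' * q * e''⁻¹ = g₀⁻¹ * (e₁ * (g₀ * q * g₀⁻¹) * e₁⁻¹) * g₀ := by rw [he'']; group
        _ = g₀⁻¹ * ((e₁ * z) * q * e₁⁻¹) * g₀ := by rw [h3]; group
        _ = g₀⁻¹ * (z * (e₁ * q * e₁⁻¹)) * g₀ := by rw [← hze₁]; group
        _ = g₀⁻¹ * ((z * z) * q) * g₀ := by rw [h9]; group
        _ = z * q := by rw [hzz, one_mul, h8]
    rw [conj_eq_of_comm h7] at h10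
    exact hz1 (by simpa using h10.symm)

/-- (S3) with (S2) -/
theorem three' [Finite G] {b₁ b : G} (hb₁ : b₁ ∈ ws V y) (hω : ⁅q, b₁⁆ ∉ ee L z) (hb : b ∈ ws V y)
    (hbq : b * q * b⁻¹ = q ∨ b * q * b⁻¹ = z * q) : b ∈ ee V y := by
  rcases S.two h hN hb hbq with e | e
  · exact e
  · obtain ⟨j, hj, hjE, hf⟩ := S.three h hN hb₁ hω
    exact absurd (S.not_move h hN hj hjE hb hbq) (hf b hb e)

end SyP

end Cfsg.Agent.Omega.NO3S.TwoOne

end
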