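import Cfsg.Agent.Mrg.Omega.NO3S.TwoOne.TvBigB
import Cfsg.Agent.Mrg.Omega.NO3S.TwoOne.LThreeC
import Cfsg.Agent.Mrg.Omega.NO3S.TwoOne.LocA
import Cfsg.Agent.Involutions.BaerSuzuki
import Cfsg.Agent.Mrg.Omega.NO3S.TwoOne.Cases

section


/-!
# NO-3S, `CompP`: the case `k ≥ 2`, `A` consists of `λ`-transvections

* `tvBigP : St1762 → TvBigP K` : `|W_z| = 16` (`TvBig.Set1.card_ws`) and the exit S1762 (helper46, `LThree.lean`).
-/

set_option autoImplicit false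

namespace Cfsg.Agent.Omega.NO3S.TwoOne

open Subgroup Cfsg Cfsg.Agent.Omega.MinPar Cfsg.Agent.Omega.Frame Cfsg.Agent.Omega.FrameNOFF
open Cfsg.Agent.ZN (zl zc o2)
open Cfsg.Agent.MinSimple.Geo (ws kq)
open Cfsg.Agent.Omega.NO3S.Fit Cfsg.Agent.Omega.NO3S.TvBig

universe u

variable {G : Type u} [Group G] {T V : Subgroup G} {z : G}

/-- `k ≥ 2` -/
theorem One.four_le [Finite G] (h : One T V z) (hk : ¬ KOne V) {M H : Type u} [AddCommGroup M] [Group H] [Finite H]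
    [DistribMulAction H M] (R : MRep V cg z M H) {y : G} (hy : y ∈ V) (hy1 : y ≠ 1) (hyz : y ≠ z) :
    4 ≤ Nat.card (a0 R y) := by
  have hz := h.ln.z_mem
  have hz1 := h.ln.z_ne
  have hc := h.loc_card R hy hy1 hyz
  have h1 : (ee V z).relIndex (ws V z) ≠ 1 := fun e => h.not_ws_le_ee hz hz1 (relIndex_eq_one.mp e)
  have h2 : (ee V z).relIndex (ws V z) ≠ 2 := fun e => hk fun p hp hp1 => by
    rw [h.relIndex_ee_ws hp hp1 hz hz1, e]
  have : Fact (Nat.Prime 2) := ⟨Nat.prime_two⟩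
  have hp : IsPGroup 2 (a0 R y) := by
    rintro ⟨a, ha⟩
    refine ⟨1, Subtype.ext ?_⟩
    change a ^ 2 ^ 1 = 1
    rw [pow_one, pow_two]
    exact h.loc_sq R hy hy1 hyz ha
  obtain ⟨n, hn⟩ := IsPGroup.iff_card.mp hp
  rw [← hc] at h1 h2
  rw [hn] at h1 h2 ⊢
  have h3 : 2 ≤ n := by
    by_contra hcon
    interval_cases n
    · exact h1 rfl
    · exact h2 rfl
  calc 4 = 2 ^ 2 := by norm_num
    _ ≤ 2 ^ n := Nat.pow_le_pow_right (by norm_num) h3

variable (K : Cls.{u})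

/-- **`k ≥ 2`, transvections** -/
theorem tvBigP (h62 : Exits.St1762.{u}) : TvBigP K := by
  intro G _ _ hK S P h z ho hC M H _ _ _ _ _ _ R hcen
  obtain ⟨y, hy, hy1, hyz⟩ := ho.ln.exists_y
  have hz := ho.ln.z_mem
  let _ : Module (ZMod 2) M := AddCommGroup.zmodModule (fun m => by rw [two_nsmul]; exact ho.rp_two R m)
  have c := tva ho hC.2 R hcen hy hy1 hyz
  have h4 := ho.four_le hC.1 R hy hy1 hyz
  obtain ⟨B, b⟩ := exists_bk c h4
  have s : Set1 (S : Subgroup G) (zl (S : Subgroup G) P) z R y B := ⟨ho, hC.2, hy, hy1, hyz, c, b, h4⟩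
  have hzc : z ∈ zc (S : Subgroup G) := by
    rw [MinSimple.VModule.mem_zc]
    exact ⟨ho.ln.V_le hz, fun t ht => mem_centralizer_singleton_iff.mp (ho.ln.T_le ht), by
      rw [pow_two]; exact ho.ln.sq z hz⟩
  refine known_of_card h ho.ln.card_V ho hzc ?_ h62
  rw [← ws_four h ho.ln.card_V hzc ho.ln.z_ne]
  exact s.card_ws

end Cfsg.Agent.Omega.NO3S.TwoOne

end

section


/-!
# NO-3S, `q = 2`, `n = 1`: the dictionary between line vectors and lines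

`LnD R y l T' L q` : the line vector `l ∈ LL R y` is `R.pi q`, `q` a point of the line `L` on `z`, and the module data
`AA`, `II`, `AL`, `C_M(A_l)` at `l` are the images of `W_q`, `ii L`, ..., `dd L z`.  `One.exists_ln` : it exists for every `l`.

Consequences (`l, m ∈ LL R y`, planes allowed, `NT V`):
* `One.in_I_symm` : `m ∈ Ī_l ↔ l ∈ Ī_m`; `One.in_D_symm` : `A_l` fixes `m` iff `A_m` fixes `l`;
* `One.in_inf` : `m ∉ Ī_l`: `A_l ∩ A_m = 1`; `One.in_comm_pair` : and they commute if `A_l` fixes `m`;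
* `One.in_D_of_E` (SYM1): `A_l` fixes `m` implies `l ∈ Ē_m`;
* `D_z > I` : `One.in_E_symm` : `m ∈ Ē_l ↔ l ∈ Ē_m`; `One.in_nsix` (N6) : `m ∉ Ē_l` implies `[l, A_m] ≤ Ē_l`;
* `One.in_fun` : every functional of `A_l` is `a ↦ [e, a]` for some `e ∈ Ē_l`;
* `One.exists_spr`, `One.in_dd_rel` : `l ∉ Ē_m`: `D̄_l = Ī_l + (D̄_l ∩ Ī_m)`.
-/

set_option autoImplicit false
set_option linter.unusedSectionVars false

namespace Cfsg.Agent.Omega.NO3S.TwoOne

open Subgroup Cfsg Cfsg.Agent.ZN Cfsg.Agent.MinSimple.Geo Cfsg.Agent.Omega.CaseL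
open Cfsg.Agent.Omega.NO3S.Fit
open Cfsg.Agent.ZN.Block (conj_mem_of_normalizer conj_mem_of_normalizer' le_normalizer_of_forall
  mem_normalizer_of)
open scoped commutatorElement

universe u

variable {G : Type u} [Group G]

/-- the dictionary at a line vector `l` -/
structure LnD {V : Subgroup G} {z : G} {M H : Type u} [AddCommGroup M] [Group H] [DistribMulAction H M]
    (R : MRep V cg z M H) (y : G) (l : M) (T' L : Subgroup G) (q : G) : Prop where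
  one : One T' L z
  mem : L ∈ lines V z
  hq : q ∈ L
  q1 : q ≠ 1
  qz : q ≠ z
  pi : R.pi q = l
  A : ∀ a, a ∈ AA R y l ↔ ∃ b ∈ ws V q, R.phi b = a
  I : ∀ w ∈ ws V z, R.pi w ∈ II R y l ↔ w ∈ ii L
  E : ∀ w ∈ ws V z, AL R y l (R.pi w) = 1 ↔ w ∈ ee L z
  al : ∀ w ∈ ws V z, ∀ b ∈ ws V q, Tw L z w q b → AL R y l (R.pi w) = R.phi b
  D : NT V → ∀ w ∈ ws V z, (∀ a ∈ AA R y l, a • R.pi w = R.pi w) ↔ w ∈ dd L z
  nt : NT V → NT L
  ws : ∀ x, ws L x = ws V x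
  kq : ∀ x, kq L x = kq V x
  cj : ∃ f : G, f * z * f⁻¹ = z ∧ L = cj f V

/-- the lines of a member of the class are the lines of `V` -/
theorem lines_of_lines {V L : Subgroup G} {z : G} (hL : L ∈ lines V z) (x : G) : lines L x = lines V x := by
  obtain ⟨⟨g, rfl⟩, -⟩ := hL
  ext K
  constructor
  · rintro ⟨⟨k, rfl⟩, hx⟩
    exact ⟨⟨k * g, by rw [cj_cj]⟩, hx⟩
  · rintro ⟨⟨k, rfl⟩, hx⟩
    refine ⟨⟨k * g⁻¹, ?_⟩, hx⟩
    rw [cj_cj, inv_mul_cancel_right]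

namespace One

variable {T V : Subgroup G} {z : G} {M H : Type u} [AddCommGroup M] [Group H] [DistribMulAction H M]
  (h : One T V z) (R : MRep V cg z M H) {y : G} (hy : y ∈ V) (hy1 : y ≠ 1) (hyz : y ≠ z)
include h hy hy1 hyz

theorem AA_self [Finite G] : AA R y (R.pi y) = a0 R y := by
  ext a
  rw [h.mem_AA R hy hy1 hyz (one_smul H _)]
  simp

theorem II_self [Finite G] : II R y (R.pi y) = i0 R := by
  ext a
  rw [h.mem_II R hy hy1 hyz (one_smul H _)]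
  simp

theorem AL_pi_self [Finite G] (m : M) : AL R y (R.pi y) m = al0 R y m := by
  rw [h.AL_eq R hy hy1 hyz (one_smul H _)]
  simp

theorem pi_mem_i0 [Finite G] {w : G} (hw : w ∈ ws V z) : R.pi w ∈ i0 R ↔ w ∈ ii V := by
  rw [h.mem_i0 R]
  constructor
  · rintro ⟨u, hu, e⟩
    rcases (h.rp_eq R (ii_le h.ln.z_mem h.ln.z_ne hu) hw).mp e with e1 | e1
    · rw [← e1]; exact hu
    · have h3 := mul_mem (inv_mem (h.V_le_ii h.ln.z_mem)) hu
      rwa [e1, inv_mul_cancel_left] at h3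
  · intro hw'
    exact ⟨w, hw', rfl⟩

/-- **the dictionary** -/
theorem exists_ln [Finite G] {l : M} (hl : l ∈ LL R y) : ∃ (T' L : Subgroup G) (q : G), LnD R y l T' L q := by
  obtain ⟨T', V', q, h', R', hmem, hq, hq1, hqz, hpi, hphi, hql, hLL, hA, hI, hal, hnt, -, f, hfz, hf⟩ :=
    h.base R hy hy1 hyz hl
  have hws : ∀ x, ws V' x = ws V x := fun x => by rw [hf, ws_cj]
  have hkq : ∀ x, kq V' x = kq V x := fun x => by rw [hf, kq_cj]
  have hl' : R'.pi q = l := by rw [hpi]; exact hql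
  refine ⟨T', V', q, h', hmem, hq, hq1, hqz, hql, ?_, ?_, ?_, ?_, ?_, hnt, hws, hkq, f, hfz, hf⟩
  · intro a
    rw [← hA l hl, ← hl', h'.AA_self R' hq hq1 hqz, h'.mem_a0 R' hq hq1, hphi, hws]
  · intro w hw
    rw [← hI l hl, ← hl', h'.II_self R' hq hq1 hqz, ← hpi, h'.pi_mem_i0 R' hq hq1 hqz (by rw [hws]; exact hw)]
  · intro w hw
    rw [← hal l hl, ← hl', h'.AL_pi_self R' hq hq1 hqz, ← hpi, h'.al0_one R' hq hq1 hqz (by rw [hws]; exact hw)]
  · intro w hw b hb ht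
    rw [← hal l hl, ← hl', h'.AL_pi_self R' hq hq1 hqz, ← hpi,
      h'.al0_eq R' hq hq1 hqz (by rw [hws]; exact hw) (by rw [hws]; exact hb) ht, hphi]
  · intro hN w hw
    rw [← hA l hl, ← hl', h'.AA_self R' hq hq1 hqz, ← hpi]
    exact h'.loc_D R' hq hq1 hqz (hnt hN) (by rw [hws]; exact hw)

end One

/-! ### relations between two line vectors -/

namespace LnD

variable {T V : Subgroup G} {z : G} {M H : Type u} [AddCommGroup M] [Group H] [DistribMulAction H M]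
  {R : MRep V cg z M H} {y q r : G} {l m : M} {T₁ T₂ L K : Subgroup G}

theorem lines (a : LnD R y l T₁ L q) (b : LnD R y m T₂ K r) : K ∈ MinSimple.Geo.lines L z := by
  rw [lines_of_lines a.mem]; exact b.mem

theorem q_ws (_ : One T V z) (a : LnD R y l T₁ L q) : q ∈ MinSimple.Geo.ws V z := le_ws a.mem a.hq

/-- two elements of `W_z` -/
theorem cz (_ : One T V z) (a : LnD R y l T₁ L q) {b : G} (hb : b ∈ MinSimple.Geo.ws V q) :
    b ∈ centralizer ({z} : Set G) := a.one.ws_le_cz a.hq a.q1 (by rw [a.ws]; exact hb)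

end LnD

namespace One

variable {T V : Subgroup G} {z : G} {M H : Type u} [AddCommGroup M] [Group H] [DistribMulAction H M]
  (h : One T V z) (R : MRep V cg z M H) {y : G} (hy : y ∈ V) (hy1 : y ≠ 1) (hyz : y ≠ z)
include h hy hy1 hyz

/-- planes are symmetric -/
theorem in_I_symm [Finite G] {l m : M} (hl : l ∈ LL R y) (hm : m ∈ LL R y) (hml : m ∈ II R y l) :
    l ∈ II R y m := by
  obtain ⟨T₁, L, q, a⟩ := h.exists_ln R hy hy1 hyz hl
  obtain ⟨T₂, K, r, b⟩ := h.exists_ln R hy hy1 hyz hm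
  have hq := a.q_ws h
  have hr := b.q_ws h
  rw [← a.pi, b.I q hq]
  rw [← b.pi, a.I r hr] at hml
  exact a.one.ii_symm (a.lines b) a.hq a.q1 b.hq b.q1 b.qz hml

/-- `A_l` fixes `m` iff `A_m` fixes `l` -/
theorem in_D_symm [Finite G] (hN : NT V) {l m : M} (hl : l ∈ LL R y) (hm : m ∈ LL R y)
    (hml : ∀ a ∈ AA R y l, a • m = m) : ∀ a ∈ AA R y m, a • l = l := by
  obtain ⟨T₁, L, q, a⟩ := h.exists_ln R hy hy1 hyz hl
  obtain ⟨T₂, K, r, b⟩ := h.exists_ln R hy hy1 hyz hm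
  rw [← b.pi, a.D hN r (b.q_ws h)] at hml
  have h1 := (b.D hN q (a.q_ws h)).mpr
    ((a.one.dd_iff (a.nt hN) (a.lines b) a.hq a.q1 a.qz b.hq b.q1 b.qz).mp hml)
  rw [a.pi] at h1
  exact h1

/-- (SYM1) -/
theorem in_D_of_E [Finite G] (hN : NT V) {l m : M} (hl : l ∈ LL R y) (hm : m ∈ LL R y)
    (hml : ∀ a ∈ AA R y l, a • m = m) : AL R y m l = 1 := by
  obtain ⟨T₁, L, q, a⟩ := h.exists_ln R hy hy1 hyz hl
  obtain ⟨T₂, K, r, b⟩ := h.exists_ln R hy hy1 hyz hm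
  rw [← b.pi, a.D hN r (b.q_ws h)] at hml
  have h1 := a.one.ee_of_dd (a.nt hN) (a.lines b) a.hq a.q1 a.qz b.hq b.q1 b.qz hml
  rw [← a.pi, b.E q (a.q_ws h)]
  exact h1

/-- `A_l ∩ A_m = 1` if `l`, `m` are not coplanar -/
theorem in_inf [Finite G] (hN : NT V) {l m : M} (hl : l ∈ LL R y) (hm : m ∈ LL R y)
    (hml : m ∉ II R y l) {c : H} (hc : c ∈ AA R y l) (hc' : c ∈ AA R y m) : c = 1 := by
  obtain ⟨T₁, L, q, a⟩ := h.exists_ln R hy hy1 hyz hl
  obtain ⟨T₂, K, r, b⟩ := h.exists_ln R hy hy1 hyz hm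
  obtain ⟨w, hw, rfl⟩ := (a.A c).mp hc
  obtain ⟨w', hw', e⟩ := (b.A _).mp hc'
  have hwc := a.cz h hw
  have hwc' := b.cz h hw'
  by_contra hne
  apply hml
  rw [← b.pi, a.I r (b.q_ws h)]
  refine a.one.nt_ti_mem (a.nt hN) (a.lines b) a.hq a.q1 b.hq b.q1 b.qz (a := w) (a' := w') (by rw [a.ws]; exact hw)
    ?_ (by rw [a.ws]; exact hw') ?_
  · rw [a.kq]
    intro hk
    exact hne ((h.phi_eq_one R hwc).mpr hk)
  · rw [a.kq]
    exact (h.rp_phi R hwc hwc').mp e.symm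

/-- `A_l` fixes `m`, not coplanar: `A_l`, `A_m` commute -/
theorem in_comm_pair [Finite G] (hN : NT V) {l m : M} (hl : l ∈ LL R y) (hm : m ∈ LL R y)
    (hml : ∀ a ∈ AA R y l, a • m = m) (hml' : m ∉ II R y l) {c d : H} (hc : c ∈ AA R y l) (hd : d ∈ AA R y m) :
    c * d = d * c := by
  have hlm := h.in_D_symm R hy hy1 hyz hN hl hm hml
  -- `[c, d] ∈ A_l ∩ A_m`
  have h1 : c * d * c⁻¹ ∈ AA R y m := by
    have := h.in_A_conj R hy hy1 hyz hm (x := c) hd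
    rwa [hml c hc] at this
  have h2 : d * c⁻¹ * d⁻¹ ∈ AA R y l := by
    have := h.in_A_conj R hy hy1 hyz hl (x := d) (inv_mem hc)
    rwa [hlm d hd] at this
  have h3 : c * d * c⁻¹ * d⁻¹ ∈ AA R y m := mul_mem h1 (inv_mem hd)
  have h4 : c * d * c⁻¹ * d⁻¹ ∈ AA R y l := by
    have e : c * d * c⁻¹ * d⁻¹ = c * (d * c⁻¹ * d⁻¹) := by group
    rw [e]; exact mul_mem hc h2
  have h5 := h.in_inf R hy hy1 hyz hN hl hm hml' h4 h3
  calc c * d = (c * d * c⁻¹ * d⁻¹) * (d * c) := by group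
    _ = d * c := by rw [h5, one_mul]

/-- `D_z > I` at one line gives an element at every line -/
theorem exists_dd_of [Finite G] (hD : ¬ dd V z ≤ ii V) {L : Subgroup G} (hL : L ∈ lines V z) {q : G} (hq : q ∈ L)
    (hq1 : q ≠ 1) : ∃ d ∈ dd L q, d ∉ ii L := by
  obtain ⟨c, hc, hcI⟩ := SetLike.not_le_iff_exists.mp hD
  -- to the point `y`
  obtain ⟨g, hg, hgz⟩ := h.xl_trans h.ln.z_mem h.ln.z_ne hy hy1
  have hgn := h.xl_le_normalizer hg
  have h1 := conj_mem_dd hgn hc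
  rw [hgz] at h1
  have h2 : g * c * g⁻¹ ∉ ii V := fun e => hcI (by
    have := conj_mem_of_normalizer' (normalizer_le_normalizer_ii V) hgn e
    have e' : g⁻¹ * (g * c * g⁻¹) * g = c := by group
    rwa [e'] at this)
  exact h.exists_dd_line hL h1 hy hy1 h2 hq hq1

/-- `D_z > I` : `m ∈ Ē_l ↔ l ∈ Ē_m` -/
theorem in_E_symm [Finite G] (hN : NT V) (hD : ¬ dd V z ≤ ii V) {l m : M} (hl : l ∈ LL R y) (hm : m ∈ LL R y)
    (hml : AL R y l m = 1) : AL R y m l = 1 := by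
  obtain ⟨T₁, L, q, a⟩ := h.exists_ln R hy hy1 hyz hl
  obtain ⟨T₂, K, r, b⟩ := h.exists_ln R hy hy1 hyz hm
  obtain ⟨d, hd, hdI⟩ := h.exists_dd_of hy hy1 hyz hD a.mem a.hq a.q1
  rw [← b.pi, a.E r (b.q_ws h)] at hml
  rw [← a.pi, b.E q (a.q_ws h)]
  exact (a.one.ee_iff (a.nt hN) (a.lines b) a.hq a.q1 a.qz b.hq b.q1 b.qz hd hdI).mp hml

/-- **(N6)** : `D_z > I`, `m ∉ Ē_l` : `[l, A_m] ≤ Ē_l` -/
theorem in_nsix [Finite G] (hN : NT V) (hD : ¬ dd V z ≤ ii V) {l m : M} (hl : l ∈ LL R y) (hm : m ∈ LL R y)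
    (hml : AL R y l m ≠ 1) {c : H} (hc : c ∈ AA R y m) : AL R y l (c • l + l) = 1 := by
  obtain ⟨T₁, L, q, a⟩ := h.exists_ln R hy hy1 hyz hl
  obtain ⟨T₂, K, r, b⟩ := h.exists_ln R hy hy1 hyz hm
  obtain ⟨d, hd, hdI⟩ := h.exists_dd_of hy hy1 hyz hD a.mem a.hq a.q1
  obtain ⟨w, hw, rfl⟩ := (b.A c).mp hc
  rw [← b.pi, ne_eq, a.E r (b.q_ws h)] at hml
  have hq := a.q_ws h
  have hwq : w * q * w⁻¹ ∈ ws V z := by
    have := conj_mem_ws w hq
    rwa [conj_eq_of_comm (mem_centralizer_singleton_iff.mp (b.cz h hw))] at this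
  have h1 := a.one.nsix_nt (a.nt hN) (a.lines b) a.hq a.q1 a.qz b.hq b.q1 b.qz hd hdI hml (w := w)
    (by rw [a.ws]; exact hw)
  rw [← a.pi, h.rp_comm R (b.cz h hw) hq hwq, a.pi, a.E _ (mul_mem hwq (inv_mem hq))]
  exact h1

/-- every functional of `A_l` is `a ↦ [e, a]`, `e ∈ Ē_l` -/
theorem in_fun [Finite G] (hN : NT V) {l : M} (hl : l ∈ LL R y) {X : Subgroup H}
    (h2 : X.relIndex (AA R y l) = 2) : ∃ e : M, AL R y l e = 1 ∧ ∀ a ∈ AA R y l, a • e = e ↔ a ∈ X := by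
  obtain ⟨T₁, L, q, a⟩ := h.exists_ln R hy hy1 hyz hl
  have hz1 := h.ln.z_ne
  have hLz := a.one.ln.z_mem
  -- the preimage of `X` in `W_q`
  have hle : ws V q ≤ cg z := fun b hb => a.cz h hb
  let f : ws V q →* H := (R.hom).comp (Subgroup.inclusion hle)
  have hf : ∀ b : ws V q, f b = R.phi b := fun b => rfl
  let X' : Subgroup G := (X.comap f).map (ws V q).subtype
  have hX' : ∀ b, b ∈ X' ↔ b ∈ ws V q ∧ R.phi b ∈ X := by
    intro b
    constructor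
    · rintro ⟨b, hb, rfl⟩
      exact ⟨b.2, hb⟩
    · rintro ⟨hb, hb'⟩
      exact ⟨⟨b, hb⟩, hb', rfl⟩
  have hXw : X' ≤ ws V q := fun b hb => ((hX' b).mp hb).1
  have hidx : X'.relIndex (ws V q) = 2 := by
    have e1 : X'.subgroupOf (ws V q) = X.comap f := by
      ext b
      rw [mem_subgroupOf, hX', mem_comap]
      exact ⟨fun hb => hb.2, fun hb => ⟨b.2, hb⟩⟩
    have e2 : f.range = AA R y l := by
      ext x
      rw [a.A, MonoidHom.mem_range]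
      constructor
      · rintro ⟨b, rfl⟩
        exact ⟨b, b.2, rfl⟩
      · rintro ⟨b, hb, rfl⟩
        exact ⟨⟨b, hb⟩, rfl⟩
    change (X'.subgroupOf (ws V q)).index = 2
    rw [e1, index_comap, e2]; exact h2
  have hE : ee L q ≤ X' := by
    intro b hb
    have hbq : b ∈ ws V q := by rw [← a.ws]; exact hb.1
    rw [hX']
    refine ⟨hbq, ?_⟩
    have hk := hb.2 z hLz hz1
    rw [a.kq] at hk
    rw [(h.phi_eq_one R (a.cz h hbq)).mpr hk]
    exact one_mem X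
  obtain ⟨e, he, heX⟩ := a.one.nt_fun_ee (a.nt hN) hLz hz1 a.hq a.q1 a.qz hE (by rw [a.ws]; exact hXw)
    (by rw [a.ws]; exact hidx)
  have hez : e ∈ ws V z := by
    have := he.1
    rwa [a.ws] at this
  refine ⟨R.pi e, (a.E e hez).mpr he, ?_⟩
  intro c hc
  obtain ⟨b, hb, rfl⟩ := (a.A c).mp hc
  have hbL : b ∈ ws L q := by rw [a.ws]; exact hb
  have hbe : b * e * b⁻¹ ∈ ws V z := by
    have := conj_mem_ws b hez
    rwa [conj_eq_of_comm (mem_centralizer_singleton_iff.mp (a.cz h hb))] at this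
  have h3 := heX b hbL
  rw [hX'] at h3
  have h4 : R.phi b • R.pi e = R.pi e ↔ e * b = b * e := by
    rw [h.rp_act R (a.cz h hb) hez, h.rp_eq R hbe hez]
    constructor
    · rintro (e1 | e1)
      · exact (comm_of_conj_eq e1).symm
      · exfalso
        -- `[b, e] = z ∈ ⟨q⟩`
        rcases a.one.ee_cases a.hq a.q1 he hbL with e2 | e2
        · rw [commutatorElement_eq_one_iff_mul_comm] at e2
          rw [conj_eq_of_comm e2.symm] at e1
          exact hz1 (by simpa using e1.symm)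
        · have e3 : ⁅b, e⁆ = q := by
            rw [a.one.comm_swap hLz hz1 a.hq a.q1 (by rw [a.ws]; exact hez) hbL]; exact e2
          have e4 : b * e * b⁻¹ = q * e := by
            calc b * e * b⁻¹ = ⁅b, e⁆ * e := by rw [commutatorElement_def]; group
              _ = q * e := by rw [e3]
          rw [e4] at e1
          exact a.qz (mul_right_cancel e1)
    · intro e1
      left
      exact conj_eq_of_comm e1.symm
  rw [h4, h3]
  exact ⟨fun hx => hx.2, fun hx => ⟨hb, hx⟩⟩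

/-- an asymmetric pair of lines is an `Spr` -/
theorem exists_spr [Finite G] {L K : Subgroup G} {q r : G} (hK : K ∈ lines L z) (hq : q ∈ L)
    (hq1 : q ≠ 1) (hqz : q ≠ z) (hr : r ∈ K) (hr1 : r ≠ 1) (hrz : r ≠ z) {T₁ : Subgroup G} (hL : One T₁ L z)
    (hNL : NT L) (hlm : q ∉ ee K z) : ∃ e g, Spr L K z q r e g := by
  have hz := hL.ln.z_mem
  have hz1 := hL.ln.z_ne
  obtain ⟨-, -, T', h'⟩ := hL.of_line hK hz1
  have hzK := h'.ln.z_mem
  have hNK : NT K := hNL.of_lines hK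
  have hqw : q ∈ ws K z := by
    rw [One.ws_line hK]; exact hL.V_le hz hz1 hq
  obtain ⟨e, he, hey⟩ := h'.nt_move_ee hNK hr hr1 hzK hz1 (Ne.symm hrz) hqw hlm
  have hrw : r ∈ ws L z := le_ws hK hr
  have hrD : r ∉ dd L z := fun hd => hlm (hL.ee_of_dd hNL hK hq hq1 hqz hr hr1 hrz hd)
  obtain ⟨g, hg, -, hgr⟩ := hL.nt_move_dd hNL hz hz1 hrw hrD
  exact ⟨e, g, hK, hq, hq1, hqz, hr, hr1, hrz, he, hey, fun p hp hp1 c hc => dd_comm_fl hc hg, hgr⟩

/-- **(1.2)** : `l ∉ Ē_m` : `D̄_l = Ī_l + (D̄_l ∩ Ī_m)` -/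
theorem in_dd_rel [Finite G] (hN : NT V) {l m : M} (hl : l ∈ LL R y) (hm : m ∈ LL R y)
    (hlm : AL R y m l ≠ 1) {d : M} (hd : ∀ a ∈ AA R y l, a • d = d) :
    ∃ i ∈ II R y l, ∃ j ∈ II R y m, (∀ a ∈ AA R y l, a • j = j) ∧ d = i + j := by
  obtain ⟨T₁, L, q, a⟩ := h.exists_ln R hy hy1 hyz hl
  obtain ⟨T₂, K, r, b⟩ := h.exists_ln R hy hy1 hyz hm
  rw [← a.pi, ne_eq, b.E q (a.q_ws h)] at hlm
  obtain ⟨e, g, S⟩ := h.exists_spr hy hy1 hyz (a.lines b) a.hq a.q1 a.qz b.hq b.q1 b.qz a.one (a.nt hN) hlm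
  obtain ⟨w, hw, rfl⟩ := h.rp_surj R d
  obtain ⟨i, hi, j, hj, hjd, e1⟩ := S.exists_mul a.one ((a.D hN w hw).mp hd)
  have hiw : i ∈ ws V z := by
    rw [← a.ws]; exact ii_le a.one.ln.z_mem a.one.ln.z_ne hi
  have hjw : j ∈ ws V z := by
    rw [← a.ws]; exact hjd.1
  refine ⟨R.pi i, (a.I i hiw).mpr hi, R.pi j, (b.I j hjw).mpr hj, (a.D hN j hjw).mpr hjd, ?_⟩
  rw [e1, h.rp_mul R hiw hjw]

end One

end Cfsg.Agent.Omega.NO3S.TwoOne

end

section


/-!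
# NO-3S, `q = 2`, `n = 1`: planes and odd elements, in the language of the module

`h : One T V z`, `R : MRep V cg z M H`, `hN : NT V`, `y ∈ V`, `y ≠ 1, z`, `l, m ∈ LL R y` (planes allowed):

* `One.in_sum` : `m ∈ Ī_l`, `m ≠ l` : `l + m` is a line vector;
* `One.in_tri` : `a ∈ A_l ∩ A_m`, `a ∈ A_{l+m}` if `m ∈ Ī_l`;
* `One.in_plane` : `l ≠ m`, `1 ≠ a ∈ A_l ∩ A_m` : `l + m ∈ LL R y` and `a ∈ A_{l+m}`;
* `One.in_inj` : `A_l = A_m → l = m`;
* `One.in_o2` : `O₂(H) = 1`;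
* `One.in_bs` : every `a ∈ A_l`, `a ≠ 1`, inverts some `o ≠ 1` of odd order.
-/

set_option autoImplicit false
set_option linter.unusedSectionVars false

namespace Cfsg.Agent.Omega.NO3S.TwoOne

open Subgroup Cfsg Cfsg.Agent.ZN Cfsg.Agent.MinSimple.Geo Cfsg.Agent.Omega.CaseL
open Cfsg.Agent.Omega.NO3S.Fit
open Cfsg.Agent.ZN.Block (conj_mem_of_normalizer conj_mem_of_normalizer' le_normalizer_of_forall
  mem_normalizer_of)
open scoped commutatorElement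

universe u

variable {G : Type u} [Group G]

namespace One

variable {T V : Subgroup G} {z : G} {M H : Type u} [AddCommGroup M] [Group H] [DistribMulAction H M]
  (h : One T V z) (R : MRep V cg z M H) {y : G} (hy : y ∈ V) (hy1 : y ≠ 1) (hyz : y ≠ z)
include h hy hy1 hyz

/-- in a plane: some `c ∈ C_H(A_l)` fixes `l` and maps `m` to `l + m` -/
theorem exists_kt [Finite G] {l m : M} (hl : l ∈ LL R y) (hm : m ∈ LL R y) (hml : m ∈ II R y l) (hne : m ≠ l) :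
    ∃ c : H, c • l = l ∧ c • m = l + m ∧ ∀ a ∈ AA R y l, c * a = a * c := by
  obtain ⟨c, h1, h2, h3, -⟩ := h.in_Kt R hy hy1 hyz hl hml (h.in_ne R hy hy1 hyz hm) hne
  exact ⟨c, h1, by rw [h2, add_comm], h3⟩

/-- in a plane the sum is a line vector -/
theorem in_sum [Finite G] {l m : M} (hl : l ∈ LL R y) (hm : m ∈ LL R y) (hml : m ∈ II R y l) (hne : m ≠ l) :
    l + m ∈ LL R y := by
  obtain ⟨c, -, h2, -⟩ := h.exists_kt R hy hy1 hyz hl hm hml hne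
  rw [← h2]
  exact smul_mem_LL R y c hm

/-- (N3) -/
theorem in_tri [Finite G] {l m : M} (hl : l ∈ LL R y) (hm : m ∈ LL R y) (hml : m ∈ II R y l) (hne : m ≠ l) {a : H}
    (ha : a ∈ AA R y l) (ha' : a ∈ AA R y m) : a ∈ AA R y (l + m) := by
  obtain ⟨c, -, h2, h3⟩ := h.exists_kt R hy hy1 hyz hl hm hml hne
  have h4 := h.in_A_conj R hy hy1 hyz hm (x := c) ha'
  rwa [h3 a ha, mul_inv_cancel_right, h2] at h4

/-- (0.1) of #19417 -/
theorem in_plane [Finite G] (hN : NT V) {l m : M} (hl : l ∈ LL R y) (hm : m ∈ LL R y) (hne : l ≠ m) {a : H}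
    (ha1 : a ≠ 1) (ha : a ∈ AA R y l) (ha' : a ∈ AA R y m) : l + m ∈ LL R y ∧ a ∈ AA R y (l + m) := by
  have hml : m ∈ II R y l := by
    by_contra hml
    exact ha1 (h.in_inf R hy hy1 hyz hN hl hm hml ha ha')
  exact ⟨h.in_sum R hy hy1 hyz hl hm hml (Ne.symm hne), h.in_tri R hy hy1 hyz hl hm hml (Ne.symm hne) ha ha'⟩

/-- THEOREM P: `A_l` determines `l` -/
theorem in_inj [Finite G] {l m : M} (hl : l ∈ LL R y) (hm : m ∈ LL R y) (he : AA R y l = AA R y m) : l = m := by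
  obtain ⟨x, hx⟩ := trans_LL R y hl hm
  have h1 : x • l = l := h.in_norm R hy hy1 hyz hl fun a ha => by
    have h2 := h.in_A_conj R hy hy1 hyz hl (x := x) ha
    rwa [hx, ← he] at h2
  rw [← h1, hx]

include R in
omit hy hy1 hyz in
/-- `O₂(H) = 1` -/
theorem in_o2 [Finite G] {N : Subgroup H} (hN : N.Normal) (h2 : IsPGroup 2 N) : N = ⊥ := by
  rw [eq_bot_iff]
  intro x hx
  obtain ⟨c, hc, rfl⟩ := R.phi_surj x
  have hcg : ∀ c, c ∈ cg z ↔ c ∈ centralizer ({z} : Set G) := fun c => Iff.rfl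
  let P : Subgroup G :=
    { carrier := {c | c ∈ centralizer ({z} : Set G) ∧ R.phi c ∈ N}
      mul_mem' := fun {a b} ha hb => ⟨mul_mem ha.1 hb.1, by
        rw [R.phi_mul a ha.1 b hb.1]; exact mul_mem ha.2 hb.2⟩
      one_mem' := ⟨one_mem _, by
        have := (R.phi_ker 1 (one_mem _)).mpr (one_mem _)
        rw [this]; exact one_mem N⟩
      inv_mem' := fun {a} ha => ⟨inv_mem ha.1, by
        have h1 : R.phi a⁻¹ * R.phi a = 1 := by
          rw [← R.phi_mul a⁻¹ (inv_mem ha.1) a ha.1, inv_mul_cancel]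
          exact (R.phi_ker 1 (one_mem _)).mpr (one_mem _)
        rw [eq_inv_of_mul_eq_one_left h1]
        exact inv_mem ha.2⟩ }
  have hle : P ≤ kq V z := by
    refine h.le_kq (fun c hc => hc.1) (le_normalizer_of_forall fun d hd c hc => ⟨?_, ?_⟩) fun c hc => ?_
    · exact mul_mem (mul_mem hd hc.1) (inv_mem hd)
    · have hdi : R.phi d⁻¹ = (R.phi d)⁻¹ := by
        refine eq_inv_of_mul_eq_one_left ?_
        rw [← R.phi_mul d⁻¹ (inv_mem hd) d hd, inv_mul_cancel]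
        exact (R.phi_ker 1 (one_mem _)).mpr (one_mem _)
      rw [R.phi_mul _ (mul_mem hd hc.1) _ (inv_mem hd), R.phi_mul d hd c hc.1, hdi]
      exact hN.conj_mem _ hc.2 _
    · obtain ⟨n, hn⟩ := h2 ⟨R.phi c, hc.2⟩
      refine ⟨n, ?_⟩
      have hpow : ∀ k : ℕ, R.phi (c ^ k) = R.phi c ^ k := by
        intro k
        induction k with
        | zero =>
          rw [pow_zero, pow_zero]
          exact (R.phi_ker 1 (one_mem _)).mpr (one_mem _)
        | succ k ih => rw [pow_succ, pow_succ, R.phi_mul _ (pow_mem hc.1 k) c hc.1, ih]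
      rw [← h.phi_eq_one R (pow_mem hc.1 _), hpow]
      exact congrArg Subtype.val hn
  rw [mem_bot]
  exact (h.phi_eq_one R hc).mpr (hle ⟨hc, hx⟩)

/-- Baer–Suzuki: every `a ∈ A_l#` inverts some `o ≠ 1` of odd order -/
theorem in_bs [Finite G] [Finite H] {l : M} (hl : l ∈ LL R y) {a : H} (ha : a ∈ AA R y l) (ha1 : a ≠ 1) :
    ∃ o : H, o ≠ 1 ∧ Odd (orderOf o) ∧ a * o * a⁻¹ = o⁻¹ := by
  refine Involutions.BaerSuzuki.exists_odd_inverted a (h.in_sq R hy hy1 hyz hl ha) fun h2 => ha1 ?_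
  have h3 := h.in_o2 R (N := normalClosure {a}) normalClosure_normal h2
  have h4 : a ∈ normalClosure ({a} : Set H) := subset_normalClosure (Set.mem_singleton a)
  rwa [h3, mem_bot] at h4

end One

end Cfsg.Agent.Omega.NO3S.TwoOne

end

section


/-!
# NO-3S, `q = 2`, `n = 1`, `k ≥ 2`: far pairs

* `One.four_of_not_kOne` : `¬ KOne V` : `4 ≤ |W_z : E_z|`;
* `One.in_four` : `4 ≤ |A_l|`;
* `One.exists_far` : for `l ∈ LL R y` some `m ∈ LL R y` with `AL R y l m ≠ 1`.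
-/

set_option autoImplicit false
set_option linter.unusedSectionVars false

namespace Cfsg.Agent.Omega.NO3S.TwoOne

open Subgroup Cfsg Cfsg.Agent.ZN Cfsg.Agent.MinSimple.Geo Cfsg.Agent.Omega.CaseL
open Cfsg.Agent.Omega.NO3S.Fit
open scoped commutatorElement

universe u

variable {G : Type u} [Group G]

namespace One

variable {T V : Subgroup G} {z : G}

/-- `k ≥ 2` -/
theorem four_of_not_kOne [Finite G] (h : One T V z) (hk : ¬ KOne V) :
    4 ≤ (ee V z).relIndex (ws V z) := by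
  have hfact : Fact (Nat.Prime 2) := ⟨Nat.prime_two⟩
  have hz := h.ln.z_mem
  have hz1 := h.ln.z_ne
  have h1 : (ee V z).relIndex (ws V z) ≠ 2 := fun e => hk fun p hp hp1 => by
    rw [h.relIndex_ee_ws hp hp1 hz hz1, e]
  have h2 : (ee V z).relIndex (ws V z) ≠ 1 := fun e => by
    exact h.not_ws_le_ee hz hz1 (relIndex_eq_one.mp e)
  have hP : IsPGroup 2 (ws V z) := fun x => ⟨1, by
    have := h.sq hz hz1 x x.2
    ext
    rw [pow_one, pow_two]
    exact this⟩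
  obtain ⟨n, hn⟩ := IsPGroup.iff_card.mp hP
  have h3 : (ee V z).relIndex (ws V z) ∣ 2 ^ n := hn ▸ relIndex_dvd_card _ _
  obtain ⟨k, -, hk'⟩ := (Nat.dvd_prime_pow Nat.prime_two).mp h3
  rw [hk'] at h1 h2 ⊢
  have h4 : 2 ≤ k := by
    rcases k with _ | _ | k
    · exact absurd rfl h2
    · exact absurd rfl h1
    · omega
  calc 4 = 2 ^ 2 := by norm_num
    _ ≤ 2 ^ k := Nat.pow_le_pow_right (by norm_num) h4

variable {M H : Type u} [AddCommGroup M] [Group H] [DistribMulAction H M]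
  (h : One T V z) (R : MRep V cg z M H) {y : G} (hy : y ∈ V) (hy1 : y ≠ 1) (hyz : y ≠ z)
include h hy hy1 hyz

/-- `k ≥ 2` -/
theorem in_four [Finite G] (h4 : 4 ≤ (ee V z).relIndex (ws V z)) {l : M} (hl : l ∈ LL R y) :
    4 ≤ Nat.card (AA R y l) := by
  rw [h.in_card R hy hy1 hyz hl]; exact h4

/-- there are line vectors outside of `Ē_l` -/
theorem exists_far [Finite G] (h4 : 4 ≤ (ee V z).relIndex (ws V z)) {l : M} (hl : l ∈ LL R y) :
    ∃ m ∈ LL R y, AL R y l m ≠ 1 := by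
  by_contra hcon
  push Not at hcon
  have h0 : AL R y l 0 = 1 := by
    have := h.in_al_add R hy hy1 hyz hl 0 0
    rw [add_zero] at this
    simpa using this
  have h1 : ∀ m : M, AL R y l m = 1 := by
    intro m
    have hm : m ∈ AddSubgroup.closure (LL R y) := by
      rw [h.in_gen R hy hy1 hyz]; exact AddSubgroup.mem_top m
    induction hm using AddSubgroup.closure_induction with
    | mem x hx => exact hcon x hx
    | zero => exact h0
    | add a b _ _ ha hb => rw [h.in_al_add R hy hy1 hyz hl, ha, hb, one_mul]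
    | neg a _ ha =>
      rw [h.rp_neg R]; exact ha
  have h2 : AA R y l = ⊥ := by
    rw [eq_bot_iff]
    intro a ha
    obtain ⟨m, hm⟩ := h.in_al_surj R hy hy1 hyz hl ha
    rw [mem_bot, ← hm]; exact h1 m
  have h3 := h.in_four R hy hy1 hyz h4 hl
  rw [h2] at h3
  simp at h3

end One

end Cfsg.Agent.Omega.NO3S.TwoOne

end

section


/-!
# NO-3S, `q = 2`, `n = 1`, no `λ`-transvections: (S1), (S3) on the module `M`, and `SIGMA_k` (#18607, #19417 (0.3), (0.4))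

`h : One T V z`, `hN : NT V`, `R : MRep V cg z M H`, `y ∈ V`, `y ≠ 1, z`; `l, m ∈ LL R y` with `AL R y l m ≠ 1`,
`AL R y m l ≠ 1` (an S-pair).

* `One.in_s1` : `AL l e = 1`, `AL l m • e = e`: some `j ∈ II m`, `AL l j = 1`, has on `AA l` the functional of `e`;
* `One.in_s3w`, `One.in_s3` : if `AL m (a m + m) ≠ 1` for some `a ∈ AA l` then this holds for all `e`, `AL l e = 1`;
* `One.sk` : `SK (LL R y) (AA R y) (II R y) (AL R y)` if `4 ≤ |A|`;
* `One.in_sigma` : `SIGMA_k`.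
-/

set_option autoImplicit false
set_option linter.unusedSectionVars false

namespace Cfsg.Agent.Omega.NO3S.TwoOne

open Subgroup Cfsg Cfsg.Agent.ZN Cfsg.Agent.MinSimple.Geo Cfsg.Agent.Omega.CaseL
open Cfsg.Agent.Omega.NO3S.Fit
open Cfsg.Agent.ZN.Block (conj_mem_of_normalizer conj_mem_of_normalizer' le_normalizer_of_forall
  mem_normalizer_of)
open scoped commutatorElement

universe u

variable {G : Type u} [Group G]

theorem sig_ii_cj {V : Subgroup G} {g w : G} : w ∈ ii (cj g V) ↔ g⁻¹ * w * g ∈ ii V := by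
  constructor
  · intro hw p hp hp1
    have h1 := hw _ (conj_mem_cj (g := g) hp) (fun e => hp1 (conj_eq_one_iff.mp e))
    rw [ws_cj] at h1
    have h2 := conj_mem_ws g⁻¹ h1
    have e1 : g⁻¹ * (g * p * g⁻¹) * g⁻¹⁻¹ = p := by group
    rwa [e1, inv_inv] at h2
  · intro hw p hp hp1
    have h1 := hw _ (mem_cj.mp hp) (conj_ne_one hp1)
    have h2 := conj_mem_ws g h1
    rw [ws_cj]
    have e1 : g * (g⁻¹ * w * g) * g⁻¹ = w := by group
    have e2 : g * (g⁻¹ * p * g) * g⁻¹ = p := by group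
    rwa [e1, e2] at h2

theorem sig_ee_cj {V : Subgroup G} {g w p : G} : w ∈ ee (cj g V) (g * p * g⁻¹) ↔ g⁻¹ * w * g ∈ ee V p := by
  constructor
  · intro hw
    have h1 := conj_mem_ee' g⁻¹ hw
    have e1 : cj g⁻¹ (cj g V) = V := by rw [cj_cj, inv_mul_cancel, cj_one]
    have e2 : g⁻¹ * (g * p * g⁻¹) * g⁻¹⁻¹ = p := by group
    rwa [e1, e2, inv_inv] at h1
  · intro hw
    have h1 := conj_mem_ee' g hw
    have e1 : g * (g⁻¹ * w * g) * g⁻¹ = w := by group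
    rwa [e1] at h1

namespace One

/-- for `w ∈ E_z` some `e ∈ E_y` acts on `W_z` as `w` on `W_y` -/
theorem ee_swap {T V : Subgroup G} {z y w : G} (h : One T V z) (hy : y ∈ V) (hy1 : y ≠ 1) (hyz : y ≠ z)
    (hw : w ∈ ee V z) : ∃ e ∈ ee V y, ∀ a ∈ ws V z, ∀ b ∈ ws V y, Tw V z a y b → (e * a = a * e ↔ w * b = b * w) := by
  have hz := h.ln.z_mem
  have hz1 := h.ln.z_ne
  have hs : z * y ∈ V := mul_mem hz hy
  have hs1 : z * y ≠ 1 := h.mul_ne_one hy (Ne.symm hyz)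
  have hzs : z ≠ z * y := fun e => hy1 (by simpa using e.symm)
  have hys : y ≠ z * y := fun e => hz1 (by simpa using e.symm)
  obtain ⟨t, ht, htV, htz⟩ := h.exists_move hs hs1 hz hz1 hzs
  have hzy := h.ln.comm hz hy
  have htz' : t * z * t⁻¹ = y := by rw [htz, hzy, mul_assoc, h.ln.zz, mul_one]
  have hty : t * y * t⁻¹ = z := by
    rw [h.move hs hs1 hy hy1 hys ht htV, mul_assoc, h.ln.sq y hy, mul_one]
  have htx : t ∈ xl V := kq_le_xl hs hs1 ht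
  have htn := h.xl_le_normalizer htx
  have he : t * w * t⁻¹ ∈ ee V y := by
    have := conj_mem_ee htn hw
    rwa [htz'] at this
  refine ⟨_, he, fun a ha b hb htw => ?_⟩
  -- `t⁻¹ a t` is a twin of `a` in `W_y`
  have e0 : t⁻¹ * z * t⁻¹⁻¹ = y := by rw [← hty]; group
  have h1 := h.tw_conj (inv_mem htx) z a
  rw [e0] at h1
  have hb' : t⁻¹ * a * t⁻¹⁻¹ ∈ ws V y := by
    have := conj_mem_ws t⁻¹ ha
    rwa [e0] at this
  have h2 : Tw V y b y (t⁻¹ * a * t⁻¹⁻¹) := h.tw_trans (h.tw_symm htw) h1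
  have h3 := (h.tw_self hy hy1 hb).mp h2
  have h4 := h.ee_comm hz hz1 hy hy1 hw h3
  rw [inv_inv] at h3 h4
  obtain ⟨c, hc⟩ : ∃ c, c = t⁻¹ * a * t := ⟨_, rfl⟩
  rw [← hc] at h3 h4
  have h5 : t * w * t⁻¹ * a = a * (t * w * t⁻¹) ↔ w * c = c * w := by
    rw [hc]
    constructor
    · intro e
      calc w * (t⁻¹ * a * t) = t⁻¹ * (t * w * t⁻¹ * a) * t := by group
        _ = t⁻¹ * (a * (t * w * t⁻¹)) * t := by rw [e]
        _ = t⁻¹ * a * t * w := by group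
    · intro e
      calc t * w * t⁻¹ * a = t * (w * (t⁻¹ * a * t)) * t⁻¹ := by group
        _ = t * (t⁻¹ * a * t * w) * t⁻¹ := by rw [e]
        _ = a * (t * w * t⁻¹) := by group
  rw [h5]
  constructor
  · intro e
    have e1 : b = (b * c⁻¹) * c := by group
    rw [e1]
    exact comm_mul_of h4 e
  · intro e
    have e1 : c = (b * c⁻¹)⁻¹ * b := by group
    rw [e1]
    exact comm_mul_of (comm_inv_of h4) e

variable {T V : Subgroup G} {z : G} {M H : Type u} [AddCommGroup M] [Group H] [DistribMulAction H M]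
  (h : One T V z) (R : MRep V cg z M H) {y : G} (hy : y ∈ V) (hy1 : y ≠ 1) (hyz : y ≠ z)
include h hy hy1 hyz

/-- the action of `b ∈ W_y` on `Ē` -/
theorem rp_ee [Finite G] {w b : G} (hw : w ∈ ee V z) (hb : b ∈ ws V y) :
    (w * b = b * w → R.phi b • R.pi w = R.pi w) ∧ (w * b ≠ b * w → R.phi b • R.pi w = R.pi w + R.pi y) := by
  have hz := h.ln.z_mem
  have hz1 := h.ln.z_ne
  have hyW := h.V_le hz hz1 hy
  have hbc := h.ws_le_cz hy hy1 hb
  rw [h.rp_act R hbc hw.1]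
  constructor
  · intro e
    rw [conj_eq_of_comm e.symm]
  · intro e
    have h2 := h.ee_cases hy hy1 hw hb
    have h3 : ⁅w, b⁆ = y := h2.resolve_left fun e' => e (commutatorElement_eq_one_iff_mul_comm.mp e')
    rw [← h.comm_swap hz hz1 hy hy1 hw.1 hb] at h3
    have hbw : b * w * b⁻¹ = ⁅b, w⁆ * w := by rw [commutatorElement_def]; group
    rw [hbw, h3, h.rp_mul R hyW hw.1, add_comm]

theorem rp_ee_iff [Finite G] {w b : G} (hw : w ∈ ee V z) (hb : b ∈ ws V y) :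
    R.phi b • R.pi w = R.pi w ↔ w * b = b * w := by
  obtain ⟨h1, h2⟩ := h.rp_ee R hy hy1 hyz hw hb
  refine ⟨fun e => ?_, h1⟩
  by_contra hcon
  rw [h2 hcon] at e
  exact R.v0_ne h.fam hy hy1 hyz (add_eq_left.mp e)

/-- the S-pair of lines of `v₀` and `φ(f) v₀` -/
theorem syp [Finite G] {f : G} (hf : f ∈ centralizer ({z} : Set G)) (h1 : al0 R y (R.phi f • R.pi y) ≠ 1)
    (h2 : al0 R y ((R.phi f)⁻¹ • R.pi y) ≠ 1) : SyP V (cj f V) z y (f * y * f⁻¹) := by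
  have hz := h.ln.z_mem
  have hz1 := h.ln.z_ne
  have hyW := h.V_le hz hz1 hy
  have hfz : f * z * f⁻¹ = z := conj_eq_of_comm (mem_centralizer_singleton_iff.mp hf)
  have hL : cj f V ∈ lines V z := by
    have := mem_lines_cj (g := f) (L := V) (V := V) (x := z) ⟨⟨1, (cj_one V).symm⟩, hz⟩
    rwa [hfz] at this
  have hqL : f * y * f⁻¹ ∈ cj f V := conj_mem_cj hy
  have hqW : f * y * f⁻¹ ∈ ws V z := le_ws hL hqL
  have hqz : f * y * f⁻¹ ≠ z := fun e => hyz (by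
    calc y = f⁻¹ * (f * y * f⁻¹) * f := by group
      _ = f⁻¹ * (f * z * f⁻¹) * f := by rw [e, hfz]
      _ = z := by group)
  refine ⟨hL, hy, hy1, hyz, hqL, fun e => hy1 (conj_eq_one_iff.mp e), hqz, fun hE => h2 ?_, fun hE => h1 ?_⟩
  · have h3 : y ∈ ee (cj f V) (f * z * f⁻¹) := by rw [hfz]; exact hE
    have h4 := sig_ee_cj.mp h3
    have h5 : f⁻¹ * y * f⁻¹⁻¹ ∈ ee V z := by rwa [inv_inv]
    rw [← R.phi_inv hf, h.rp_act R (inv_mem hf) hyW]
    exact (h.al0_one R hy hy1 hyz h5.1).mpr h5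
  · rw [h.rp_act R hf hyW]
    exact (h.al0_one R hy hy1 hyz hqW).mpr hE

/-- (S1) at `v₀` -/
theorem loc_s1 [Finite G] (hN : NT V) {x : H} (h1 : al0 R y (x • R.pi y) ≠ 1) (h2 : al0 R y (x⁻¹ • R.pi y) ≠ 1)
    {e : M} (he : al0 R y e = 1) (he' : al0 R y (x • R.pi y) • e = e) :
    ∃ j, x⁻¹ • j ∈ i0 R ∧ al0 R y j = 1 ∧ ∀ a ∈ a0 R y, a • j + j = a • e + e := by
  have hz := h.ln.z_mem
  have hz1 := h.ln.z_ne
  have hyW := h.V_le hz hz1 hy
  obtain ⟨f, hf, rfl⟩ := R.phi_surj x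
  have S := h.syp R hy hy1 hyz hf h1 h2
  obtain ⟨w, hw, rfl⟩ := h.rp_surj R e
  have hwE := (h.al0_one R hy hy1 hyz hw).mp he
  obtain ⟨e', he'E, hee⟩ := h.ee_swap hy hy1 hyz hwE
  have hqW : f * y * f⁻¹ ∈ ws V z := S.q_ws h
  obtain ⟨b, hb, ht⟩ := h.tw_exists hz hz1 hy hy1 hqW
  rw [h.rp_act R hf hyW, h.al0_eq R hy hy1 hyz hqW hb ht, h.rp_ee_iff R hy hy1 hyz hwE hb] at he'
  obtain ⟨j, hj, hjE, hjf⟩ := S.one h hN he'E ((hee _ hqW _ hb ht).mpr he')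
  refine ⟨R.pi j, ?_, (h.al0_one R hy hy1 hyz hjE.1).mpr hjE, fun a ha => ?_⟩
  · rw [← R.phi_inv hf, h.rp_act R (inv_mem hf) hjE.1, inv_inv]
    exact (h.mem_i0 R).mpr ⟨_, sig_ii_cj.mp hj, rfl⟩
  · obtain ⟨c, hc, rfl⟩ := (h.mem_a0 R hy hy1).mp ha
    obtain ⟨a', ha', ht'⟩ := h.tw_exists hy hy1 hz hz1 hc
    have h3 := (hjf a' ha' c hc (h.tw_symm ht')).trans (hee a' ha' c hc (h.tw_symm ht'))
    obtain ⟨h4, h5⟩ := h.rp_ee R hy hy1 hyz hjE hc
    obtain ⟨h6, h7⟩ := h.rp_ee R hy hy1 hyz hwE hc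
    have h8 := h.rp_two R
    by_cases h9 : w * c = c * w
    · rw [h4 (h3.mpr h9), h6 h9, h8, h8]
    · rw [h5 (fun e => h9 (h3.mp e)), h7 h9, add_comm (R.pi j), add_comm (R.pi w), add_assoc, add_assoc, h8, h8]

/-- (S3) at `v₀` -/
theorem loc_s3 [Finite G] (hN : NT V) {x : H} (h1 : al0 R y (x • R.pi y) ≠ 1) (h2 : al0 R y (x⁻¹ • R.pi y) ≠ 1)
    {a : H} (ha : a ∈ a0 R y) (h3 : al0 R y (x⁻¹ • (a • x • R.pi y + x • R.pi y)) ≠ 1) :
    ∃ j, x⁻¹ • j ∈ i0 R ∧ al0 R y j = 1 ∧ al0 R y (x • R.pi y) • j = j + R.pi y := by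
  have hz := h.ln.z_mem
  have hz1 := h.ln.z_ne
  have hyW := h.V_le hz hz1 hy
  obtain ⟨f, hf, rfl⟩ := R.phi_surj x
  have S := h.syp R hy hy1 hyz hf h1 h2
  have hfz : f * z * f⁻¹ = z := conj_eq_of_comm (mem_centralizer_singleton_iff.mp hf)
  have hqW : f * y * f⁻¹ ∈ ws V z := S.q_ws h
  obtain ⟨b₁, hb₁, rfl⟩ := (h.mem_a0 R hy hy1).mp ha
  have hcom : ⁅b₁, f * y * f⁻¹⁆ ∈ ws V z := ii_le hz hz1 (h.comm_ii_mem hy hy1 hz hz1 hb₁ hqW)
  have hbw : b₁ * (f * y * f⁻¹) * b₁⁻¹ ∈ ws V z :=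
    conj_mem_of_normalizer (h.cent_norm hz) (h.ws_le_centralizer_V hy hy1 hb₁) hqW
  have hω : ⁅f * y * f⁻¹, b₁⁆ ∉ ee (cj f V) z := by
    intro hE
    apply h3
    rw [h.rp_act R hf hyW, h.rp_comm R (h.ws_le_cz hy hy1 hb₁) hqW hbw, ← R.phi_inv hf]
    have e1 : b₁ * (f * y * f⁻¹) * b₁⁻¹ * (f * y * f⁻¹)⁻¹ = ⁅f * y * f⁻¹, b₁⁆ := by
      rw [← h.comm_swap hz hz1 hy hy1 hqW hb₁, commutatorElement_def]
    rw [h.comm_swap hz hz1 hy hy1 hqW hb₁] at hcom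
    rw [e1, h.rp_act R (inv_mem hf) hcom, inv_inv]
    have h4 : ⁅f * y * f⁻¹, b₁⁆ ∈ ee (cj f V) (f * z * f⁻¹) := by rw [hfz]; exact hE
    have h5 := sig_ee_cj.mp h4
    exact (h.al0_one R hy hy1 hyz h5.1).mpr h5
  obtain ⟨j, hj, hjE, hjf⟩ := S.three h hN hb₁ hω
  refine ⟨R.pi j, ?_, (h.al0_one R hy hy1 hyz hjE.1).mpr hjE, ?_⟩
  · rw [← R.phi_inv hf, h.rp_act R (inv_mem hf) hjE.1, inv_inv]
    exact (h.mem_i0 R).mpr ⟨_, sig_ii_cj.mp hj, rfl⟩
  · obtain ⟨b, hb, ht⟩ := h.tw_exists hz hz1 hy hy1 hqW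
    rw [h.rp_act R hf hyW, h.al0_eq R hy hy1 hyz hqW hb ht]
    exact (h.rp_ee R hy hy1 hyz hjE hb).2 (hjf b hb ht)

/-- an S-pair `l = g v₀`, `m = k v₀` moved to `v₀` -/
theorem pair_aux [Finite G] {l m : M} {g k : H} (hg : g • R.pi y = l) (hk : k • R.pi y = m)
    (h1 : AL R y l m ≠ 1) (h2 : AL R y m l ≠ 1) :
    al0 R y ((g⁻¹ * k) • R.pi y) ≠ 1 ∧ al0 R y ((g⁻¹ * k)⁻¹ • R.pi y) ≠ 1 := by
  constructor
  · intro e
    apply h1
    rw [h.AL_eq R hy hy1 hyz hg, ← hk, smul_smul, e, mul_one, mul_inv_cancel]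
  · intro e
    apply h2
    have e1 : (g⁻¹ * k)⁻¹ = k⁻¹ * g := by group
    rw [e1] at e
    rw [h.AL_eq R hy hy1 hyz hk, ← hg, smul_smul, e, mul_one, mul_inv_cancel]

/-- **(S1)** on `M` -/
theorem in_s1 [Finite G] (hN : NT V) {l m : M} (hl : l ∈ LL R y) (hm : m ∈ LL R y) (h1 : AL R y l m ≠ 1)
    (h2 : AL R y m l ≠ 1) {e : M} (he : AL R y l e = 1) (he' : AL R y l m • e = e) :
    ∃ j ∈ II R y m, AL R y l j = 1 ∧ ∀ a ∈ AA R y l, a • j + j = a • e + e := by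
  obtain ⟨g, hg⟩ := hl
  obtain ⟨k, hk⟩ := hm
  have hg' : g • R.pi y = l := hg
  have hk' : k • R.pi y = m := hk
  obtain ⟨h3, h4⟩ := h.pair_aux R hy hy1 hyz hg' hk' h1 h2
  have hgk : (g⁻¹ * k) • R.pi y = g⁻¹ • m := by rw [mul_smul, hk']
  have h5 : al0 R y (g⁻¹ • e) = 1 := by
    rw [h.AL_eq R hy hy1 hyz hg'] at he
    exact conj_eq_one_iff.mp he
  have h6 : al0 R y ((g⁻¹ * k) • R.pi y) • g⁻¹ • e = g⁻¹ • e := by
    rw [h.AL_eq R hy hy1 hyz hg'] at he'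
    rw [hgk]
    have h7 := congrArg (fun u => g⁻¹ • u) he'
    change g⁻¹ • ((g * al0 R y (g⁻¹ • m) * g⁻¹) • e) = g⁻¹ • e at h7
    rw [mul_smul, mul_smul, inv_smul_smul] at h7
    exact h7
  obtain ⟨j, hj, hj1, hjf⟩ := h.loc_s1 R hy hy1 hyz hN h3 h4 h5 h6
  refine ⟨g • j, ?_, ?_, fun a ha => ?_⟩
  · rw [h.mem_II R hy hy1 hyz hk', smul_smul]
    have e1 : (g⁻¹ * k)⁻¹ = k⁻¹ * g := by group
    rwa [e1] at hj
  · rw [h.AL_eq R hy hy1 hyz hg', inv_smul_smul, hj1, mul_one, mul_inv_cancel]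
  · rw [h.mem_AA R hy hy1 hyz hg'] at ha
    have h7 := congrArg (fun u => g • u) (hjf _ ha)
    change g • ((g⁻¹ * a * g) • j + j) = g • ((g⁻¹ * a * g) • g⁻¹ • e + g⁻¹ • e) at h7
    rw [smul_add, smul_add, smul_inv_smul, smul_smul, smul_smul, smul_smul] at h7
    have e1 : g * (g⁻¹ * a * g) = a * g := by group
    have e2 : a * g * g⁻¹ = a := by group
    rw [e1, e2, mul_smul] at h7
    exact h7

/-- **(S3)** on `M`, weak form -/
theorem in_s3w [Finite G] (hN : NT V) {l m : M} {a : H} (hl : l ∈ LL R y) (hm : m ∈ LL R y) (h1 : AL R y l m ≠ 1)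
    (h2 : AL R y m l ≠ 1) (ha : a ∈ AA R y l) (h3 : AL R y m (a • m + m) ≠ 1) :
    ∃ j ∈ II R y m, AL R y l j = 1 ∧ AL R y l m • j = j + l := by
  obtain ⟨g, hg⟩ := hl
  obtain ⟨k, hk⟩ := hm
  have hg' : g • R.pi y = l := hg
  have hk' : k • R.pi y = m := hk
  obtain ⟨h4, h5⟩ := h.pair_aux R hy hy1 hyz hg' hk' h1 h2
  have hgk : (g⁻¹ * k) • R.pi y = g⁻¹ • m := by rw [mul_smul, hk']
  rw [h.mem_AA R hy hy1 hyz hg'] at ha
  have h6 : al0 R y ((g⁻¹ * k)⁻¹ • ((g⁻¹ * a * g) • (g⁻¹ * k) • R.pi y + (g⁻¹ * k) • R.pi y)) ≠ 1 := by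
    intro e
    apply h3
    rw [h.AL_eq R hy hy1 hyz hk']
    have e1 : (g⁻¹ * k)⁻¹ • ((g⁻¹ * a * g) • (g⁻¹ * k) • R.pi y + (g⁻¹ * k) • R.pi y) = k⁻¹ • (a • m + m) := by
      have e2 : (g⁻¹ * k)⁻¹ • (g⁻¹ * a * g) • g⁻¹ • m = k⁻¹ • a • m := by
        rw [smul_smul, smul_smul, smul_smul]
        congr 1
        group
      have e3 : (g⁻¹ * k)⁻¹ • g⁻¹ • m = k⁻¹ • m := by
        rw [smul_smul]
        congr 1
        group
      rw [hgk, smul_add, smul_add, e2, e3]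
    rw [e1] at e
    rw [e, mul_one, mul_inv_cancel]
  obtain ⟨j, hj, hj1, hjf⟩ := h.loc_s3 R hy hy1 hyz hN h4 h5 ha h6
  refine ⟨g • j, ?_, ?_, ?_⟩
  · rw [h.mem_II R hy hy1 hyz hk', smul_smul]
    have e1 : (g⁻¹ * k)⁻¹ = k⁻¹ * g := by group
    rwa [e1] at hj
  · rw [h.AL_eq R hy hy1 hyz hg', inv_smul_smul, hj1, mul_one, mul_inv_cancel]
  · rw [hgk] at hjf
    rw [h.AL_eq R hy hy1 hyz hg', mul_smul, mul_smul, inv_smul_smul, hjf, smul_add, hg']

/-- **(S3)** on `M` -/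
theorem in_s3 [Finite G] (hN : NT V) {l m : M} (hl : l ∈ LL R y) (hm : m ∈ LL R y) (h1 : AL R y l m ≠ 1)
    (h2 : AL R y m l ≠ 1) (h3 : ∃ a ∈ AA R y l, AL R y m (a • m + m) ≠ 1) {e : M} (he : AL R y l e = 1) :
    ∃ j ∈ II R y m, AL R y l j = 1 ∧ ∀ a ∈ AA R y l, a • j + j = a • e + e := by
  by_cases h4 : AL R y l m • e = e
  · exact h.in_s1 R hy hy1 hyz hN hl hm h1 h2 he h4
  · obtain ⟨a, ha, h5⟩ := h3
    obtain ⟨j, hj, hj1, hjm⟩ := h.in_s3w R hy hy1 hyz hN hl hm h1 h2 ha h5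
    have h6 := ((h.in_al_ker R hy hy1 hyz hN hl e).mp he _ (h.in_al_mem R hy hy1 hyz hl m)).resolve_left h4
    have h7 := h.rp_two R
    obtain ⟨i, hi, hi1, hif⟩ := h.in_s1 R hy hy1 hyz hN hl hm h1 h2 (e := e + j)
      (by rw [h.in_al_add R hy hy1 hyz hl, he, hj1, one_mul]) (by
        rw [smul_add, h6, hjm]
        calc e + l + (j + l) = e + j + (l + l) := by abel
          _ = e + j := by rw [h7, add_zero])
    refine ⟨i + j, add_mem hi hj, by rw [h.in_al_add R hy hy1 hyz hl, hi1, hj1, one_mul], fun b hb => ?_⟩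
    calc b • (i + j) + (i + j) = (b • i + i) + (b • j + j) := by rw [smul_add]; abel
      _ = (b • e + e) + ((b • j + j) + (b • j + j)) := by rw [hif b hb, smul_add]; abel
      _ = b • e + e := by rw [h7, add_zero]

/-- the record for `SIGMA_k` -/
theorem sk [Finite G] (hN : NT V) (h4 : 4 ≤ (ee V z).relIndex (ws V z)) :
    SK (LL R y) (AA R y) (II R y) (AL R y) where
  two := h.rp_two R
  ne0 := fun hl => h.in_ne R hy hy1 hyz hl
  smul := fun x _ hl => smul_mem_LL R y x hl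
  A_conj := fun _ _ _ hl ha => h.in_A_conj R hy hy1 hyz hl ha
  I_conj := fun x _ _ hl hu => h.in_I_conj R hy hy1 hyz hl x hu
  sq := fun hl ha => h.in_sq R hy hy1 hyz hl ha
  four := fun hl => by rw [h.in_card R hy hy1 hyz hl]; exact h4
  self := fun hl => h.in_self R hy hy1 hyz hl
  fix := fun hl ha hu => h.in_fix R hy hy1 hyz hl ha hu
  al_mem := fun hl m => h.in_al_mem R hy hy1 hyz hl m
  al_add := fun hl m m' => h.in_al_add R hy hy1 hyz hl m m'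
  al_conj := fun x hl m => h.in_al_conj R hy hy1 hyz hl x m
  al_ker := fun hl m => h.in_al_ker R hy hy1 hyz hN hl m
  phi := fun hl ha ha1 => h.in_phi R hy hy1 hyz hN hl ha ha1
  s1 := fun hl hm h1 h2 he he' => h.in_s1 R hy hy1 hyz hN hl hm h1 h2 he he'
  s3 := fun hl hm h1 h2 ha h3 => h.in_s3w R hy hy1 hyz hN hl hm h1 h2 ha h3

/-- **`SIGMA_k`** on `M` -/
theorem in_sigma [Finite G] (hN : NT V) (h4 : 4 ≤ (ee V z).relIndex (ws V z)) {l : M} {a o : H} (hl : l ∈ LL R y)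
    (ha : a ∈ AA R y l) (ha1 : a ≠ 1) {n : ℕ} (hn : Odd n) (hon : o ^ n = 1) (ho1 : o ≠ 1) (hao : a * o * a⁻¹ = o⁻¹) :
    o ^ 3 = 1 ∧ AL R y l (o • l) = 1 ∧ a • o • l = o • l + l ∧ o⁻¹ • l = o • l + l :=
  (h.sk R hy hy1 hyz hN h4).sigma hl ha ha1 hn hon ho1 hao

end One

end Cfsg.Agent.Omega.NO3S.TwoOne

end
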