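import Cfsg.Agent.Mrg.Omega.NO3S.TV.Sys
import Cfsg.Agent.Mrg.Omega.NO3S.TwoOne.PlaneKA
import Cfsg.Agent.Mrg.Omega.NO3S.TwoOne.Three

section


/-!
# NO-3S, `q = 2`, `n = 1`, no `λ`-transvections: `A_l ∩ A_m` (helper409's text #17866, (N1), (N3), (N4))

`h : One T V z`, `NT V`; `A_l` = image of `W_y`, `y ∈ V - ⟨z⟩`, in `H = C_G(z) / K_z`.

* `One.nt_ti_mem` : a line `L` on `z`, `q ∈ L`; an element `≠ 1` of `A_V ∩ A_L` gives `q ∈ ii V` (`L` and `V` are in a
  plane);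
* `NP V z` : there is no plane on `V`: the only line on `z` in `ii V` is `V`; `One.nt_ti` : then `L = V`;
* `One.nt_cent_mem` : `f ∈ C_G(z)`, `[f, a] ∈ K_z` for an `a ∈ W_y - K_z`: `f y f⁻¹ ∈ ii V`; `One.nt_cent` : without planes
  `f ∈ N_G(V)`: `C_H(a) ≤ H_λ` for every `a ∈ A#`;
* `One.plane_inter` (N3) : in a plane `⟨V, u⟩` : an element of `A_V ∩ A_{⟨z, u⟩}` is in `A_{⟨z, y u⟩}`;
* `comm_of_norm` : the abstract form of (N4); `One.nt_comm` (N4): no plane, `A_V` normalises `A_L`: they commute.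
-/

set_option autoImplicit false
set_option linter.unusedSectionVars false

namespace Cfsg.Agent.Omega.NO3S.TwoOne

open Subgroup Cfsg Cfsg.Agent.ZN Cfsg.Agent.MinSimple.Geo Cfsg.Agent.Omega.CaseL
open Cfsg.Agent.ZN.Block (conj_mem_of_normalizer conj_mem_of_normalizer' le_normalizer_of_forall
  mem_normalizer_of)
open scoped commutatorElement

universe u

variable {G : Type u} [Group G]

/-- no plane on `V`, seen from `z` -/
def NP (V : Subgroup G) (z : G) : Prop := ∀ L ∈ lines V z, L ≤ ii V → L = V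

/-- **(N4)**, abstract form -/
theorem comm_of_norm {H : Type u} [Group H] [Finite H] {A B : Subgroup H} (hcard : Nat.card A = Nat.card B)
    (hB : ∀ b ∈ B, b * b = 1) (hAB : ∀ a ∈ A, ∀ b ∈ B, a * b * a⁻¹ ∈ B)
    (hd : ∀ a ∈ A, a ∈ B → a = 1)
    (hc : ∀ b ∈ B, (∀ a ∈ A, b * a * b⁻¹ ∈ A) ∨ (∀ a ∈ A, a * b = b * a → a = 1)) :
    ∀ a ∈ A, ∀ b ∈ B, a * b = b * a := by
  intro a ha b hb
  by_cases hb1 : b = 1
  · rw [hb1]; simp
  rcases hc b hb with h1 | h1
  · -- `[a, b] ∈ A ∩ B`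
    have h2 : a * b * a⁻¹ * b⁻¹ ∈ B := mul_mem (hAB a ha b hb) (inv_mem hb)
    have h3 : a * b * a⁻¹ * b⁻¹ ∈ A := by
      have e : a * b * a⁻¹ * b⁻¹ = a * (b * a⁻¹ * b⁻¹) := by group
      rw [e]
      exact mul_mem ha (h1 _ (inv_mem ha))
    have h4 := hd _ h3 h2
    calc a * b = (a * b * a⁻¹ * b⁻¹) * (b * a) := by group
      _ = b * a := by rw [h4, one_mul]
  · exfalso
    -- `a ↦ [a, b]` is injective and misses `b`
    let f : A → B := fun a => ⟨(a : H) * b * (a : H)⁻¹ * b⁻¹, mul_mem (hAB a a.2 b hb) (inv_mem hb)⟩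
    have hf : Function.Injective f := by
      intro x y hxy
      have e1 : (x : H) * b * (x : H)⁻¹ * b⁻¹ = (y : H) * b * (y : H)⁻¹ * b⁻¹ := congrArg Subtype.val hxy
      have e2 : (x : H) * b * (x : H)⁻¹ = (y : H) * b * (y : H)⁻¹ := mul_right_cancel e1
      have e3 : ((y : H)⁻¹ * x) * b = b * ((y : H)⁻¹ * x) := by
        calc ((y : H)⁻¹ * x) * b = (y : H)⁻¹ * ((x : H) * b * (x : H)⁻¹) * x := by group
          _ = b * ((y : H)⁻¹ * x) := by rw [e2]; group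
      have e4 := h1 _ (mul_mem (inv_mem y.2) x.2) e3
      exact Subtype.ext (inv_mul_eq_one.mp e4).symm
    have hs : Function.Surjective f := by
      have := Fintype.ofFinite A
      have := Fintype.ofFinite B
      rw [Nat.card_eq_fintype_card, Nat.card_eq_fintype_card] at hcard
      exact ((Fintype.bijective_iff_injective_and_card f).mpr ⟨hf, hcard⟩).2
    obtain ⟨x, hx⟩ := hs ⟨b, hb⟩
    have e1 : (x : H) * b * (x : H)⁻¹ * b⁻¹ = b := congrArg Subtype.val hx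
    have e2 : (x : H) * b * (x : H)⁻¹ = 1 := by
      rw [← hB b hb]
      calc (x : H) * b * (x : H)⁻¹ = ((x : H) * b * (x : H)⁻¹ * b⁻¹) * b := by group
        _ = b * b := by rw [e1]
    exact hb1 (conj_eq_one_iff.mp e2)

namespace One

variable {T V : Subgroup G} {z p q r : G}

/-- the common element of `A_V` and `A_L` -/
theorem nt_ti_mem [Finite G] (h : One T V z) (hN : NT V) {L : Subgroup G} (hL : L ∈ lines V z) {y a a' : G}
    (hy : y ∈ V) (hy1 : y ≠ 1) (hq : q ∈ L) (hq1 : q ≠ 1) (hqz : q ≠ z) (ha : a ∈ ws V y)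
    (hak : a ∉ kq V z) (ha' : a' ∈ ws V q) (haa : a * a'⁻¹ ∈ kq V z) : q ∈ ii V := by
  have hz := h.ln.z_mem
  have hz1 := h.ln.z_ne
  obtain ⟨c, hLc, T', h'⟩ := h.of_line hL hz1
  have hws : ∀ x, ws L x = ws V x := fun x => by rw [hLc, ws_cj]
  have hkq : ∀ x, kq L x = kq V x := fun x => by rw [hLc, kq_cj]
  have hN' : NT L := by
    rw [hLc]; exact NT.conj hN c
  have haE : a' ∉ ee L q := by
    intro e
    apply hak
    have h1 := e.2 z hL.2 hz1
    rw [hkq] at h1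
    have h2 := mul_mem haa h1
    rwa [inv_mul_cancel_right] at h2
  obtain ⟨e, he, heq⟩ := h'.nt_move_ee hN' hL.2 hz1 hq hq1 hqz (by rwa [hws]) haE
  have hez : e ∈ ws V z := by
    have := he.1
    rwa [hws] at this
  have hqz' : q ∈ ws V z := le_ws hL hq
  have hqq : q * q = 1 := h'.ln.sq q hq
  -- `a' e a'⁻¹ = q e`
  have h1 : a' * e * a'⁻¹ = q * e := by
    have hqa : q * a' = a' * q := h'.V_comm hq (h'.ws_le_centralizer_V hq hq1 (by rwa [hws]))
    have h2 : e * a' = q * a' * e := by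
      calc e * a' = (e * a' * e⁻¹) * e := by group
        _ = q * a' * e := by rw [heq]
    have h3 : a' * e = q * (e * a') := by
      rw [h2, ← mul_assoc, ← mul_assoc, hqq, one_mul]
    rw [h3]; group
  set k := a * a'⁻¹ with hk
  have hak' : a = k * a' := by rw [hk]; group
  have h2 : a * e * a⁻¹ = k * (q * e) * k⁻¹ := by
    rw [hak']
    calc k * a' * e * (k * a')⁻¹ = k * (a' * e * a'⁻¹) * k⁻¹ := by group
      _ = k * (q * e) * k⁻¹ := by rw [h1]
  have h3 : ⁅a, e⁆ ∈ ii V := h.comm_ii_mem hy hy1 hz hz1 ha hez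
  have h4 : ⁅a, e⁆ = k * (q * e) * k⁻¹ * e⁻¹ := by rw [commutatorElement_def, h2]
  rcases h.kq_cases hz haa (mul_mem hqz' hez) with e1 | e1
  · rw [h4, e1, mul_inv_cancel_right] at h3
    exact h3
  · have e2 : z * (q * e) * e⁻¹ = z * q := by group
    rw [h4, e1, e2] at h3
    have h5 := mul_mem (inv_mem (h.V_le_ii hz)) h3
    rwa [inv_mul_cancel_left] at h5

/-- two lines on `z` with a common point `q ≠ z` -/
theorem line_eq (h : One T V z) {L : Subgroup G} (hL : L ∈ lines V z) (hqL : q ∈ L) (hq1 : q ≠ 1)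
    (hqz : q ≠ z) (hqV : q ∈ V) : L = V := by
  have hz := h.ln.z_mem
  have hz1 := h.ln.z_ne
  obtain ⟨c, hLc, T', h'⟩ := h.of_line hL hz1
  have h1 : L ≤ V := by
    intro x hx
    by_cases hx1 : x = 1
    · rw [hx1]; exact one_mem _
    · rcases h'.third hL.2 hz1 hqL hq1 hqz hx hx1 with e | e | e
      · rw [e]; exact hz
      · rw [e]; exact hqV
      · rw [e]; exact mul_mem hz hqV
  have h2 : V ≤ L := by
    intro x hx
    by_cases hx1 : x = 1
    · rw [hx1]; exact one_mem _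
    · rcases h.third hz hz1 hqV hq1 hqz hx hx1 with e | e | e
      · rw [e]; exact hL.2
      · rw [e]; exact hqL
      · rw [e]; exact mul_mem hL.2 hqL
  exact le_antisymm h1 h2

/-- a line on `z` is in `ii V` as soon as it contains a point `≠ z` of `ii V` -/
theorem line_le_ii (h : One T V z) {L : Subgroup G} (hL : L ∈ lines V z) (hqL : q ∈ L) (hq1 : q ≠ 1)
    (hqz : q ≠ z) (hqV : q ∈ ii V) : L ≤ ii V := by
  have hz := h.ln.z_mem
  have hz1 := h.ln.z_ne
  obtain ⟨c, hLc, T', h'⟩ := h.of_line hL hz1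
  intro x hx
  by_cases hx1 : x = 1
  · rw [hx1]; exact one_mem _
  · rcases h'.third hL.2 hz1 hqL hq1 hqz hx hx1 with e | e | e
    · rw [e]; exact h.V_le_ii hz
    · rw [e]; exact hqV
    · rw [e]; exact mul_mem (h.V_le_ii hz) hqV

/-- **(TI)** : no plane: `A_V ∩ A_L = 1` for `L ≠ V` -/
theorem nt_ti [Finite G] (h : One T V z) (hN : NT V) (hP : NP V z) {L : Subgroup G} (hL : L ∈ lines V z) {y a a' : G}
    (hy : y ∈ V) (hy1 : y ≠ 1) (hq : q ∈ L) (hq1 : q ≠ 1) (hqz : q ≠ z) (ha : a ∈ ws V y)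
    (hak : a ∉ kq V z) (ha' : a' ∈ ws V q) (haa : a * a'⁻¹ ∈ kq V z) : L = V :=
  hP L hL (h.line_le_ii hL hq hq1 hqz (h.nt_ti_mem hN hL hy hy1 hq hq1 hqz ha hak ha' haa))

/-- `C_H(a)` moves `λ` only inside `Ī` -/
theorem nt_cent_mem [Finite G] (h : One T V z) (hN : NT V) {y f a : G} (hy : y ∈ V) (hy1 : y ≠ 1) (hyz : y ≠ z)
    (hf : f ∈ centralizer ({z} : Set G)) (ha : a ∈ ws V y) (hak : a ∉ kq V z)
    (hfa : f * a * f⁻¹ * a⁻¹ ∈ kq V z) : f * y * f⁻¹ ∈ ii V := by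
  have hfz : f * z * f⁻¹ = z := conj_eq_of_comm (mem_centralizer_singleton_iff.mp hf)
  have hL : cj f V ∈ lines V z := by
    have := mem_lines_cj (g := f) (L := V) (V := V) (x := z) ⟨⟨1, (cj_one V).symm⟩, h.ln.z_mem⟩
    rwa [hfz] at this
  refine h.nt_ti_mem hN hL hy hy1 (conj_mem_cj hy) (fun e => hy1 (conj_eq_one_iff.mp e)) (fun e => hyz ?_) ha hak
    (conj_mem_ws f ha) ?_
  · calc y = f⁻¹ * (f * y * f⁻¹) * f := by group
      _ = f⁻¹ * (f * z * f⁻¹) * f := by rw [e, hfz]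
      _ = z := by group
  · have := inv_mem hfa
    have e : (f * a * f⁻¹ * a⁻¹)⁻¹ = a * (f * a * f⁻¹)⁻¹ := by group
    rwa [e] at this

/-- **`C_H(a) ≤ H_λ`** for every `a ∈ A#` if there is no plane on `V` -/
theorem nt_cent [Finite G] (h : One T V z) (hN : NT V) (hP : NP V z) {y f a : G} (hy : y ∈ V) (hy1 : y ≠ 1)
    (hyz : y ≠ z) (hf : f ∈ centralizer ({z} : Set G)) (ha : a ∈ ws V y) (hak : a ∉ kq V z)
    (hfa : f * a * f⁻¹ * a⁻¹ ∈ kq V z) : f ∈ normalizer (V : Set G) := by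
  have hfz : f * z * f⁻¹ = z := conj_eq_of_comm (mem_centralizer_singleton_iff.mp hf)
  have hL : cj f V ∈ lines V z := by
    have := mem_lines_cj (g := f) (L := V) (V := V) (x := z) ⟨⟨1, (cj_one V).symm⟩, h.ln.z_mem⟩
    rwa [hfz] at this
  have h1 : cj f V = V := by
    refine hP _ hL (h.line_le_ii hL (conj_mem_cj hy) (fun e => hy1 (conj_eq_one_iff.mp e)) (fun e => hyz ?_)
      (h.nt_cent_mem hN hy hy1 hyz hf ha hak hfa))
    calc y = f⁻¹ * (f * y * f⁻¹) * f := by group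
      _ = f⁻¹ * (f * z * f⁻¹) * f := by rw [e, hfz]
      _ = z := by group
  rw [mem_normalizer_iff_cj, h1]

/-- **(N3)**: in a plane `⟨V, u⟩` : an element of `A_V ∩ A_{⟨z, u⟩}` is in `A_{⟨z, y u⟩}` -/
theorem plane_inter [Finite G] (h : One T V z) {y u a a' : G} (hy : y ∈ V) (hy1 : y ≠ 1)
    (hu : u ∈ ii V) (huV : u ∉ V) (ha : a ∈ ws V y) (ha' : a' ∈ ws V u)
    (haa : a * a'⁻¹ ∈ kq V z) : ∃ a'' ∈ ws V (y * u), a * a''⁻¹ ∈ kq V z := by
  have hz := h.ln.z_mem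
  have hz1 := h.ln.z_ne
  obtain ⟨k, hk, hkV, hku⟩ := h.fu hu huV hy hy1
  refine ⟨k * a' * k⁻¹, ?_, ?_⟩
  · have := conj_mem_ws k ha'
    rwa [hku] at this
  · have h1 : k * (a * a'⁻¹) * k⁻¹ ∈ kq V z :=
      conj_mem_of_normalizer (centralizer_le_normalizer_kq V z) (h.cent_le_centralizer hz hkV) haa
    rcases h.kq_cases hy hk ha with e | e
    · have e1 : k * (a * a'⁻¹) * k⁻¹ = (k * a * k⁻¹) * (k * a' * k⁻¹)⁻¹ := by group
      rwa [e1, e] at h1
    · have e1 : k * (a * a'⁻¹) * k⁻¹ = (k * a * k⁻¹) * (k * a' * k⁻¹)⁻¹ := by group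
      rw [e1, e] at h1
      have h2 := mul_mem (h.V_le_kq hz hz1 (inv_mem hy)) h1
      have e2 : y⁻¹ * (y * a * (k * a' * k⁻¹)⁻¹) = a * (k * a' * k⁻¹)⁻¹ := by group
      rwa [e2] at h2

end One

end Cfsg.Agent.Omega.NO3S.TwoOne

end

section


/-!
# NO-3S, `q = 2`, `n = 1`: `|W_z| = 16` (helper225's text #15275 (A)), second part

* `Std.bz_eq` : `B_z = W_z D_l`; `Std.bz_sq` : `B_z` is elementary abelian;
* `Std.kq_rep` : `K_z ∩ C_G(V) = B_z {g_a | a ∈ W_y}`, `g_a = a t a⁻¹ t⁻¹`, `t` a mover of `K_z`;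
* `Std.bz_kq` : `[B_z, K_z] ≤ ⟨z⟩`; `Std.uz_le` : `C_{B_z}(K_z) ≤ D_l`;
* `Std.dl_eq`, `Std.bz_eq_ws` : `D_l = V`, `B_z = W_z`; `Std.card_kq` : `|K_z| = 2^7`;
* `Std.large` : `K_z` is extraspecial with centre `⟨z⟩`.
-/

set_option autoImplicit false
set_option linter.unusedSectionVars false

namespace Cfsg.Agent.Omega.NO3S.TwoOne

open Subgroup Cfsg Cfsg.Agent.ZN Cfsg.Agent.MinSimple.Geo Cfsg.Agent.Omega.CaseL
open Cfsg.Agent.ZN.Block (conj_mem_of_normalizer conj_mem_of_normalizer' le_normalizer_of_forall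
  mem_normalizer_of)
open scoped commutatorElement

universe u

variable {G : Type u} [Group G]

namespace Std

variable {T V : Subgroup G} {z p q r : G}

theorem dl_le_bz (h : Std T V z) : dl V ≤ bz V z := fun _ hg => hg z h.z_mem h.z_ne

theorem V_le_dl (h : Std T V z) : V ≤ dl V := fun _ hv _ hp hp1 =>
  mem_bz.mpr fun _ hw => h.one.V_comm hv (h.one.ws_le_centralizer_V hp hp1 hw)

theorem ws_le_bz (h : Std T V z) : ws V z ≤ bz V z := fun w hw =>
  mem_bz.mpr fun _ hv => h.one.comm h.z_mem h.z_ne w hw _ hv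

theorem bz_le_centralizer (h : Std T V z) : bz V z ≤ centralizer (V : Set G) :=
  centralizer_le (h.one.V_le h.z_mem h.z_ne)

/-- `[B_z, W_p] ≤ V` -/
theorem bz_comm' (h : Std T V z) (hp : p ∈ V) (hp1 : p ≠ 1) {b a : G} (hb : b ∈ bz V z)
    (ha : a ∈ ws V p) : b * a * b⁻¹ * a⁻¹ ∈ V := by
  by_cases hpz : p = z
  · subst hpz
    rw [mem_bz.mp hb a ha, mul_inv_cancel_right, mul_inv_cancel]; exact one_mem _
  · have := inv_mem (h.bz_comm hp hp1 hpz hb ha)
    have e : (a * b * a⁻¹ * b⁻¹)⁻¹ = b * a * b⁻¹ * a⁻¹ := by group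
    rwa [e] at this

/-- `B_z = W_z D_l` -/
theorem bz_eq [Finite G] (h : Std T V z) {b : G} (hb : b ∈ bz V z) :
    ∃ w ∈ ws V z, ∃ e ∈ dl V, b = w * e := by
  obtain ⟨d, hd, hf, hdb⟩ := h.exists_d
  have hdN := centralizer_le_normalizer _ hd
  have hdz : d ∈ centralizer ({z} : Set G) := h.one.cent_le_centralizer h.z_mem hd
  have hVC := h.bz_le_centralizer
  -- `d` is fixed-point-free on all `W_p / V`
  have hf' : ∀ p ∈ V, p ≠ 1 → ∀ w ∈ ws V p, d * w * d⁻¹ * w⁻¹ ∈ V → w ∈ V := by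
    intro p hp hp1 w hw hw1
    obtain ⟨g, hg, hgp⟩ := h.one.xl_trans h.z_mem h.z_ne hp hp1
    have hgN := h.one.xl_le_normalizer hg
    have hw0 : g⁻¹ * w * g ∈ ws V z := by
      have := conj_mem_ws g⁻¹ hw
      have e : g⁻¹ * p * g⁻¹⁻¹ = z := by rw [← hgp]; group
      rwa [e, inv_inv] at this
    have h1 := h.le p hp hp1 (h.one.xl_cent h.z_mem h.z_ne hg hgp hd hw0)
    have e1 : g * (g⁻¹ * w * g) * g⁻¹ = w := by group
    rw [e1] at h1
    have h2 := mul_mem h1 hw1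
    have e2 : g * (d * (g⁻¹ * w * g) * d⁻¹) * g⁻¹ * (d * w * d⁻¹)⁻¹ * (d * w * d⁻¹ * w⁻¹) =
        g * (d * (g⁻¹ * w * g) * d⁻¹ * (g⁻¹ * w * g)⁻¹) * g⁻¹ := by group
    rw [e2] at h2
    have h3 := hf _ hw0 ((mem_normalizer_iff.mp hgN _).mpr h2)
    have h4 := (mem_normalizer_iff.mp hgN _).mp h3
    rwa [e1] at h4
  -- apply `fpf_surj`
  obtain ⟨b', hb', h1⟩ := fpf_surj (B := bz V z) (D := dl V) (d := d)
    ((hVC.trans (centralizer_le_normalizer _)).trans (normalizer_le_normalizer_dl V))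
    (by
      intro a ha b hb p hp hp1
      rw [mem_bz]
      intro w hw
      have ha1 := h.bz_comm' hp hp1 ha hw
      have hb1 := h.bz_comm' hp hp1 hb hw
      set u := a * w * a⁻¹ * w⁻¹ with hu
      set v := b * w * b⁻¹ * w⁻¹ with hv
      have ea : a * w * a⁻¹ = u * w := by rw [hu]; group
      have eb : b * w * b⁻¹ = v * w := by rw [hv]; group
      have hav := h.one.V_comm hb1 (hVC ha)
      have hbu := h.one.V_comm ha1 (hVC hb)
      have hba : b * a * w * (b * a)⁻¹ = v * u * w := by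
        calc b * a * w * (b * a)⁻¹ = b * (a * w * a⁻¹) * b⁻¹ := by group
          _ = (b * u) * b⁻¹ * (b * w * b⁻¹) := by rw [ea]; group
          _ = v * u * w := by rw [← hbu, eb, h.one.ln.comm hb1 ha1]; group
      have hab : a * b * w * (a * b)⁻¹ = v * u * w := by
        calc a * b * w * (a * b)⁻¹ = a * (b * w * b⁻¹) * a⁻¹ := by group
          _ = (a * v) * a⁻¹ * (a * w * a⁻¹) := by rw [eb]; group
          _ = v * u * w := by rw [← hav, ea]; group
      refine comm_of_conj_eq ?_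
      have e1 : a * b * a⁻¹ * b⁻¹ * w * (a * b * a⁻¹ * b⁻¹)⁻¹ =
          a * b * ((b * a)⁻¹ * w * (b * a)) * (a * b)⁻¹ := by group
      have huv : v * u ∈ centralizer (V : Set G) := h.one.V_le_centralizer (mul_mem hb1 ha1)
      have e2 : (b * a)⁻¹ * w * (b * a) = (v * u)⁻¹ * w := by
        have hvc : (b * a) * (v * u)⁻¹ = (v * u)⁻¹ * (b * a) :=
          (h.one.V_comm (inv_mem (mul_mem hb1 ha1)) (hVC (mul_mem hb ha))).symm
        calc (b * a)⁻¹ * w * (b * a) = (b * a)⁻¹ * ((v * u)⁻¹ * (v * u * w)) * (b * a) := by group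
          _ = (b * a)⁻¹ * ((v * u)⁻¹ * (b * a)) * w := by rw [← hba]; group
          _ = (b * a)⁻¹ * ((b * a) * (v * u)⁻¹) * w := by rw [hvc]
          _ = (v * u)⁻¹ * w := by group
      rw [e1, e2]
      have hvc : (a * b) * (v * u)⁻¹ = (v * u)⁻¹ * (a * b) :=
        (h.one.V_comm (inv_mem (mul_mem hb1 ha1)) (hVC (mul_mem ha hb))).symm
      calc a * b * ((v * u)⁻¹ * w) * (a * b)⁻¹ = ((a * b) * (v * u)⁻¹) * w * (a * b)⁻¹ := by group
        _ = (v * u)⁻¹ * (a * b * w * (a * b)⁻¹) := by rw [hvc]; group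
        _ = w := by rw [hab]; group)
    (centralizer_le_normalizer_bz V z hdz) (normalizer_le_normalizer_dl V hdN)
    (by
      intro b hb hb1 p hp hp1
      rw [mem_bz]
      -- `w ↦ [b, w]` is `d`-invariant on `W_p`
      have hβ : ∀ w ∈ ws V p, d * w * d⁻¹ * w⁻¹ ∈ centralizer ({b} : Set G) := by
        intro w hw
        have hw1 := h.bz_comm' hp hp1 hb hw
        set v := b * w * b⁻¹ * w⁻¹ with hv
        have ew : b * w * b⁻¹ = v * w := by rw [hv]; group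
        -- `d b d⁻¹ = e b`
        set e := d * b * d⁻¹ * b⁻¹ with he
        have edb : d * b * d⁻¹ = e * b := by rw [he]; group
        have hev : e * v = v * e := (h.one.V_comm hw1 (h.bz_le_centralizer (h.dl_le_bz hb1))).symm
        have hew : e * (d * w * d⁻¹) = d * w * d⁻¹ * e := by
          have hdp : d * p * d⁻¹ = p := conj_eq_of_comm (h.one.V_comm hp hd).symm
          have h2 := conj_mem_ws d hw
          rw [hdp] at h2
          exact mem_bz.mp (hb1 p hp hp1) _ h2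
        have hdv : d * v * d⁻¹ = v := conj_eq_of_comm (h.one.V_comm hw1 hd).symm
        -- `b (d w d⁻¹) b⁻¹ = v (d w d⁻¹)`
        have h3 : b * (d * w * d⁻¹) * b⁻¹ = v * (d * w * d⁻¹) := by
          calc b * (d * w * d⁻¹) * b⁻¹ = e⁻¹ * ((e * b) * (d * w * d⁻¹) * (e * b)⁻¹) * e := by group
            _ = e⁻¹ * (d * (b * w * b⁻¹) * d⁻¹) * e := by rw [← edb]; group
            _ = e⁻¹ * ((d * v * d⁻¹) * (d * w * d⁻¹)) * e := by rw [ew]; group
            _ = e⁻¹ * (v * (d * w * d⁻¹ * e)) := by rw [hdv]; group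
            _ = e⁻¹ * ((v * e) * (d * w * d⁻¹)) := by rw [← hew]; group
            _ = v * (d * w * d⁻¹) := by rw [← hev]; group
        rw [mem_centralizer_singleton_iff]
        symm
        refine comm_of_conj_eq ?_
        calc b * (d * w * d⁻¹ * w⁻¹) * b⁻¹ = (b * (d * w * d⁻¹) * b⁻¹) * (b * w * b⁻¹)⁻¹ := by group
          _ = v * (d * w * d⁻¹) * (v * w)⁻¹ := by rw [h3, ew]
          _ = v * (d * w * d⁻¹ * w⁻¹) * v⁻¹ := by group
          _ = d * w * d⁻¹ * w⁻¹ := by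
            refine conj_eq_of_comm (h.one.V_comm hw1 ?_)
            have hdp : d * p * d⁻¹ = p := conj_eq_of_comm (h.one.V_comm hp hd).symm
            have h2 := conj_mem_ws d hw
            rw [hdp] at h2
            exact h.one.ws_le_centralizer_V hp hp1 (mul_mem h2 (inv_mem hw))
      intro w hw
      obtain ⟨w', hw', h2⟩ := fpf_surj (B := ws V p) (D := V) (d := d)
        ((h.one.ws_le_centralizer_V hp hp1).trans (centralizer_le_normalizer _))
        (fun a ha b hb => by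
          rw [h.one.comm hp hp1 a ha b hb, mul_inv_cancel_right, mul_inv_cancel]; exact one_mem _)
        (h.one.cent_norm hp hd) hdN (hf' p hp hp1) hw
      have h3 := mul_mem (hβ w' hw') ((h.one.V_le_centralizer h2 |> fun _ =>
        (mem_centralizer_singleton_iff.mpr (h.one.V_comm h2 (hVC hb)) :
          (d * w' * d⁻¹ * w'⁻¹)⁻¹ * w ∈ centralizer ({b} : Set G))))
      have e : d * w' * d⁻¹ * w'⁻¹ * ((d * w' * d⁻¹ * w'⁻¹)⁻¹ * w) = w := by group
      rw [e, mem_centralizer_singleton_iff] at h3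
      exact h3.symm) hb
  refine ⟨d * b' * d⁻¹ * b'⁻¹, hdb b' hb', _, h1, by group⟩

/-- `B_z` is elementary abelian -/
theorem bz_sq [Finite G] (h : Std T V z) : ∀ b ∈ bz V z, b * b = 1 := by
  let N : Subgroup G := closure {x | ∃ b ∈ bz V z, x = b * b}
  have hN : N = ⊥ := by
    refine h.nl N ?_ ?_ ?_
    · refine (closure_le _).mpr ?_
      rintro _ ⟨b, hb, rfl⟩
      have := h.one.cent_le_centralizer h.z_mem (h.bz_le_centralizer hb)
      exact mul_mem this this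
    · refine le_normalizer_of_forall fun c hc x hx => ?_
      have key : N ≤ cj c⁻¹ N := by
        refine (closure_le _).mpr ?_
        rintro _ ⟨b, hb, rfl⟩
        rw [SetLike.mem_coe, mem_cj, inv_inv]
        refine subset_closure ⟨c * b * c⁻¹, conj_mem_of_normalizer (centralizer_le_normalizer_bz V z) hc hb, ?_⟩
        group
      have := key hx
      rwa [mem_cj, inv_inv] at this
    · refine le_normalizer_of_forall fun c hc x hx => ?_
      have key : N ≤ cj c⁻¹ N := by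
        refine (closure_le _).mpr ?_
        rintro _ ⟨b, hb, rfl⟩
        obtain ⟨w, hw, e, he, rfl⟩ := h.bz_eq hb
        have h1 : e * w = w * e := mem_bz.mp (h.dl_le_bz he) w hw
        have h2 : w * e * (w * e) = e * e := by
          calc w * e * (w * e) = w * (e * w) * e := by group
            _ = (w * w) * (e * e) := by rw [h1]; group
            _ = e * e := by rw [h.one.sqz w hw, one_mul]
        rw [SetLike.mem_coe, h2, mem_cj, inv_inv]
        refine subset_closure ⟨c * e * c⁻¹, h.dl_le_bz (conj_mem_dl hc he), ?_⟩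
        group
      have := key hx
      rwa [mem_cj, inv_inv] at this
  intro b hb
  have h1 : b * b ∈ N := subset_closure ⟨b, hb, rfl⟩
  rw [hN] at h1
  exact mem_bot.mp h1

theorem bz_ab [Finite G] (h : Std T V z) {a b : G} (ha : a ∈ bz V z) (hb : b ∈ bz V z) : a * b = b * a := by
  have h1 := h.bz_sq _ (mul_mem ha hb)
  calc a * b = (a * b)⁻¹ := (inv_eq_self h1).symm
    _ = b⁻¹ * a⁻¹ := by group
    _ = b * a := by rw [inv_eq_self (h.bz_sq a ha), inv_eq_self (h.bz_sq b hb)]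

theorem bz_le_kq (h : Std T V z) : bz V z ≤ kq V z := fun b hb => by
  refine h.one.mem_kq h.z_mem ?_ fun w hw => Or.inl (conj_eq_of_comm (mem_bz.mp hb w hw))
  exact mem_bz.mp hb z (h.one.V_le h.z_mem h.z_ne h.z_mem)

theorem ws_le_kq (h : Std T V z) : ws V z ≤ kq V z := h.one.ws_le_kq h.z_mem h.z_ne

/-! ### `K_z ∩ C_G(V)` -/

/-- `g_a` -/
theorem ga_mem (h : Std T V z) (hp : p ∈ V) (hp1 : p ≠ 1) {t a : G} (ht : t ∈ kq V z)
    (ha : a ∈ ws V p) : a * t * a⁻¹ * t⁻¹ ∈ kq V z ∧ a * t * a⁻¹ * t⁻¹ ∈ centralizer (V : Set G) := by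
  have haV := h.one.ws_le_centralizer_V hp hp1 ha
  have haz := h.one.cent_le_centralizer h.z_mem haV
  refine ⟨mul_mem (conj_mem_of_normalizer (centralizer_le_normalizer_kq V z) haz ht) (inv_mem ht), ?_⟩
  have h1 := conj_mem_of_normalizer (normalizer_le_normalizer_centralizer V)
    (h.one.kq_le_normalizer h.z_mem h.z_ne ht) (inv_mem haV)
  have e : a * t * a⁻¹ * t⁻¹ = a * (t * a⁻¹ * t⁻¹) := by group
  rw [e]; exact mul_mem haV h1

/-- the action of `g_a` on `W_z` -/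
theorem ga_conj (h : Std T V z) (hp : p ∈ V) (hp1 : p ≠ 1) {t a w : G} (ht : t ∈ kq V z)
    (ht1 : t ∉ centralizer (V : Set G)) (ha : a ∈ ws V p) (hw : w ∈ ws V z) :
    a * t * a⁻¹ * t⁻¹ * w * (a * t * a⁻¹ * t⁻¹)⁻¹ = if sg z ⁅a, w⁆ = 1 then w else z * w := by
  have haV := h.one.ws_le_centralizer_V hp hp1 ha
  have haa := h.one.sq hp hp1 a ha
  have hcV := h.comm_mem hp hp1 h.z_mem h.z_ne ha hw
  set c := ⁅a, w⁆ with hc
  have hcc := h.one.ln.sq c hcV
  have haw : a * w * a⁻¹ = c * w := by rw [hc, commutatorElement_def]; group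
  have hac : a * c = c * a := (h.one.V_comm hcV haV).symm
  have haw' : a⁻¹ * w * a = c * w := by rw [inv_eq_self haa] at haw ⊢; exact haw
  have hca : c * a⁻¹ = a⁻¹ * c := h.one.V_comm hcV (inv_mem haV)
  have htz := h.one.kq_p ht
  have haz : a * z = z * a := (h.one.V_comm h.z_mem haV).symm
  -- `t⁻¹ w t = u w` with `u ∈ ⟨z⟩`
  obtain ⟨u, hu, huw⟩ : ∃ u ∈ zpowers z, t * w * t⁻¹ = u * w := by
    rcases h.one.kq_cases h.z_mem ht hw with e | e
    · exact ⟨1, one_mem _, by rw [e, one_mul]⟩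
    · exact ⟨z, mem_zpowers z, e⟩
  have huV : u ∈ V := zpowers_le_of_mem h.z_mem hu
  have huu := h.one.ln.sq u huV
  have htu : t * u = u * t := by
    rcases (h.zp h.z_mem).mp hu with e | e
    · rw [e]; simp
    · rw [e]; exact htz
  have htu' : t⁻¹ * u = u * t⁻¹ := inv_comm_of htu
  have hau : a * u = u * a := (h.one.V_comm huV haV).symm
  have hau' : a⁻¹ * u = u * a⁻¹ := inv_comm_of hau
  have huw' : t⁻¹ * w * t = u * w := by
    calc t⁻¹ * w * t = t⁻¹ * (u * (u * w)) * t := by rw [← mul_assoc u u w, huu, one_mul]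
      _ = (t⁻¹ * u) * (t * w * t⁻¹) * t := by rw [← huw]; group
      _ = u * w := by rw [htu']; group
  have e1 : a * t * a⁻¹ * t⁻¹ * w * (a * t * a⁻¹ * t⁻¹)⁻¹ = (t * c * t⁻¹) * c * w := by
    calc a * t * a⁻¹ * t⁻¹ * w * (a * t * a⁻¹ * t⁻¹)⁻¹
        = a * t * (a⁻¹ * (t⁻¹ * w * t) * a) * t⁻¹ * a⁻¹ := by group
      _ = a * t * ((a⁻¹ * u) * w * a) * t⁻¹ * a⁻¹ := by rw [huw']; group
      _ = a * (t * u) * (a⁻¹ * w * a) * t⁻¹ * a⁻¹ := by rw [hau']; group
      _ = (a * u) * (t * c * t⁻¹) * (t * w * t⁻¹) * a⁻¹ := by rw [htu, haw']; group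
      _ = u * (a * (t * c * t⁻¹) * a⁻¹) * (a * (u * w) * a⁻¹) := by rw [hau, huw]; group
      _ = u * (t * c * t⁻¹) * ((a * u) * w * a⁻¹) := by
          have h1 : t * c * t⁻¹ ∈ V := (mem_normalizer_iff.mp (h.one.kq_le_normalizer h.z_mem h.z_ne ht) c).mp hcV
          rw [conj_eq_of_comm (h.one.V_comm h1 haV).symm]; group
      _ = u * (t * c * t⁻¹) * (u * (a * w * a⁻¹)) := by rw [hau]; group
      _ = (t * c * t⁻¹) * (u * u) * (c * w) := by
          have h1 : t * c * t⁻¹ ∈ V := (mem_normalizer_iff.mp (h.one.kq_le_normalizer h.z_mem h.z_ne ht) c).mp hcV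
          rw [haw, h.one.ln.comm huV h1]; group
      _ = (t * c * t⁻¹) * c * w := by rw [huu, mul_one]; group
  rw [e1]
  split_ifs with h1
  · rw [sg_eq_one, h.zp h.z_mem] at h1
    rcases h1 with e | e
    · rw [e]; simp
    · rw [e, conj_eq_of_comm htz, h.zz, one_mul]
  · rw [sg_eq_one, h.zp h.z_mem] at h1
    push Not at h1
    rw [h.one.move h.z_mem h.z_ne hcV h1.1 h1.2 ht ht1, mul_assoc z c c, hcc, mul_one]

/-- `K_z ∩ C_G(V) = B_z {g_a | a ∈ W_y}` -/
theorem kq_rep [Finite G] (h : Std T V z) (hp : p ∈ V) (hp1 : p ≠ 1) (hpz : p ≠ z) {t k : G} (ht : t ∈ kq V z)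
    (ht1 : t ∉ centralizer (V : Set G)) (hk : k ∈ kq V z) (hkV : k ∈ centralizer (V : Set G)) :
    ∃ a ∈ ws V p, ∃ b ∈ bz V z, k = b * (a * t * a⁻¹ * t⁻¹) := by
  classical
  have hVW := h.one.V_le h.z_mem h.z_ne
  have ab := h.one.comm h.z_mem h.z_ne
  have sq := h.one.sq h.z_mem h.z_ne
  obtain ⟨n, hn, m, hm, hnV, hmV, hnmV, hg⟩ := exists_gn hVW h.one.ln.card_V h.card ab sq
  obtain ⟨a, ha, han, ham⟩ := h.surj h.z_mem h.z_ne hp hp1 hpz hn hm hg
    (if k * n * k⁻¹ = n then 1 else -1) (if k * m * k⁻¹ = m then 1 else -1)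
  refine ⟨a, ha, k * (a * t * a⁻¹ * t⁻¹)⁻¹, ?_, by group⟩
  obtain ⟨hg1, hg2⟩ := h.ga_mem hp hp1 ht ha
  set g := a * t * a⁻¹ * t⁻¹ with hgdef
  have hgz := h.one.kq_p hg1
  have hkz := h.one.kq_p hk
  have key : ∀ w ∈ ws V z, sg z ⁅a, w⁆ = (if k * w * k⁻¹ = w then 1 else -1) → k * g⁻¹ * w = w * (k * g⁻¹) := by
    intro w hw hs
    have h1 := h.ga_conj hp hp1 ht ht1 ha hw
    rw [← hgdef] at h1
    refine comm_of_conj_eq ?_
    have e : k * g⁻¹ * w * (k * g⁻¹)⁻¹ = k * (g⁻¹ * w * g) * k⁻¹ := by group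
    rw [e]
    by_cases hkw : k * w * k⁻¹ = w
    · rw [if_pos hkw] at hs
      rw [if_pos hs] at h1
      have : g⁻¹ * w * g = w := by
        calc g⁻¹ * w * g = g⁻¹ * (g * w * g⁻¹) * g := by rw [h1]
          _ = w := by group
      rw [this, hkw]
    · rw [if_neg hkw] at hs
      rw [if_neg (by rw [hs]; decide)] at h1
      have h2 : g⁻¹ * w * g = z * w := by
        have h3 : g⁻¹ * z = z * g⁻¹ := inv_comm_of hgz
        calc g⁻¹ * w * g = g⁻¹ * (z * (z * w)) * g := by rw [← mul_assoc z z w, h.zz, one_mul]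
          _ = (g⁻¹ * z) * (g * w * g⁻¹) * g := by rw [h1]; group
          _ = z * w := by rw [h3]; group
      have h3 : k * w * k⁻¹ = z * w := (h.one.kq_cases h.z_mem hk hw).resolve_left hkw
      calc k * (g⁻¹ * w * g) * k⁻¹ = (k * z) * w * k⁻¹ := by rw [h2]; group
        _ = z * (k * w * k⁻¹) := by rw [hkz]; group
        _ = w := by rw [h3, ← mul_assoc, h.zz, one_mul]
  have hle : ws V z ≤ centralizer ({k * g⁻¹} : Set G) := by
    refine hg _ (fun v hv => ?_) ?_ ?_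
    · rw [mem_centralizer_singleton_iff]
      exact h.one.V_comm hv (mul_mem hkV (inv_mem hg2))
    · rw [mem_centralizer_singleton_iff]; exact (key n hn han).symm
    · rw [mem_centralizer_singleton_iff]; exact (key m hm ham).symm
  rw [mem_bz]
  intro w hw
  exact (mem_centralizer_singleton_iff.mp (hle hw)).symm

/-- `C_{W_z}(K_z) = ⟨z⟩` -/
theorem cent_ws [Finite G] (h : Std T V z) {w : G} (hw : w ∈ ws V z) (hk : ∀ k ∈ kq V z, k * w = w * k) :
    w ∈ zpowers z := by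
  by_contra hwz
  obtain ⟨g, hwL, hw1, hwz', hL, T', h'⟩ := h.line_of hw hwz
  obtain ⟨t, ht, ht1⟩ := h'.one.exists_mover h'.z_mem h'.z_ne
  rw [kq_cj] at ht
  exact ht1 (h'.one.mem_centralizer_of h'.z_mem h'.z_ne hwL hw1 hwz' (h.one.kq_p ht) (hk t ht))

/-- every `k ∈ K_z` centralises a line on `z` -/
theorem exists_line [Finite G] (h : Std T V z) {k : G} (hk : k ∈ kq V z) :
    ∃ g p : G, p ∈ cj g V ∧ p ≠ 1 ∧ p ≠ z ∧ (∃ T', Std T' (cj g V) z) ∧ k ∈ centralizer (cj g V : Set G) := by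
  have hVW := h.one.V_le h.z_mem h.z_ne
  have ab := h.one.comm h.z_mem h.z_ne
  have sq := h.one.sq h.z_mem h.z_ne
  obtain ⟨n, hn, m, hm, hnV, hmV, hnmV, hg⟩ := exists_gn hVW h.one.ln.card_V h.card ab sq
  have hkz := h.one.kq_p hk
  obtain ⟨w, hw, hwV, hkw⟩ : ∃ w ∈ ws V z, w ∉ V ∧ k * w = w * k := by
    rcases h.one.kq_cases h.z_mem hk hn with e1 | e1
    · exact ⟨n, hn, hnV, comm_of_conj_eq e1⟩
    rcases h.one.kq_cases h.z_mem hk hm with e2 | e2
    · exact ⟨m, hm, hmV, comm_of_conj_eq e2⟩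
    refine ⟨n * m, mul_mem hn hm, hnmV, comm_of_conj_eq ?_⟩
    calc k * (n * m) * k⁻¹ = (k * n * k⁻¹) * (k * m * k⁻¹) := by group
      _ = (z * n) * (z * m) := by rw [e1, e2]
      _ = z * (n * z) * m := by group
      _ = z * (z * n) * m := by rw [ab n hn z (hVW h.z_mem)]
      _ = (z * z) * (n * m) := by group
      _ = n * m := by rw [h.zz, one_mul]
  obtain ⟨g, hwL, hw1, hwz', hL, T', h'⟩ := h.line_of hw (fun e => hwV (zpowers_le_of_mem h.z_mem e))
  exact ⟨g, w, hwL, hw1, hwz', ⟨T', h'⟩,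
    h'.one.mem_centralizer_of h'.z_mem h'.z_ne hwL hw1 hwz' hkz hkw⟩

/-- `[B_z, K_z] ≤ ⟨z⟩` -/
theorem bz_kq [Finite G] (h : Std T V z) {b k : G} (hb : b ∈ bz V z) (hk : k ∈ kq V z) :
    b * k * b⁻¹ * k⁻¹ ∈ zpowers z := by
  obtain ⟨g, p, hp, hp1, hpz, ⟨T', h'⟩, hkL⟩ := h.exists_line hk
  obtain ⟨t, ht, ht1⟩ := h'.one.exists_mover h'.z_mem h'.z_ne
  have hb' : b ∈ bz (cj g V) z := by rw [bz_cj]; exact hb
  have hk' : k ∈ kq (cj g V) z := by rw [kq_cj]; exact hk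
  obtain ⟨a, ha, b', hb'', rfl⟩ := h'.kq_rep hp hp1 hpz ht ht1 hk' hkL
  obtain ⟨w, hw, e, he, rfl⟩ := h'.bz_eq hb'
  obtain ⟨hg1, hg2⟩ := h'.ga_mem hp hp1 ht ha
  set x := a * t * a⁻¹ * t⁻¹ with hx
  -- `e` commutes with `x`
  have hex : e * x = x * e := by
    have h1 : e * a = a * e := mem_bz.mp (he p hp hp1) a ha
    have htp : t * p * t⁻¹ ∈ cj g V :=
      (mem_normalizer_iff.mp (h'.one.kq_le_normalizer h'.z_mem h'.z_ne ht) p).mp hp
    have h2 : e * (t * a⁻¹ * t⁻¹) = t * a⁻¹ * t⁻¹ * e :=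
      mem_bz.mp (he _ htp (fun e => hp1 (conj_eq_one_iff.mp e))) _ (conj_mem_ws t (inv_mem ha))
    have e1 : x = a * (t * a⁻¹ * t⁻¹) := by rw [hx]; group
    rw [e1]
    exact comm_mul_of h1 h2
  have hbb : w * e * b' = b' * (w * e) := h'.bz_ab hb' hb''
  have hb'z : b' * z = z * b' := mem_bz.mp hb'' z (h'.one.V_le h'.z_mem h'.z_ne h'.z_mem)
  have e1 : w * e * (b' * x) * (w * e)⁻¹ * (b' * x)⁻¹ = b' * (w * x * w⁻¹ * x⁻¹) * b'⁻¹ := by
    calc w * e * (b' * x) * (w * e)⁻¹ * (b' * x)⁻¹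
        = (w * e * b') * x * e⁻¹ * w⁻¹ * x⁻¹ * b'⁻¹ := by group
      _ = b' * w * (e * x) * e⁻¹ * w⁻¹ * x⁻¹ * b'⁻¹ := by rw [hbb]; group
      _ = b' * (w * x * w⁻¹ * x⁻¹) * b'⁻¹ := by rw [hex]; group
  rw [e1]
  have h3 : w * x * w⁻¹ * x⁻¹ ∈ zpowers z := by
    have := inv_mem (kq_comm hg1 hw)
    have e : (x * w * x⁻¹ * w⁻¹)⁻¹ = w * x * w⁻¹ * x⁻¹ := by group
    rwa [e] at this
  rw [conj_zpowers (mem_centralizer_singleton_iff.mpr hb'z) h3]
  exact h3

/-- `C_{B_z}(K_z) ≤ D_l` -/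
theorem uz_le [Finite G] (h : Std T V z) {u : G} (hu : u ∈ bz V z) (hk : ∀ k ∈ kq V z, k * u = u * k) :
    u ∈ dl V := by
  obtain ⟨w, hw, e, he, rfl⟩ := h.bz_eq hu
  obtain ⟨y, hy, hy1, hyz⟩ := h.one.ln.exists_y
  obtain ⟨t, ht, ht1⟩ := h.one.exists_mover h.z_mem h.z_ne
  refine mul_mem (h.V_le_dl ?_) he
  refine h.left h.z_mem h.z_ne hy hy1 hyz hw fun a ha => ?_
  have haV := h.one.ws_le_centralizer_V hy hy1 ha
  have haz := h.one.cent_le_centralizer h.z_mem haV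
  have hv : ⁅w, a⁆ ∈ V := h.comm_mem h.z_mem h.z_ne hy hy1 hw ha
  rw [← h.one.comm_swap h.z_mem h.z_ne hy hy1 hw ha] at *
  set v := ⁅a, w⁆ with hvdef
  have hvV : v ∈ V := h.comm_mem hy hy1 h.z_mem h.z_ne ha hw
  have hwa : w * a * w⁻¹ = v * a := by
    rw [hvdef, h.one.comm_swap h.z_mem h.z_ne hy hy1 hw ha, commutatorElement_def]; group
  have hea : e * a = a * e := mem_bz.mp (he y hy hy1) a ha
  have hua : w * e * a * (w * e)⁻¹ = v * a := by
    calc w * e * a * (w * e)⁻¹ = w * (e * a) * e⁻¹ * w⁻¹ := by group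
      _ = w * a * w⁻¹ := by rw [hea]; group
      _ = v * a := hwa
  have ht' : a * t * a⁻¹ ∈ kq V z := conj_mem_of_normalizer (centralizer_le_normalizer_kq V z) haz ht
  have h1 := hk _ ht'
  have h2 := hk _ ht
  set u := w * e with hudef
  have h3 : u * (a * t * a⁻¹) * u⁻¹ = a * t * a⁻¹ := conj_eq_of_comm h1.symm
  have h4 : u * (a * t * a⁻¹) * u⁻¹ = v * (a * t * a⁻¹) * v⁻¹ := by
    have h5 : u * t * u⁻¹ = t := conj_eq_of_comm h2.symm
    calc u * (a * t * a⁻¹) * u⁻¹ = (u * a * u⁻¹) * (u * t * u⁻¹) * (u * a * u⁻¹)⁻¹ := by group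
      _ = v * (a * t * a⁻¹) * v⁻¹ := by rw [hua, h5]; group
  have h5 : v * (a * t * a⁻¹) = a * t * a⁻¹ * v := comm_of_conj_eq (h4.symm.trans h3)
  by_contra hvz
  rw [h.zp h.z_mem] at hvz
  push Not at hvz
  have ht1' : a * t * a⁻¹ ∉ centralizer (V : Set G) := by
    intro hc
    apply ht1
    have := mul_mem (mul_mem (inv_mem haV) hc) haV
    have e : a⁻¹ * (a * t * a⁻¹) * a = t := by group
    rwa [e] at this
  have h6 := h.one.move h.z_mem h.z_ne hvV hvz.1 hvz.2 ht' ht1'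
  rw [conj_eq_of_comm h5.symm] at h6
  exact h.z_ne (by simpa using h6.symm)

end Std

end Cfsg.Agent.Omega.NO3S.TwoOne

end
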