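import Cfsg.Agent.Mrg.Omega.NO3S.TV.Sys
import Cfsg.Agent.Mrg.Omega.NO3S.TwoOne.LocA
import Cfsg.Agent.Mrg.Omega.NO3S.TwoOne.Cases
import Cfsg.Agent.Mrg.Omega.NO3S.Fit.Char
import Cfsg.Agent.Mrg.Omega.CaseL.Base


/-!
# NO-3S, `CompP`: `k ≥ 2`, `A` consists of `λ`-transvections: one block

`h : One T V z`, `[W_p, W_q] ≤ V`, `|A| ≥ 4`; `B` : the blocks of THEOREM TV2.

* `One.tva`, `One.al` : the instances of `TVA`, `Al`;
* `Set1` : the data; `Set1.ee_comm` : `E_p = D_p`;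
* `Set1.card_ws` : there is only one block, `|W_z| = 16`. For several blocks let `C'` be the preimage of the stabiliser
  of the block of `λ`, `W'` the corresponding subfamily: the elements of odd order of `C_G(W'_z)` centralise
  `W_y/E_y`, hence `W'_y`; so `C_G(W'_z)` is a 2-group. But it contains the `W_t`, `t` over another block.
-/

set_option autoImplicit false
set_option linter.unusedSectionVars false

namespace Cfsg.Agent.Omega.NO3S.TvBig

open Subgroup Cfsg Cfsg.Agent.ZN Cfsg.Agent.MinSimple.Geo Cfsg.Agent.Omega.CaseL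
open Cfsg.Agent.Omega.NO3S.Fit Cfsg.Agent.Omega.NO3S.TwoOne Cfsg.Agent.Omega.NO3S.TV
open Cfsg.Agent.ZN.Block (conj_mem_of_normalizer conj_mem_of_normalizer' le_normalizer_of_forall
  mem_normalizer_of)
open scoped commutatorElement

universe u

variable {G : Type u} [Group G] {T V : Subgroup G} {z : G}
variable {M H : Type u} [AddCommGroup M] [Group H] [DistribMulAction H M] [Module (ZMod 2) M]

/-- the data -/
structure Set1 (T V : Subgroup G) (z : G) (R : MRep V cg z M H) (y : G) (B : H → AddSubgroup M) : Prop where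
  one : One T V z
  tv : AllTv V
  hy : y ∈ V
  hy1 : y ≠ 1
  hyz : y ≠ z
  c : TVA (R.pi y) (a0 R y)
  b : Bk (R.pi y) (a0 R y) B
  four : 4 ≤ Nat.card (a0 R y)

theorem tva [Finite G] (h : One T V z) (hA : AllTv V) (R : MRep V cg z M H) [FaithfulSMul H M] [Finite H]
    (hc : CenFit R) {y : G} (hy : y ∈ V) (hy1 : y ≠ 1) (hyz : y ≠ z) : TVA (R.pi y) (a0 R y) where
  ne := R.v0_ne h.fam hy hy1 hyz
  span := R.span h.fam hy hy1 hyz
  o2 := by
    intro N hN h2
    have : Fact (Nat.Prime 2) := ⟨Nat.prime_two⟩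
    exact h.fit_eq_bot R hc hN h2.isNilpotent
  nor := fun x hx a ha => h.loc_A_conj R hy hy1 hyz hx ha
  tv := by
    intro a ha m
    have hz := h.ln.z_mem
    have hz1 := h.ln.z_ne
    have hyW := h.V_le hz hz1 hy
    obtain ⟨b, hb, rfl⟩ := (h.mem_a0 R hy hy1).mp ha
    obtain ⟨w, hw, rfl⟩ := h.rp_surj R m
    have h2 : b * w * b⁻¹ * w⁻¹ ∈ V := hA y hy hy1 z hz hz1 b hb w hw
    have hbw : b * w * b⁻¹ = (b * w * b⁻¹ * w⁻¹) * w := by group
    rw [h.rp_act R (h.ws_le_cz hy hy1 hb) hw, hbw, h.rp_mul R (h.V_le hz hz1 h2) hw]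
    by_cases h3 : b * w * b⁻¹ * w⁻¹ = 1
    · left; rw [h3, h.rp_one R, zero_add]
    · rcases h.third hz hz1 hy hy1 hyz h2 h3 with e | e | e
      · left; rw [e, (h.rp_zero R (h.V_le hz hz1 hz)).mpr (Or.inr rfl), zero_add]
      · right; rw [e, add_comm]
      · right
        rw [e, h.rp_mul R (h.V_le hz hz1 hz) hyW, (h.rp_zero R (h.V_le hz hz1 hz)).mpr (Or.inr rfl), zero_add,
          add_comm]
  fix := fun a ha => h.loc_fix R hy hy1 hyz ha (h.loc_self R hy hy1)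

theorem al [Finite G] (h : One T V z) (R : MRep V cg z M H) {y : G} (hy : y ∈ V) (hy1 : y ≠ 1) (hyz : y ≠ z) :
    Al (R.pi y) (a0 R y) (al0 R y) where
  mem := h.loc_al_mem R hy hy1 hyz
  add := h.loc_al_add R hy hy1 hyz
  surj := fun _ ha => h.loc_al_surj R hy hy1 hyz ha
  conj := fun _ hx m => h.loc_al_conj R hy hy1 hyz hx m
  v0 := (h.al0_one R hy hy1 hyz (h.V_le h.ln.z_mem h.ln.z_ne hy)).mpr (h.V_le_ee h.ln.z_mem h.ln.z_ne hy)

namespace Set1

variable {R : MRep V cg z M H} {y : G} {B : H → AddSubgroup M} [Finite G] [Finite M] [Finite H] [FaithfulSMul H M]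

theorem alS (s : Set1 T V z R y B) : Al (R.pi y) (a0 R y) (al0 R y) := al s.one R s.hy s.hy1 s.hyz

/-- the stabiliser of the block of `λ` -/
def st (s : Set1 T V z R y B) : Subgroup H where
  carrier := {x | B x = B 1}
  one_mem' := rfl
  mul_mem' := by
    intro x y' hx hy'
    change B x = B 1 at hx
    change B y' = B 1 at hy'
    change B (x * y') = B 1
    have h1 := s.b.self y'
    rw [hy'] at h1
    have h2 := s.b.smul x 1 _ h1
    rw [mul_one, hx, ← mul_smul] at h2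
    exact s.b.eq_of_mem (s.b.self _) h2 (s.b.ne_self s.c _)
  inv_mem' := by
    intro x hx
    change B x = B 1 at hx
    change B x⁻¹ = B 1
    have h1 := s.b.self_one
    rw [← hx] at h1
    have h2 := s.b.smul x⁻¹ x _ h1
    rw [inv_mul_cancel] at h2
    exact s.b.eq_of_mem (s.b.self _) h2 (s.b.ne_self s.c _)

theorem mem_st (s : Set1 T V z R y B) {x : H} : x ∈ s.st ↔ B x = B 1 := Iff.rfl

theorem span_st (s : Set1 T V z R y B) :
    AddSubgroup.closure (Set.range fun x : s.st => (x : H) • R.pi y) = B 1 := by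
  apply le_antisymm
  · rw [AddSubgroup.closure_le]
    rintro _ ⟨x, rfl⟩
    have := s.b.self (x : H)
    rw [s.mem_st.mp x.2] at this
    exact this
  · intro m hm
    by_cases h0 : m = 0
    · rw [h0]; exact zero_mem _
    · obtain ⟨k, rfl, hk⟩ := s.b.pt 1 m hm h0
      exact AddSubgroup.subset_closure ⟨⟨k, hk⟩, rfl⟩

/-- the subfamily -/
def sf (s : Set1 T V z R y B) : G → Subgroup G := subf V z (R.pre s.st)

theorem le_pre (s : Set1 T V z R y B) : normalizer (V : Set G) ⊓ centralizer ({z} : Set G) ≤ R.pre s.st :=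
  R.le_pre s.one.fam s.hy s.hy1 s.hyz fun x hx => s.b.eq_smul s.c (by rw [hx, one_smul])

theorem sf_z (s : Set1 T V z R y B) : s.sf z = R.pre s.st := subf_z s.le_pre

theorem mem_wz (s : Set1 T V z R y B) {w : G} : w ∈ ww V s.sf z ↔ w ∈ ws V z ∧ R.pi w ∈ B 1 := by
  have e : ww V s.sf z = wf V (R.pre s.st) := by rw [ww, s.sf_z]
  rw [e, R.mem_wf_pre s.one.fam s.hy s.hy1 s.hyz, s.span_st, s.one.ww_cg s.one.ln.z_mem s.one.ln.z_ne]

theorem al_iff (s : Set1 T V z R y B) {w : G} (hw : w ∈ ws V z) : al0 R y (R.pi w) = 1 ↔ w ∈ ee V z :=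
  s.one.al0_one R s.hy s.hy1 s.hyz hw

/-- `W_z = W'_z E_z` -/
theorem split (s : Set1 T V z R y B) {w : G} (hw : w ∈ ws V z) : ∃ w' ∈ ww V s.sf z, w'⁻¹ * w ∈ ee V z := by
  obtain ⟨m1, hm1, e1⟩ := s.b.exists_one s.c s.four s.alS (R.pi w)
  obtain ⟨w', hw', rfl⟩ := s.one.rp_surj R m1
  refine ⟨w', s.mem_wz.mpr ⟨hw', hm1⟩, ?_⟩
  rw [← s.al_iff (mul_mem (inv_mem hw') hw), s.one.rp_mul R (inv_mem hw') hw, s.one.rp_inv R hw', s.alS.add, e1]
  exact s.one.loc_sq R s.hy s.hy1 s.hyz (s.alS.mem _)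

/-- `W'_z ∩ E_z ≤ V` -/
theorem inf_le (s : Set1 T V z R y B) {w : G} (hw : w ∈ ww V s.sf z) (hE : w ∈ ee V z) : w ∈ V := by
  obtain ⟨hw1, hw2⟩ := s.mem_wz.mp hw
  have hz := s.one.ln.z_mem
  have hz1 := s.one.ln.z_ne
  rcases s.b.al_self s.c s.four s.alS hw2 ((s.al_iff hw1).mpr hE) with e | e
  · rcases (s.one.rp_zero R hw1).mp e with e | e
    · rw [e]; exact one_mem _
    · rw [e]; exact hz
  · rcases (s.one.rp_eq R hw1 (s.one.V_le hz hz1 s.hy)).mp e with e | e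
    · rw [e]; exact s.hy
    · rw [e]; exact mul_mem hz s.hy

/-- `A` centralises `Ē` -/
theorem fix_of_al (s : Set1 T V z R y B) {m : M} (hm : al0 R y m = 1) {a : H} (ha : a ∈ a0 R y) : a • m = m := by
  have hal := s.alS
  have h10 : al0 R y 0 = 1 := by
    have := hal.add 0 0
    rw [add_zero] at this
    exact (mul_eq_left.mp this.symm)
  let E : AddSubgroup M :=
    { carrier := {m | ∃ m1 ∈ B 1, al0 R y (m + m1) = 1 ∧ a • (m + m1) = m + m1}
      zero_mem' := ⟨0, zero_mem _, by rw [add_zero, h10], by rw [add_zero, smul_zero]⟩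
      add_mem' := by
        rintro m n ⟨m1, h1, e1, f1⟩ ⟨n1, h2, e2, f2⟩
        have e : m + n + (m1 + n1) = (m + m1) + (n + n1) := by abel
        refine ⟨m1 + n1, add_mem h1 h2, ?_, ?_⟩
        · rw [e, hal.add, e1, e2, one_mul]
        · rw [e, smul_add, f1, f2]
      neg_mem' := by
        rintro m ⟨m1, h1, e1, f1⟩
        have e : -m = m := neg_eq_of_add_eq_zero_left (two_of_module m)
        exact ⟨m1, h1, by rw [e, e1], by rw [e, f1]⟩ }
  have h1 : (⨆ h, B h) ≤ E := by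
    refine iSup_le fun h m hm => ?_
    by_cases hh : B h = B 1
    · refine ⟨m, hh ▸ hm, ?_, ?_⟩
      · rw [two_of_module, h10]
      · rw [two_of_module, smul_zero]
    · refine ⟨0, zero_mem _, ?_, ?_⟩
      · rw [add_zero]; exact s.b.al_other s.c s.four hal hh hm
      · rw [add_zero]; exact s.b.one_triv hh ha hm
  rw [s.b.sup] at h1
  obtain ⟨m1, hm1, e1, f1⟩ := h1 (AddSubgroup.mem_top m)
  rw [hal.add, hm, one_mul] at e1
  have f2 : a • m1 = m1 := by
    rcases s.b.al_self s.c s.four hal hm1 e1 with e | e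
    · rw [e, smul_zero]
    · rw [e]; exact s.c.fix a ha
  rw [smul_add, f2] at f1
  exact add_right_cancel f1

/-- `E_z = D_z` -/
theorem ee_comm_zy (s : Set1 T V z R y B) {e b : G} (he : e ∈ ee V z) (hb : b ∈ ws V y) : e * b = b * e := by
  have h := s.one
  have hz := h.ln.z_mem
  have hz1 := h.ln.z_ne
  have h1 := s.fix_of_al ((s.al_iff he.1).mpr he) (h.mem_a0' R s.hy s.hy1 hb)
  have hbe : b * e * b⁻¹ ∈ ws V z :=
    conj_mem_of_normalizer (h.cent_norm hz) (h.ws_le_centralizer_V s.hy s.hy1 hb) he.1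
  rw [h.rp_act R (h.ws_le_cz s.hy s.hy1 hb) he.1] at h1
  rcases (h.rp_eq R hbe he.1).mp h1 with e1 | e1
  · exact (comm_of_conj_eq e1).symm
  · exfalso
    have h2 := (he.2 y s.hy s.hy1).2.1 b hb
    have hzb : z * b = b * z := h.V_comm hz (h.ws_le_centralizer_V s.hy s.hy1 hb)
    have e2 : e * b * e⁻¹ * b⁻¹ = z := by
      have h3 : b * e = z * e * b := by rw [← e1]; group
      have h4 : e * b = z * (b * e) := by
        rw [h3]
        have : z * (z * e * b) = (z * z) * (e * b) := by group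
        rw [this, h.ln.sq z hz, one_mul]
      calc e * b * e⁻¹ * b⁻¹ = z * (b * e) * e⁻¹ * b⁻¹ := by rw [h4]
        _ = z := by group
    rw [e2] at h2
    rcases (mem_zpowers_iff_of_mul_self (h.ln.sq y s.hy)).mp h2 with e3 | e3
    · exact hz1 e3
    · exact s.hyz e3.symm

/-- `E_p = D_p` -/
theorem ee_comm (s : Set1 T V z R y B) {p q : G} (hp : p ∈ V) (hp1 : p ≠ 1) (hq : q ∈ V) (hq1 : q ≠ 1) (hqp : q ≠ p)
    {e b : G} (he : e ∈ ee V p) (hb : b ∈ ws V q) : e * b = b * e := by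
  have hz := s.one.ln.z_mem
  have hz1 := s.one.ln.z_ne
  obtain ⟨g, hg, e1, e2⟩ := s.one.fam.trans2 hp hp1 hq hq1 hqp hz hz1 s.hy s.hy1 s.hyz
  have h1 := conj_mem_ee hg he
  rw [e1] at h1
  have h2 := CaseL.conj_mem_ws g hb
  rw [e2] at h2
  have h3 := s.ee_comm_zy h1 h2
  have h4 : g * (e * b) * g⁻¹ = g * (b * e) * g⁻¹ := by
    calc g * (e * b) * g⁻¹ = g * e * g⁻¹ * (g * b * g⁻¹) := by group
      _ = g * b * g⁻¹ * (g * e * g⁻¹) := h3
      _ = g * (b * e) * g⁻¹ := by group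
  exact mul_left_cancel (mul_right_cancel h4)

/-- the subfamily: all conjugates under `N_G(V)` -/
theorem sf_conj (s : Set1 T V z R y B) {g : G} (hg : g ∈ normalizer (V : Set G)) :
    s.sf (g * z * g⁻¹) = cj g (s.sf z) := by
  rw [s.sf_z, sf, subf_eq s.le_pre hg]

theorem sf_le_z (s : Set1 T V z R y B) : s.sf z ≤ cg z := by
  rw [s.sf_z]; exact R.pre_le _

theorem ww_conj (s : Set1 T V z R y B) {g : G} (hg : g ∈ normalizer (V : Set G)) {w : G} :
    g * w * g⁻¹ ∈ ww V s.sf (g * z * g⁻¹) ↔ w ∈ ww V s.sf z := by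
  have e : ww V s.sf (g * z * g⁻¹) = cj g (ww V s.sf z) := by
    rw [ww, s.sf_conj hg, ww, cj_wf, cj_eq_of_mem_normalizer hg]
  rw [e, mem_cj]
  have : g⁻¹ * (g * w * g⁻¹) * g = w := by group
  rw [this]

theorem ww_le_z (s : Set1 T V z R y B) : ww V s.sf z ≤ ws V z := fun _ hw => (s.mem_wz.mp hw).1

theorem ww_le (s : Set1 T V z R y B) {p : G} (hp : p ∈ V) (hp1 : p ≠ 1) : ww V s.sf p ≤ ws V p := by
  obtain ⟨g, hg, rfl⟩ := s.one.ln.trans p hp hp1
  intro w hw
  have e : w = g * (g⁻¹ * w * g) * g⁻¹ := by group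
  rw [e, s.ww_conj hg] at hw
  rw [e]
  exact CaseL.conj_mem_ws g (s.ww_le_z hw)

theorem split' (s : Set1 T V z R y B) {p : G} (hp : p ∈ V) (hp1 : p ≠ 1) {w : G} (hw : w ∈ ws V p) :
    ∃ w' ∈ ww V s.sf p, w'⁻¹ * w ∈ ee V p := by
  obtain ⟨g, hg, rfl⟩ := s.one.ln.trans p hp hp1
  have h1 : g⁻¹ * w * g ∈ ws V z := by
    have := CaseL.conj_mem_ws g⁻¹ hw
    have e : g⁻¹ * (g * z * g⁻¹) * g⁻¹⁻¹ = z := by group
    rwa [e, inv_inv] at this
  obtain ⟨w', hw', hE⟩ := s.split h1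
  refine ⟨g * w' * g⁻¹, (s.ww_conj hg).mpr hw', ?_⟩
  have h2 := conj_mem_ee hg hE
  have e : g * (w'⁻¹ * (g⁻¹ * w * g)) * g⁻¹ = (g * w' * g⁻¹)⁻¹ * w := by group
  rwa [e] at h2

theorem inf_le' (s : Set1 T V z R y B) {p : G} (hp : p ∈ V) (hp1 : p ≠ 1) {w : G} (hw : w ∈ ww V s.sf p)
    (hE : w ∈ ee V p) : w ∈ V := by
  obtain ⟨g, hg, rfl⟩ := s.one.ln.trans p hp hp1
  have e : w = g * (g⁻¹ * w * g) * g⁻¹ := by group
  rw [e, s.ww_conj hg] at hw
  have h1 : g⁻¹ * w * g ∈ ee V z := by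
    have := conj_mem_ee (inv_mem hg) hE
    have e : g⁻¹ * (g * z * g⁻¹) * g⁻¹⁻¹ = z := by group
    rwa [e, inv_inv] at this
  rw [e]
  exact s.one.fam.conj_pt hg (s.inf_le hw h1)

/-- the subfamily is a family -/
theorem fam' (s : Set1 T V z R y B) : Fam T V z s.sf := by
  have h := s.one
  have hz := h.ln.z_mem
  have hz1 := h.ln.z_ne
  refine h.fam.sub s.le_pre (R.pre_le _) ?_
  obtain ⟨q, hq, hq1, hqz, a, ha, b, hb, hab⟩ := h.nc
  obtain ⟨a', ha', hE⟩ := s.split ha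
  obtain ⟨b', hb', hF⟩ := s.split' hq hq1 hb
  refine ⟨q, hq, hq1, hqz, a', by rw [← s.sf_z]; exact ha', b', hb', fun hc => hab ?_⟩
  set e := a'⁻¹ * a with he
  set f := b'⁻¹ * b with hf
  have ea : a = a' * e := by rw [he]; group
  have eb : b = b' * f := by rw [hf]; group
  have h1 : e * b' = b' * e := s.ee_comm hz hz1 hq hq1 hqz hE (s.ww_le hq hq1 hb')
  have h2 : f * a' = a' * f := s.ee_comm hq hq1 hz hz1 (Ne.symm hqz) hF (s.ww_le_z ha')
  have h3 : e * f = f * e := s.ee_comm hz hz1 hq hq1 hqz hE hF.1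
  rw [ea, eb]
  calc a' * e * (b' * f) = a' * (e * b') * f := by group
    _ = (a' * b') * (e * f) := by rw [h1]; group
    _ = b' * (a' * f) * e := by rw [hc, h3]; group
    _ = b' * (f * a') * e := by rw [h2]
    _ = b' * f * (a' * e) := by group

/-- elements of odd order of `C(W'_z)` centralise `W'_q` -/
theorem odd_z (s : Set1 T V z R y B) {b : G} (hb : b ∈ kk V s.sf z) {n : ℕ} (hn : Odd n) (h1 : b ^ n = 1) {q : G}
    (hq : q ∈ V) (hq1 : q ≠ 1) : b ∈ kk V s.sf q := by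
  have h := s.one
  have hz := h.ln.z_mem
  have hz1 := h.ln.z_ne
  have hF := s.fam'
  have hbV : b ∈ centralizer (V : Set G) := hF.kk_le_cent hb
  rw [kk, mem_centralizer_iff]
  intro w hw
  have hwq := s.ww_le hq hq1 hw
  obtain ⟨a, ha, hT⟩ := h.tw_exists hq hq1 hz hz1 hwq
  obtain ⟨a', ha', hE⟩ := s.split ha
  set e := a'⁻¹ * a with he
  have ea : a = a' * e := by rw [he]; group
  have hba' : b * a' * b⁻¹ = a' := conj_eq_of_comm (mem_centralizer_iff.mp hb a' ha').symm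
  have hbn := centralizer_le_normalizer _ hbV
  have hbz : b * z * b⁻¹ = z := conj_eq_of_comm (h.V_comm hz hbV).symm
  have hbe : b * e * b⁻¹ ∈ ee V z := by
    have := conj_mem_ee hbn hE
    rwa [hbz] at this
  have hk : b * a * b⁻¹ * a⁻¹ ∈ ee V z := by
    have e1 : b * a * b⁻¹ * a⁻¹ = b * e * b⁻¹ * e⁻¹ := by
      have hc : a' * (b * e * b⁻¹ * e⁻¹) = (b * e * b⁻¹ * e⁻¹) * a' :=
        h.ab a' (s.ww_le_z ha') _ (mul_mem hbe.1 (inv_mem hE.1))
      calc b * a * b⁻¹ * a⁻¹ = (b * a' * b⁻¹) * (b * e * b⁻¹) * e⁻¹ * a'⁻¹ := by rw [ea]; group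
        _ = a' * (b * e * b⁻¹ * e⁻¹) * a'⁻¹ := by rw [hba']; group
        _ = b * e * b⁻¹ * e⁻¹ := by rw [hc]; group
    rw [e1]
    exact mul_mem hbe (inv_mem hE)
  have hba : b * a * b⁻¹ ∈ ws V z := conj_mem_of_normalizer (h.cent_norm hz) hbV ha
  have hT2 := h.tw_cent hq hz hbV hT
  have hT3 : Tw V z (b * a * b⁻¹) z a := (h.tw_self hz hz1 hba).mpr hk
  have hT4 := h.tw_trans (h.tw_trans hT2 hT3) (h.tw_symm hT)
  have hbw : b * w * b⁻¹ ∈ ws V q := conj_mem_of_normalizer (h.cent_norm hq) hbV hwq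
  have h5 := (h.tw_self hq hq1 hbw).mp hT4
  have hbw' : b * w * b⁻¹ ∈ ww V s.sf q := conj_mem_of_normalizer (hF.cent_norm hq hq1) hbV hw
  have h6 := s.inf_le' hq hq1 (mul_mem hbw' (inv_mem hw)) h5
  set c := b * w * b⁻¹ * w⁻¹ with hc
  have h7 : b * w = w * b :=
    odd_cent (q := c) (h.V_comm h6 hbV).symm (h.ln.sq c h6) (Or.inr (by rw [hc]; group)) hn h1
  exact h7.symm

theorem odd_pq (s : Set1 T V z R y B) {b p : G} (hp : p ∈ V) (hp1 : p ≠ 1) (hb : b ∈ kk V s.sf p) {n : ℕ}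
    (hn : Odd n) (h1 : b ^ n = 1) {q : G} (hq : q ∈ V) (hq1 : q ≠ 1) : b ∈ kk V s.sf q := by
  by_cases hqp : q = p
  · rw [hqp]; exact hb
  have hF := s.fam'
  obtain ⟨g, hg, rfl⟩ := s.one.ln.trans p hp hp1
  have h2 := hF.conj_kk (inv_mem hg) hp hp1 hb
  have e : g⁻¹ * (g * z * g⁻¹) * g⁻¹⁻¹ = z := by group
  rw [e, inv_inv] at h2
  have h3 : (g⁻¹ * b * g) ^ n = 1 := by
    have := conj_pow (i := n) (a := g⁻¹) (b := b)
    rw [inv_inv] at this
    rw [this, h1]; group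
  have h4 := s.odd_z h2 hn h3 (hF.conj_pt' hg hq) (Fam.conj_ne' hq1)
  have h5 := hF.conj_kk hg (hF.conj_pt' hg hq) (Fam.conj_ne' hq1) h4
  have e1 : g * (g⁻¹ * q * g) * g⁻¹ = q := by group
  have e2 : g * (g⁻¹ * b * g) * g⁻¹ = b := by group
  rwa [e1, e2] at h5

/-- **`C(W'_z)` is a 2-group** -/
theorem kk_two (s : Set1 T V z R y B) : IsPGroup 2 (kk V s.sf z) := by
  have hF := s.fam'
  have hz := s.one.ln.z_mem
  have hz1 := s.one.ln.z_ne
  set D : Subgroup G := closure {b | b ∈ kk V s.sf z ∧ ∃ n, Odd n ∧ b ^ n = 1} with hD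
  have hnorm : ∀ N : Subgroup G, (∀ g ∈ N, ∀ b ∈ kk V s.sf z, ∀ n, Odd n → b ^ n = 1 →
      g * b * g⁻¹ ∈ kk V s.sf z) → N ≤ normalizer (D : Set G) := by
    intro N hN
    refine le_normalizer_of_forall fun g hg b hb => ?_
    refine closure_induction (p := fun b _ => g * b * g⁻¹ ∈ D) ?_ ?_ ?_ ?_ hb
    · rintro b ⟨hb, n, hn, h1⟩
      refine subset_closure ⟨hN g hg b hb n hn h1, n, hn, ?_⟩
      rw [conj_pow, h1]; group
    · simp [one_mem]
    · intro a b _ _ h1 h2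
      have e : g * (a * b) * g⁻¹ = (g * a * g⁻¹) * (g * b * g⁻¹) := by group
      rw [e]; exact mul_mem h1 h2
    · intro a _ h1
      have e : g * a⁻¹ * g⁻¹ = (g * a * g⁻¹)⁻¹ := by group
      rw [e]; exact inv_mem h1
  have hbot : D = ⊥ := by
    refine hF.eq_bot_of_norm s.hy s.hy1 s.hyz ?_ ?_ ?_
    · rw [hD, closure_le]
      rintro b ⟨hb, n, hn, h1⟩
      exact s.odd_z hb hn h1 s.hy s.hy1
    · refine hnorm _ fun g hg b hb n hn h1 => ?_
      have h2 := hF.conj_kk hg hz hz1 hb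
      exact s.odd_pq (hF.conj_pt hg hz) (Fam.conj_ne hz1) h2 hn (by rw [conj_pow, h1]; group) hz hz1
    · exact hnorm _ fun g hg b hb n hn h1 => conj_mem_of_normalizer hF.cf_norm_kk hg hb
  rintro ⟨b, hb⟩
  obtain ⟨k, m, hm, hkm⟩ := Nat.exists_eq_two_pow_mul_odd (n := orderOf b) (orderOf_pos _).ne'
  refine ⟨k, Subtype.ext ?_⟩
  change b ^ 2 ^ k = 1
  have h1 : b ^ 2 ^ k ∈ D := subset_closure ⟨pow_mem hb _, m, hm, by rw [← pow_mul, ← hkm, pow_orderOf_eq_one]⟩
  rw [hbot] at h1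
  exact mem_bot.mp h1

/-- the `W_t`, `t` over another block, centralise `W'_z` -/
theorem other_kk (s : Set1 T V z R y B) {k : H} (hk : B k ≠ B 1) {a : H} (ha : a ∈ a0 R y) :
    ∃ x ∈ kk V s.sf z, R.phi x = k * a * k⁻¹ := by
  have h := s.one
  have hz := h.ln.z_mem
  obtain ⟨c, hc, rfl⟩ := R.phi_surj k
  obtain ⟨b, hb, rfl⟩ := (h.mem_a0 R s.hy s.hy1).mp ha
  have hbc := h.ws_le_cz s.hy s.hy1 hb
  refine ⟨c * b * c⁻¹, ?_, ?_⟩
  · rw [kk, mem_centralizer_iff]
    intro w hw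
    obtain ⟨hw1, hw2⟩ := s.mem_wz.mp hw
    have hcz : c⁻¹ * z * c⁻¹⁻¹ = z := by
      rw [inv_inv]
      have := mem_centralizer_singleton_iff.mp hc
      calc c⁻¹ * z * c = c⁻¹ * (z * c) := by group
        _ = c⁻¹ * (c * z) := by rw [← this]
        _ = z := by group
    have h1 : c⁻¹ * w * c ∈ ws V z := by
      have := CaseL.conj_mem_ws c⁻¹ hw1
      rwa [hcz, inv_inv] at this
    have h2 : R.pi (c⁻¹ * w * c) = (R.phi c)⁻¹ • R.pi w := by
      have := h.rp_act R (inv_mem hc) hw1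
      rw [inv_inv] at this
      rw [← this, One.phi_inv' R hc]
    have h3 : R.pi (c⁻¹ * w * c) ∈ B (R.phi c)⁻¹ := by
      rw [h2]
      have := s.b.smul (R.phi c)⁻¹ 1 _ hw2
      rwa [mul_one] at this
    have h4 : B (R.phi c)⁻¹ ≠ B 1 := fun e => hk (by
      have := inv_mem (s.mem_st.mpr e)
      rw [inv_inv] at this
      exact this)
    have h5 := (s.al_iff h1).mp (s.b.al_other s.c s.four s.alS h4 h3)
    have h6 := s.ee_comm_zy h5 hb
    calc w * (c * b * c⁻¹) = c * ((c⁻¹ * w * c) * b) * c⁻¹ := by group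
      _ = c * (b * (c⁻¹ * w * c)) * c⁻¹ := by rw [h6]
      _ = c * b * c⁻¹ * w := by group
  · rw [R.phi_mul _ (mul_mem hc hbc) _ (inv_mem hc), R.phi_mul c hc b hbc, One.phi_inv' R hc]

/-- **one block** -/
theorem one_block (s : Set1 T V z R y B) (k : H) : B k = B 1 := by
  by_contra hk
  obtain ⟨m, hm, hn⟩ := s.b.exists_mem s.four k {0, k • R.pi y}
    (lt_of_le_of_lt (Set.ncard_insert_le _ _) (by simp))
  simp only [Set.mem_insert_iff, Set.mem_singleton_iff, not_or] at hn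
  obtain ⟨l, rfl, hl⟩ := s.b.pt k m hm hn.1
  set u := k • R.pi y with hu
  set v := l • R.pi y with hv
  have hvu : v ≠ u := hn.2
  obtain ⟨a, ha, ea⟩ := s.b.exists_fun hm hn.1 hn.2
  have hul : u ∈ B l := by rw [hl]; exact s.b.self k
  obtain ⟨a', ha', ea'⟩ := s.b.exists_fun hul (s.b.ne_self s.c k) (Ne.symm hvu)
  obtain ⟨x, hx, ex⟩ := s.other_kk hk ha
  obtain ⟨x', hx', ex'⟩ := s.other_kk (k := l) (by rw [hl]; exact hk) ha'
  set p := k * a * k⁻¹ with hp
  set p' := l * a' * l⁻¹ with hp'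
  have hpu : p • u = u := by rw [hp, hu, mul_smul, mul_smul, inv_smul_smul, s.c.fix a ha]
  have hpv : p' • v = v := by rw [hp', hv, mul_smul, mul_smul, inv_smul_smul, s.c.fix a' ha']
  have hF := s.fam'
  have hle : kk V s.sf z ≤ cg z := (hF.kk_le_qq hF.ln.z_mem hF.ln.z_ne).trans ((hF.qq_le_cf).trans s.sf_le_z)
  -- `p p'` is a 2-element
  obtain ⟨n, hn2⟩ := s.kk_two ⟨x * x', mul_mem hx hx'⟩
  have hn2' : (x * x') ^ 2 ^ n = 1 := congrArg Subtype.val hn2
  have h1 : (p * p') ^ 2 ^ n = 1 := by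
    have e1 : R.phi (x * x') = p * p' := by rw [R.phi_mul x (hle hx) x' (hle hx'), ex, ex']
    have e2 := map_pow R.hom ⟨x * x', mul_mem (hle hx) (hle hx')⟩ (2 ^ n)
    have e3 : (⟨x * x', mul_mem (hle hx) (hle hx')⟩ : cg z) ^ 2 ^ n = 1 := Subtype.ext hn2'
    rw [e3, map_one] at e2
    rw [← e1]
    exact e2.symm
  -- it has order 3 on `⟨u, v⟩`
  have h2 : ((p * p') ^ 3) • u = u := by
    have e1 : (p * p') • u = v := by
      rw [mul_smul, ea', smul_add, hpu, ea]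
      have : u + (v + u) = v + (u + u) := by abel
      rw [this, two_of_module, add_zero]
    have e2 : (p * p') • v = v + u := by rw [mul_smul, hpv, ea]
    have e4 : (p * p') ^ 3 = (p * p') * ((p * p') * (p * p')) := by rw [pow_succ, pow_two, mul_assoc]
    have e3 : (p * p') ^ 3 • u = (p * p') • (p * p') • (p * p') • u := by
      rw [e4, mul_smul (p * p') _ u, mul_smul (p * p') (p * p') u]
    rw [e3, e1, e2, smul_add, e1, e2]
    have : v + u + v = u + (v + v) := by abel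
    rw [this, two_of_module, add_zero]
  have h3 : (p * p') • u = u := by
    have hc : Nat.Coprime 3 (orderOf (p * p')) := by
      obtain ⟨j, -, hj⟩ := (Nat.dvd_prime_pow Nat.prime_two).mp (orderOf_dvd_of_pow_eq_one h1)
      rw [hj]
      exact Nat.Coprime.pow_right _ (by norm_num)
    obtain ⟨m, hm⟩ := exists_pow_eq_self_of_coprime hc
    have h4 : ∀ j : ℕ, (((p * p') ^ 3) ^ j) • u = u := by
      intro j
      induction j with
      | zero => simp
      | succ j ih => rw [pow_succ, mul_smul, h2, ih]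
    have := h4 m
    rwa [hm] at this
  have e1 : (p * p') • u = v := by
    rw [mul_smul, ea', smul_add, hpu, ea]
    have : u + (v + u) = v + (u + u) := by abel
    rw [this, two_of_module, add_zero]
  exact hvu (e1.symm.trans h3)

/-- **`|W_z| = 16`** -/
theorem card_ws (s : Set1 T V z R y B) : Nat.card (ws V z) = 16 := by
  have h := s.one
  have hz := h.ln.z_mem
  have hz1 := h.ln.z_ne
  have htop : B 1 = ⊤ := by
    rw [eq_top_iff, ← s.b.sup]
    exact iSup_le fun k => (s.one_block k).le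
  have hM : Nat.card M = 8 := by
    have h1 := s.b.card 1
    rw [htop, AddSubgroup.card_top, s.b.card_A s.c s.four s.alS] at h1
    exact h1
  let f : ws V z →* Multiplicative M :=
    { toFun := fun w => Multiplicative.ofAdd (R.pi w)
      map_one' := by
        change Multiplicative.ofAdd (R.pi 1) = 1
        rw [h.rp_one R]; rfl
      map_mul' := fun a b => by
        change Multiplicative.ofAdd (R.pi (a * b)) = _
        rw [h.rp_mul R a.2 b.2]; rfl }
  have hr : f.range = ⊤ := by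
    rw [MonoidHom.range_eq_top]
    intro m
    obtain ⟨w, hw, e⟩ := h.rp_surj R m.toAdd
    exact ⟨⟨w, hw⟩, congrArg Multiplicative.ofAdd e⟩
  have hk : f.ker = (zpowers z).subgroupOf (ws V z) := by
    ext w
    rw [MonoidHom.mem_ker, mem_subgroupOf, mem_zpowers_iff_of_mul_self (h.ln.sq z hz)]
    exact h.rp_zero R w.2
  have h2 := Subgroup.card_mul_index f.ker
  rw [Subgroup.index_ker, hr, Subgroup.card_top, hk, Nat.card_congr (subgroupOfEquivOfLe
    ((zpowers_le).mpr (h.V_le hz hz1 hz))).toEquiv, Nat.card_zpowers, orderOf_eq_prime (by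
      rw [pow_two]; exact h.ln.sq z hz) hz1] at h2
  have h3 : Nat.card (Multiplicative M) = Nat.card M := rfl
  rw [h3, hM] at h2
  omega

end Set1

end Cfsg.Agent.Omega.NO3S.TvBig
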